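import Mathlib
import Cfsg.Agent.Lib.Helper01.Basic

/-!
# Keystone 142809 (K-S1428-P2), PURE

`L = N D` with `N` normal in `L`: `L' ≤ N ⊔ D'`, hence a prime dividing neither `|N|` nor `|D'|`
does not divide `|L'|`.
-/

set_option autoImplicit false

namespace Cfsg.Agent.Lib.Helper11.BG134

open scoped commutatorElement

variable {G : Type*} [Group G] [Finite G]

omit [Finite G] in
/-- conjugation by an element of `L` keeps `N` when `L ≤ N_G(N)`. -/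
theorem conj_mem_of_le_normalizer {L N : Subgroup G}
    (hLN : L ≤ Subgroup.normalizer (N : Set G)) {x n : G} (hx : x ∈ L) (hn : n ∈ N) :
    x * n * x⁻¹ ∈ N :=
  (Subgroup.mem_normalizer_iff.mp (hLN hx) n).mp hn

omit [Finite G] in
/-- `L = N D`, `N` normalized by `L`: `L' ≤ N ⊔ D'`. -/
theorem commutator_le_sup_of_factor (L N D : Subgroup G) (_hNL : N ≤ L) (hDL : D ≤ L)
    (hLN : L ≤ Subgroup.normalizer (N : Set G))
    (hfac : ∀ l ∈ L, ∃ b ∈ N, ∃ d ∈ D, l = b * d) :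
    ⁅L, L⁆ ≤ N ⊔ ⁅D, D⁆ := by
  rw [Subgroup.commutator_le]
  intro a ha b hb
  obtain ⟨n₁, hn₁, d₁, hd₁, rfl⟩ := hfac a ha
  obtain ⟨n₂, hn₂, d₂, hd₂, rfl⟩ := hfac b hb
  have hd₁L : d₁ ∈ L := hDL hd₁
  have hd₂L : d₂ ∈ L := hDL hd₂
  set c : G := d₁ * d₂ * d₁⁻¹ * d₂⁻¹ with hc
  have hcD : c ∈ ⁅D, D⁆ := by
    have := Subgroup.commutator_mem_commutator hd₁ hd₂
    simpa [commutatorElement_def, hc] using this
  have hcL : c ∈ L := by
    have h1 : (⁅D, D⁆ : Subgroup G) ≤ L := by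
      rw [Subgroup.commutator_le]
      intro x hx y hy
      rw [commutatorElement_def]
      exact L.mul_mem (L.mul_mem (L.mul_mem (hDL hx) (hDL hy)) (L.inv_mem (hDL hx)))
        (L.inv_mem (hDL hy))
    exact h1 hcD
  have hconj : d₁ * d₂ * d₁⁻¹ ∈ L := L.mul_mem (L.mul_mem hd₁L hd₂L) (L.inv_mem hd₁L)
  -- the commutator equals (element of `N`) * c
  have hkey : ⁅n₁ * d₁, n₂ * d₂⁆ =
      (n₁ * (d₁ * n₂ * d₁⁻¹) * ((d₁ * d₂ * d₁⁻¹) * n₁⁻¹ * (d₁ * d₂ * d₁⁻¹)⁻¹) *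
        (c * n₂⁻¹ * c⁻¹)) * c := by
    rw [commutatorElement_def, hc]
    group
  rw [hkey]
  refine Subgroup.mul_mem _ (Subgroup.mem_sup_left ?_) (Subgroup.mem_sup_right hcD)
  refine N.mul_mem (N.mul_mem (N.mul_mem hn₁ ?_) ?_) ?_
  · exact conj_mem_of_le_normalizer hLN hd₁L hn₂
  · exact conj_mem_of_le_normalizer hLN hconj (N.inv_mem hn₁)
  · exact conj_mem_of_le_normalizer hLN hcL (N.inv_mem hn₂)

omit [Finite G] in
/-- if `X` normalizes `N` then `|X ⊔ N|` divides `|N| |X|`. -/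
theorem card_sup_dvd_of_le_normalizer (N X : Subgroup G)
    (hX : X ≤ Subgroup.normalizer (N : Set G)) :
    Nat.card (N ⊔ X : Subgroup G) ∣ Nat.card N * Nat.card X := by
  classical
  set H : Subgroup G := Subgroup.normalizer (N : Set G) with hH
  have hNH : N ≤ H := Subgroup.le_normalizer
  have : (N.subgroupOf H).Normal := Subgroup.normal_in_normalizer
  have h1 := Cfsg.Agent.Lib.Helper01.card_sup_mul_card_inf (N.subgroupOf H) (X.subgroupOf H)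
  have h2 : (X.subgroupOf H ⊔ N.subgroupOf H) = (N ⊔ X).subgroupOf H := by
    rw [Subgroup.subgroupOf_sup hNH hX, sup_comm]
  rw [h2, Cfsg.Agent.Lib.Helper01.card_subgroupOf_of_le (sup_le hNH hX),
    Cfsg.Agent.Lib.Helper01.card_subgroupOf_of_le hNH,
    Cfsg.Agent.Lib.Helper01.card_subgroupOf_of_le hX] at h1
  exact Dvd.intro _ h1

/-- KEYSTONE 142809  K-S1428-P2  (PURE). -/
theorem not_dvd_card_commutator_of_factor (L N D : Subgroup G) (hNL : N ≤ L) (hDL : D ≤ L)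
    (hLN : L ≤ Subgroup.normalizer (N : Set G))
    (hfac : ∀ l ∈ L, ∃ b ∈ N, ∃ d ∈ D, l = b * d) {t : ℕ} (ht : t.Prime)
    (htN : ¬ t ∣ Nat.card N) (htD : ¬ t ∣ Nat.card ↥⁅D, D⁆) :
    ¬ t ∣ Nat.card ↥⁅L, L⁆ := by
  intro hdvd
  have h1 : ⁅L, L⁆ ≤ N ⊔ ⁅D, D⁆ := commutator_le_sup_of_factor L N D hNL hDL hLN hfac
  have h2 : Nat.card ↥⁅L, L⁆ ∣ Nat.card (N ⊔ ⁅D, D⁆ : Subgroup G) := Subgroup.card_dvd_of_le h1
  have hDD : (⁅D, D⁆ : Subgroup G) ≤ Subgroup.normalizer (N : Set G) := by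
    refine le_trans ?_ (le_trans hDL hLN)
    rw [Subgroup.commutator_le]
    intro x hx y hy
    rw [commutatorElement_def]
    exact D.mul_mem (D.mul_mem (D.mul_mem hx hy) (D.inv_mem hx)) (D.inv_mem hy)
  have h3 := card_sup_dvd_of_le_normalizer N ⁅D, D⁆ hDD
  have h4 : t ∣ Nat.card N * Nat.card ↥⁅D, D⁆ := dvd_trans (dvd_trans hdvd h2) h3
  rcases (Nat.Prime.dvd_mul ht).mp h4 with h | h
  · exact htN h
  · exact htD h

end Cfsg.Agent.Lib.Helper11.BG134
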