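import Mathlib
import Cfsg.Agent.Lib.Helper03.CoprimeAbelian
import Cfsg.Agent.Lib.Helper11.BG134P2

/-!
# Keystone 142815 (K-S1428-AB), PURE

Coprime action of `R` on the abelian `q`-group `Q₀`: `[Q₀, R] ≤ Q₀` is `R`-invariant,
`C_{[Q₀,R]}(R) = 1`, and `[Q₀, R] ≠ 1` unless `R` centralizes `Q₀`.
-/

set_option autoImplicit false

namespace Cfsg.Agent.Lib.Helper11.BG134

open scoped commutatorElement

variable {G : Type*} [Group G] [Finite G]

omit [Finite G] in
/-- `⁅Q₀, R⁆ ≤ Q₀` when `R` normalizes `Q₀`. -/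
theorem commutator_le_left_of_le_normalizer {Q₀ R : Subgroup G}
    (hRQ : R ≤ Subgroup.normalizer (Q₀ : Set G)) : ⁅Q₀, R⁆ ≤ Q₀ := by
  rw [Subgroup.commutator_le]
  intro a ha r hr
  rw [commutatorElement_def]
  have h1 : r * a⁻¹ * r⁻¹ ∈ Q₀ := conj_mem_of_le_normalizer hRQ hr (Q₀.inv_mem ha)
  have h2 : a * r * a⁻¹ * r⁻¹ = a * (r * a⁻¹ * r⁻¹) := by group
  rw [h2]
  exact Q₀.mul_mem ha h1

omit [Finite G] in
/-- if conjugation by `r` maps `K` onto itself then `r` normalizes `K`. -/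
theorem mem_normalizer_of_map_conj_eq {K : Subgroup G} {r : G}
    (h : K.map (MulAut.conj r).toMonoidHom = K) : r ∈ Subgroup.normalizer (K : Set G) := by
  rw [Subgroup.mem_normalizer_iff]
  intro x
  constructor
  · intro hx
    rw [← h]
    exact ⟨x, hx, by simp [MulAut.conj_apply]⟩
  · intro hx
    rw [← h] at hx
    obtain ⟨y, hy, hyx⟩ := hx
    have hyx' : r * y * r⁻¹ = r * x * r⁻¹ := by simpa [MulAut.conj_apply] using hyx
    have : y = x := by
      have h3 := congrArg (fun z => r⁻¹ * z * r) hyx'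
      simpa [mul_assoc] using h3
    rwa [← this]

omit [Finite G] in
/-- conjugation by a normalizing element maps the subgroup onto itself. -/
theorem map_conj_eq_of_mem_normalizer {K : Subgroup G} {r : G}
    (hr : r ∈ Subgroup.normalizer (K : Set G)) : K.map (MulAut.conj r).toMonoidHom = K := by
  ext x
  constructor
  · rintro ⟨y, hy, rfl⟩
    have := (Subgroup.mem_normalizer_iff.mp hr y).mp hy
    simpa [MulAut.conj_apply] using this
  · intro hx
    refine ⟨r⁻¹ * x * r, ?_, by simp [MulAut.conj_apply, mul_assoc]⟩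
    have hr' : r⁻¹ ∈ Subgroup.normalizer (K : Set G) := Subgroup.inv_mem _ hr
    have := (Subgroup.mem_normalizer_iff.mp hr' x).mp hx
    simpa using this

/-- KEYSTONE 142815  K-S1428-AB  (PURE coprime action on an abelian group). -/
theorem commutator_fix_eq_bot {q : ℕ} [Fact q.Prime] (Q₀ R : Subgroup G) (hQ₀ : IsPGroup q Q₀)
    (hab : ∀ a ∈ Q₀, ∀ b ∈ Q₀, a * b = b * a) (hRQ : R ≤ Subgroup.normalizer (Q₀ : Set G))
    (hR : ¬ q ∣ Nat.card R) :
    ⁅Q₀, R⁆ ≤ Q₀ ∧ R ≤ Subgroup.normalizer ((⁅Q₀, R⁆ : Subgroup G) : Set G) ∧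
      ⁅Q₀, R⁆ ⊓ Subgroup.centralizer (R : Set G) = ⊥ ∧
      (¬ Q₀ ≤ Subgroup.centralizer (R : Set G) → ⁅Q₀, R⁆ ≠ ⊥) := by
  have h1 : ⁅Q₀, R⁆ ≤ Q₀ := commutator_le_left_of_le_normalizer hRQ
  refine ⟨h1, ?_, ?_, ?_⟩
  · -- `R` normalizes `⁅Q₀, R⁆`
    intro r hr
    apply mem_normalizer_of_map_conj_eq
    rw [Subgroup.map_commutator, map_conj_eq_of_mem_normalizer (hRQ hr),
      map_conj_eq_of_mem_normalizer (Subgroup.le_normalizer hr)]
  · -- `C_{[Q₀,R]}(R) = 1`
    set M : Subgroup G := Q₀ ⊔ R with hM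
    have hPM : Q₀ ≤ M := le_sup_left
    have hc : IsMulCommutative Q₀ := by
      rw [isMulCommutative_iff]
      intro a b
      exact Subtype.ext (hab a a.2 b b.2)
    -- `|M : Q₀|` divides `|R|`
    have hdvd : Nat.card (Q₀ ⊔ R : Subgroup G) ∣ Nat.card Q₀ * Nat.card R :=
      card_sup_dvd_of_le_normalizer Q₀ R hRQ
    have hidx : Nat.card Q₀ * Q₀.relIndex M = Nat.card M := by
      have := (Q₀.subgroupOf M).card_mul_index
      rwa [Cfsg.Agent.Lib.Helper01.card_subgroupOf_of_le hPM] at this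
    have hpos : 0 < Nat.card Q₀ := Nat.card_pos
    have hrel : Q₀.relIndex M ∣ Nat.card R := by
      have h2 : Nat.card Q₀ * Q₀.relIndex M ∣ Nat.card Q₀ * Nat.card R := by
        rw [hidx]; exact hdvd
      exact (Nat.mul_dvd_mul_iff_left hpos).mp h2
    obtain ⟨k, hk⟩ := IsPGroup.iff_card.mp hQ₀
    have hqR : Nat.Coprime q (Nat.card R) :=
      (Nat.Prime.coprime_iff_not_dvd (Fact.out : q.Prime)).mpr hR
    have hcop : Nat.Coprime (Nat.card Q₀) (Q₀.relIndex M) := by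
      rw [hk]
      exact Nat.Coprime.coprime_dvd_right hrel (Nat.Coprime.pow_left k hqR)
    have hkey := Cfsg.Agent.Lib.Helper03.commutator_inf_centralizer_inf_eq_bot_of_abelian_hall
      Q₀ M hPM hc hcop
    rw [eq_bot_iff]
    intro x hx
    obtain ⟨hx1, hx2⟩ := Subgroup.mem_inf.mp hx
    rw [← hkey]
    refine Subgroup.mem_inf.mpr ⟨Subgroup.mem_inf.mpr ⟨?_, ?_⟩, h1 hx1⟩
    · exact Subgroup.commutator_mono hPM le_sup_right hx1
    · rw [hM, Subgroup.sup_eq_closure, Subgroup.centralizer_closure, Subgroup.mem_centralizer_iff]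
      intro y hy
      rcases hy with hy | hy
      · exact hab y hy x (h1 hx1)
      · exact (Subgroup.mem_centralizer_iff.mp hx2) y hy
  · intro hnc hbot
    exact hnc (Subgroup.commutator_eq_bot_iff_le_centralizer.mp hbot)

end Cfsg.Agent.Lib.Helper11.BG134
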