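import Cfsg.Prelude.Def_OddOrderLocal

/-!
# BG Theorem 14.4 / Lemma 14.5 pack (S1374, S1375, S1433, S1377): shared definitions.  Architect: helper11.
-/

set_option autoImplicit false

namespace Cfsg.Agent.Lib.Helper11.BG144

open Cfsg Subgroup

variable {G : Type*} [Group G]

/-- The conjugate `g M g⁻¹`, in the form used by the frozen statements. -/
abbrev cj (g : G) (M : Subgroup G) : Subgroup G := M.map (MulAut.conj g).toMonoidHom

/-- The statement of S1432 (BG Corollary 14.3) for the group `G`, as a hypothesis. -/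
def H1432 (G : Type*) [Group G] : Prop :=
  ∀ (M : Subgroup G), IsCoatom M → ∀ x : G, x ∈ sigmaCore M → x ≠ 1 →
    ∀ x' : G, x' ∈ M ⊓ centralizer ({x} : Set G) → x' ≠ 1 →
    (∀ p : ℕ, p.Prime → p ∣ orderOf x' → p ∉ sigma M) →
    ((∀ p : ℕ, p.Prime → p ∣ orderOf x' → p ∈ kappa M) ∧ centralizer ({x} : Set G) ≤ M) ∨
      ((∀ p : ℕ, p.Prime → p ∣ orderOf x' → p ∈ tau2 M) ∧
        (∃ L : Subgroup G, IsCoatom L ∧ ∀ p : ℕ, p.Prime → p ∣ orderOf x' → p ∈ sigma L) ∧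
        (centralizer ({x'} : Set G) ≤ M ∧
          ∀ L : Subgroup G, IsCoatom L → centralizer ({x'} : Set G) ≤ L → L = M))

/-- Consequence (Q) of the σ-partition (S1378) + S1424 + S1417 + S1418 + S1420: if `q ∈ σ(M)`, `Y ≠ 1` is a
`q`-subgroup of `M` and `N ≠ M` is a maximal subgroup containing `N_G(Y)`, then `q ∈ τ₂(N)`, `N_σ` is nilpotent,
`N_σ ∩ M = 1`, `M ∩ N` is a complement of `N_σ` in `N`, and `N` is not conjugate to `M`. -/
def HQ (G : Type*) [Group G] : Prop :=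
  ∀ (M : Subgroup G), IsCoatom M → ∀ q : ℕ, q.Prime → q ∈ sigma M →
    ∀ Y : Subgroup G, IsPGroup q Y → Y ≠ ⊥ → Y ≤ M →
    ∀ N : Subgroup G, IsCoatom N → N ≠ M → normalizer (Y : Set G) ≤ N →
      q ∈ tau2 N ∧ Group.IsNilpotent (sigmaCore N) ∧ sigmaCore N ⊓ M = ⊥ ∧
        IsComplIn (M ⊓ N) (sigmaCore N) N ∧ ∀ g : G, N ≠ cj g M

/-- `N` supports the element `x ∈ M_σ` (the situation of BG 14.4(b),(c) when `C_G(x) ⊄ M`). -/
structure Supp (M : Subgroup G) (x : G) (N : Subgroup G) : Prop where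
  coatom : IsCoatom N
  cent_le : centralizer ({x} : Set G) ≤ N
  uniq : ∀ L : Subgroup G, IsCoatom L → centralizer ({x} : Set G) ≤ L → L = N
  ne : N ≠ M
  not_conj : ∀ g : G, N ≠ cj g M
  nilp : Group.IsNilpotent (sigmaCore N)
  inf_bot : sigmaCore N ⊓ M = ⊥
  compl : IsComplIn (M ⊓ N) (sigmaCore N) N
  tau2 : ∀ p : ℕ, p.Prime → p ∣ orderOf x → p ∈ tau2 N
  R_ne : sigmaCore N ⊓ centralizer ({x} : Set G) ≠ ⊥
  cent_split : ∀ n ∈ centralizer ({x} : Set G), ∃ e ∈ M ⊓ centralizer ({x} : Set G),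
    ∃ a ∈ sigmaCore N ⊓ centralizer ({x} : Set G), n = e * a

/-- BG 14.4, transitivity: `C_G(x)` is transitive on the conjugates of `M` containing `x ∈ M_σ - 1`. -/
def HA (G : Type*) [Group G] : Prop :=
  ∀ (M : Subgroup G), IsCoatom M → ∀ x : G, x ∈ sigmaCore M → x ≠ 1 →
    ∀ g : G, x ∈ cj g M → ∃ c ∈ centralizer ({x} : Set G), cj c M = cj g M

/-- BG 14.4(b),(c): existence of the supporting maximal subgroup. -/
def HB (G : Type*) [Group G] : Prop :=
  ∀ (M : Subgroup G), IsCoatom M → ∀ x : G, x ∈ sigmaCore M → x ≠ 1 →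
    ¬ centralizer ({x} : Set G) ≤ M → ∃ N : Subgroup G, Supp M x N

/-- `N_σ = N_F` as soon as `N_σ` is nilpotent. -/
def HC (G : Type*) [Group G] : Prop :=
  ∀ (N : Subgroup G), IsCoatom N → Group.IsNilpotent (sigmaCore N) → sigmaCore N = fittingHallOf N

/-- The statement of S1433 for `G`. -/
def H1433 (G : Type*) [Group G] : Prop :=
  ∀ (M N : Subgroup G), IsCoatom M → IsCoatom N → ∀ x y : G, x ∈ sigmaCore M → y ∈ sigmaCore N →
    x ≠ 1 → y ≠ 1 → x ≠ y → ∀ r ∈ supportR M x, ∀ s ∈ supportR N y, x * r ≠ y * s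

/-- The statement of S1374 for `G`. -/
def H1374 (G : Type*) [Group G] : Prop :=
  ∀ (M : Subgroup G), IsCoatom M → ∀ x : G, x ∈ sigmaCore M → x ≠ 1 →
    (Nat.card ↥(M ⊓ centralizer ({x} : Set G))).Coprime
        ((M ⊓ centralizer ({x} : Set G)).relIndex (centralizer ({x} : Set G))) ∧
      ∃ R : Subgroup G, centralizer ({x} : Set G) ≤ normalizer (R : Set G) ∧
        IsComplIn (M ⊓ centralizer ({x} : Set G)) R (centralizer ({x} : Set G)) ∧
        ∀ g : G, x ∈ M.map (MulAut.conj g).toMonoidHom →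
          ∃! r : G, r ∈ R ∧ M.map (MulAut.conj r).toMonoidHom = M.map (MulAut.conj g).toMonoidHom

end Cfsg.Agent.Lib.Helper11.BG144
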