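import Cfsg.Agent.S1430
import Cfsg.Agent.S1431
import Cfsg.Agent.Lib.Helper55.BG143
import Cfsg.Agent.Lib.Helper11.BG144Defs
import Cfsg.Agent.Lib.Helper42.BG144Q
import Cfsg.Agent.Lib.Helper75.BG144A
import Cfsg.Agent.Lib.Helper77.BG144B
import Cfsg.Agent.Lib.Helper56.BG144C

/-!
# BG Theorem 14.4 / Lemma 14.5 pack: the hypotheses `H1432`, `HQ`, `HA`, `HB`, `HC` discharged.

Architect: helper11.  Leaves: Q helper42, A helper75, B helper77, C helper56; BG 14.3 (`s1432_of_hyps`) helper55;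
BG 14.2 (S1430, S1431) helper15 and pack.
-/

set_option autoImplicit false

namespace Cfsg.Agent.Lib.Helper11.BG144

open Cfsg Subgroup

variable {G : Type*} [Group G] [Finite G]

/-- BG Corollary 14.3 (the statement of S1432), from S1430 + S1431. -/
theorem h1432_main (hG : IsMinSimpleOddOrder G) : H1432 G := by
  intro M hM x hx hx1 x' hx' hx'1 hσ
  refine Cfsg.Agent.Lib.Helper55.BG143.s1432_of_hyps hG ?_ ?_ M hM x hx hx1 x' hx' hx'1 hσ
  · intro M hM K hK hK1
    have h := Cfsg.Agent.S1430.result hG M hM K hK hK1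
    exact ⟨h.1, fun X hX hXp => (h.2.2 X hX hXp).1⟩
  · intro M hM K hK hK1
    exact (Cfsg.Agent.S1431.result hG M hM K hK hK1).1

theorem hQ_main (hG : IsMinSimpleOddOrder G) : HQ G :=
  Cfsg.Agent.Lib.Helper42.BG144.sigma_partner hG

theorem hA_main (hG : IsMinSimpleOddOrder G) : HA G :=
  Cfsg.Agent.Lib.Helper75.BG144.exists_cent_conj hG (hQ_main hG)

theorem hB_main (hG : IsMinSimpleOddOrder G) : HB G :=
  Cfsg.Agent.Lib.Helper77.BG144.exists_supp hG (hQ_main hG) (h1432_main hG)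

theorem hC_main (hG : IsMinSimpleOddOrder G) : HC G :=
  Cfsg.Agent.Lib.Helper56.BG144.sigmaCore_eq_fittingHallOf hG

end Cfsg.Agent.Lib.Helper11.BG144
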