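import Cfsg.Prelude.Def_OddOrderLocal

/-!
# Corollaries of BG Theorem 14.2 (S1430 + S1431): S1370, S1371, S1365.  Shared definitions.  Architect: helper11.
-/

set_option autoImplicit false

namespace Cfsg.Agent.Lib.Helper11.BG14D

open Cfsg Subgroup

variable {G : Type*} [Group G]

/-- `K* = C_{M_σ}(K)`. -/
abbrev Ks (M K : Subgroup G) : Subgroup G := sigmaCore M ⊓ centralizer (K : Set G)

/-- `Ẑ = K K* - (K ∪ K*)`. -/
abbrev Zhat (M K : Subgroup G) : Set G := (↑(K ⊔ Ks M K) : Set G) \ ((K : Set G) ∪ ↑(Ks M K))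

/-- The statement of S1430 (BG 14.2, first half) for `G`, as a hypothesis. -/
def H1430 (G : Type*) [Group G] : Prop :=
  ∀ (M : Subgroup G), IsCoatom M → ∀ K : Subgroup G, IsPiHallOf (kappa M) K M → K ≠ ⊥ →
    (∀ k ∈ K, k ≠ 1 → sigmaCore M ⊓ centralizer ({k} : Set G) = (sigmaCore M ⊓ centralizer (K : Set G))) ∧
      (∃ U : Subgroup G, IsMulCommutative U ∧ IsPiHallOf {q | q.Prime ∧ q ∉ kappa M ∧ q ∉ sigma M} U M ∧
        K ≤ normalizer (U : Set G) ∧ ∀ k ∈ K, k ≠ 1 → U ⊓ centralizer ({k} : Set G) = ⊥) ∧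
      ∀ X : Subgroup G, X ≤ K → (Nat.card X).Prime →
        M ⊓ normalizer (X : Set G) = K ⊔ (sigmaCore M ⊓ centralizer (K : Set G)) ∧
        M ⊓ normalizer (K : Set G) = K ⊔ (sigmaCore M ⊓ centralizer (K : Set G)) ∧
        ∀ Mstar : Subgroup G, IsCoatom Mstar → normalizer (X : Set G) ≤ Mstar → X ≤ sigmaCore Mstar

/-- The statement of S1431 (BG 14.2, second half) for `G`, as a hypothesis. -/
def H1431 (G : Type*) [Group G] : Prop :=
  ∀ (M : Subgroup G), IsCoatom M → ∀ K : Subgroup G, IsPiHallOf (kappa M) K M → K ≠ ⊥ →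
    (∀ g : G, g ∉ M → (sigmaCore M ⊓ centralizer (K : Set G)) ⊓ M.map (MulAut.conj g).toMonoidHom = ⊥) ∧
      (∀ g ∈ M, g ∉ K ⊔ (sigmaCore M ⊓ centralizer (K : Set G)) → K ⊓ K.map (MulAut.conj g).toMonoidHom = ⊥) ∧
      (∀ (p : ℕ), p.Prime → p ∣ Nat.card ↥(sigmaCore M ⊓ centralizer (K : Set G)) → ∀ S : Sylow p ↥(sigmaCore M),
        InUniqueMaximal ((S : Subgroup ↥(sigmaCore M)).map (sigmaCore M).subtype) ∧
        (S : Subgroup ↥(sigmaCore M)).map (sigmaCore M).subtype ≤ M ∧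
        ¬ (S : Subgroup ↥(sigmaCore M)).map (sigmaCore M).subtype ≤ (sigmaCore M ⊓ centralizer (K : Set G))) ∧
      ∀ Y : Subgroup G, (∀ p : ℕ, p.Prime → p ∣ Nat.card Y → p ∈ sigma M) →
        Y ⊓ (sigmaCore M ⊓ centralizer (K : Set G)) ≠ ⊥ → Y ≤ sigmaCore M

/-- Basic facts on `K`, `K*` for a standard factorisation with `K ≠ 1` (consequences of S1430). -/
structure KFacts (M K : Subgroup G) : Prop where
  Ks_ne : Ks M K ≠ ⊥
  coprime : (Nat.card K).Coprime (Nat.card (Ks M K))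
  inf_bot : K ⊓ Ks M K = ⊥
  comm : ∀ k ∈ K, ∀ k' ∈ K, k * k' = k' * k
  cent : ∀ k ∈ K, k ≠ 1 → M ⊓ centralizer ({k} : Set G) = K ⊔ Ks M K

/-- The normal subgroup `U M_σ` of `M` with quotient `K` (formal consequences of `IsSigmaDecomposition`). -/
structure UFacts (M K U : Subgroup G) : Prop where
  normal : M ≤ normalizer ((U ⊔ sigmaCore M : Subgroup G) : Set G)
  le : U ⊔ sigmaCore M ≤ M
  inf_bot : K ⊓ (U ⊔ sigmaCore M) = ⊥
  prod : ∀ m ∈ M, ∃ k ∈ K, ∃ t ∈ U ⊔ sigmaCore M, m = k * t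

/-- The statement of S1370 for `M K`. -/
def P1370 (M K : Subgroup G) : Prop :=
  IsTISubset ((↑(K ⊔ (sigmaCore M ⊓ centralizer (K : Set G))) : Set G) \ ((K : Set G) ∪ ↑(sigmaCore M ⊓ centralizer (K : Set G)))) ∧
    normalizer ((↑(K ⊔ (sigmaCore M ⊓ centralizer (K : Set G))) : Set G) \ ((K : Set G) ∪ ↑(sigmaCore M ⊓ centralizer (K : Set G)))) =
      K ⊔ (sigmaCore M ⊓ centralizer (K : Set G))

end Cfsg.Agent.Lib.Helper11.BG14D
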