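import Mathlib
import Cfsg.Agent.S1350
import Cfsg.Agent.S1351
import Cfsg.Agent.S1352
import Cfsg.Agent.S1355
import Cfsg.Agent.S1437
import Cfsg.Agent.Lib.Helper71.BG10Hall
import Cfsg.Agent.Lib.Helper31.FittingHall

set_option autoImplicit false

/-! BG Section 16: the cores `M_F` and `M_s` are Hall subgroups of `G` whose Sylow subgroups have their
normalizers in `M` (statement S1389).  The `⇒` direction of S1382 enters as the hypothesis `H1382`. -/

namespace Cfsg.Agent.Lib.Helper11.BG1389

open Cfsg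

variable {G : Type*} [Group G] [Finite G]

/-- the `⇒` direction of S1382 -/
def H1382 (G : Type*) [Group G] : Prop :=
  ∀ (M : Subgroup G), IsCoatom M → ∀ K U : Subgroup G, IsSigmaDecomposition M K U →
    (IsOfTypeIII M ∨ IsOfTypeIV M) → (K ≠ ⊥ ∧ U = ⊥ ∧ fittingHallOf M ≠ sigmaCore M)

omit [Finite G] in
theorem card_mul_relIndex_of_le {T M : Subgroup G} (hTM : T ≤ M) :
    Nat.card T * T.relIndex M = Nat.card M := by
  have h1 := Subgroup.card_mul_index (T.subgroupOf M)
  have h2 : Nat.card (T.subgroupOf M) = Nat.card T :=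
    Nat.card_congr (Subgroup.subgroupOfEquivOfLe hTM).toEquiv
  rw [h2] at h1
  exact h1

theorem core (hG : IsMinSimpleOddOrder G) {M T : Subgroup G} (hM : IsCoatom M)
    (hTσ : T ≤ sigmaCore M) (hco : (Nat.card T).Coprime (T.relIndex M)) :
    (∀ (p : ℕ), p.Prime → ∀ P : Sylow p T, (P : Subgroup T) ≠ ⊥ →
        Subgroup.normalizer ((((P : Subgroup T).map T.subtype : Subgroup G)) : Set G) ≤ M) ∧
    (Nat.card T).Coprime T.index := by
  obtain ⟨hH, hHG, -⟩ := Cfsg.Agent.S1350.result hG M hM
  have hσM : sigmaCore M ≤ M := hH.1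
  have hTM : T ≤ M := hTσ.trans hσM
  have hmem : ∀ p : ℕ, p.Prime → p ∣ Nat.card T → p ∈ sigma M := by
    intro p hp hpT
    exact hH.2.1 p hp (dvd_trans hpT (Subgroup.card_dvd_of_le hTσ))
  refine ⟨?_, ?_⟩
  · intro p hp P hP
    have : Fact p.Prime := ⟨hp⟩
    have hpP : p ∣ Nat.card (P : Subgroup T) := by
      rcases P.isPGroup'.card_eq_or_dvd with h | h
      · exact absurd ((Subgroup.card_eq_one).1 h) hP
      · exact h
    have hpT : p ∣ Nat.card T := dvd_trans hpP (Subgroup.card_subgroup_dvd_card _)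
    have hpσ : p ∈ sigma M := hmem p hp hpT
    have hcardP' : Nat.card ((P : Subgroup T).map T.subtype) = p ^ (Nat.card T).factorization p := by
      rw [Subgroup.card_subtype]
      exact P.card_eq_multiplicity
    have hTpos : Nat.card T ≠ 0 := Nat.card_pos.ne'
    have hpr : ¬ p ∣ T.relIndex M := fun h => Nat.not_coprime_of_dvd_of_dvd hp.one_lt hpT h hco
    have hSyl : Cfsg.Agent.Lib.Helper55.IsSylowIn p M ((P : Subgroup T).map T.subtype) := by
      refine ⟨(Subgroup.map_subtype_le _).trans hTM, P.isPGroup'.map _, ?_⟩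
      intro T' hT'M hT'p hle
      obtain ⟨k, hk⟩ := hT'p.exists_card_eq
      have h1 : p ^ k ∣ Nat.card T * T.relIndex M := by
        rw [card_mul_relIndex_of_le hTM, ← hk]
        exact Subgroup.card_dvd_of_le hT'M
      have h2 : p ^ k ∣ Nat.card T :=
        Nat.Coprime.dvd_of_dvd_mul_right
          (Nat.Coprime.pow_left k ((Nat.Prime.coprime_iff_not_dvd hp).2 hpr)) h1
      have h3 : k ≤ (Nat.card T).factorization p := (hp.pow_dvd_iff_le_factorization hTpos).1 h2
      have h4 : Nat.card T' ≤ Nat.card ((P : Subgroup T).map T.subtype) := by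
        rw [hk, hcardP']
        exact Nat.pow_le_pow_right hp.pos h3
      exact (Subgroup.eq_of_le_of_card_ge hle h4).symm
    exact Cfsg.Agent.Lib.Helper71.BG10.sigma_normalizer_le hpσ hSyl
  · apply Nat.coprime_of_dvd
    intro k hk hkT hkidx
    have hkσ : k ∈ sigma M := hmem k hk hkT
    have h1 : T.relIndex (sigmaCore M) * (sigmaCore M).index = T.index :=
      Subgroup.relIndex_mul_index hTσ
    rw [← h1] at hkidx
    rcases (Nat.Prime.dvd_mul hk).1 hkidx with h | h
    · have h2 : T.relIndex (sigmaCore M) ∣ T.relIndex M :=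
        Dvd.intro _ (Subgroup.relIndex_mul_relIndex T (sigmaCore M) M hTσ hσM)
      exact Nat.not_coprime_of_dvd_of_dvd hk.one_lt hkT (dvd_trans h h2) hco
    · exact hHG.2 k hk hkσ h

theorem fittingHallOf_coprime_relIndex (M : Subgroup G) :
    (Nat.card (fittingHallOf M)).Coprime ((fittingHallOf M).relIndex M) := by
  have h := Cfsg.Agent.Lib.Helper31.fittingHall_coprime M
  rw [Cfsg.Agent.Lib.Helper31.card_fittingHallOf]
  have h2 : (fittingHallOf M).relIndex M = (fittingHall M).index := by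
    unfold Subgroup.relIndex fittingHallOf
    congr 1
    ext x
    rw [Subgroup.mem_subgroupOf]
    constructor
    · rintro ⟨y, hy, hyx⟩
      have : y = x := Subtype.ext hyx
      rwa [← this]
    · intro hx
      exact ⟨x, hx, rfl⟩
  rw [h2]
  exact h

theorem sigmaCore_coprime_relIndex (hG : IsMinSimpleOddOrder G) {M : Subgroup G} (hM : IsCoatom M) :
    (Nat.card (sigmaCore M)).Coprime ((sigmaCore M).relIndex M) := by
  obtain ⟨hH, -, -⟩ := Cfsg.Agent.S1350.result hG M hM
  apply Nat.coprime_of_dvd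
  intro k hk hk1 hk2
  exact hH.2.2 k hk (hH.2.1 k hk hk1) hk2

/-- S1389 from the `⇒` direction of S1382. -/
theorem s1389_of (hG : IsMinSimpleOddOrder G) (h82 : H1382 G) (M : Subgroup G) (hM : IsCoatom M) :
    (∀ (p : ℕ), p.Prime → ∀ (P : Sylow p ↥(typeCore M)), (P : Subgroup ↥(typeCore M)) ≠ ⊥ →
        Subgroup.normalizer ((((P : Subgroup ↥(typeCore M)).map (typeCore M).subtype : Subgroup G)) : Set G) ≤ M) ∧
      (Nat.card (fittingHallOf M)).Coprime (fittingHallOf M).index ∧
      (Nat.card (typeCore M)).Coprime (typeCore M).index := by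
  have hF1 : fittingHallOf M ≤ sigmaCore M := (Cfsg.Agent.S1355.result hG M hM).2.1
  have hF2 := fittingHallOf_coprime_relIndex M
  have hT : typeCore M ≤ sigmaCore M ∧ (Nat.card (typeCore M)).Coprime ((typeCore M).relIndex M) := by
    by_cases h : IsOfTypeIII M ∨ IsOfTypeIV M
    · obtain ⟨⟨K, hK⟩, hcyc⟩ := Cfsg.Agent.S1351.result hG M hM
      obtain ⟨⟨U, hKU⟩, -⟩ := Cfsg.Agent.S1352.result hG M hM K (hcyc K hK) hK
      obtain ⟨-, -, hne⟩ := h82 M hM K U hKU h
      have h37 := (Cfsg.Agent.S1437.result hG M hM K U hKU hne).2.1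
      have hT : typeCore M = sigmaCore M := by
        unfold typeCore
        rw [if_pos h, ← h37]
      rw [hT]
      exact ⟨le_rfl, sigmaCore_coprime_relIndex hG hM⟩
    · have hT : typeCore M = fittingHallOf M := by
        unfold typeCore
        rw [if_neg h]
      rw [hT]
      exact ⟨hF1, hF2⟩
  exact ⟨(core hG hM hT.1 hT.2).1, (core hG hM hF1 hF2).2, (core hG hM hT.1 hT.2).2⟩

end Cfsg.Agent.Lib.Helper11.BG1389
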