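import Mathlib
import Cfsg.Agent.S1350
import Cfsg.Agent.S1351
import Cfsg.Agent.S1352
import Cfsg.Agent.S1354
import Cfsg.Agent.S1355
import Cfsg.Agent.S1357
import Cfsg.Agent.S1358
import Cfsg.Agent.S1361
import Cfsg.Agent.S1362
import Cfsg.Agent.S1364
import Cfsg.Agent.S1365
import Cfsg.Agent.Lib.Helper11.BG1389
import Cfsg.Agent.Lib.Helper97.BG1366O
import Cfsg.Agent.Lib.Helper32.CoprimeHall
import Cfsg.Agent.Lib.Helper31.FittingHall
import Cfsg.Agent.Lib.Helper55.Basic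
import Cfsg.Agent.Lib.Helper55.Uniq2
import Cfsg.Agent.Lib.Helper71.BG10Hall
import Cfsg.Agent.Lib.Helper71.BG11a

set_option autoImplicit false

/-! BG Section 16 / statement S1390: for `M` of Type I (resp. II) and `U` a complement of `M_F` in `M`
(resp. `M'`), the properties of `U` of BG Lemma 15.1 in the language of types.  The `⇒` directions of
S1381 and S1382 enter as hypotheses. -/

namespace Cfsg.Agent.Lib.Helper11.BG1390

open Cfsg Cfsg.Agent.Lib.Helper55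

variable {G : Type*} [Group G] [Finite G]

/-- the `⇒` direction of S1381 -/
def H1381 (G : Type*) [Group G] : Prop :=
  ∀ (M : Subgroup G), IsCoatom M → ∀ K U : Subgroup G, IsSigmaDecomposition M K U →
    IsOfTypeII M → (K ≠ ⊥ ∧ U ≠ ⊥)

/-- a maximal subgroup of Frobenius type has `κ(M) = ∅` -/
theorem kappa_eq_empty_of_typeF (hG : IsMinSimpleOddOrder G) {M : Subgroup G} (hM : IsCoatom M)
    (hF : IsOfTypeF ↥M) : kappa M = ∅ := by
  by_contra hne
  obtain ⟨p, hpκ⟩ := Set.nonempty_iff_ne_empty.mpr hne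
  obtain ⟨hsolv, -, -, -, U₁, -, hcompl, -, U₀, hU₀le, hexp, hfpf⟩ := hF
  have hpp : p.Prime := hpκ.1
  have hpM : p ∣ Nat.card M := hpκ.2.1
  have hpσ : p ∉ sigma M := hpκ.2.2.1
  have : Fact p.Prime := ⟨hpp⟩
  obtain ⟨hH, -, -⟩ := Cfsg.Agent.S1350.result hG M hM
  have hF1 : fittingHallOf M ≤ sigmaCore M := (Cfsg.Agent.S1355.result hG M hM).2.1
  have hpF : ¬ p ∣ Nat.card (fittingHall ↥M) := by
    intro h
    apply hpσ
    apply hH.2.1 p hpp
    rw [← Cfsg.Agent.Lib.Helper31.card_fittingHallOf] at h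
    exact dvd_trans h (Subgroup.card_dvd_of_le hF1)
  have hcard : Nat.card (fittingHall ↥M) * Nat.card U₁ = Nat.card ↥M := hcompl.card_mul_card
  have hpU₁ : p ∣ Nat.card U₁ := by
    have h1 : p ∣ Nat.card (fittingHall ↥M) * Nat.card U₁ := by rw [hcard]; exact hpM
    exact ((Nat.Prime.dvd_mul hpp).1 h1).resolve_left hpF
  obtain ⟨v, hv⟩ := exists_prime_orderOf_dvd_card' p hpU₁
  have hpe : p ∣ Monoid.exponent U₁ := by
    rw [← hv]; exact Monoid.order_dvd_exponent v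
  rw [← hexp] at hpe
  have hpU₀ : p ∣ Nat.card U₀ := dvd_trans hpe Group.exponent_dvd_nat_card
  obtain ⟨u₀, hu₀⟩ := exists_prime_orderOf_dvd_card' p hpU₀
  have hu1 : (u₀ : ↥M) ≠ 1 := by
    intro h
    have h2 : u₀ = 1 := Subtype.ext h
    rw [h2, orderOf_one] at hu₀
    exact hpp.one_lt.ne hu₀
  have huo : orderOf (((u₀ : ↥M) : G)) = p := by
    rw [Subgroup.orderOf_coe, Subgroup.orderOf_coe]; exact hu₀
  have hPM : Subgroup.zpowers (((u₀ : ↥M) : G)) ≤ M :=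
    (Subgroup.zpowers_le).2 (u₀ : ↥M).2
  have hPc : Nat.card (Subgroup.zpowers (((u₀ : ↥M) : G))) = p := by
    rw [Nat.card_zpowers, huo]
  obtain ⟨⟨K, hK⟩, hcyc⟩ := Cfsg.Agent.S1351.result hG M hM
  have hKc := hcyc K hK
  have hK1 : K ≠ ⊥ := by
    intro h
    have h1 := hK.2.2 p hpp hpκ
    rw [h, Subgroup.relIndex_bot_left] at h1
    exact h1 hpM
  obtain ⟨⟨Ud, hKU⟩, -⟩ := Cfsg.Agent.S1352.result hG M hM K hKc hK
  have hKs1 := (Cfsg.Agent.S1354.result hG M hM K hKc hK).1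
  have hKsF := (Cfsg.Agent.S1364.result hG M hM K Ud hKU hK1).2.2.1
  obtain ⟨m, hm, hPK⟩ := Cfsg.Agent.Lib.Helper97.BG1366.exists_cj_ge_of_hall hsolv hK hPM (by
    intro q hq hqd
    rw [hPc] at hqd
    have : q = p := (Nat.prime_dvd_prime_iff_eq hq hpp).mp hqd
    rw [this]; exact hpκ)
  have hk : m⁻¹ * ((u₀ : ↥M) : G) * m ∈ K :=
    mem_cj.mp (hPK (Subgroup.mem_zpowers _))
  obtain ⟨⟨y, hy⟩, hy1⟩ := (Subgroup.ne_bot_iff_exists_ne_one).mp hKs1
  have hy1' : y ≠ 1 := fun h => hy1 (Subtype.ext h)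
  obtain ⟨-, hyc⟩ := Subgroup.mem_inf.mp hy
  have hcomm : Commute (m⁻¹ * ((u₀ : ↥M) : G) * m) y :=
    (Subgroup.mem_centralizer_iff.mp hyc _ hk)
  obtain ⟨y₀, hy₀, hy₀y⟩ := hKsF hy
  have hx : (⟨m, hm⟩ : ↥M) * y₀ * (⟨m, hm⟩ : ↥M)⁻¹ ∈ fittingHall ↥M :=
    (fittingHall_normal ↥M).conj_mem y₀ hy₀ _
  have hcomm2 : (u₀ : ↥M) * ((⟨m, hm⟩ : ↥M) * y₀ * (⟨m, hm⟩ : ↥M)⁻¹) =
      ((⟨m, hm⟩ : ↥M) * y₀ * (⟨m, hm⟩ : ↥M)⁻¹) * (u₀ : ↥M) := by
    apply Subtype.ext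
    simp only [Subgroup.coe_mul, Subgroup.coe_inv]
    have hy₀y' : ((y₀ : ↥M) : G) = y := hy₀y
    rw [hy₀y']
    have h1 : Commute (m * (m⁻¹ * ((u₀ : ↥M) : G) * m) * m⁻¹) (m * y * m⁻¹) :=
      (Commute.conj_iff m).mpr hcomm
    have h2 : m * (m⁻¹ * ((u₀ : ↥M) : G) * m) * m⁻¹ = ((u₀ : ↥M) : G) := by group
    rw [h2] at h1
    exact h1.eq
  have hx1 := hfpf (u₀ : ↥M) u₀.2 hu1 _ hx hcomm2
  apply hy1'
  have h3 : y₀ = 1 := by
    have := congrArg (fun t => (⟨m, hm⟩ : ↥M)⁻¹ * t * (⟨m, hm⟩ : ↥M)) hx1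
    simpa [mul_assoc] using this
  rw [← hy₀y, h3]; rfl

/-- if `κ(M) = ∅` then `M_F = M_σ` -/
theorem fittingHallOf_eq_sigmaCore_of_kappa_empty (hG : IsMinSimpleOddOrder G) {M : Subgroup G}
    (hM : IsCoatom M) (hκ : kappa M = ∅) : fittingHallOf M = sigmaCore M := by
  by_contra hne
  obtain ⟨⟨K, hK⟩, hcyc⟩ := Cfsg.Agent.S1351.result hG M hM
  obtain ⟨⟨U, hKU⟩, -⟩ := Cfsg.Agent.S1352.result hG M hM K (hcyc K hK) hK
  have hpr := (Cfsg.Agent.S1357.result hG M hM K U hKU hne).2.2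
  have h1 : Nat.card K ∣ Nat.card K := dvd_rfl
  have h2 : Nat.card K ∈ kappa M := hK.2.1 _ hpr h1
  rw [hκ] at h2
  exact h2

omit [Finite G] in
/-- a Hall `κ(M)`-subgroup is trivial when `κ(M) = ∅` -/
theorem eq_bot_of_kappa_empty {M K : Subgroup G} (hK : IsPiHallOf (kappa M) K M)
    (hκ : kappa M = ∅) : K = ⊥ := by
  by_contra hne
  have hc : Nat.card K ≠ 1 := fun h => hne (Subgroup.card_eq_one.mp h)
  obtain ⟨p, hp, hpK⟩ := Nat.exists_prime_and_dvd hc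
  have := hK.2.1 p hp hpK
  rw [hκ] at this
  exact this

omit [Finite G] in
theorem decomp_of_typeI {M U : Subgroup G} (hκ : kappa M = ∅)
    (hFσ : fittingHallOf M = sigmaCore M) (hc : IsComplIn (fittingHallOf M) U M) :
    IsSigmaDecomposition M ⊥ U := by
  refine ⟨inferInstance, ⟨bot_le, ?_, ?_⟩, ?_, bot_le⟩
  · intro p hp h
    rw [Subgroup.card_bot] at h
    exact absurd (Nat.le_of_dvd Nat.one_pos h) (not_le.mpr hp.one_lt)
  · intro p _ hpκ
    rw [hκ] at hpκ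
    exact absurd hpκ (Set.notMem_empty _)
  · rw [bot_sup_eq, ← hFσ]
    obtain ⟨h1, h2, h3, h4⟩ := hc
    refine ⟨h2, h1, by rw [inf_comm]; exact h3, ?_⟩
    intro m hm
    obtain ⟨a, ha, b, hb, hab⟩ := h4 m⁻¹ (M.inv_mem hm)
    refine ⟨b⁻¹, U.inv_mem hb, a⁻¹, (fittingHallOf M).inv_mem ha, ?_⟩
    rw [← mul_inv_rev, ← hab, inv_inv]

omit [Finite G] in
theorem isComplIn_cj2 {A B M : Subgroup G} (h : IsComplIn A B M) {c : G} (hc : c ∈ M) :
    IsComplIn (cj c A) (cj c B) M := by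
  obtain ⟨hAM, hBM, hinf, hprod⟩ := h
  have hcM : cj c M = M := cj_eq_self_of_mem hc
  refine ⟨?_, ?_, ?_, ?_⟩
  · have := cj_mono (g := c) hAM
    rwa [hcM] at this
  · have := cj_mono (g := c) hBM
    rwa [hcM] at this
  · rw [← cj_inf, hinf, cj_bot]
  · intro m hm
    have hm' : c⁻¹ * m * c ∈ M := M.mul_mem (M.mul_mem (M.inv_mem hc) hm) hc
    obtain ⟨a, ha, b, hb, hab⟩ := hprod _ hm'
    refine ⟨c * a * c⁻¹, conj_mem_cj ha, c * b * c⁻¹, conj_mem_cj hb, ?_⟩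
    have : m = c * (c⁻¹ * m * c) * c⁻¹ := by group
    rw [this, hab]; group

omit [Finite G] in
theorem card_mul_relIndex_of_le' {T M : Subgroup G} (hTM : T ≤ M) :
    Nat.card T * T.relIndex M = Nat.card M :=
  Cfsg.Agent.Lib.Helper11.BG1389.card_mul_relIndex_of_le hTM

/-- conjugating a standard factorisation by an element of `M` -/
theorem isSigmaDecomposition_cj {M K U : Subgroup G} (hKU : IsSigmaDecomposition M K U)
    {g : G} (hg : g ∈ M) (hσn : M ≤ Subgroup.normalizer (sigmaCore M : Set G)) :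
    IsSigmaDecomposition M (cj g K) (cj g U) := by
  have hKM : K ≤ M := hKU.hall.1
  have hgM : cj g M = M := cj_eq_self_of_mem hg
  have hK'M : cj g K ≤ M := by
    have := cj_mono (g := g) hKM
    rwa [hgM] at this
  refine ⟨?_, ⟨hK'M, ?_, ?_⟩, ?_, ?_⟩
  · have := hKU.cyclic
    exact isCyclic_of_surjective
      (K.equivMapOfInjective (MulAut.conj g).toMonoidHom (MulAut.conj g).injective).toMonoidHom
      (MulEquiv.surjective _)
  · intro p hp h
    rw [card_cj] at h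
    exact hKU.hall.2.1 p hp h
  · intro p hp hpκ h
    apply hKU.hall.2.2 p hp hpκ
    have h1 := card_mul_relIndex_of_le' hK'M
    have h2 := card_mul_relIndex_of_le' hKM
    rw [card_cj] at h1
    have h3 : (cj g K).relIndex M = K.relIndex M :=
      Nat.eq_of_mul_eq_mul_left Nat.card_pos (h1.trans h2.symm)
    rwa [h3] at h
  · have h1 := isComplIn_cj2 hKU.compl hg
    have h2 : cj g (K ⊔ sigmaCore M) = cj g K ⊔ sigmaCore M := by
      have : cj g (sigmaCore M) = sigmaCore M := cj_eq_self_iff.mpr (hσn hg)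
      calc cj g (K ⊔ sigmaCore M) = cj g K ⊔ cj g (sigmaCore M) := Subgroup.map_sup _ _ _
        _ = cj g K ⊔ sigmaCore M := by rw [this]
    rwa [h2] at h1
  · rw [← cj_normalizer]
    exact cj_mono hKU.normal

/-- Type II: a complement of `M_F = M_σ` in `M'` is the `U` of a standard factorisation. -/
theorem decomp_of_typeII (hG : IsMinSimpleOddOrder G) {M K U₀ U : Subgroup G} (hM : IsCoatom M)
    (hKU₀ : IsSigmaDecomposition M K U₀) (hK1 : K ≠ ⊥)
    (hFσ : fittingHallOf M = sigmaCore M) (hc : IsComplIn (fittingHallOf M) U ⁅M, M⁆) :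
    ∃ K' : Subgroup G, IsSigmaDecomposition M K' U := by
  have hD : ⁅M, M⁆ = U₀ ⊔ sigmaCore M := (Cfsg.Agent.S1365.result hG M hM K U₀ hKU₀ hK1).1
  have hDM : ⁅M, M⁆ ≤ M := Cfsg.Agent.Lib.Helper71.BG10.commutator_self_le M
  have hσM : sigmaCore M ≤ M := Cfsg.Agent.Lib.Helper71.BG11.sigmaCore_le M
  have hσn : M ≤ Subgroup.normalizer (sigmaCore M : Set G) :=
    Cfsg.Agent.Lib.Helper71.BG11.le_normalizer_sigmaCore M
  have hU₀M : U₀ ≤ M := hKU₀.compl.1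
  have hU₀σ : U₀ ⊓ sigmaCore M = ⊥ := by
    rw [eq_bot_iff]
    intro x hx
    obtain ⟨hx1, hx2⟩ := Subgroup.mem_inf.mp hx
    have : x ∈ U₀ ⊓ (K ⊔ sigmaCore M) := Subgroup.mem_inf.mpr ⟨hx1, Subgroup.mem_sup_right hx2⟩
    rw [hKU₀.compl.2.2.1] at this
    exact this
  have hU₀D : U₀ ≤ ⁅M, M⁆ := by rw [hD]; exact le_sup_left
  have hσD : sigmaCore M ≤ ⁅M, M⁆ := by rw [hD]; exact le_sup_right
  have hmul := Subgroup.coe_mul_of_left_le_normalizer_right U₀ (sigmaCore M) (hU₀M.trans hσn)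
  have hcU₀ : IsComplIn (sigmaCore M) U₀ ⁅M, M⁆ := by
    refine ⟨hσD, hU₀D, by rw [inf_comm]; exact hU₀σ, ?_⟩
    intro d hd
    have hd' : d⁻¹ ∈ ((U₀ ⊔ sigmaCore M : Subgroup G) : Set G) := by
      rw [← hD]; exact (⁅M, M⁆).inv_mem hd
    rw [hmul] at hd'
    obtain ⟨u, hu, s, hs, hus⟩ := Set.mem_mul.mp hd'
    refine ⟨s⁻¹, (sigmaCore M).inv_mem hs, u⁻¹, U₀.inv_mem hu, ?_⟩
    rw [← mul_inv_rev, hus, inv_inv]
  have hc' : IsComplIn (sigmaCore M) U ⁅M, M⁆ := by rw [← hFσ]; exact hc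
  have c1 := Cfsg.Agent.Lib.Helper31.IsComplIn.card_mul hc'
  have c2 := Cfsg.Agent.Lib.Helper31.IsComplIn.card_mul hcU₀
  have hcard : Nat.card U₀ = Nat.card U :=
    Nat.eq_of_mul_eq_mul_left Nat.card_pos (c2.trans c1.symm)
  have hcop : (Nat.card (sigmaCore M)).Coprime (Nat.card U) := by
    have := Cfsg.Agent.Lib.Helper31.coprime_card_of_isComplIn_fittingHallOf hDM hc
    rwa [hFσ] at this
  have hDtop : ⁅M, M⁆ ≠ ⊤ := fun h => hM.1 (top_le_iff.mp (h ▸ hDM))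
  have hsolvD : Group.IsSolvable ↥⁅M, M⁆ := ms_solvable hG hDtop
  obtain ⟨g, hgD, hgU⟩ := Cfsg.Agent.Lib.Helper32.hall_conj_in ⁅M, M⁆ hsolvD (Nat.card U)
    (Nat.card (sigmaCore M)) (by rw [mul_comm]; exact c1.symm) hcop.symm hU₀D hc'.2.1 hcard rfl
  have hgM : g ∈ M := hDM hgD
  have hgU' : cj g U₀ = U := hgU
  refine ⟨cj g K, ?_⟩
  have := isSigmaDecomposition_cj hKU₀ hgM hσn
  rwa [hgU'] at this

omit [Finite G] in
theorem centralizer_closure_eq (X : Set G) :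
    Subgroup.centralizer ((Subgroup.closure X : Subgroup G) : Set G) = Subgroup.centralizer X := by
  apply le_antisymm
  · exact Subgroup.centralizer_le Subgroup.subset_closure
  · intro g hg
    rw [Subgroup.mem_centralizer_iff] at hg ⊢
    have h1 : Subgroup.closure X ≤ Subgroup.centralizer ({g} : Set G) := by
      rw [Subgroup.closure_le]
      intro x hx
      rw [SetLike.mem_coe, Subgroup.mem_centralizer_iff]
      intro y hy
      rw [Set.mem_singleton_iff] at hy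
      rw [hy]
      exact (hg x hx).symm
    intro y hy
    have := h1 hy
    rw [Subgroup.mem_centralizer_iff] at this
    exact (this g (Set.mem_singleton g)).symm

/-- the conclusion of S1390 from a standard factorisation with the given `U` -/
theorem concl_of_decomp (hG : IsMinSimpleOddOrder G) {M K U : Subgroup G} (hM : IsCoatom M)
    (hKU : IsSigmaDecomposition M K U) (hFσ : fittingHallOf M = sigmaCore M)
    (hA : typeA M \ typeA1 M = sigmaA M U \ (sigmaCore M : Set G)) :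
    (∀ (p : ℕ), p.Prime → ∀ P : Sylow p U, IsMulCommutative (P : Subgroup U) ∧ PRankLE p 2 (P : Subgroup U)) ∧
      (∀ X : Set G, X ⊆ (U : Set G) \ {1} → X.Nonempty → fittingHallOf M ⊓ Subgroup.centralizer X ≠ ⊥ →
        Subgroup.centralizer X ≤ M ∧ ∀ L : Subgroup G, IsCoatom L → Subgroup.centralizer X ≤ L → L = M) ∧
      IsTISubset (typeA M \ typeA1 M) := by
  refine ⟨Cfsg.Agent.S1358.result hG M hM K U hKU, ?_, ?_⟩
  · intro X hXU hXne hXc
    have hYU : Subgroup.closure X ≤ U := by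
      rw [Subgroup.closure_le]
      intro x hx
      exact (hXU hx).1
    have hY1 : Subgroup.closure X ≠ ⊥ := by
      obtain ⟨x, hx⟩ := hXne
      intro h
      have h1 : x ∈ Subgroup.closure X := Subgroup.subset_closure hx
      rw [h, Subgroup.mem_bot] at h1
      exact (hXU hx).2 h1
    have hYc : sigmaCore M ⊓ Subgroup.centralizer ((Subgroup.closure X : Subgroup G) : Set G) ≠ ⊥ := by
      rw [centralizer_closure_eq, ← hFσ]; exact hXc
    have := Cfsg.Agent.S1361.result hG M hM K U hKU (Subgroup.closure X) hYU hY1 hYc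
    rwa [centralizer_closure_eq] at this
  · rw [hA]
    exact Cfsg.Agent.S1362.result hG M hM K U hKU

omit [Finite G] in
theorem typeA_diff_typeI {M U : Subgroup G} (hI : IsOfTypeI M)
    (hn34 : ¬ (IsOfTypeIII M ∨ IsOfTypeIV M)) (hFσ : fittingHallOf M = sigmaCore M)
    (hUσ : U ⊔ sigmaCore M = M) :
    typeA M \ typeA1 M = sigmaA M U \ (sigmaCore M : Set G) := by
  unfold typeA typeA1 typeCore sigmaA sigmaHat
  rw [if_pos hI, if_neg hn34, hFσ, hUσ]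
  ext a
  simp only [Set.mem_sdiff, Set.mem_ofPred_eq, Set.mem_inter_iff, SetLike.mem_coe, Set.mem_singleton_iff]
  constructor
  · rintro ⟨⟨haM, ha1, hex⟩, hna⟩
    refine ⟨⟨⟨haM, hex⟩, haM⟩, ?_⟩
    intro haσ
    exact hna ⟨haσ, ha1⟩
  · rintro ⟨⟨⟨haM, hex⟩, -⟩, hna⟩
    refine ⟨⟨haM, ?_, hex⟩, ?_⟩
    · intro h
      apply hna
      rw [h]; exact (sigmaCore M).one_mem
    · rintro ⟨haσ, -⟩
      exact hna haσ

omit [Finite G] in
theorem typeA_diff_typeII {M U : Subgroup G} (hnI : ¬ IsOfTypeI M)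
    (hn34 : ¬ (IsOfTypeIII M ∨ IsOfTypeIV M)) (hFσ : fittingHallOf M = sigmaCore M)
    (hUσ : U ⊔ sigmaCore M = ⁅M, M⁆) (hDM : ⁅M, M⁆ ≤ M) :
    typeA M \ typeA1 M = sigmaA M U \ (sigmaCore M : Set G) := by
  unfold typeA typeA1 typeCore sigmaA sigmaHat
  rw [if_neg hnI, if_neg hn34, hFσ, hUσ]
  ext a
  simp only [Set.mem_sdiff, Set.mem_ofPred_eq, Set.mem_inter_iff, SetLike.mem_coe, Set.mem_singleton_iff]
  constructor
  · rintro ⟨⟨haD, ha1, hex⟩, hna⟩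
    refine ⟨⟨⟨hDM haD, hex⟩, haD⟩, ?_⟩
    intro haσ
    exact hna ⟨haσ, ha1⟩
  · rintro ⟨⟨⟨-, hex⟩, haD⟩, hna⟩
    refine ⟨⟨haD, ?_, hex⟩, ?_⟩
    · intro h
      apply hna
      rw [h]; exact (sigmaCore M).one_mem
    · rintro ⟨haσ, -⟩
      exact hna haσ

omit [Finite G] in
theorem sup_eq_of_isComplIn {A B M : Subgroup G} (h : IsComplIn A B M) : B ⊔ A = M := by
  apply le_antisymm (sup_le h.2.1 h.1)
  intro m hm
  obtain ⟨a, ha, b, hb, rfl⟩ := h.2.2.2 m hm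
  exact (B ⊔ A).mul_mem (Subgroup.mem_sup_right ha) (Subgroup.mem_sup_left hb)

/-- S1390 from the `⇒` directions of S1381 and S1382. -/
theorem s1390_of (hG : IsMinSimpleOddOrder G) (h81 : H1381 G)
    (h82 : Cfsg.Agent.Lib.Helper11.BG1389.H1382 G) (M : Subgroup G) (hM : IsCoatom M) (U : Subgroup G)
    (hU : (IsOfTypeI M ∧ IsComplIn (fittingHallOf M) U M) ∨
      (IsOfTypeII M ∧ IsComplIn (fittingHallOf M) U ⁅M, M⁆)) :
    (∀ (p : ℕ), p.Prime → ∀ P : Sylow p U, IsMulCommutative (P : Subgroup U) ∧ PRankLE p 2 (P : Subgroup U)) ∧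
      (∀ X : Set G, X ⊆ (U : Set G) \ {1} → X.Nonempty → fittingHallOf M ⊓ Subgroup.centralizer X ≠ ⊥ →
        Subgroup.centralizer X ≤ M ∧ ∀ L : Subgroup G, IsCoatom L → Subgroup.centralizer X ≤ L → L = M) ∧
      IsTISubset (typeA M \ typeA1 M) := by
  rcases hU with ⟨hI, hc⟩ | ⟨hII, hc⟩
  · have hκ := kappa_eq_empty_of_typeF hG hM hI.1
    have hFσ := fittingHallOf_eq_sigmaCore_of_kappa_empty hG hM hκ
    have hKU := decomp_of_typeI hκ hFσ hc
    have hn34 : ¬ (IsOfTypeIII M ∨ IsOfTypeIV M) := fun h => (h82 M hM ⊥ U hKU h).1 rfl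
    have hUσ : U ⊔ sigmaCore M = M := by
      rw [← hFσ]; exact sup_eq_of_isComplIn hc
    exact concl_of_decomp hG hM hKU hFσ (typeA_diff_typeI hI hn34 hFσ hUσ)
  · obtain ⟨⟨K, hK⟩, hcyc⟩ := Cfsg.Agent.S1351.result hG M hM
    obtain ⟨⟨U₀, hKU₀⟩, -⟩ := Cfsg.Agent.S1352.result hG M hM K (hcyc K hK) hK
    obtain ⟨hK1, hU₀1⟩ := h81 M hM K U₀ hKU₀ hII
    have hFσ : fittingHallOf M = sigmaCore M := by
      by_contra hne
      exact hU₀1 (Cfsg.Agent.S1357.result hG M hM K U₀ hKU₀ hne).1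
    obtain ⟨K', hKU⟩ := decomp_of_typeII hG hM hKU₀ hK1 hFσ hc
    obtain ⟨hK'1, hU1⟩ := h81 M hM K' U hKU hII
    have hnI : ¬ IsOfTypeI M := by
      intro hI
      exact hK'1 (eq_bot_of_kappa_empty hKU.hall (kappa_eq_empty_of_typeF hG hM hI.1))
    have hn34 : ¬ (IsOfTypeIII M ∨ IsOfTypeIV M) := fun h => hU1 (h82 M hM K' U hKU h).2.1
    have hUσ : U ⊔ sigmaCore M = ⁅M, M⁆ := by
      rw [← hFσ]; exact sup_eq_of_isComplIn hc
    have hDM : ⁅M, M⁆ ≤ M := Cfsg.Agent.Lib.Helper71.BG10.commutator_self_le M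
    exact concl_of_decomp hG hM hKU hFσ (typeA_diff_typeII hnI hn34 hFσ hUσ hDM)

end Cfsg.Agent.Lib.Helper11.BG1390
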