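import Mathlib

set_option autoImplicit false

namespace Cfsg.Agent.Lib.Helper11

open MulAction

/-- sharpness in elementary form -/
theorem sharp_elem {α : Type*} [Fintype α] [DecidableEq α] (G : Subgroup (Equiv.Perm α))
    (k : ℕ) (hsharp : ∀ x : Fin k ↪ α, stabilizer G x = ⊥) (g : G) (x : Fin k ↪ α)
    (hx : ∀ i, g.1 (x i) = x i) : g = 1 := by
  have : g ∈ stabilizer G x := by
    rw [mem_stabilizer_iff]
    ext i
    exact hx i
  rw [hsharp x] at this
  exact this

/-- multiple transitivity in elementary form -/
theorem trans_elem {α : Type*} [Fintype α] [DecidableEq α] (G : Subgroup (Equiv.Perm α))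
    (k : ℕ) [h : IsMultiplyPretransitive G α k] (x y : Fin k ↪ α) :
    ∃ g : G, ∀ i, g.1 (x i) = y i := by
  obtain ⟨g, hg⟩ := h.exists_smul_eq x y
  refine ⟨g, fun i => ?_⟩
  have := DFunLike.congr_fun hg i
  exact this

/-- The order of a sharply `k`-transitive permutation group. -/
theorem card_of_sharply {α : Type*} [Fintype α] [DecidableEq α] (G : Subgroup (Equiv.Perm α))
    (k : ℕ) [IsMultiplyPretransitive G α k]
    (hsharp : ∀ x : Fin k ↪ α, stabilizer G x = ⊥) (hk : k ≤ Fintype.card α) :
    Nat.card G = (Fintype.card α).descFactorial k := by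
  have hne : Nonempty (Fin k ↪ α) := by
    rw [Function.Embedding.nonempty_iff_card_le]; simpa using hk
  obtain ⟨x⟩ := hne
  have hbij : Function.Bijective (fun g : G => x.trans g.1.toEmbedding) := by
    constructor
    · intro g h hgh
      have h1 : ∀ i, (h⁻¹ * g).1 (x i) = x i := by
        intro i
        have := DFunLike.congr_fun hgh i
        simp only [Function.Embedding.trans_apply, Equiv.coe_toEmbedding] at this
        show (h.1⁻¹ * g.1) (x i) = x i
        rw [Equiv.Perm.mul_apply, this]; simp
      have := sharp_elem G k hsharp (h⁻¹ * g) x h1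
      exact (inv_mul_eq_one.mp this).symm
    · intro y
      obtain ⟨g, hg⟩ := trans_elem G k x y
      refine ⟨g, ?_⟩
      ext i
      exact hg i
  rw [Nat.card_congr (Equiv.ofBijective _ hbij), Nat.card_eq_fintype_card,
    Fintype.card_embedding_eq, Fintype.card_fin]

/-- A nontrivial normal subgroup of a primitive permutation group is transitive. -/
theorem pretransitive_of_normal_ne_bot {α : Type*} (G : Subgroup (Equiv.Perm α))
    [IsPreprimitive G α] (M : Subgroup G) [M.Normal] (hM : M ≠ ⊥) : IsPretransitive M α := by
  apply IsQuasiPreprimitive.isPretransitive_of_normal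
  intro h
  apply hM
  rw [eq_bot_iff]
  intro m hm
  rw [Subgroup.mem_bot]
  apply Subtype.ext
  ext a
  have : a ∈ fixedPoints M α := by rw [h]; trivial
  exact this ⟨m, hm⟩

/-- The degree of a transitive action divides the group order. -/
theorem card_dvd_of_pretransitive (H X : Type*) [Group H] [MulAction H X] [IsPretransitive H X]
    [Nonempty X] : Nat.card X ∣ Nat.card H := by
  obtain ⟨x⟩ := ‹Nonempty X›
  rw [← index_stabilizer_of_transitive H x]
  exact Subgroup.index_dvd_card _

/-- An element of a permutation group commuting with a transitive subgroup and fixing a point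
is trivial. -/
theorem eq_one_of_centralizer_of_fix {α : Type*} (G : Subgroup (Equiv.Perm α)) (P : Subgroup G)
    [IsPretransitive P α] (g : G) (hg : g ∈ Subgroup.centralizer (P : Set G)) (a : α)
    (ha : g • a = a) : g = 1 := by
  apply Subtype.ext
  ext b
  obtain ⟨h, rfl⟩ := exists_smul_eq P a b
  rw [Subgroup.mem_centralizer_iff] at hg
  have hc := hg h.1 h.2
  show g • (h • a) = h • a
  have e1 : g • (h • a) = (g * h.1) • a := by rw [mul_smul]; rfl
  rw [e1, ← hc, mul_smul, ha]
  rfl

/-- The centraliser of a transitive subgroup has order at most the degree. -/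
theorem card_centralizer_le {α : Type*} [Finite α] (G : Subgroup (Equiv.Perm α)) (P : Subgroup G)
    [IsPretransitive P α] [Nonempty α] :
    Nat.card (Subgroup.centralizer (P : Set G)) ≤ Nat.card α := by
  obtain ⟨a⟩ := ‹Nonempty α›
  apply Nat.card_le_card_of_injective (fun g : Subgroup.centralizer (P : Set G) => g.1 • a)
  intro g h hgh
  simp only at hgh
  have : (h.1⁻¹ * g.1) • a = a := by rw [mul_smul, hgh, inv_smul_smul]
  have h1 := eq_one_of_centralizer_of_fix G P (h.1⁻¹ * g.1)
    (mul_mem (inv_mem h.2) g.2) a this
  apply Subtype.ext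
  exact (inv_mul_eq_one.mp h1).symm

/-- A subgroup of prime order `p` of a permutation group of degree `p` is transitive. -/
theorem pretransitive_of_card_prime {α : Type*} [Finite α] (G : Subgroup (Equiv.Perm α))
    (Q : Subgroup G) (p : ℕ) (hp : p.Prime) (hQ : Nat.card Q = p) (hα : Nat.card α = p) :
    IsPretransitive Q α := by
  have hQne : Q ≠ ⊥ := by
    intro h
    rw [h, Subgroup.card_bot] at hQ
    exact hp.one_lt.ne hQ
  rcases Q.bot_or_exists_ne_one with h | ⟨q, hqQ, hq1⟩
  · exact absurd h hQne
  have hmove : ∃ a : α, q.1 a ≠ a := by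
    by_contra hcon
    push Not at hcon
    apply hq1
    apply Subtype.ext
    ext a
    exact hcon a
  obtain ⟨a, ha⟩ := hmove
  have hfin : Finite Q := Nat.finite_of_card_ne_zero (by rw [hQ]; exact hp.ne_zero)
  have hS : Nat.card (stabilizer Q a) = 1 := by
    have hdvd : Nat.card (stabilizer Q a) ∣ p := by
      rw [← hQ]; exact Subgroup.card_subgroup_dvd_card _
    rcases (Nat.dvd_prime hp).mp hdvd with h1 | h1
    · exact h1
    · exfalso
      rw [← hQ] at h1
      have htop := (Subgroup.card_eq_iff_eq_top (stabilizer Q a)).mp h1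
      have : (⟨q, hqQ⟩ : Q) ∈ stabilizer Q a := by rw [htop]; trivial
      rw [mem_stabilizer_iff] at this
      exact ha this
  have hidx : (stabilizer Q a).index = p := by
    have := Subgroup.card_mul_index (stabilizer Q a)
    rw [hS, one_mul, hQ] at this
    exact this
  rw [isPretransitive_iff_orbit_eq_univ a, Set.eq_univ_iff_ncard, ← index_stabilizer, hidx, hα]

end Cfsg.Agent.Lib.Helper11

namespace Cfsg.Agent.Lib.Helper11

open MulAction

/-- In a permutation group of prime degree `p`, the normaliser of a Sylow `p`-subgroup of order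
`p` has order dividing `p * (p - 1)` and divisible by `p`. -/
theorem card_normalizer_sylow_prime_degree {α : Type*} [Finite α] (G : Subgroup (Equiv.Perm α))
    (p : ℕ) [hp : Fact p.Prime] (hα : Nat.card α = p) (P : Sylow p G)
    (hP : Nat.card P = p) :
    ∃ r, r ∣ p - 1 ∧ Nat.card (Subgroup.normalizer ((P : Subgroup G) : Set G)) = p * r := by
  have : Finite G := Finite.of_injective (fun g : G => g.1) Subtype.val_injective
  have : Nonempty α := by
    rw [← Finite.card_pos_iff, hα]; exact hp.out.pos
  have htr : IsPretransitive (P : Subgroup G) α :=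
    pretransitive_of_card_prime G P p hp.out hP hα
  have hcyc : IsCyclic (P : Subgroup G) := isCyclic_of_prime_card hP
  have hle : (P : Subgroup G) ≤ Subgroup.centralizer ((P : Subgroup G) : Set G) :=
    Subgroup.le_centralizer _
  have hC : Nat.card (Subgroup.centralizer ((P : Subgroup G) : Set G)) = p := by
    apply le_antisymm
    · exact (card_centralizer_le G (P : Subgroup G)).trans hα.le
    · exact hP.symm.le.trans (Subgroup.card_le_of_le hle)
  have hCN : Subgroup.centralizer ((P : Subgroup G) : Set G) ≤
      Subgroup.normalizer ((P : Subgroup G) : Set G) := Subgroup.centralizer_le_normalizer _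
  have key := Subgroup.card_dvd_of_injective _
    (QuotientGroup.kerLift_injective (P : Subgroup G).normalizerMonoidHom)
  rw [Subgroup.normalizerMonoidHom_ker, ← Subgroup.index, ← Subgroup.relIndex,
    IsCyclic.card_mulAut, hP, Nat.totient_prime hp.out] at key
  refine ⟨_, key, ?_⟩
  have h2 := Subgroup.relIndex_mul_relIndex (⊥ : Subgroup G) _ _ bot_le hCN
  rw [Subgroup.relIndex_bot_left, Subgroup.relIndex_bot_left, hC] at h2
  exact h2.symm

end Cfsg.Agent.Lib.Helper11

namespace Cfsg.Agent.Lib.Helper11

open MulAction

/-- Burnside transfer in prime degree: if a primitive permutation group of prime degree `p` has a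
self-normalising Sylow `p`-subgroup of order `p`, then the group has order `p`. -/
theorem card_eq_of_normalizer_eq {α : Type*} [Finite α] (G : Subgroup (Equiv.Perm α))
    [IsPreprimitive G α] (p : ℕ) [hp : Fact p.Prime] (hα : Nat.card α = p) (P : Sylow p G)
    (hP : Nat.card P = p)
    (hN : Nat.card (Subgroup.normalizer ((P : Subgroup G) : Set G)) = p) : Nat.card G = p := by
  have hfin : Finite G := Finite.of_injective (fun g : G => g.1) Subtype.val_injective
  have hne : Nonempty α := by
    rw [← Finite.card_pos_iff, hα]; exact hp.out.pos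
  have hcyc : IsCyclic (P : Subgroup G) := isCyclic_of_prime_card hP
  have hle : (P : Subgroup G) ≤ Subgroup.centralizer ((P : Subgroup G) : Set G) :=
    Subgroup.le_centralizer _
  have hNP : Subgroup.normalizer ((P : Subgroup G) : Set G) = (P : Subgroup G) := by
    symm
    apply Subgroup.eq_of_le_of_card_ge Subgroup.le_normalizer
    rw [hN, hP]
  have hNC : Subgroup.normalizer ((P : Subgroup G) : Set G) ≤
      Subgroup.centralizer ((P : Subgroup G) : Set G) := by
    rw [hNP]; exact hle
  have hnd := MonoidHom.not_dvd_card_ker_transferSylow P hNC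
  have hcomp := MonoidHom.ker_transferSylow_isComplement' P hNC
  have hker : (MonoidHom.transferSylow P hNC).ker = ⊥ := by
    by_contra hcon
    have htr := pretransitive_of_normal_ne_bot G _ hcon
    have := card_dvd_of_pretransitive (MonoidHom.transferSylow P hNC).ker α
    rw [hα] at this
    exact hnd this
  have := hcomp.card_mul_card
  rw [hker, Subgroup.card_bot, one_mul, hP] at this
  exact this.symm

end Cfsg.Agent.Lib.Helper11
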