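import Mathlib
import Cfsg.Prelude.Def_ClassicalGeometry
import Cfsg.Agent.Lib.Helper18.SympTrans

set_option autoImplicit false

namespace Cfsg.Agent.Lib.Helper11.SpPerfect

open Cfsg.Agent.Lib.Helper18 Matrix

section
variable {F : Type*} [Field F] (m : ℕ)

local notation "V" => (Fin m ⊕ Fin m → F)
local notation "f" => Cfsg.sympForm m F
local notation "G" => Matrix.symplecticGroup (Fin m) F
local notation "Mat" => Matrix (Fin m ⊕ Fin m) (Fin m ⊕ Fin m) F

theorem mat_ext (A B : Mat) (h : ∀ x : V, A *ᵥ x = B *ᵥ x) : A = B :=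
  Matrix.mulVec_injective (funext h)

theorem sp_ext (A B : G) (h : ∀ x : V, A.1 *ᵥ x = B.1 *ᵥ x) : A = B :=
  Subtype.ext (mat_ext m _ _ h)

theorem tv_act (w : V) (c : F) (x : V) : (tv m w c).1 *ᵥ x = x + (c * f x w) • w :=
  transv_mulVec m w c x

/-- general conjugation formula -/
theorem conj_tv (A : G) (w : V) (c : F) : A * tv m w c * A⁻¹ = tv m (A.1 *ᵥ w) c := by
  apply sp_ext
  intro x
  rw [val_mul, val_mul, ← Matrix.mulVec_mulVec, ← Matrix.mulVec_mulVec, tv_act, tv_act,
    Matrix.mulVec_add, Matrix.mulVec_smul, mulVec_inv_mulVec]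
  congr 3
  rw [← sf_mulVec_of_mem m A.1 A.2, mulVec_inv_mulVec]

theorem tv_smul (a : F) (w : V) (c : F) : tv m (a • w) c = tv m w (a * a * c) := by
  apply sp_ext
  intro x
  rw [tv_act, tv_act, sf_smul_right, smul_smul]
  congr 2
  ring

theorem tv_mul (w : V) (c d : F) : tv m w c * tv m w d = tv m w (c + d) :=
  Subtype.ext (sympTransvection_mul m w c d)

theorem tv_zero (w : V) : tv m w 0 = 1 := by
  apply sp_ext
  intro x
  rw [tv_act, zero_mul, zero_smul, add_zero, val_one, Matrix.one_mulVec]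

theorem tv_zero_left (c : F) : tv m (0 : V) c = 1 := by
  apply sp_ext
  intro x
  rw [tv_act, smul_zero, add_zero, val_one, Matrix.one_mulVec]

theorem top_nondeg : ∀ x ∈ (⊤ : Submodule F V), x ≠ 0 → ∃ y ∈ (⊤ : Submodule F V), f x y ≠ 0 := by
  intro x _ hx
  obtain ⟨y, hy⟩ := sf_nondeg_top m x hx
  exact ⟨y, trivial, hy⟩

/-- transitivity of `Sp` on nonzero vectors -/
theorem exists_move (w w' : V) (hw : w ≠ 0) (hw' : w' ≠ 0) : ∃ A : G, A.1 *ᵥ w = w' := by
  obtain ⟨A, -, hA⟩ := reach_of_ne_zero m ⊤ (top_nondeg m) w w' trivial trivial hw hw'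
  exact ⟨A, hA⟩

/-- The abelianization map kills conjugation. -/
theorem ab_conj (A T : G) : Abelianization.of (A * T * A⁻¹) = Abelianization.of T := by
  rw [map_mul, map_mul, map_inv, mul_comm (Abelianization.of A), mul_assoc, mul_inv_cancel, mul_one]

/-- transvections with the same parameter have the same image in the abelianization -/
theorem ab_tv_eq (w w' : V) (hw : w ≠ 0) (hw' : w' ≠ 0) (c : F) :
    (Abelianization.of (tv m w c) : Abelianization G) = Abelianization.of (tv m w' c) := by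
  obtain ⟨A, hA⟩ := exists_move m w w' hw hw'
  rw [← hA, ← conj_tv, ab_conj]

/-- Case of a field with a scalar `a ≠ 0`, `a² ≠ 1`. -/
theorem ab_tv_of_scalar (a : F) (ha : a ≠ 0) (ha1 : a * a ≠ 1) (w : V) (hw : w ≠ 0) (d : F) :
    (Abelianization.of (tv m w d) : Abelianization G) = 1 := by
  have haw : a • w ≠ 0 := smul_ne_zero ha hw
  have key : ∀ c : F, (Abelianization.of (tv m w (a * a * c)) : Abelianization G) =
      Abelianization.of (tv m w c) := by
    intro c
    rw [← tv_smul]
    exact ab_tv_eq m _ _ haw hw c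
  have hne : a * a - 1 ≠ 0 := sub_ne_zero.mpr ha1
  set c := d / (a * a - 1) with hc
  have hd0 : (a * a - 1) * c = d := by
    rw [hc, mul_div_cancel₀ _ hne]
  have hd : d = a * a * c + (-c) := by
    rw [← hd0]; ring
  rw [hd, ← tv_mul, map_mul, key, ← map_mul, tv_mul, add_neg_cancel, tv_zero, map_one]

/-- vectors supported on the `inl` coordinates are mutually orthogonal -/
theorem sf_inl_zero (w w' : V) (hw : ∀ i, w (Sum.inr i) = 0) (hw' : ∀ i, w' (Sum.inr i) = 0) :
    f w w' = 0 := by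
  rw [sympForm_eq]
  apply Finset.sum_eq_zero
  intro i _
  rw [hw, hw']
  ring

theorem sf_list_sum_left (L : List V) (g : V → F) (w : V) (h : ∀ w' ∈ L, f w' w = 0) :
    f ((L.map (fun w' => g w' • w')).sum) w = 0 := by
  induction L with
  | nil => simp [sf_zero_left]
  | cons a L ih =>
    rw [List.map_cons, List.sum_cons, sf_add_left, sf_smul_left, h a (List.mem_cons_self),
      mul_zero, zero_add]
    exact ih (fun w' hw' => h w' (List.mem_cons_of_mem _ hw'))

/-- product of transvections with pairwise orthogonal centres -/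
theorem prod_orth (L : List V) (hL : ∀ w ∈ L, ∀ w' ∈ L, f w w' = 0) (c : F) (x : V) :
    ((L.map (fun w => tv m w c)).prod).1 *ᵥ x = x + (L.map (fun w => (c * f x w) • w)).sum := by
  induction L with
  | nil => simp
  | cons a L ih =>
    rw [List.map_cons, List.prod_cons, val_mul, ← Matrix.mulVec_mulVec,
      ih (fun w hw w' hw' => hL w (List.mem_cons_of_mem _ hw) w' (List.mem_cons_of_mem _ hw')),
      tv_act, sf_add_left,
      sf_list_sum_left m L (fun w => c * f x w) a
        (fun w' hw' => hL w' (List.mem_cons_of_mem _ hw') a (List.mem_cons_self)),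
      add_zero, List.map_cons, List.sum_cons]
    abel

theorem ne_zero_of_apply (w : V) (k : Fin m ⊕ Fin m) (h : w k ≠ 0) : w ≠ 0 := by
  rintro rfl
  exact h rfl

theorem pair_identity (u v x : V) (c : F) :
    x + ((c * f x (u + v)) • (u + v) + (c * f x (u - v)) • (u - v)) =
      x + ((2 * c * f x u) • u + (2 * c * f x v) • v) := by
  rw [sf_add_right, sf_sub_right]
  ext k
  simp only [Pi.add_apply, Pi.sub_apply, Pi.smul_apply, smul_eq_mul]
  ring

/-- Case `2 ≠ 0`, `m ≥ 2`. -/
theorem ab_tv_of_two_ne (h2 : (2 : F) ≠ 0) (i0 i1 : Fin m) (h01 : i0 ≠ i1) (w : V) (hw : w ≠ 0)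
    (d : F) : (Abelianization.of (tv m w d) : Abelianization G) = 1 := by
  classical
  set u : V := Pi.single (Sum.inl i0) 1 with hu
  set v : V := Pi.single (Sum.inl i1) 1 with hv
  have hur : ∀ i, u (Sum.inr i) = 0 := by intro i; simp [hu]
  have hvr : ∀ i, v (Sum.inr i) = 0 := by intro i; simp [hv]
  have hu0 : u ≠ 0 := ne_zero_of_apply m u (Sum.inl i0) (by simp [hu])
  have hv0 : v ≠ 0 := ne_zero_of_apply m v (Sum.inl i1) (by simp [hv])
  have huv0 : u + v ≠ 0 := ne_zero_of_apply m _ (Sum.inl i0) (by simp [hu, hv, h01])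
  have huv1 : u - v ≠ 0 := ne_zero_of_apply m _ (Sum.inl i0) (by simp [hu, hv, h01])
  set c : F := d / 2 with hc
  have hcc : c + c = d := by rw [hc, ← two_mul, mul_div_cancel₀ _ h2]
  have hL1 : ∀ w ∈ [u + v, u - v], ∀ w' ∈ [u + v, u - v], f w w' = 0 := by
    intro w hw w' hw'
    apply sf_inl_zero
    · simp only [List.mem_cons, List.mem_nil_iff, or_false] at hw
      rcases hw with rfl | rfl <;> intro i <;> simp [hur, hvr]
    · simp only [List.mem_cons, List.mem_nil_iff, or_false] at hw'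
      rcases hw' with rfl | rfl <;> intro i <;> simp [hur, hvr]
  have hL2 : ∀ w ∈ [u, v], ∀ w' ∈ [u, v], f w w' = 0 := by
    intro w hw w' hw'
    apply sf_inl_zero
    · simp only [List.mem_cons, List.mem_nil_iff, or_false] at hw
      rcases hw with rfl | rfl <;> intro i <;> simp [hur, hvr]
    · simp only [List.mem_cons, List.mem_nil_iff, or_false] at hw'
      rcases hw' with rfl | rfl <;> intro i <;> simp [hur, hvr]
  have hprod : tv m (u + v) c * tv m (u - v) c = tv m u (2 * c) * tv m v (2 * c) := by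
    apply sp_ext
    intro x
    have h1 := prod_orth m [u + v, u - v] hL1 c x
    have h2' := prod_orth m [u, v] hL2 (2 * c) x
    simp only [List.map_cons, List.map_nil, List.prod_cons, List.prod_nil, mul_one,
      List.sum_cons, List.sum_nil, add_zero] at h1 h2'
    rw [h1, h2']
    exact pair_identity m u v x c
  set t : Abelianization G := Abelianization.of (tv m u c) with ht
  have e1 : (Abelianization.of (tv m (u + v) c) : Abelianization G) = t := ab_tv_eq m _ _ huv0 hu0 c
  have e2 : (Abelianization.of (tv m (u - v) c) : Abelianization G) = t := ab_tv_eq m _ _ huv1 hu0 c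
  have e3 : (Abelianization.of (tv m u (2 * c)) : Abelianization G) = t * t := by
    rw [two_mul, ← tv_mul, map_mul]
  have e4 : (Abelianization.of (tv m v (2 * c)) : Abelianization G) = t * t := by
    rw [ab_tv_eq m v u hv0 hu0, e3]
  have hmain := congrArg (fun g => (Abelianization.of g : Abelianization G)) hprod
  simp only [map_mul] at hmain
  rw [e1, e2, e3, e4] at hmain
  have htt : t * t = 1 := by
    have : (t * t) * 1 = (t * t) * (t * t) := by rw [mul_one]; exact hmain
    exact (mul_left_cancel this).symm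
  rw [ab_tv_eq m w u hw hu0, ← hcc, ← tv_mul, map_mul]
  exact htt

theorem seven_identity (e1 e2 e3 x : V) (c : F) (h2 : (2 : F) = 0) :
    x + ((c * f x e1) • e1 + ((c * f x e2) • e2 + ((c * f x e3) • e3 +
      ((c * f x (e1 + e2)) • (e1 + e2) + ((c * f x (e1 + e3)) • (e1 + e3) +
      ((c * f x (e2 + e3)) • (e2 + e3) + (c * f x (e1 + e2 + e3)) • (e1 + e2 + e3))))))) = x := by
  simp only [sf_add_right]
  ext k
  simp only [Pi.add_apply, Pi.smul_apply, smul_eq_mul]
  linear_combination (c * (e1 k * (2 * f x e1 + f x e2 + f x e3) +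
    e2 k * (f x e1 + 2 * f x e2 + f x e3) + e3 k * (f x e1 + f x e2 + 2 * f x e3))) * h2

/-- Case `2 = 0`, `m ≥ 3`. -/
theorem ab_tv_of_two_eq (h2 : (2 : F) = 0) (i0 i1 i2 : Fin m) (h01 : i0 ≠ i1) (h02 : i0 ≠ i2)
    (h12 : i1 ≠ i2) (w : V) (hw : w ≠ 0)
    (c : F) : (Abelianization.of (tv m w c) : Abelianization G) = 1 := by
  classical
  set e1 : V := Pi.single (Sum.inl i0) 1 with he1
  set e2 : V := Pi.single (Sum.inl i1) 1 with he2
  set e3 : V := Pi.single (Sum.inl i2) 1 with he3
  have h1r : ∀ i, e1 (Sum.inr i) = 0 := by intro i; simp [he1]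
  have h2r : ∀ i, e2 (Sum.inr i) = 0 := by intro i; simp [he2]
  have h3r : ∀ i, e3 (Sum.inr i) = 0 := by intro i; simp [he3]
  have n1 : e1 ≠ 0 := ne_zero_of_apply m _ (Sum.inl i0) (by simp [he1])
  have n2 : e2 ≠ 0 := ne_zero_of_apply m _ (Sum.inl i1) (by simp [he2])
  have n3 : e3 ≠ 0 := ne_zero_of_apply m _ (Sum.inl i2) (by simp [he3])
  have n12 : e1 + e2 ≠ 0 := ne_zero_of_apply m _ (Sum.inl i0) (by simp [he1, he2, h01])
  have n13 : e1 + e3 ≠ 0 := ne_zero_of_apply m _ (Sum.inl i0) (by simp [he1, he3, h02])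
  have n23 : e2 + e3 ≠ 0 := ne_zero_of_apply m _ (Sum.inl i1) (by simp [he2, he3, h12])
  have n123 : e1 + e2 + e3 ≠ 0 :=
    ne_zero_of_apply m _ (Sum.inl i0) (by simp [he1, he2, he3, h01, h02])
  have hL : ∀ w ∈ [e1, e2, e3, e1 + e2, e1 + e3, e2 + e3, e1 + e2 + e3],
      ∀ w' ∈ [e1, e2, e3, e1 + e2, e1 + e3, e2 + e3, e1 + e2 + e3], f w w' = 0 := by
    intro w hw w' hw'
    apply sf_inl_zero
    · simp only [List.mem_cons, List.mem_nil_iff, or_false] at hw
      rcases hw with rfl | rfl | rfl | rfl | rfl | rfl | rfl <;> intro i <;> simp [h1r, h2r, h3r]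
    · simp only [List.mem_cons, List.mem_nil_iff, or_false] at hw'
      rcases hw' with rfl | rfl | rfl | rfl | rfl | rfl | rfl <;> intro i <;> simp [h1r, h2r, h3r]
  have hprod : tv m e1 c * (tv m e2 c * (tv m e3 c * (tv m (e1 + e2) c * (tv m (e1 + e3) c *
      (tv m (e2 + e3) c * tv m (e1 + e2 + e3) c))))) = 1 := by
    apply sp_ext
    intro x
    have h1 := prod_orth m _ hL c x
    simp only [List.map_cons, List.map_nil, List.prod_cons, List.prod_nil, mul_one,
      List.sum_cons, List.sum_nil, add_zero] at h1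
    rw [h1, val_one, Matrix.one_mulVec]
    exact seven_identity m e1 e2 e3 x c h2
  set t : Abelianization G := Abelianization.of (tv m e1 c) with ht
  have hmain := congrArg (fun g => (Abelianization.of g : Abelianization G)) hprod
  simp only [map_mul, map_one] at hmain
  rw [ab_tv_eq m e2 e1 n2 n1, ab_tv_eq m e3 e1 n3 n1, ab_tv_eq m (e1 + e2) e1 n12 n1,
    ab_tv_eq m (e1 + e3) e1 n13 n1, ab_tv_eq m (e2 + e3) e1 n23 n1,
    ab_tv_eq m (e1 + e2 + e3) e1 n123 n1, ← ht] at hmain
  have htt : t * t = 1 := by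
    rw [ht, ← map_mul, tv_mul, ← two_mul, h2, zero_mul, tv_zero, map_one]
  rw [ab_tv_eq m w e1 hw n1, ← ht]
  calc t = t * (t * (t * (t * (t * (t * t))))) * ((t * t)⁻¹ * (t * t)⁻¹ * (t * t)⁻¹) := by group
    _ = 1 := by rw [hmain, htt]; simp

end

end Cfsg.Agent.Lib.Helper11.SpPerfect
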