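import Mathlib
import Cfsg.Prelude.Def_GeometricClasses
import Cfsg.Agent.Lib.Helper11.SpPerfect
import Cfsg.Agent.S0270

set_option autoImplicit false

namespace Cfsg.Agent.Lib.Helper11.SpMax

open Cfsg.Agent.Lib.Helper18 Cfsg.Agent.Lib.Helper11.SpPerfect Matrix

section
variable {F : Type*} [Field F] (m : ℕ)

local notation "V" => (Fin m ⊕ Fin m → F)
local notation "ff" => Cfsg.sympForm m F
local notation "G" => Matrix.symplecticGroup (Fin m) F
local notation "GLm" => Matrix.GeneralLinearGroup (Fin m ⊕ Fin m) F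

/-- the transvection as an element of `GL` -/
def tg (v : V) (c : F) : GLm :=
  ((Cfsg.Agent.S0270.phi m (tv m v c) : ↥(Cfsg.spGL m F)) : GLm)

theorem tg_mem (v : V) (c : F) : tg m v c ∈ Cfsg.spGL m F :=
  (Cfsg.Agent.S0270.phi m (tv m v c)).2

theorem tg_act (v : V) (c : F) (x : V) : (tg m v c).1 *ᵥ x = x + (c * ff x v) • v :=
  tv_act m v c x

theorem mem_spGL_iff (g : GLm) :
    g ∈ Cfsg.spGL m F ↔ ∀ u v : V, ff (g.1 *ᵥ u) (g.1 *ᵥ v) = ff u v := Iff.rfl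

theorem gl_ext (g h : GLm) (hgh : ∀ x : V, g.1 *ᵥ x = h.1 *ᵥ x) : g = h :=
  Units.ext (mat_ext m _ _ hgh)

theorem gl_mul_act (g h : GLm) (x : V) : (g * h).1 *ᵥ x = g.1 *ᵥ (h.1 *ᵥ x) := by
  rw [Units.val_mul, Matrix.mulVec_mulVec]

theorem gl_inv_act (g : GLm) (x : V) : g⁻¹.1 *ᵥ (g.1 *ᵥ x) = x := by
  rw [← gl_mul_act, inv_mul_cancel, Units.val_one, Matrix.one_mulVec]

theorem gl_act_inv (g : GLm) (x : V) : g.1 *ᵥ (g⁻¹.1 *ᵥ x) = x := by
  rw [← gl_mul_act, mul_inv_cancel, Units.val_one, Matrix.one_mulVec]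

theorem sf_inv_right (g : GLm) (hg : g ∈ Cfsg.spGL m F) (x y : V) :
    ff x (g⁻¹.1 *ᵥ y) = ff (g.1 *ᵥ x) y := by
  have h := (mem_spGL_iff m g).mp hg x (g⁻¹.1 *ᵥ y)
  rw [gl_act_inv] at h
  exact h.symm

theorem sf_inv_left (g : GLm) (hg : g ∈ Cfsg.spGL m F) (x y : V) :
    ff (g⁻¹.1 *ᵥ x) y = ff x (g.1 *ᵥ y) := by
  have h := (mem_spGL_iff m g).mp hg (g⁻¹.1 *ᵥ x) y
  rw [gl_act_inv] at h
  exact h.symm

/-- every element of `spGL` comes from `Sp` -/
theorem exists_sp (g : GLm) (hg : g ∈ Cfsg.spGL m F) : ∃ A : G, ∀ x : V, A.1 *ᵥ x = g.1 *ᵥ x := by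
  obtain ⟨A, hA⟩ := Cfsg.Agent.S0270.phi_surjective m (F := F) ⟨g, hg⟩
  refine ⟨A, fun x => ?_⟩
  have : ((Cfsg.Agent.S0270.phi m A : ↥(Cfsg.spGL m F)) : GLm) = g := by rw [hA]
  rw [← this]
  rfl

theorem conj_tg (g : GLm) (hg : g ∈ Cfsg.spGL m F) (v : V) (c : F) :
    g * tg m v c * g⁻¹ = tg m (g.1 *ᵥ v) c := by
  apply gl_ext
  intro x
  rw [gl_mul_act, gl_mul_act, tg_act, tg_act, Matrix.mulVec_add, Matrix.mulVec_smul, gl_act_inv,
    sf_inv_left m g hg]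

theorem tg_smul (a : F) (v : V) (c : F) : tg m (a • v) c = tg m v (a * a * c) := by
  unfold tg
  rw [tv_smul]

theorem tg_zero_left (c : F) : tg m (0 : V) c = 1 := by
  unfold tg
  rw [tv_zero_left, map_one]
  rfl

/-- a subgroup containing all transvections contains `spGL` -/
theorem spGL_le_of_tg (M : Subgroup GLm) (h : ∀ (v : V) (c : F), tg m v c ∈ M) :
    Cfsg.spGL m F ≤ M := by
  intro g hg
  obtain ⟨A, hA⟩ := Cfsg.Agent.S0270.phi_surjective m (F := F) ⟨g, hg⟩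
  have hgA : g = ((Cfsg.Agent.S0270.phi m A : ↥(Cfsg.spGL m F)) : GLm) := by rw [hA]
  rw [hgA]
  have hA' : A ∈ Subgroup.closure {A : Matrix.symplecticGroup (Fin m) F |
      ∃ (w : Fin m ⊕ Fin m → F) (c : F),
      (A : Matrix (Fin m ⊕ Fin m) (Fin m ⊕ Fin m) F) = Cfsg.sympTransvection m w c} := by
    rw [Cfsg.Agent.S0765.result m]
    trivial
  clear hA hgA
  induction hA' using Subgroup.closure_induction with
  | mem B hB =>
    obtain ⟨w, c, hB⟩ := hB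
    have hBeq : B = tv m w c := Subtype.ext hB
    rw [hBeq]
    exact h w c
  | one => rw [map_one]; exact M.one_mem
  | mul a b _ _ ha hb => rw [map_mul]; exact M.mul_mem ha hb
  | inv a _ ha => rw [map_inv]; exact M.inv_mem ha

/-- the set of centres of transvection groups contained in `M` -/
def XS (M : Subgroup GLm) : Set V := {v | ∀ c : F, tg m v c ∈ M}

theorem XS_zero (M : Subgroup GLm) : (0 : V) ∈ XS m M := by
  intro c
  rw [tg_zero_left]
  exact M.one_mem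

theorem XS_smul (M : Subgroup GLm) (a : F) (v : V) (hv : v ∈ XS m M) : a • v ∈ XS m M := by
  intro c
  rw [tg_smul]
  exact hv _

theorem XS_act (M : Subgroup GLm) (hM : M ≤ Cfsg.spGL m F) (g : GLm) (hg : g ∈ M) (v : V)
    (hv : v ∈ XS m M) : g.1 *ᵥ v ∈ XS m M := by
  intro c
  rw [← conj_tg m g (hM hg)]
  exact M.mul_mem (M.mul_mem hg (hv c)) (M.inv_mem hg)

theorem XS_mono (M N : Subgroup GLm) (h : M ≤ N) : XS m M ⊆ XS m N :=
  fun _ hv c => h (hv c)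

/-- closure under hyperbolic lines -/
theorem XS_hyp (M : Subgroup GLm) (hM : M ≤ Cfsg.spGL m F) (u v : V) (hu : u ∈ XS m M)
    (hv : v ∈ XS m M) (huv : ff v u ≠ 0) (a : F) : v + a • u ∈ XS m M := by
  have h1 := XS_act m M hM (tg m u (a / ff v u)) (hu _) v hv
  rw [tg_act, div_mul_cancel₀ _ huv] at h1
  exact h1

theorem le_of_XS_univ (M : Subgroup GLm) (h : ∀ v : V, v ∈ XS m M) : Cfsg.spGL m F ≤ M :=
  spGL_le_of_tg m M (fun v c => h v c)

/-- separation: a vector outside a subspace is detected by the perp of the subspace -/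
theorem exists_perp_sep (W : Submodule F V) (x : V) (hx : x ∉ W) :
    ∃ u : V, (∀ w ∈ W, ff w u = 0) ∧ ff x u ≠ 0 := by
  classical
  obtain ⟨φ, hφx, hφW⟩ := Submodule.exists_dual_map_eq_bot_of_notMem hx inferInstance
  set a : V := fun i => φ (fun j => if i = j then 1 else 0) with ha
  have hφ : ∀ y : V, φ y = y ⬝ᵥ a := by
    intro y
    rw [LinearMap.pi_apply_eq_sum_univ φ y, dotProduct]
    apply Finset.sum_congr rfl
    intro i _
    rw [ha, smul_eq_mul]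
  refine ⟨-(Matrix.J (Fin m) F *ᵥ a), ?_, ?_⟩
  · intro w hw
    unfold Cfsg.sympForm
    rw [Matrix.mulVec_neg, J_mulVec_J_mulVec, neg_neg, ← hφ]
    have : φ w ∈ W.map φ := Submodule.mem_map_of_mem hw
    rw [hφW] at this
    exact this
  · unfold Cfsg.sympForm
    rw [Matrix.mulVec_neg, J_mulVec_J_mulVec, neg_neg, ← hφ]
    exact hφx

theorem mem_stab_iff (W : Submodule F V) (g : GLm) :
    g ∈ Cfsg.Geo.subspaceStabilizer W ↔ ∀ v : V, v ∈ W ↔ g.1 *ᵥ v ∈ W := Iff.rfl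

/-- membership in the stabiliser from invariance under `g` and `g⁻¹` -/
theorem mem_stab_of (W : Submodule F V) (g : GLm) (h1 : ∀ v ∈ W, g.1 *ᵥ v ∈ W)
    (h2 : ∀ v ∈ W, g⁻¹.1 *ᵥ v ∈ W) : g ∈ Cfsg.Geo.subspaceStabilizer W := by
  rw [mem_stab_iff]
  intro v
  constructor
  · exact h1 v
  · intro hv
    have := h2 _ hv
    rwa [gl_inv_act] at this

theorem tg_inv (v : V) (c : F) : (tg m v c)⁻¹ = tg m v (-c) := by
  unfold tg
  rw [← tv_inv, map_inv]
  rfl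

/-- transitivity of `spGL` on nonzero vectors -/
theorem exists_spGL_move (w w' : V) (hw : w ≠ 0) (hw' : w' ≠ 0) :
    ∃ g : GLm, g ∈ Cfsg.spGL m F ∧ g.1 *ᵥ w = w' := by
  obtain ⟨A, hA⟩ := exists_move m w w' hw hw'
  exact ⟨((Cfsg.Agent.S0270.phi m A : ↥(Cfsg.spGL m F)) : GLm), (Cfsg.Agent.S0270.phi m A).2, hA⟩

end

end Cfsg.Agent.Lib.Helper11.SpMax
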