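import Mathlib
import Cfsg.Prelude.Def_GeometricClasses

/-!
Non-degenerate symmetric bilinear forms (`Cfsg.Geo.IsSymmetricForm f`) on `κ → F` over the field
with three elements: bilinearity helpers, the Gram formula, Gram–Schmidt, uniform orthogonal
frames in dimension three, and the fact that similarities in dimension three are isometries.
-/

set_option autoImplicit false
set_option linter.unusedSectionVars false
open Matrix

namespace Cfsg.Agent.Lib.Helper11.SymF3

section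
variable {F : Type*} [Field F] [Fintype F] {κ : Type}

theorem three_eq_zero (hF : Fintype.card F = 3) : (3 : F) = 0 := by
  have h := Nat.cast_card_eq_zero F
  rw [hF] at h
  exact_mod_cast h

theorem f3_cases (hF : Fintype.card F = 3) (x : F) : x = 0 ∨ x = 1 ∨ x = -1 := by
  have h := FiniteField.pow_card x
  rw [hF] at h
  have h2 : x * ((x - 1) * (x + 1)) = 0 := by linear_combination h
  rcases mul_eq_zero.mp h2 with h3 | h3
  · exact Or.inl h3
  · rcases mul_eq_zero.mp h3 with h4 | h4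
    · exact Or.inr (Or.inl (sub_eq_zero.mp h4))
    · exact Or.inr (Or.inr (eq_neg_of_add_eq_zero_left h4))

theorem sq_eq_one (hF : Fintype.card F = 3) (x : F) (hx : x ≠ 0) : x * x = 1 := by
  have h := FiniteField.pow_card_sub_one_eq_one x hx
  rw [hF] at h
  have h' : x ^ 2 = 1 := h
  rw [← pow_two]
  exact h'

theorem two_ne_zero3 (hF : Fintype.card F = 3) : (2 : F) ≠ 0 := by
  intro h2
  have h3 := three_eq_zero hF
  exact one_ne_zero (by linear_combination h3 - h2 : (1 : F) = 0)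

theorem bf_zero_left (f : (κ → F) → (κ → F) → F) (hb : Cfsg.Geo.IsBilinearForm f) (v : κ → F) :
    f 0 v = 0 := by
  have := hb.smul_left 0 0 v
  rw [zero_smul, zero_mul] at this
  exact this

theorem bf_zero_right (f : (κ → F) → (κ → F) → F) (hb : Cfsg.Geo.IsBilinearForm f) (v : κ → F) :
    f v 0 = 0 := by
  have := hb.smul_right 0 v 0
  rw [zero_smul, zero_mul] at this
  exact this

theorem bf_neg_left (f : (κ → F) → (κ → F) → F) (hb : Cfsg.Geo.IsBilinearForm f) (x v : κ → F) :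
    f (-x) v = - f x v := by
  have := hb.smul_left (-1) x v
  rw [neg_one_smul, neg_one_mul] at this
  exact this

theorem bf_sub_left (f : (κ → F) → (κ → F) → F) (hb : Cfsg.Geo.IsBilinearForm f) (x y v : κ → F) :
    f (x - y) v = f x v - f y v := by
  rw [sub_eq_add_neg, hb.add_left, bf_neg_left f hb, sub_eq_add_neg]

theorem bf_sum_left (f : (κ → F) → (κ → F) → F) (hb : Cfsg.Geo.IsBilinearForm f)
    {α : Type*} (s : Finset α) (c : α → F) (v : α → κ → F) (w : κ → F) :
    f (∑ a ∈ s, c a • v a) w = ∑ a ∈ s, c a * f (v a) w := by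
  classical
  induction s using Finset.induction_on with
  | empty => simp [bf_zero_left f hb]
  | insert a s ha ih =>
    rw [Finset.sum_insert ha, Finset.sum_insert ha, hb.add_left, hb.smul_left, ih]

theorem bf_sum_right (f : (κ → F) → (κ → F) → F) (hb : Cfsg.Geo.IsBilinearForm f)
    {α : Type*} (s : Finset α) (c : α → F) (v : α → κ → F) (w : κ → F) :
    f w (∑ a ∈ s, c a • v a) = ∑ a ∈ s, c a * f w (v a) := by
  classical
  induction s using Finset.induction_on with
  | empty => simp [bf_zero_right f hb]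
  | insert a s ha ih =>
    rw [Finset.sum_insert ha, Finset.sum_insert ha, hb.add_right, hb.smul_right, ih]

theorem expand [Fintype κ] [DecidableEq κ] (x : κ → F) :
    x = ∑ a, x a • (Pi.single a (1 : F) : κ → F) := by
  conv_lhs => rw [← Finset.univ_sum_single x]
  apply Finset.sum_congr rfl
  intro a _
  ext j
  simp [Pi.single_apply]

theorem bf_eq_gram [Fintype κ] [DecidableEq κ]
    (f : (κ → F) → (κ → F) → F) (hb : Cfsg.Geo.IsBilinearForm f) (x y : κ → F) :
    f x y = Cfsg.Geo.formOfGram id (Cfsg.Geo.gramMatrix f) x y := by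
  unfold Cfsg.Geo.formOfGram Cfsg.Geo.gramMatrix
  conv_lhs => rw [expand x, bf_sum_left f hb]
  apply Finset.sum_congr rfl
  intro a _
  conv_lhs => rw [expand y, bf_sum_right f hb, Finset.mul_sum]
  apply Finset.sum_congr rfl
  intro b _
  simp only [id]
  ring

theorem exists_not_mem_span [Fintype κ] [DecidableEq κ] {k : ℕ} (y : Fin k → (κ → F))
    (hk : k < Fintype.card κ) : ∃ z : κ → F, z ∉ Submodule.span F (Set.range y) := by
  by_contra hcon
  push Not at hcon
  have htop : Submodule.span F (Set.range y) = ⊤ := eq_top_iff.mpr fun z _ => hcon z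
  have h1 := finrank_range_le_card (R := F) y
  unfold Set.finrank at h1
  rw [htop, finrank_top, Module.finrank_fintype_fun_eq_card, Fintype.card_fin] at h1
  omega

/-- Gram–Schmidt step -/
theorem gs_step [Fintype κ] [DecidableEq κ] (hF : Fintype.card F = 3)
    (f : (κ → F) → (κ → F) → F) (hf : Cfsg.Geo.IsSymmetricForm f) {k : ℕ}
    (y : Fin k → (κ → F)) (hy0 : ∀ i, f (y i) (y i) ≠ 0)
    (hy : ∀ i j, i ≠ j → f (y i) (y j) = 0) (hk : k < Fintype.card κ) :
    ∃ y' : κ → F, f y' y' ≠ 0 ∧ ∀ i, f y' (y i) = 0 := by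
  have hb := hf.bilinear
  obtain ⟨z, hz⟩ := exists_not_mem_span y hk
  have hpr : ∀ v : κ → F, ∀ i,
      f (v - ∑ j, (f v (y j) * (f (y j) (y j))⁻¹) • y j) (y i) = 0 := by
    intro v i
    rw [bf_sub_left f hb, bf_sum_left f hb, Finset.sum_eq_single i]
    · rw [mul_assoc, inv_mul_cancel₀ (hy0 i), mul_one, sub_self]
    · intro j _ hji
      rw [hy j i hji, mul_zero]
    · intro h; exact absurd (Finset.mem_univ i) h
  have hz0 : z - ∑ j, (f z (y j) * (f (y j) (y j))⁻¹) • y j ≠ 0 := by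
    intro h0
    apply hz
    rw [sub_eq_zero.mp h0]
    exact Submodule.sum_mem _ fun j _ =>
      Submodule.smul_mem _ _ (Submodule.subset_span (Set.mem_range_self j))
  by_contra hcon
  push Not at hcon
  have hiso : ∀ v : κ → F, (∀ i, f v (y i) = 0) → f v v = 0 := by
    intro v hv
    by_contra hne
    obtain ⟨i, hi⟩ := hcon v hne
    exact hi (hv i)
  have hzero : ∀ v w : κ → F, (∀ i, f v (y i) = 0) → (∀ i, f w (y i) = 0) → f v w = 0 := by
    intro v w hv hw
    have h1 := hiso (v + w) (fun i => by rw [hb.add_left, hv i, hw i, add_zero])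
    rw [hb.add_left, hb.add_right, hb.add_right, hiso v hv, hiso w hw, hf.symm w v] at h1
    have h2 : (2 : F) * f v w = 0 := by linear_combination h1
    exact (mul_eq_zero.mp h2).resolve_left (two_ne_zero3 hF)
  obtain ⟨x, hx⟩ := (hf.nondegenerate _ hz0).1
  apply hx
  have hxe : x = (x - ∑ j, (f x (y j) * (f (y j) (y j))⁻¹) • y j) +
      ∑ j, (f x (y j) * (f (y j) (y j))⁻¹) • y j := by abel
  rw [hxe, hb.add_left, hzero _ _ (hpr x) (hpr z), zero_add, bf_sum_left f hb]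
  apply Finset.sum_eq_zero
  intro j _
  have h1 : f (y j) (z - ∑ j, (f z (y j) * (f (y j) (y j))⁻¹) • y j) = 0 := by
    rw [hf.symm]
    exact hpr z j
  rw [h1, mul_zero]

/-- an orthogonal basis of non-isotropic vectors in dimension three -/
theorem exists_orth3 [Fintype κ] [DecidableEq κ] (hF : Fintype.card F = 3)
    (f : (κ → F) → (κ → F) → F) (hf : Cfsg.Geo.IsSymmetricForm f)
    (hκ : 3 ≤ Fintype.card κ) : ∃ y₁ y₂ y₃ : κ → F, f y₁ y₁ ≠ 0 ∧ f y₂ y₂ ≠ 0 ∧ f y₃ y₃ ≠ 0 ∧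
      f y₁ y₂ = 0 ∧ f y₁ y₃ = 0 ∧ f y₂ y₃ = 0 := by
  obtain ⟨y₁, h1, -⟩ := gs_step hF f hf (k := 0) (fun i => i.elim0) (fun i => i.elim0)
    (fun i => i.elim0) (by omega)
  obtain ⟨y₂, h2, h21⟩ := gs_step hF f hf (k := 1) (fun _ => y₁) (fun _ => h1)
    (fun i j hij => absurd (Subsingleton.elim i j) hij) (by omega)
  obtain ⟨y₃, h3, h3i⟩ := gs_step hF f hf (k := 2) ![y₁, y₂]
    (fun i => by fin_cases i <;> simp [h1, h2])
    (fun i j hij => by
      fin_cases i <;> fin_cases j <;> simp_all [hf.symm y₁ y₂]) (by omega)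
  have a := h3i 0
  have b := h3i 1
  simp only [Matrix.cons_val_zero, Matrix.cons_val_one] at a b
  have h12 : f y₁ y₂ = 0 := by rw [hf.symm]; exact h21 0
  exact ⟨y₁, y₂, y₃, h1, h2, h3, h12, by rw [hf.symm]; exact a, by rw [hf.symm]; exact b⟩

theorem fix_frame (hF : Fintype.card F = 3)
    (f : (κ → F) → (κ → F) → F) (hf : Cfsg.Geo.IsSymmetricForm f) (a b c : κ → F) (d : F)
    (haa : f a a = d) (hbb : f b b = d) (_hcc : f c c = -d) (hab : f a b = 0) (hac : f a c = 0)
    (hbc : f b c = 0) :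
    f (a + b) (a + b) = -d ∧ f (a - b) (a - b) = -d ∧ f (a + b) (a - b) = 0 ∧ f (a + b) c = 0 ∧
      f (a - b) c = 0 := by
  have hb := hf.bilinear
  have h3 := three_eq_zero hF
  have hba : f b a = 0 := by rw [hf.symm]; exact hab
  refine ⟨?_, ?_, ?_, ?_, ?_⟩
  · rw [hb.add_left, hb.add_right, hb.add_right, haa, hbb, hab, hba]
    linear_combination d * h3
  · rw [bf_sub_left f hb, sub_eq_add_neg a b, hb.add_right, hb.add_right,
      ← neg_one_smul F b, hb.smul_right, hb.smul_right, haa, hbb, hab, hba]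
    linear_combination d * h3
  · rw [hb.add_left, sub_eq_add_neg a b, hb.add_right, hb.add_right, ← neg_one_smul F b,
      hb.smul_right, hb.smul_right, haa, hbb, hab, hba]
    ring
  · rw [hb.add_left, hac, hbc, add_zero]
  · rw [bf_sub_left f hb, hac, hbc, sub_zero]

/-- a uniform orthogonal frame in dimension three -/
theorem exists_frame [Fintype κ] [DecidableEq κ] (hF : Fintype.card F = 3)
    (f : (κ → F) → (κ → F) → F) (hf : Cfsg.Geo.IsSymmetricForm f)
    (hκ : 3 ≤ Fintype.card κ) : ∃ (e₁ e₂ e₃ : κ → F) (δ : F), δ ≠ 0 ∧ f e₁ e₁ = δ ∧ f e₂ e₂ = δ ∧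
      f e₃ e₃ = δ ∧ f e₁ e₂ = 0 ∧ f e₁ e₃ = 0 ∧ f e₂ e₃ = 0 := by
  obtain ⟨y₁, y₂, y₃, h1, h2, h3, h12, h13, h23⟩ := exists_orth3 hF f hf hκ
  have hneg : ∀ a b : F, a ≠ 0 → b ≠ 0 → a ≠ b → b = -a := by
    intro a b ha hb hab
    rcases f3_cases hF a with h | h | h <;> rcases f3_cases hF b with h' | h' | h' <;>
      simp_all
  by_cases e12 : f y₁ y₁ = f y₂ y₂
  · by_cases e13 : f y₁ y₁ = f y₃ y₃
    · exact ⟨y₁, y₂, y₃, f y₁ y₁, h1, rfl, e12.symm, e13.symm, h12, h13, h23⟩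
    · have hc := hneg _ _ h1 h3 e13
      obtain ⟨p1, p2, p3, p4, p5⟩ := fix_frame hF f hf y₁ y₂ y₃ (f y₁ y₁) rfl e12.symm hc h12 h13 h23
      exact ⟨y₁ + y₂, y₁ - y₂, y₃, -f y₁ y₁, neg_ne_zero.mpr h1, p1, p2, hc, p3, p4, p5⟩
  · have hc2 := hneg _ _ h1 h2 e12
    by_cases e13 : f y₁ y₁ = f y₃ y₃
    · -- y₁, y₃ equal, y₂ odd
      have h32 : f y₃ y₂ = 0 := by rw [hf.symm]; exact h23
      obtain ⟨p1, p2, p3, p4, p5⟩ := fix_frame hF f hf y₁ y₃ y₂ (f y₁ y₁) rfl e13.symm hc2 h13 h12 h32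
      exact ⟨y₁ + y₃, y₁ - y₃, y₂, -f y₁ y₁, neg_ne_zero.mpr h1, p1, p2, hc2, p3, p4, p5⟩
    · -- y₂, y₃ equal, y₁ odd
      have hc3 := hneg _ _ h1 h3 e13
      have h21 : f y₂ y₁ = 0 := by rw [hf.symm]; exact h12
      have h31 : f y₃ y₁ = 0 := by rw [hf.symm]; exact h13
      have e23 : f y₃ y₃ = f y₂ y₂ := by rw [hc2, hc3]
      have hc1 : f y₁ y₁ = -f y₂ y₂ := by rw [hc2, neg_neg]
      obtain ⟨p1, p2, p3, p4, p5⟩ := fix_frame hF f hf y₂ y₃ y₁ (f y₂ y₂) rfl e23 hc1 h23 h21 h31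
      exact ⟨y₂ + y₃, y₂ - y₃, y₁, -f y₂ y₂, neg_ne_zero.mpr h2, p1, p2, hc1, p3, p4, p5⟩


/-- a uniform orthogonal frame -/
structure Frame (f : (κ → F) → (κ → F) → F) where
  e₁ : κ → F
  e₂ : κ → F
  e₃ : κ → F
  δ : F
  hδ : δ ≠ 0
  h11 : f e₁ e₁ = δ
  h22 : f e₂ e₂ = δ
  h33 : f e₃ e₃ = δ
  h12 : f e₁ e₂ = 0
  h13 : f e₁ e₃ = 0
  h23 : f e₂ e₃ = 0

theorem exists_frame' [Fintype κ] [DecidableEq κ] (hF : Fintype.card F = 3)
    (f : (κ → F) → (κ → F) → F) (hf : Cfsg.Geo.IsSymmetricForm f)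
    (hκ : 3 ≤ Fintype.card κ) : Nonempty (Frame f) := by
  obtain ⟨e₁, e₂, e₃, δ, a1, a2, a3, a4, a5, a6, a7⟩ := exists_frame hF f hf hκ
  exact ⟨⟨e₁, e₂, e₃, δ, a1, a2, a3, a4, a5, a6, a7⟩⟩

theorem Frame.h21 {f : (κ → F) → (κ → F) → F} (hf : Cfsg.Geo.IsSymmetricForm f) (R : Frame f) :
    f R.e₂ R.e₁ = 0 := by rw [hf.symm]; exact R.h12

theorem Frame.h31 {f : (κ → F) → (κ → F) → F} (hf : Cfsg.Geo.IsSymmetricForm f) (R : Frame f) :
    f R.e₃ R.e₁ = 0 := by rw [hf.symm]; exact R.h13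

theorem Frame.h32 {f : (κ → F) → (κ → F) → F} (hf : Cfsg.Geo.IsSymmetricForm f) (R : Frame f) :
    f R.e₃ R.e₂ = 0 := by rw [hf.symm]; exact R.h23

theorem Frame.dd (hF : Fintype.card F = 3) {f : (κ → F) → (κ → F) → F} (R : Frame f) :
    R.δ * R.δ = 1 := sq_eq_one hF R.δ R.hδ

theorem Frame.span [Fintype κ] [DecidableEq κ] (hF : Fintype.card F = 3)
    {f : (κ → F) → (κ → F) → F} (hf : Cfsg.Geo.IsSymmetricForm f) (R : Frame f)
    (hκ : Fintype.card κ = 3) (y : κ → F) :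
    y = (R.δ * f y R.e₁) • R.e₁ + (R.δ * f y R.e₂) • R.e₂ + (R.δ * f y R.e₃) • R.e₃ := by
  have hb := hf.bilinear
  have hdd := R.dd hF
  have hli : LinearIndependent F ![R.e₁, R.e₂, R.e₃] := by
    rw [Fintype.linearIndependent_iff]
    intro g hg
    simp only [Fin.sum_univ_three, Matrix.cons_val_zero, Matrix.cons_val_one,
      Matrix.cons_val_two, Matrix.head_cons, Matrix.tail_cons] at hg
    have ha := congrArg (fun v => f v R.e₁) hg
    have hb' := congrArg (fun v => f v R.e₂) hg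
    have hc := congrArg (fun v => f v R.e₃) hg
    simp only [hb.add_left, hb.smul_left, R.h11, R.h22, R.h33, R.h12, R.h13, R.h23, R.h21 hf,
      R.h31 hf, R.h32 hf, bf_zero_left f hb, mul_zero, add_zero, zero_add] at ha hb' hc
    intro i
    fin_cases i
    · exact (mul_eq_zero.mp ha).resolve_right R.hδ
    · exact (mul_eq_zero.mp hb').resolve_right R.hδ
    · exact (mul_eq_zero.mp hc).resolve_right R.hδ
  have htop := hli.span_eq_top_of_card_eq_finrank' (by
    rw [Module.finrank_fintype_fun_eq_card, hκ, Fintype.card_fin])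
  have hy : y ∈ Submodule.span F (Set.range ![R.e₁, R.e₂, R.e₃]) := by rw [htop]; trivial
  obtain ⟨c, hc⟩ := (Submodule.mem_span_range_iff_exists_fun F).mp hy
  simp only [Fin.sum_univ_three, Matrix.cons_val_zero, Matrix.cons_val_one,
    Matrix.cons_val_two, Matrix.head_cons, Matrix.tail_cons] at hc
  have h1 : f y R.e₁ = c 0 * R.δ := by
    rw [← hc]
    simp only [hb.add_left, hb.smul_left, R.h11, R.h21 hf, R.h31 hf, mul_zero, add_zero]
  have h2 : f y R.e₂ = c 1 * R.δ := by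
    rw [← hc]
    simp only [hb.add_left, hb.smul_left, R.h12, R.h22, R.h32 hf, mul_zero, add_zero, zero_add]
  have h3 : f y R.e₃ = c 2 * R.δ := by
    rw [← hc]
    simp only [hb.add_left, hb.smul_left, R.h13, R.h23, R.h33, mul_zero, zero_add]
  have k1 : R.δ * f y R.e₁ = c 0 := by rw [h1]; linear_combination c 0 * hdd
  have k2 : R.δ * f y R.e₂ = c 1 := by rw [h2]; linear_combination c 1 * hdd
  have k3 : R.δ * f y R.e₃ = c 2 := by rw [h3]; linear_combination c 2 * hdd
  rw [k1, k2, k3]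
  exact hc.symm

theorem Frame.parseval [Fintype κ] [DecidableEq κ] (hF : Fintype.card F = 3)
    {f : (κ → F) → (κ → F) → F} (hf : Cfsg.Geo.IsSymmetricForm f) (R : Frame f)
    (hκ : Fintype.card κ = 3) (y y' : κ → F) :
    f y y' = R.δ * (f y R.e₁ * f y' R.e₁ + f y R.e₂ * f y' R.e₂ + f y R.e₃ * f y' R.e₃) := by
  have hb := hf.bilinear
  have h := congrArg (fun t => f t y') (R.span hF hf hκ y)
  simp only [hb.add_left, hb.smul_left] at h
  rw [h, hf.symm R.e₁ y', hf.symm R.e₂ y', hf.symm R.e₃ y']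
  ring

/-- vectors of norm `δ` are `±` frame vectors -/
theorem Frame.norm_cases [Fintype κ] [DecidableEq κ] (hF : Fintype.card F = 3)
    {f : (κ → F) → (κ → F) → F} (hf : Cfsg.Geo.IsSymmetricForm f) (R : Frame f)
    (hκ : Fintype.card κ = 3) (y : κ → F) (hy : f y y = R.δ) :
    (∃ s : F, y = s • R.e₁) ∨ (∃ s : F, y = s • R.e₂) ∨ (∃ s : F, y = s • R.e₃) := by
  have h3 := three_eq_zero hF
  have hp := R.parseval hF hf hκ y y
  rw [hy] at hp
  have hsum : f y R.e₁ * f y R.e₁ + f y R.e₂ * f y R.e₂ + f y R.e₃ * f y R.e₃ = 1 := by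
    have := congrArg (fun t => R.δ * t) hp
    simp only [← mul_assoc, R.dd hF, one_mul] at this
    exact this.symm
  have hsp := R.span hF hf hκ y
  by_cases a1 : f y R.e₁ = 0 <;> by_cases a2 : f y R.e₂ = 0 <;> by_cases a3 : f y R.e₃ = 0
  · exfalso
    rw [a1, a2, a3] at hsum
    simp at hsum
  · right; right
    refine ⟨R.δ * f y R.e₃, ?_⟩
    rw [a1, a2] at hsp
    simpa using hsp
  · right; left
    refine ⟨R.δ * f y R.e₂, ?_⟩
    rw [a1, a3] at hsp
    simpa using hsp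
  · exfalso
    rw [a1, sq_eq_one hF _ a2, sq_eq_one hF _ a3] at hsum
    exact one_ne_zero (by linear_combination hsum : (1 : F) = 0)
  · left
    refine ⟨R.δ * f y R.e₁, ?_⟩
    rw [a2, a3] at hsp
    simpa using hsp
  · exfalso
    rw [a2, sq_eq_one hF _ a1, sq_eq_one hF _ a3] at hsum
    exact one_ne_zero (by linear_combination hsum : (1 : F) = 0)
  · exfalso
    rw [a3, sq_eq_one hF _ a1, sq_eq_one hF _ a2] at hsum
    exact one_ne_zero (by linear_combination hsum : (1 : F) = 0)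
  · exfalso
    rw [sq_eq_one hF _ a1, sq_eq_one hF _ a2, sq_eq_one hF _ a3] at hsum
    exact one_ne_zero (by linear_combination h3 - hsum : (1 : F) = 0)

/-- a vector with two non-zero frame coordinates does not have norm `δ` -/
theorem Frame.norm_ne [Fintype κ] [DecidableEq κ] (hF : Fintype.card F = 3)
    {f : (κ → F) → (κ → F) → F} (hf : Cfsg.Geo.IsSymmetricForm f) (R : Frame f)
    (hκ : Fintype.card κ = 3) (y : κ → F) (h1 : f y R.e₁ ≠ 0) (h2 : f y R.e₂ ≠ 0) :
    f y y ≠ R.δ := by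
  intro hy
  have hb := hf.bilinear
  rcases R.norm_cases hF hf hκ y hy with ⟨s, rfl⟩ | ⟨s, rfl⟩ | ⟨s, rfl⟩
  · apply h2
    rw [hb.smul_left, R.h12, mul_zero]
  · apply h1
    rw [hb.smul_left, R.h21 hf, mul_zero]
  · apply h1
    rw [hb.smul_left, R.h31 hf, mul_zero]

/-- similarities in dimension three are isometries -/
theorem Frame.sim_one [Fintype κ] [DecidableEq κ] (hF : Fintype.card F = 3)
    {f : (κ → F) → (κ → F) → F} (hf : Cfsg.Geo.IsSymmetricForm f) (R : Frame f)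
    (hκ : Fintype.card κ = 3) (b : Matrix κ κ F) (ν : F)
    (hν : ∀ y y', f (b *ᵥ y) (b *ᵥ y') = ν * f y y') : ν = 0 ∨ ν = 1 := by
  have hdd := R.dd hF
  obtain ⟨E, hE⟩ : ∃ E : Fin 3 → κ → F, E = ![R.e₁, R.e₂, R.e₃] := ⟨_, rfl⟩
  have hEE : ∀ i k, f (E i) (E k) = if i = k then R.δ else 0 := by
    intro i k
    rw [hE]
    fin_cases i <;> fin_cases k <;>
      simp [R.h11, R.h22, R.h33, R.h12, R.h13, R.h23, R.h21 hf, R.h31 hf, R.h32 hf]
  have hpar : ∀ y y', f y y' = R.δ * ∑ j : Fin 3, f y (E j) * f y' (E j) := by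
    intro y y'
    rw [R.parseval hF hf hκ y y', Fin.sum_univ_three, hE]
    rfl
  obtain ⟨A, hA⟩ : ∃ A : Matrix (Fin 3) (Fin 3) F, A = fun i j => R.δ * f (b *ᵥ E i) (E j) :=
    ⟨_, rfl⟩
  have hAA : A * A.transpose = ν • (1 : Matrix (Fin 3) (Fin 3) F) := by
    ext i k
    rw [Matrix.mul_apply, Matrix.smul_apply, Matrix.one_apply, smul_eq_mul]
    have h1 : ∑ j, A i j * A.transpose j k =
        R.δ * (R.δ * ∑ j : Fin 3, f (b *ᵥ E i) (E j) * f (b *ᵥ E k) (E j)) := by
      rw [Finset.mul_sum, Finset.mul_sum]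
      apply Finset.sum_congr rfl
      intro j _
      rw [Matrix.transpose_apply, hA]
      ring
    rw [h1, ← hpar, hν, hEE]
    by_cases hik : i = k
    · rw [if_pos hik, if_pos hik]
      linear_combination ν * hdd
    · rw [if_neg hik, if_neg hik]
      ring
  have hdet := congrArg Matrix.det hAA
  rw [Matrix.det_mul, Matrix.det_transpose, Matrix.det_smul, Matrix.det_one, Fintype.card_fin,
    mul_one] at hdet
  have hν3 : ν ^ 3 = ν := by
    have := FiniteField.pow_card ν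
    rwa [hF] at this
  rw [hν3] at hdet
  rcases f3_cases hF A.det with h | h | h
  · left; rw [← hdet, h, mul_zero]
  · right; rw [← hdet, h, mul_one]
  · right; rw [← hdet, h]; ring

end

end Cfsg.Agent.Lib.Helper11.SymF3
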