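import Mathlib
import Cfsg.Prelude.Def_GeometricClasses
import Cfsg.Agent.Lib.Helper61.SpMax

/-!
Field-theoretic preliminaries for an involutory automorphism `σ` of a finite field: existence of
skew elements, surjectivity of the trace and of the norm onto the fixed field.
-/

set_option autoImplicit false
set_option linter.unusedSectionVars false
set_option linter.unusedVariables false

namespace Cfsg.Agent.Lib.Helper11.UnitaryMax

section Sigma
variable {F : Type*} [Field F]

theorem exists_skew (σ : F ≃+* F) (hne : σ ≠ RingEquiv.refl F) (hinv : ∀ a, σ (σ a) = a) :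
    ∃ s : F, s ≠ 0 ∧ σ s = -s := by
  have : ∃ x : F, σ x ≠ x := by
    by_contra hcon
    push Not at hcon
    apply hne
    ext x
    exact hcon x
  obtain ⟨x, hx⟩ := this
  refine ⟨x - σ x, fun h => hx (sub_eq_zero.mp h).symm, ?_⟩
  rw [map_sub, hinv]
  ring

theorem exists_tr_ne (σ : F ≃+* F) (hne : σ ≠ RingEquiv.refl F) : ∃ x : F, x + σ x ≠ 0 := by
  by_contra hcon
  push Not at hcon
  have h1 := hcon 1
  rw [map_one] at h1
  apply hne
  ext x
  have h2 := hcon x
  have h3 : x + x = 0 := by linear_combination x * h1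
  simp only [RingEquiv.refl_apply]
  linear_combination h2 - h3

theorem tr_surj (σ : F ≃+* F) (hne : σ ≠ RingEquiv.refl F) (hinv : ∀ a, σ (σ a) = a)
    (c : F) (hc : σ c = c) : ∃ t : F, t + σ t = c := by
  obtain ⟨x, hx⟩ := exists_tr_ne σ hne
  have hτ : σ (x + σ x) = x + σ x := by rw [map_add, hinv]; ring
  refine ⟨c * (x + σ x)⁻¹ * x, ?_⟩
  rw [map_mul, map_mul, map_inv₀, hτ, hc]
  field_simp

theorem norm_surj [Fintype F] (σ : F ≃+* F) (hne : σ ≠ RingEquiv.refl F)
    (hinv : ∀ a, σ (σ a) = a) (c : F) (hc : σ c = c) : ∃ t : F, t * σ t = c := by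
  classical
  by_cases hc0 : c = 0
  · exact ⟨0, by simp [hc0]⟩
  let S : Fˣ →* Fˣ := Units.map (σ : F →* F)
  have hS : ∀ u : Fˣ, ((S u : Fˣ) : F) = σ (u : F) := fun u => rfl
  let N : Fˣ →* Fˣ :=
    { toFun := fun t => t * S t
      map_one' := by simp
      map_mul' := fun a b => by rw [map_mul]; exact mul_mul_mul_comm _ _ _ _ }
  let φ : Fˣ →* Fˣ :=
    { toFun := fun s => s * (S s)⁻¹
      map_one' := by simp
      map_mul' := fun a b => by rw [map_mul, mul_inv]; exact mul_mul_mul_comm _ _ _ _ }
  have hN : ∀ t : Fˣ, N t = t * S t := fun t => rfl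
  have hφ : ∀ t : Fˣ, φ t = t * (S t)⁻¹ := fun t => rfl
  have hSS : ∀ u : Fˣ, S (S u) = u := fun u => Units.ext (by rw [hS, hS, hinv])
  -- the fixed units
  let A : Subgroup Fˣ :=
    { carrier := {u | S u = u}
      mul_mem' := fun {a b} ha hb => by
        change S (a * b) = a * b
        rw [map_mul, ha, hb]
      one_mem' := map_one S
      inv_mem' := fun {a} ha => by
        change S a⁻¹ = a⁻¹
        rw [map_inv, ha] }
  have hA : ∀ u : Fˣ, u ∈ A ↔ S u = u := fun u => Iff.rfl
  have h1 : N.range ≤ A := by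
    rintro _ ⟨t, rfl⟩
    rw [hA, hN, map_mul, hSS, mul_comm]
  have h2 : φ.ker = A := by
    ext u
    rw [MonoidHom.mem_ker, hA, hφ, mul_inv_eq_one]
    exact eq_comm
  have h3 : φ.range = N.ker := by
    ext u
    rw [MonoidHom.mem_ker, hN]
    constructor
    · rintro ⟨s, rfl⟩
      rw [hφ, map_mul, map_inv, hSS]
      group
    · intro hu
      have hu' : (u : F) * σ (u : F) = 1 := by
        have := congrArg (fun z : Fˣ => (z : F)) hu
        simpa [hS] using this
      by_cases h1u : (1 : F) + (u : F) = 0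
      · obtain ⟨s, hs0, hs⟩ := exists_skew σ hne hinv
        refine ⟨Units.mk0 s hs0, ?_⟩
        apply Units.ext
        rw [hφ, Units.val_mul, Units.val_inv_eq_inv_val, hS, Units.val_mk0, hs]
        have : (u : F) = -1 := by linear_combination h1u
        rw [this]
        field_simp
      · refine ⟨Units.mk0 (1 + (u : F)) h1u, ?_⟩
        apply Units.ext
        rw [hφ, Units.val_mul, Units.val_inv_eq_inv_val, hS, Units.val_mk0, map_add, map_one]
        have hσu : σ (u : F) = (u : F)⁻¹ := eq_inv_of_mul_eq_one_right hu'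
        rw [hσu]
        have hu0 : (u : F) ≠ 0 := u.ne_zero
        have e : (1 : F) + (u : F)⁻¹ = (1 + (u : F)) * (u : F)⁻¹ := by
          field_simp
          ring
        rw [e, mul_inv, inv_inv, ← mul_assoc, mul_inv_cancel₀ h1u, one_mul]
  have c1 : Nat.card φ.ker * Nat.card φ.range = Nat.card Fˣ := by
    rw [← Subgroup.index_ker]; exact Subgroup.card_mul_index _
  have c2 : Nat.card N.ker * Nat.card N.range = Nat.card Fˣ := by
    rw [← Subgroup.index_ker]; exact Subgroup.card_mul_index _
  rw [h2, h3] at c1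
  have hpos : 0 < Nat.card N.ker := Nat.card_pos
  have hcard : Nat.card A = Nat.card N.range := by
    have : Nat.card N.ker * Nat.card A = Nat.card N.ker * Nat.card N.range := by
      rw [c2, mul_comm, c1]
    exact Nat.eq_of_mul_eq_mul_left hpos this
  have hEq : N.range = A := Subgroup.eq_of_le_of_card_ge h1 (le_of_eq hcard)
  have hcA : Units.mk0 c hc0 ∈ A := by
    rw [hA]
    apply Units.ext
    rw [hS, Units.val_mk0, hc]
  rw [← hEq] at hcA
  obtain ⟨t, ht⟩ := hcA
  refine ⟨(t : F), ?_⟩
  have := congrArg (fun z : Fˣ => (z : F)) ht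
  simpa [hN, hS] using this

end Sigma

end Cfsg.Agent.Lib.Helper11.UnitaryMax
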