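import Mathlib
import Cfsg.Prelude.Def_GeometricClasses

/-!
Plumbing for the tensor-product subgroups `Cfsg.Geo.tensorProductSubgroup n₁ n₂ e P`:
the parametrisation `tau e P z = P (z ∘ e)` of `F^ι` by `F^(n₁ × n₂)`, pure tensors `pt x y`,
the action of members of the tensor-product subgroup on `tau`-images, and the Gram form of a
Kronecker product on pure tensors.
-/

set_option autoImplicit false
open Matrix
open scoped Kronecker

namespace Cfsg.Agent.Lib.Helper11.TensorPlumb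

section
variable {ι : Type} [Fintype ι] [DecidableEq ι] {F : Type*} [Field F] {n₁ n₂ : ℕ}

/-- the parametrisation of `F^ι` by `F^(n₁ × n₂)` -/
def tau (e : ι ≃ Fin n₁ × Fin n₂) (P : Matrix.GeneralLinearGroup ι F) (z : Fin n₁ × Fin n₂ → F) :
    ι → F := P.1 *ᵥ (z ∘ e)

/-- pure tensors -/
def pt (x : Fin n₁ → F) (y : Fin n₂ → F) : Fin n₁ × Fin n₂ → F := fun p => x p.1 * y p.2

theorem tau_add (e : ι ≃ Fin n₁ × Fin n₂) (P : Matrix.GeneralLinearGroup ι F)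
    (z z' : Fin n₁ × Fin n₂ → F) : tau e P (z + z') = tau e P z + tau e P z' := by
  unfold tau
  rw [← Matrix.mulVec_add]
  rfl

theorem tau_smul (e : ι ≃ Fin n₁ × Fin n₂) (P : Matrix.GeneralLinearGroup ι F) (c : F)
    (z : Fin n₁ × Fin n₂ → F) : tau e P (c • z) = c • tau e P z := by
  unfold tau
  rw [← Matrix.mulVec_smul]
  rfl

theorem tau_zero (e : ι ≃ Fin n₁ × Fin n₂) (P : Matrix.GeneralLinearGroup ι F) :
    tau e P (0 : Fin n₁ × Fin n₂ → F) = 0 := by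
  unfold tau
  have : ((0 : Fin n₁ × Fin n₂ → F) ∘ e) = 0 := rfl
  rw [this, Matrix.mulVec_zero]

theorem tau_surj (e : ι ≃ Fin n₁ × Fin n₂) (P : Matrix.GeneralLinearGroup ι F) (v : ι → F) :
    ∃ z, tau e P z = v := by
  refine ⟨(P⁻¹.1 *ᵥ v) ∘ e.symm, ?_⟩
  unfold tau
  have : ((P⁻¹.1 *ᵥ v) ∘ e.symm) ∘ e = P⁻¹.1 *ᵥ v := by
    ext i; simp
  rw [this, Matrix.mulVec_mulVec, ← Units.val_mul, mul_inv_cancel, Units.val_one,
    Matrix.one_mulVec]

theorem tau_inj (e : ι ≃ Fin n₁ × Fin n₂) (P : Matrix.GeneralLinearGroup ι F)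
    (z z' : Fin n₁ × Fin n₂ → F) (h : tau e P z = tau e P z') : z = z' := by
  unfold tau at h
  have h1 := congrArg (fun v => P⁻¹.1 *ᵥ v) h
  simp only [Matrix.mulVec_mulVec, ← Units.val_mul, inv_mul_cancel, Units.val_one,
    Matrix.one_mulVec] at h1
  ext p
  have := congrFun h1 (e.symm p)
  simpa using this

theorem pt_add_left (x x' : Fin n₁ → F) (y : Fin n₂ → F) :
    pt (x + x') y = pt x y + pt x' y := by
  ext p; simp [pt, add_mul]

theorem pt_add_right (x : Fin n₁ → F) (y y' : Fin n₂ → F) :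
    pt x (y + y') = pt x y + pt x y' := by
  ext p; simp [pt, mul_add]

theorem pt_smul_left (c : F) (x : Fin n₁ → F) (y : Fin n₂ → F) :
    pt (c • x) y = c • pt x y := by
  ext p; simp [pt, mul_assoc]

theorem pt_smul_right (c : F) (x : Fin n₁ → F) (y : Fin n₂ → F) :
    pt x (c • y) = c • pt x y := by
  ext p; simp [pt]; ring

theorem kron_pt (a : Matrix (Fin n₁) (Fin n₁) F) (b : Matrix (Fin n₂) (Fin n₂) F)
    (x : Fin n₁ → F) (y : Fin n₂ → F) : (a ⊗ₖ b) *ᵥ pt x y = pt (a *ᵥ x) (b *ᵥ y) := by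
  ext p
  simp only [Matrix.mulVec, dotProduct, pt, Matrix.kroneckerMap_apply, Fintype.sum_prod_type]
  rw [Finset.sum_mul_sum]
  apply Finset.sum_congr rfl
  intro i _
  apply Finset.sum_congr rfl
  intro j _
  ring

theorem mem_tensor (e : ι ≃ Fin n₁ × Fin n₂) (P : Matrix.GeneralLinearGroup ι F)
    (g : Matrix.GeneralLinearGroup ι F) (hg : g ∈ Cfsg.Geo.tensorProductSubgroup n₁ n₂ e P) :
    ∃ (a : Matrix.GeneralLinearGroup (Fin n₁) F) (b : Matrix.GeneralLinearGroup (Fin n₂) F),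
      ∀ z, g.1 *ᵥ tau e P z = tau e P ((a.1 ⊗ₖ b.1) *ᵥ z) := by
  unfold Cfsg.Geo.tensorProductSubgroup at hg
  obtain ⟨g', ⟨k, ⟨a, b, hk⟩, rfl⟩, rfl⟩ := hg
  refine ⟨a, b, fun z => ?_⟩
  have hval : ((MulAut.conj P).toMonoidHom ((Cfsg.Geo.glReindex e.symm).toMonoidHom k)).1 =
      P.1 * (k.1.submatrix e e) * P⁻¹.1 := rfl
  rw [hval]
  unfold tau
  rw [Matrix.mulVec_mulVec, Matrix.mul_assoc, Matrix.mul_assoc, ← Units.val_mul, inv_mul_cancel,
    Units.val_one, Matrix.mul_one, ← Matrix.mulVec_mulVec, ← hk]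
  congr 1
  rw [Matrix.submatrix_mulVec_equiv]
  have hz : (z ∘ ⇑e) ∘ ⇑e.symm = z := by
    ext q
    simp [Function.comp]
  rw [hz]

theorem gram_pt (σ : F → F) (hσ : ∀ a b, σ (a * b) = σ a * σ b)
    (G₁ : Matrix (Fin n₁) (Fin n₁) F) (G₂ : Matrix (Fin n₂) (Fin n₂) F)
    (x x' : Fin n₁ → F) (y y' : Fin n₂ → F) :
    Cfsg.Geo.formOfGram σ (G₁ ⊗ₖ G₂) (pt x y) (pt x' y') =
      Cfsg.Geo.formOfGram σ G₁ x x' * Cfsg.Geo.formOfGram σ G₂ y y' := by
  unfold Cfsg.Geo.formOfGram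
  simp only [pt, Matrix.kroneckerMap_apply, Fintype.sum_prod_type, hσ]
  rw [Finset.sum_mul_sum]
  apply Finset.sum_congr rfl
  intro a _
  apply Finset.sum_congr rfl
  intro k _
  rw [Finset.sum_mul_sum]
  apply Finset.sum_congr rfl
  intro b _
  apply Finset.sum_congr rfl
  intro l _
  ring

end

end Cfsg.Agent.Lib.Helper11.TensorPlumb
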