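import Mathlib
import Cfsg.Agent.S0256

set_option autoImplicit false
set_option linter.unusedSectionVars false

namespace Cfsg.Agent.Lib.Helper11.A7GL4

open Matrix

section existence

/-- `A₇` embeds in `A₈`. -/
noncomputable def a7a8 : ↥(alternatingGroup (Fin 7)) →* ↥(alternatingGroup (Fin 8)) :=
  ((Equiv.Perm.extendDomainHom (finSuccAboveEquiv (Fin.last 7))).comp
    (alternatingGroup (Fin 7)).subtype).codRestrict (alternatingGroup (Fin 8)) (by
      intro σ
      rw [Equiv.Perm.mem_alternatingGroup]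
      show Equiv.Perm.sign (Equiv.Perm.extendDomain σ.1 (finSuccAboveEquiv (Fin.last 7))) = 1
      rw [Equiv.Perm.sign_extendDomain]
      exact Equiv.Perm.mem_alternatingGroup.1 σ.2)

theorem a7a8_injective : Function.Injective a7a8 := by
  intro σ τ h
  have h' := congrArg Subtype.val h
  have h'' : Equiv.Perm.extendDomainHom (finSuccAboveEquiv (Fin.last 7)) σ.1 =
      Equiv.Perm.extendDomainHom (finSuccAboveEquiv (Fin.last 7)) τ.1 := h'
  exact Subtype.ext (Equiv.Perm.extendDomainHom_injective _ h'')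

variable {F : Type*} [Field F] [Fintype F]

theorem center_sl_eq_bot (hF : Fintype.card F = 2) :
    Subgroup.center (Matrix.SpecialLinearGroup (Fin 4) F) = ⊥ := by
  rw [eq_bot_iff]
  intro A hA
  rw [Matrix.SpecialLinearGroup.mem_center_iff] at hA
  obtain ⟨r, hr, hA⟩ := hA
  have hr0 : r ≠ 0 := by
    rintro rfl
    simp at hr
  have hr1 : r = 1 := by
    have := FiniteField.pow_card_sub_one_eq_one r hr0
    rw [hF] at this
    simpa using this
  rw [Subgroup.mem_bot]
  apply Subtype.ext
  rw [← hA, hr1]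
  simp

theorem exists_a7 (hF : Fintype.card F = 2) :
    ∃ H : Subgroup (Matrix.GeneralLinearGroup (Fin 4) F),
      Nonempty (H ≃* alternatingGroup (Fin 7)) := by
  obtain ⟨e⟩ := Cfsg.Agent.S0256.result hF
  -- SL ≃ PSL
  let q : Matrix.SpecialLinearGroup (Fin 4) F ≃*
      Matrix.ProjectiveSpecialLinearGroup (Fin 4) F :=
    (QuotientGroup.quotientBot (G := Matrix.SpecialLinearGroup (Fin 4) F)).symm.trans
      (QuotientGroup.quotientMulEquivOfEq (center_sl_eq_bot hF).symm)
  let ρ : ↥(alternatingGroup (Fin 7)) →* Matrix.GeneralLinearGroup (Fin 4) F :=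
    Matrix.SpecialLinearGroup.toGL.comp
      ((q.symm.toMonoidHom.comp e.symm.toMonoidHom).comp a7a8)
  have hρ : Function.Injective ρ := by
    intro a b hab
    have h1 : Function.Injective
        (Matrix.SpecialLinearGroup.toGL : Matrix.SpecialLinearGroup (Fin 4) F →* _) := by
      intro x y hxy
      apply Subtype.ext
      have := congrArg (fun g : Matrix.GeneralLinearGroup (Fin 4) F =>
        (g : Matrix (Fin 4) (Fin 4) F)) hxy
      simpa using this
    have h2 := h1 hab
    have h3 := q.symm.injective h2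
    have h4 := e.symm.injective h3
    exact a7a8_injective h4
  exact ⟨ρ.range, ⟨(MonoidHom.ofInjective hρ).symm⟩⟩

end existence


section action

variable {F : Type*} [Field F] [Fintype F]

/-- the action of `GL₄(F)` on column vectors, as permutations -/
noncomputable def act : Matrix.GeneralLinearGroup (Fin 4) F →* Equiv.Perm (Fin 4 → F) where
  toFun g :=
    { toFun := fun v => (g : Matrix (Fin 4) (Fin 4) F) *ᵥ v
      invFun := fun v => ((g⁻¹ : Matrix.GeneralLinearGroup (Fin 4) F) : Matrix (Fin 4) (Fin 4) F) *ᵥ v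
      left_inv := fun v => by
        show ((g⁻¹ : Matrix.GeneralLinearGroup (Fin 4) F) : Matrix (Fin 4) (Fin 4) F) *ᵥ
          ((g : Matrix (Fin 4) (Fin 4) F) *ᵥ v) = v
        rw [Matrix.mulVec_mulVec, ← Units.val_mul, inv_mul_cancel, Units.val_one, Matrix.one_mulVec]
      right_inv := fun v => by
        show (g : Matrix (Fin 4) (Fin 4) F) *ᵥ
          (((g⁻¹ : Matrix.GeneralLinearGroup (Fin 4) F) : Matrix (Fin 4) (Fin 4) F) *ᵥ v) = v
        rw [Matrix.mulVec_mulVec, ← Units.val_mul, mul_inv_cancel, Units.val_one, Matrix.one_mulVec] }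
  map_one' := by
    ext v : 1
    simp
  map_mul' g h := by
    ext v : 1
    simp [Matrix.mulVec_mulVec]

theorem act_apply (g : Matrix.GeneralLinearGroup (Fin 4) F) (v : Fin 4 → F) :
    act g v = (g : Matrix (Fin 4) (Fin 4) F) *ᵥ v := rfl

theorem act_add (g : Matrix.GeneralLinearGroup (Fin 4) F) (v w : Fin 4 → F) :
    act g (v + w) = act g v + act g w := by
  simp only [act_apply, Matrix.mulVec_add]

theorem act_zero (g : Matrix.GeneralLinearGroup (Fin 4) F) : act g (0 : Fin 4 → F) = 0 := by
  simp only [act_apply, Matrix.mulVec_zero]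

theorem act_eq_zero {g : Matrix.GeneralLinearGroup (Fin 4) F} {v : Fin 4 → F}
    (h : act g v = 0) : v = 0 := by
  have : act g v = act g 0 := by rw [h, act_zero]
  exact (act g).injective this

theorem act_injective : Function.Injective (act : Matrix.GeneralLinearGroup (Fin 4) F →* _) := by
  intro g h hgh
  apply Units.ext
  apply Matrix.mulVec_injective
  funext v
  exact congrArg (fun σ : Equiv.Perm (Fin 4 → F) => σ v) hgh

theorem act_inv_act (g : Matrix.GeneralLinearGroup (Fin 4) F) (x : Fin 4 → F) :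
    act g⁻¹ (act g x) = x := by
  rw [← Equiv.Perm.mul_apply, ← map_mul, inv_mul_cancel, map_one]
  rfl

theorem act_act_inv (g : Matrix.GeneralLinearGroup (Fin 4) F) (x : Fin 4 → F) :
    act g (act g⁻¹ x) = x := by
  rw [← Equiv.Perm.mul_apply, ← map_mul, mul_inv_cancel, map_one]
  rfl

theorem card_V (hF : Fintype.card F = 2) : Nat.card (Fin 4 → F) = 16 := by
  rw [Nat.card_eq_fintype_card, Fintype.card_fun, hF, Fintype.card_fin]
  norm_num

theorem add_self_V (hF : Fintype.card F = 2) (v : Fin 4 → F) : v + v = 0 := by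
  have h2 : (2 : F) = 0 := by
    have := Nat.cast_card_eq_zero F
    rw [hF] at this
    exact_mod_cast this
  ext i
  simp only [Pi.add_apply, Pi.zero_apply]
  rw [← two_mul, h2, zero_mul]

/-- fixed vectors of an element -/
def fixAdd (g : Matrix.GeneralLinearGroup (Fin 4) F) : AddSubgroup (Fin 4 → F) where
  carrier := {x | act g x = x}
  zero_mem' := act_zero g
  add_mem' := by
    intro a b ha hb
    show act g (a + b) = a + b
    rw [act_add, ha, hb]
  neg_mem' := by
    intro a ha
    show act g (-a) = -a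
    have : act g (-a) + act g a = 0 := by rw [← act_add, neg_add_cancel, act_zero]
    rw [ha] at this
    exact eq_neg_of_add_eq_zero_left this

theorem mem_fixAdd (g : Matrix.GeneralLinearGroup (Fin 4) F) (x : Fin 4 → F) :
    x ∈ fixAdd g ↔ act g x = x := Iff.rfl

theorem card_fixAdd_dvd (hF : Fintype.card F = 2) (g : Matrix.GeneralLinearGroup (Fin 4) F) :
    Nat.card (fixAdd g) ∣ 16 := by
  rw [← card_V hF]
  exact AddSubgroup.card_addSubgroup_dvd_card _

theorem eq_one_of_card_fixAdd (hF : Fintype.card F = 2) (g : Matrix.GeneralLinearGroup (Fin 4) F)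
    (h : Nat.card (fixAdd g) = 16) : g = 1 := by
  have htop : fixAdd g = ⊤ := by
    apply AddSubgroup.eq_top_of_card_eq
    rw [h, card_V hF]
  apply act_injective
  ext v : 1
  have : v ∈ fixAdd g := by rw [htop]; trivial
  rw [map_one]
  exact this

/-- for an element of prime order `p`, the number of fixed vectors is `≡ 16 mod p` -/
theorem card_fixAdd_modEq (hF : Fintype.card F = 2) (g : Matrix.GeneralLinearGroup (Fin 4) F)
    (p : ℕ) [hp : Fact p.Prime] (hg : orderOf g = p) :
    16 ≡ Nat.card (fixAdd g) [MOD p] := by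
  let P := Subgroup.zpowers g
  let _ : MulAction P (Fin 4 → F) := MulAction.compHom (Fin 4 → F) (act.comp P.subtype)
  have hP : IsPGroup p P := by
    apply IsPGroup.of_card (n := 1)
    rw [Nat.card_zpowers, hg, pow_one]
  have h1 := hP.card_modEq_card_fixedPoints (Fin 4 → F)
  rw [card_V hF] at h1
  have h2 : (MulAction.fixedPoints P (Fin 4 → F)) = ((fixAdd g : AddSubgroup (Fin 4 → F)) :
      Set (Fin 4 → F)) := by
    ext x
    constructor
    · intro hx
      exact hx ⟨g, Subgroup.mem_zpowers g⟩
    · intro hx k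
      obtain ⟨k, hk⟩ := k
      obtain ⟨n, rfl⟩ := Subgroup.mem_zpowers_iff.1 hk
      show act (g ^ n) x = x
      have hx' : act g x = x := hx
      have hfix : (act g) ^ n = (act g) ^ n := rfl
      rw [map_zpow]
      have : ∀ m : ℕ, ((act g) ^ m) x = x := by
        intro m
        induction m with
        | zero => simp
        | succ m ih => rw [pow_succ, Equiv.Perm.mul_apply, hx', ih]
      rcases Int.eq_nat_or_neg n with ⟨m, rfl | rfl⟩
      · rw [zpow_natCast]; exact this m
      · rw [_root_.zpow_neg, zpow_natCast]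
        have := this m
        rw [Equiv.Perm.inv_eq_iff_eq]
        exact this.symm
  rw [h2] at h1
  exact h1


theorem act_zpow_fix (g : Matrix.GeneralLinearGroup (Fin 4) F) (x : Fin 4 → F)
    (hx : act g x = x) (n : ℤ) : act (g ^ n) x = x := by
  rw [map_zpow]
  have : ∀ m : ℕ, ((act g) ^ m) x = x := by
    intro m
    induction m with
    | zero => simp
    | succ m ih => rw [pow_succ, Equiv.Perm.mul_apply, hx, ih]
  rcases Int.eq_nat_or_neg n with ⟨m, rfl | rfl⟩
  · rw [zpow_natCast]; exact this m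
  · rw [_root_.zpow_neg, zpow_natCast]
    have := this m
    rw [Equiv.Perm.inv_eq_iff_eq]
    exact this.symm

theorem act_mem_zpowers_fix (z g : Matrix.GeneralLinearGroup (Fin 4) F) (x : Fin 4 → F)
    (hx : act z x = x) (hg : g ∈ Subgroup.zpowers z) : act g x = x := by
  obtain ⟨n, rfl⟩ := Subgroup.mem_zpowers_iff.1 hg
  exact act_zpow_fix z x hx n

/-- an element of order `5` fixes no nonzero vector -/
theorem fix_of_order_five (hF : Fintype.card F = 2) (g : Matrix.GeneralLinearGroup (Fin 4) F)
    (hg : orderOf g = 5) (v : Fin 4 → F) (hv : act g v = v) : v = 0 := by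
  have : Fact (Nat.Prime 5) := ⟨by norm_num⟩
  have h1 := card_fixAdd_modEq hF g 5 hg
  have h2 := card_fixAdd_dvd hF g
  have h3 : Nat.card (fixAdd g) ≠ 16 := by
    intro h
    have := eq_one_of_card_fixAdd hF g h
    rw [this, orderOf_one] at hg
    omega
  have h4 : Nat.card (fixAdd g) = 1 := by
    have hle : Nat.card (fixAdd g) ≤ 16 := Nat.le_of_dvd (by norm_num) h2
    unfold Nat.ModEq at h1
    generalize Nat.card (fixAdd g) = n at *
    interval_cases n <;> omega
  have h5 := AddSubgroup.eq_bot_of_card_eq _ h4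
  have h6 : v ∈ fixAdd g := hv
  rw [h5] at h6
  exact (AddSubgroup.mem_bot).1 h6

/-- an element of order `7` has exactly two fixed vectors -/
theorem card_fix_of_order_seven (hF : Fintype.card F = 2)
    (g : Matrix.GeneralLinearGroup (Fin 4) F) (hg : orderOf g = 7) :
    Nat.card (fixAdd g) = 2 := by
  have : Fact (Nat.Prime 7) := ⟨by norm_num⟩
  have h1 := card_fixAdd_modEq hF g 7 hg
  have h2 := card_fixAdd_dvd hF g
  have h3 : Nat.card (fixAdd g) ≠ 16 := by
    intro h
    have := eq_one_of_card_fixAdd hF g h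
    rw [this, orderOf_one] at hg
    omega
  have hle : Nat.card (fixAdd g) ≤ 16 := Nat.le_of_dvd (by norm_num) h2
  unfold Nat.ModEq at h1
  generalize Nat.card (fixAdd g) = n at *
  interval_cases n <;> omega

theorem fix_of_order_seven (hF : Fintype.card F = 2)
    (g : Matrix.GeneralLinearGroup (Fin 4) F) (hg : orderOf g = 7)
    (a : Fin 4 → F) (ha : a ≠ 0) (hga : act g a = a) (u : Fin 4 → F) (hgu : act g u = u) :
    u = 0 ∨ u = a := by
  have h2 := card_fix_of_order_seven hF g hg
  rw [Nat.card_eq_two_iff' (0 : fixAdd g)] at h2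
  obtain ⟨y, -, hy⟩ := h2
  by_cases hu : u = 0
  · exact Or.inl hu
  · right
    have h1 : (⟨u, hgu⟩ : fixAdd g) = y := hy _ (by
      intro h
      exact hu (congrArg Subtype.val h))
    have h2 : (⟨a, hga⟩ : fixAdd g) = y := hy _ (by
      intro h
      exact ha (congrArg Subtype.val h))
    have := h1.trans h2.symm
    exact congrArg Subtype.val this

/-- Lemma M: in the cyclic group generated by an element `z` of order 7 fixing `a ≠ 0`,
only the identity fixes a vector other than `0, a`. -/
theorem eq_one_of_fix (hF : Fintype.card F = 2)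
    (z : Matrix.GeneralLinearGroup (Fin 4) F) (hz : orderOf z = 7)
    (a : Fin 4 → F) (ha : a ≠ 0) (hza : act z a = a)
    (g : Matrix.GeneralLinearGroup (Fin 4) F) (hg : g ∈ Subgroup.zpowers z)
    (u : Fin 4 → F) (hu0 : u ≠ 0) (hua : u ≠ a) (hgu : act g u = u) : g = 1 := by
  have h1 := orderOf_dvd_of_mem_zpowers hg
  rw [hz] at h1
  rcases (Nat.dvd_prime (by norm_num : Nat.Prime 7)).1 h1 with h | h
  · exact orderOf_eq_one_iff.1 h
  · exfalso
    have hga := act_mem_zpowers_fix z g a hza hg
    rcases fix_of_order_seven hF g h a ha hga u hgu with h' | h'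
    · exact hu0 h'
    · exact hua h'

theorem add_right_self (hF : Fintype.card F = 2) (u a : Fin 4 → F) : u + a + a = u := by
  rw [add_assoc, add_self_V hF, add_zero]

/-- Claim A: the cyclic group generated by `z` has exactly the two orbits `⟨z⟩y`, `⟨z⟩(y+a)` on
the vectors other than `0, a`. -/
theorem claimA (hF : Fintype.card F = 2)
    (z : Matrix.GeneralLinearGroup (Fin 4) F) (hz : orderOf z = 7)
    (a : Fin 4 → F) (ha : a ≠ 0) (hza : act z a = a)
    (y y' : Fin 4 → F) (hy0 : y ≠ 0) (hya : y ≠ a) (hy'0 : y' ≠ 0) (hy'a : y' ≠ a) :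
    ∃ k : ℕ, y' = act (z ^ k) y ∨ y' = act (z ^ k) (y + a) := by
  classical
  let u : Bool → (Fin 4 → F) := fun ε => if ε then y + a else y
  have hu0 : ∀ ε, u ε ≠ 0 := by
    intro ε
    cases ε
    · exact hy0
    · show y + a ≠ 0
      intro h
      apply hya
      have : y + a + a = 0 + a := by rw [h]
      rwa [add_right_self hF, zero_add] at this
  have hua : ∀ ε, u ε ≠ a := by
    intro ε
    cases ε
    · exact hya
    · show y + a ≠ a
      intro h
      apply hy0
      have : y + a + a = a + a := by rw [h]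
      rwa [add_right_self hF, add_self_V hF] at this
  have hune : ∀ ε ε', ε ≠ ε' → u ε' = u ε + a := by
    intro ε ε' h
    cases ε <;> cases ε'
    · exact absurd rfl h
    · rfl
    · show y = y + a + a
      rw [add_right_self hF]
    · exact absurd rfl h
  let φ : Fin 7 × Bool → (Fin 4 → F) := fun p => act (z ^ (p.1 : ℕ)) (u p.2)
  have hφ : Function.Injective φ := by
    rintro ⟨i, ε⟩ ⟨j, ε'⟩ h
    have h' : act (z ^ (i : ℕ)) (u ε) = act (z ^ (j : ℕ)) (u ε') := h
    set g : Matrix.GeneralLinearGroup (Fin 4) F := (z ^ (j : ℕ))⁻¹ * z ^ (i : ℕ) with hg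
    have hgmem : g ∈ Subgroup.zpowers z :=
      Subgroup.mul_mem _ (Subgroup.inv_mem _ (Subgroup.npow_mem_zpowers z _))
        (Subgroup.npow_mem_zpowers z _)
    have hgu : act g (u ε) = u ε' := by
      rw [hg, map_mul, Equiv.Perm.mul_apply, h', ← Equiv.Perm.mul_apply, ← map_mul,
        inv_mul_cancel, map_one]
      rfl
    have hga : act g a = a := act_mem_zpowers_fix z g a hza hgmem
    by_cases hε : ε = ε'
    · subst hε
      have hg1 := eq_one_of_fix hF z hz a ha hza g hgmem (u ε) (hu0 ε) (hua ε) hgu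
      have hzz : z ^ (i : ℕ) = z ^ (j : ℕ) := by
        have := congrArg (fun t => z ^ (j : ℕ) * t) hg1
        simpa [hg] using this
      have hij : (i : ℕ) = (j : ℕ) := by
        apply pow_injOn_Iio_orderOf (x := z)
        · rw [hz]; exact i.2
        · rw [hz]; exact j.2
        · exact hzz
      have : i = j := Fin.ext hij
      rw [this]
    · exfalso
      rw [hune ε ε' hε] at hgu
      have hgg : act (g * g) (u ε) = u ε := by
        rw [map_mul, Equiv.Perm.mul_apply, hgu, act_add, hgu, hga, add_right_self hF]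
      have hgg1 := eq_one_of_fix hF z hz a ha hza (g * g) (Subgroup.mul_mem _ hgmem hgmem)
        (u ε) (hu0 ε) (hua ε) hgg
      have ho2 : orderOf g ∣ 2 := by
        apply orderOf_dvd_of_pow_eq_one
        rw [pow_two]
        exact hgg1
      have ho7 : orderOf g ∣ 7 := by
        have := orderOf_dvd_of_mem_zpowers hgmem
        rwa [hz] at this
      have ho1 : orderOf g ∣ 1 := by
        have := Nat.dvd_gcd ho2 ho7
        simpa using this
      have hg1 : g = 1 := orderOf_eq_one_iff.1 (Nat.dvd_one.1 ho1)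
      rw [hg1, map_one] at hgu
      have : u ε = u ε + a := hgu
      apply ha
      have h2 : u ε + 0 = u ε + a := by rw [add_zero]; exact this
      exact (add_left_cancel h2).symm
  have hsub : Finset.univ.image φ ⊆ ({0, a} : Finset (Fin 4 → F))ᶜ := by
    intro w hw
    rw [Finset.mem_image] at hw
    obtain ⟨⟨i, ε⟩, -, rfl⟩ := hw
    rw [Finset.mem_compl, Finset.mem_insert, Finset.mem_singleton]
    rintro (h | h)
    · exact hu0 ε (act_eq_zero h)
    · have h1 : act (z ^ (i : ℕ)) a = a := by
        have := act_zpow_fix z a hza (i : ℕ)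
        rwa [zpow_natCast] at this
      have h2 : act (z ^ (i : ℕ)) (u ε) = act (z ^ (i : ℕ)) a := by rw [h1]; exact h
      exact hua ε ((act (z ^ (i : ℕ))).injective h2)
  have hcard : ({0, a} : Finset (Fin 4 → F))ᶜ.card ≤ (Finset.univ.image φ).card := by
    rw [Finset.card_image_of_injective _ hφ, Finset.card_compl, Finset.card_pair ha.symm]
    have : Fintype.card (Fin 4 → F) = 16 := by
      rw [← Nat.card_eq_fintype_card]; exact card_V hF
    rw [this]
    simp
  have heq := Finset.eq_of_subset_of_card_le hsub hcard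
  have hy' : y' ∈ ({0, a} : Finset (Fin 4 → F))ᶜ := by
    rw [Finset.mem_compl, Finset.mem_insert, Finset.mem_singleton]
    rintro (h | h)
    · exact hy'0 h
    · exact hy'a h
  rw [← heq, Finset.mem_image] at hy'
  obtain ⟨⟨i, ε⟩, -, hi⟩ := hy'
  refine ⟨(i : ℕ), ?_⟩
  cases ε
  · left; exact hi.symm
  · right; exact hi.symm

end action

section orbit

/-- mod-`p` orbit counting -/
theorem card_orbit_modEq_one {G X : Type*} [Group G] [MulAction G X] [Finite X] (x : X) (z : G)
    (p : ℕ) [Fact p.Prime] (hz : orderOf z = p) (hzx : z • x = x)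
    (huniq : ∀ y ∈ MulAction.orbit G x, z • y = y → y = x) :
    Nat.card (MulAction.orbit G x) ≡ 1 [MOD p] := by
  have hP : IsPGroup p (Subgroup.zpowers z) := by
    apply IsPGroup.of_card (n := 1)
    rw [Nat.card_zpowers, hz, pow_one]
  have h1 := hP.card_modEq_card_fixedPoints (MulAction.orbit G x)
  have h2 : Nat.card (MulAction.fixedPoints (Subgroup.zpowers z) (MulAction.orbit G x)) = 1 := by
    rw [Nat.card_eq_one_iff_unique]
    constructor
    · constructor
      rintro ⟨⟨y, hy⟩, hy'⟩ ⟨⟨w, hw⟩, hw'⟩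
      have e1 : y = x := by
        apply huniq y hy
        have := hy' ⟨z, Subgroup.mem_zpowers z⟩
        exact congrArg Subtype.val this
      have e2 : w = x := by
        apply huniq w hw
        have := hw' ⟨z, Subgroup.mem_zpowers z⟩
        exact congrArg Subtype.val this
      subst e1
      subst e2
      rfl
    · refine ⟨⟨⟨x, MulAction.mem_orbit_self x⟩, ?_⟩⟩
      rintro ⟨g, hg⟩
      obtain ⟨n, rfl⟩ := Subgroup.mem_zpowers_iff.1 hg
      apply Subtype.ext
      show z ^ n • x = x
      exact MulAction.mem_stabilizer_iff.1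
        (Subgroup.zpow_mem _ (MulAction.mem_stabilizer_iff.2 hzx) n)
  rw [h2] at h1
  exact h1

end orbit


section trans

variable {F : Type*} [Field F] [Fintype F]

/-- the action of `GL₄(F)` on vectors as a `MulAction` -/
@[reducible] noncomputable def glAct :
    MulAction (Matrix.GeneralLinearGroup (Fin 4) F) (Fin 4 → F) :=
  MulAction.compHom _ act

attribute [local instance] glAct

theorem smul_eq_act (g : Matrix.GeneralLinearGroup (Fin 4) F) (v : Fin 4 → F) :
    g • v = act g v := rfl

theorem sub_smul_eq_act (H : Subgroup (Matrix.GeneralLinearGroup (Fin 4) F)) (g : H)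
    (v : Fin 4 → F) : g • v = act (g : Matrix.GeneralLinearGroup (Fin 4) F) v := rfl

/-- transitivity on nonzero vectors and existence of elements of order `7` in point stabilisers -/
theorem trans_and_seven (hF : Fintype.card F = 2)
    (H : Subgroup (Matrix.GeneralLinearGroup (Fin 4) F)) (hH : Nat.card H = 2520)
    (v : Fin 4 → F) (hv : v ≠ 0) :
    (∀ w : Fin 4 → F, w ≠ 0 → ∃ g ∈ H, act g v = w) ∧
      ∃ z ∈ H, orderOf z = 7 ∧ act z v = v := by
  classical
  have hfinH : Finite H := Nat.finite_of_card_ne_zero (by rw [hH]; norm_num)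
  have h5p : Fact (Nat.Prime 5) := ⟨by norm_num⟩
  have h7p : Fact (Nat.Prime 7) := ⟨by norm_num⟩
  -- orbit-stabiliser
  obtain ⟨d, hd_def⟩ : ∃ d : ℕ, d = Nat.card (MulAction.orbit H v) := ⟨_, rfl⟩
  have hos : d * Nat.card (MulAction.stabilizer H v) = 2520 := by
    rw [hd_def, ← Nat.card_prod]
    exact (Nat.card_congr (MulAction.orbitProdStabilizerEquivGroup H v)).trans hH
  -- orbit avoids 0
  have hO0 : MulAction.orbit H v ⊆ Set.univ \ {(0 : Fin 4 → F)} := by
    rintro w ⟨g, rfl⟩
    refine ⟨trivial, ?_⟩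
    intro h
    exact hv (act_eq_zero (g := (g : Matrix.GeneralLinearGroup (Fin 4) F)) h)
  have hcomp : (Set.univ \ {(0 : Fin 4 → F)}).ncard = 15 := by
    rw [Set.ncard_sdiff_singleton_of_mem (Set.mem_univ _), Set.ncard_univ, card_V hF]
  have hd15 : d ≤ 15 := by
    rw [hd_def, Nat.card_coe_set_eq, ← hcomp]
    exact Set.ncard_le_ncard hO0 (Set.toFinite _)
  -- 5 does not divide the stabiliser
  have h5 : ¬ 5 ∣ Nat.card (MulAction.stabilizer H v) := by
    intro h
    obtain ⟨s, hs⟩ := exists_prime_orderOf_dvd_card' 5 h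
    have hs' : orderOf ((s : H) : Matrix.GeneralLinearGroup (Fin 4) F) = 5 := by
      rw [Subgroup.orderOf_coe, Subgroup.orderOf_coe, hs]
    have hfix : act ((s : H) : Matrix.GeneralLinearGroup (Fin 4) F) v = v :=
      MulAction.mem_stabilizer_iff.1 s.2
    exact hv (fix_of_order_five hF _ hs' v hfix)
  have h5d : 5 ∣ d := by
    have : 5 ∣ d * Nat.card (MulAction.stabilizer H v) := by
      rw [hos]; norm_num
    rcases (Nat.Prime.dvd_mul (by norm_num : Nat.Prime 5)).1 this with h | h
    · exact h
    · exact absurd h h5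
  have hdpos : 0 < d := by
    rcases Nat.eq_zero_or_pos d with h | h
    · rw [h, zero_mul] at hos; omega
    · exact h
  -- 7 divides the stabiliser
  have h7 : 7 ∣ Nat.card (MulAction.stabilizer H v) := by
    have : 7 ∣ d * Nat.card (MulAction.stabilizer H v) := by
      rw [hos]; norm_num
    rcases (Nat.Prime.dvd_mul (by norm_num : Nat.Prime 7)).1 this with h | h
    · exfalso
      clear hd_def hos this
      interval_cases d <;> omega
    · exact h
  obtain ⟨s, hs⟩ := exists_prime_orderOf_dvd_card' 7 h7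
  have hsH : orderOf (s : H) = 7 := by rw [Subgroup.orderOf_coe, hs]
  have hs' : orderOf ((s : H) : Matrix.GeneralLinearGroup (Fin 4) F) = 7 := by
    rw [Subgroup.orderOf_coe, hsH]
  have hfix : act ((s : H) : Matrix.GeneralLinearGroup (Fin 4) F) v = v :=
    MulAction.mem_stabilizer_iff.1 s.2
  refine ⟨?_, ⟨((s : H) : Matrix.GeneralLinearGroup (Fin 4) F), (s : H).2, hs', hfix⟩⟩
  -- counting mod 7
  have hmod := card_orbit_modEq_one (G := H) v (s : H) 7 hsH (MulAction.mem_stabilizer_iff.1 s.2)
    (by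
      intro y hy hzy
      have hy0 : y ≠ 0 := (hO0 hy).2
      rcases fix_of_order_seven hF _ hs' v hv hfix y hzy with h | h
      · exact absurd h hy0
      · exact h)
  have hmod' : d ≡ 1 [MOD 7] := by
    rw [hd_def]; exact hmod
  have hd : Nat.card (MulAction.orbit H v) = 15 := by
    rw [← hd_def]
    unfold Nat.ModEq at hmod'
    clear hd_def hos hmod
    interval_cases d <;> omega
  have hOeq : MulAction.orbit H v = Set.univ \ {(0 : Fin 4 → F)} := by
    apply Set.eq_of_subset_of_ncard_le hO0
    rw [hcomp, ← Nat.card_coe_set_eq, hd]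
  intro w hw
  have hwO : w ∈ MulAction.orbit H v := by
    rw [hOeq]
    exact ⟨trivial, hw⟩
  obtain ⟨g, hg⟩ := hwO
  exact ⟨(g : Matrix.GeneralLinearGroup (Fin 4) F), g.2, hg⟩

/-- the main theorem: a subgroup of order `2520` of `GL₄(2)` is 2-transitive on nonzero vectors -/
theorem two_trans (hF : Fintype.card F = 2)
    (H : Subgroup (Matrix.GeneralLinearGroup (Fin 4) F)) (hH : Nat.card H = 2520)
    (v w v' w' : Fin 4 → F) (hv : v ≠ 0) (hw : w ≠ 0) (hvw : v ≠ w)
    (hv' : v' ≠ 0) (hw' : w' ≠ 0) (hvw' : v' ≠ w') :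
    ∃ g ∈ H, act g v = v' ∧ act g w = w' := by
  classical
  have hfinH : Finite H := Nat.finite_of_card_ne_zero (by rw [hH]; norm_num)
  have h2p : Fact (Nat.Prime 2) := ⟨by norm_num⟩
  -- an involution
  obtain ⟨t0, ht0⟩ := exists_prime_orderOf_dvd_card' (G := H) 2 (by rw [hH]; norm_num)
  set t : Matrix.GeneralLinearGroup (Fin 4) F := (t0 : Matrix.GeneralLinearGroup (Fin 4) F)
    with ht
  have htH : t ∈ H := t0.2
  have hto : orderOf t = 2 := by rw [ht, Subgroup.orderOf_coe, ht0]
  have htt : t * t = 1 := by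
    rw [← pow_two, ← hto]; exact pow_orderOf_eq_one t
  have ht1 : t ≠ 1 := by
    intro h
    rw [h, orderOf_one] at hto
    omega
  have hex : ∃ x : Fin 4 → F, act t x ≠ x := by
    by_contra hcon
    push Not at hcon
    apply ht1
    apply act_injective
    ext x : 1
    rw [map_one]
    exact hcon x
  obtain ⟨x, hx⟩ := hex
  have htx2 : act t (act t x) = x := by
    rw [← Equiv.Perm.mul_apply, ← map_mul, htt, map_one]
    rfl
  set c : Fin 4 → F := x + act t x with hc
  have hc0 : c ≠ 0 := by
    intro h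
    apply hx
    have : x + (x + act t x) = x + 0 := by rw [← hc, h]
    rw [← add_assoc, add_self_V hF, zero_add, add_zero] at this
    exact this
  have htc : act t c = c := by
    rw [hc, act_add, htx2, add_comm]
  have hx0 : x ≠ 0 := by
    intro h
    apply hx
    rw [h, act_zero]
  have hxc : x ≠ c := by
    intro h
    have h1 : x + 0 = x + act t x := by rw [add_zero]; exact h
    have h2 := add_left_cancel h1
    exact hx0 (act_eq_zero h2.symm)
  have htxc : act t x = x + c := by
    rw [hc, ← add_assoc, add_self_V hF, zero_add]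
  obtain ⟨htrans, z, hzH, hzo, hzc⟩ := trans_and_seven hF H hH c hc0
  -- the stabiliser of `c` is transitive on the remaining vectors
  have hK : ∀ u : Fin 4 → F, u ≠ 0 → u ≠ c → ∃ h ∈ H, act h c = c ∧ act h x = u := by
    intro u hu0 huc
    obtain ⟨k, hk | hk⟩ := claimA hF z hzo c hc0 hzc x u hx0 hxc hu0 huc
    · refine ⟨z ^ k, Subgroup.pow_mem _ hzH k, ?_, hk.symm⟩
      have := act_zpow_fix z c hzc (k : ℕ)
      rwa [zpow_natCast] at this
    · refine ⟨z ^ k * t, Subgroup.mul_mem _ (Subgroup.pow_mem _ hzH k) htH, ?_, ?_⟩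
      · rw [map_mul, Equiv.Perm.mul_apply, htc]
        have := act_zpow_fix z c hzc (k : ℕ)
        rwa [zpow_natCast] at this
      · rw [map_mul, Equiv.Perm.mul_apply, htxc]
        exact hk.symm
  -- every ordered pair of distinct nonzero vectors is an image of `(c, x)`
  have hpair : ∀ p q : Fin 4 → F, p ≠ 0 → q ≠ 0 → p ≠ q →
      ∃ g ∈ H, act g c = p ∧ act g x = q := by
    intro p q hp hq hpq
    obtain ⟨g₁, hg₁H, hg₁⟩ := htrans p hp
    have hq1_0 : act g₁⁻¹ q ≠ 0 := by
      intro h
      exact hq (act_eq_zero h)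
    have hq1_c : act g₁⁻¹ q ≠ c := by
      intro h
      apply hpq
      rw [← hg₁, ← h, act_act_inv]
    obtain ⟨h₁, hh₁H, hh₁c, hh₁x⟩ := hK _ hq1_0 hq1_c
    refine ⟨g₁ * h₁, Subgroup.mul_mem _ hg₁H hh₁H, ?_, ?_⟩
    · rw [map_mul, Equiv.Perm.mul_apply, hh₁c, hg₁]
    · rw [map_mul, Equiv.Perm.mul_apply, hh₁x, act_act_inv]
  obtain ⟨g₁, hg₁H, hg₁c, hg₁x⟩ := hpair v w hv hw hvw
  obtain ⟨g₂, hg₂H, hg₂c, hg₂x⟩ := hpair v' w' hv' hw' hvw'
  refine ⟨g₂ * g₁⁻¹, Subgroup.mul_mem _ hg₂H (Subgroup.inv_mem _ hg₁H), ?_, ?_⟩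
  · rw [map_mul, Equiv.Perm.mul_apply, ← hg₁c, act_inv_act]
    exact hg₂c
  · rw [map_mul, Equiv.Perm.mul_apply, ← hg₁x, act_inv_act]
    exact hg₂x

end trans

end Cfsg.Agent.Lib.Helper11.A7GL4
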