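import Mathlib
import Cfsg.Agent.S1357
import Cfsg.Agent.S1363
import Cfsg.Agent.Lib.Helper11.BG1390

set_option autoImplicit false

/-! Pack K-1382, leaf D (keystone 138204): for `M` with `K ≠ 1` and `U ≠ 1`, every complement `U'` of
`M_F` in `M'` is the `U` of a standard factorisation, hence `N_G(U') ≰ M` (BG Theorem 15.2(c),
statement S1363). -/

namespace Cfsg.Agent.Lib.Helper11.BG1382

open Cfsg

/-- K-1382-D -/
theorem not_normalizer_le_of_complIn {G : Type*} [Group G] [Finite G]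
    (hG : IsMinSimpleOddOrder G) {M : Subgroup G} (hM : IsCoatom M) {K U : Subgroup G}
    (hKU : IsSigmaDecomposition M K U) (hK1 : K ≠ ⊥) (hU1 : U ≠ ⊥)
    (h63 : ¬ Subgroup.normalizer (U : Set G) ≤ M) {U' : Subgroup G}
    (hc : IsComplIn (fittingHallOf M) U' ⁅M, M⁆) :
    ¬ Subgroup.normalizer (U' : Set G) ≤ M := by
  have hFσ : fittingHallOf M = sigmaCore M := by
    by_contra hne
    exact hU1 (Cfsg.Agent.S1357.result hG M hM K U hKU hne).1
  obtain ⟨K', hKU'⟩ :=
    Cfsg.Agent.Lib.Helper11.BG1390.decomp_of_typeII hG hM hKU hK1 hFσ hc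
  have hK'1 : K' ≠ ⊥ := by
    have hc1 : 1 < Nat.card K := (Subgroup.one_lt_card_iff_ne_bot (H := K)).mpr hK1
    obtain ⟨p, hp, hpd⟩ := Nat.exists_prime_and_dvd (ne_of_gt hc1)
    have hpκ : p ∈ kappa M := hKU.hall.2.1 p hp hpd
    intro hK'bot
    have hnd : ¬ p ∣ K'.relIndex M := hKU'.hall.2.2 p hp hpκ
    have hpM : p ∣ Nat.card M := hpκ.2.1
    apply hnd
    rw [hK'bot, Subgroup.relIndex_bot_left]
    exact hpM
  exact (Cfsg.Agent.S1363.result hG M hM K' U' hKU' hK'1).2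

end Cfsg.Agent.Lib.Helper11.BG1382
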