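import Mathlib
import Cfsg.Agent.S1350
import Cfsg.Agent.Lib.Helper11.BG144Glue
import Cfsg.Agent.Lib.Helper13.BG12B
import Cfsg.Agent.Lib.Helper55.Basic
import Cfsg.Agent.Lib.Helper55.Uniq2
import Cfsg.Agent.Lib.Helper68.BG144G2

set_option autoImplicit false

/-! BG Corollary 15.9 / statement S1436, clause (b): two supporting subgroups `N`, `N'` of elements of
`M_σ` which are conjugate in `G` are conjugate under `M`.  (From BG 14.4: the complements `M ∩ N`. ) -/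

namespace Cfsg.Agent.Lib.Helper11.BG1436

open Cfsg Subgroup Cfsg.Agent.Lib.Helper55
open scoped Pointwise

variable {G : Type*} [Group G] [Finite G]

omit [Finite G] in
/-- conjugating a complement -/
theorem isComplIn_cj {A B M : Subgroup G} (h : IsComplIn A B M) (g : G) :
    IsComplIn (cj g A) (cj g B) (cj g M) := by
  obtain ⟨hAM, hBM, hinf, hprod⟩ := h
  refine ⟨cj_mono hAM, cj_mono hBM, ?_, ?_⟩
  · rw [← cj_inf, hinf, cj_bot]
  · intro m hm
    have hm' : g⁻¹ * m * g ∈ M := mem_cj.mp hm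
    obtain ⟨a, ha, b, hb, hab⟩ := hprod _ hm'
    refine ⟨g * a * g⁻¹, conj_mem_cj ha, g * b * g⁻¹, conj_mem_cj hb, ?_⟩
    have : m = g * (g⁻¹ * m * g) * g⁻¹ := by group
    rw [this, hab]; group

omit [Finite G] in
theorem conj_smul_eq_cj (s : G) (H : Subgroup G) : MulAut.conj s • H = cj s H := by
  ext z
  rw [Subgroup.mem_pointwise_smul_iff_inv_smul_mem, mem_cj]
  simp [MulAut.smul_def]

/-- S1436, clause (b). -/
theorem clause_b (hG : IsMinSimpleOddOrder G) {M : Subgroup G} (hM : IsCoatom M) {x : G}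
    (hx : x ∈ sigmaCore M) (hx1 : x ≠ 1) (hxM : ¬ centralizer ({x} : Set G) ≤ M)
    {N : Subgroup G} (hN : IsCoatom N) (hxN : centralizer ({x} : Set G) ≤ N) :
    ∀ (y : G) (N' : Subgroup G) (g : G), y ∈ sigmaCore M → y ≠ 1 →
      ¬ centralizer ({y} : Set G) ≤ M → IsCoatom N' → centralizer ({y} : Set G) ≤ N' →
      N'.map (MulAut.conj g).toMonoidHom = N → ∃ m ∈ M, N'.map (MulAut.conj m).toMonoidHom = N := by
  intro y N' g hy hy1 hyM hN' hyN' hg
  have hg' : cj g N' = N := hg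
  obtain ⟨N₀, hS⟩ := Cfsg.Agent.Lib.Helper11.BG144.hB_main hG M hM x hx hx1 hxM
  have hN0 : N = N₀ := hS.uniq N hN hxN
  obtain ⟨N₁, hS'⟩ := Cfsg.Agent.Lib.Helper11.BG144.hB_main hG M hM y hy hy1 hyM
  have hN1 : N' = N₁ := hS'.uniq N' hN' hyN'
  subst hN0
  subst hN1
  have hc1 : IsComplIn (M ⊓ N) (sigmaCore N) N := hS.compl
  have hc2 : IsComplIn (M ⊓ N') (sigmaCore N') N' := hS'.compl
  have hc3 := isComplIn_cj hc2 g
  rw [← Cfsg.Agent.Lib.Helper68.BG144.sigmaCore_cj hG hN' g, hg'] at hc3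
  have hHall : IsPiHallOf (sigma N) (sigmaCore N) N := (Cfsg.Agent.S1350.result hG N hN).1
  obtain ⟨s, hs, hsE⟩ := Cfsg.Agent.Lib.Helper13.BG12.complIn_conj hG hN hHall hc1 hc3
  have hsN : s ∈ N := hHall.1 hs
  have hσM : sigmaCore M ≤ M := (Cfsg.Agent.S1350.result hG M hM).1.1
  have hxMN : x ∈ M ⊓ N :=
    ⟨hσM hx, hxN (Subgroup.mem_centralizer_iff.mpr (fun z hz => by
      rw [Set.mem_singleton_iff] at hz; rw [hz]))⟩
  rw [← hsE, conj_smul_eq_cj, ← cj_mul] at hxMN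
  have hx2 : x ∈ cj (s * g) M := cj_mono (g := s * g) inf_le_left hxMN
  obtain ⟨c, hc, hcM0⟩ := Cfsg.Agent.Lib.Helper11.BG144.hA_main hG M hM x hx hx1 (s * g) hx2
  have hcM : cj c M = cj (s * g) M := hcM0
  have hM1 : M ≠ ⊥ := by
    intro h
    have : x ∈ (⊥ : Subgroup G) := h ▸ hσM hx
    exact hx1 (Subgroup.mem_bot.mp this)
  have hNM : normalizer (M : Set G) = M :=
    Cfsg.Agent.Lib.Helper55.ms_normalizer_eq hG hM hM1 le_rfl Subgroup.le_normalizer
  -- `m := c⁻¹ * (s * g)` normalizes `M`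
  have hm : c⁻¹ * (s * g) ∈ M := by
    rw [← hNM, ← cj_eq_self_iff, cj_mul, ← hcM, cj_inv_cj]
  refine ⟨c⁻¹ * (s * g), hm, ?_⟩
  have hcN : c ∈ N := hxN hc
  show cj (c⁻¹ * (s * g)) N' = N
  rw [cj_mul, cj_mul, hg', cj_eq_self_of_mem hsN, cj_eq_self_of_mem (N.inv_mem hcN)]

end Cfsg.Agent.Lib.Helper11.BG1436
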