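import Mathlib
import Cfsg.Agent.Lib.Helper11.BG1436b

set_option autoImplicit false

/-! Pack K-1436, keystone 143601 (leaf B): clause (b) of S1436 in the spec's signature. -/

namespace Cfsg.Agent.Lib.Helper11.BG1436

open Cfsg Subgroup

variable {G : Type*} [Group G] [Finite G]

/-- KEYSTONE 143601  K-1436-B -/
theorem conj_in_M (hG : IsMinSimpleOddOrder G) {M N : Subgroup G} (hM : IsCoatom M) (hN : IsCoatom N) {x : G}
    (hx : x ∈ sigmaCore M) (hx1 : x ≠ 1) (hxM : ¬ centralizer ({x} : Set G) ≤ M) (hxN : centralizer ({x} : Set G) ≤ N)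
    (y : G) (N' : Subgroup G) (g : G) (hy : y ∈ sigmaCore M) (hy1 : y ≠ 1) (hyM : ¬ centralizer ({y} : Set G) ≤ M)
    (hN' : IsCoatom N') (hyN' : centralizer ({y} : Set G) ≤ N') (hg : N'.map (MulAut.conj g).toMonoidHom = N) :
    ∃ m ∈ M, N'.map (MulAut.conj m).toMonoidHom = N :=
  clause_b hG hM hx hx1 hxM hN hxN y N' g hy hy1 hyM hN' hyN' hg

end Cfsg.Agent.Lib.Helper11.BG1436
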