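import Mathlib
import Cfsg.Agent.S1350
import Cfsg.Agent.S1423
import Cfsg.Agent.S1425
import Cfsg.Agent.Lib.Helper01.BG134CJ
import Cfsg.Agent.Lib.Helper55.Basic
import Cfsg.Agent.Lib.Helper55.Uniq3
import Cfsg.Agent.Lib.Helper68.BG144G2

set_option autoImplicit false

/-! Pack K-1436, keystone 143607 (leaf C): an element of order `p ∈ σ(N) ∩ β(N)` has its centralizer in
exactly one maximal subgroup, a conjugate of `N`. -/

namespace Cfsg.Agent.Lib.Helper11.BG1436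

open Cfsg Subgroup Cfsg.Agent.Lib.Helper55

variable {G : Type*} [Group G] [Finite G]

omit [Finite G] in
theorem centralizer_zpowers_eq (a : G) :
    centralizer ((zpowers a : Subgroup G) : Set G) = centralizer ({a} : Set G) := by
  apply le_antisymm
  · exact Subgroup.centralizer_le (fun z hz => by
      rw [Set.mem_singleton_iff] at hz; rw [hz]; exact mem_zpowers a)
  · intro c hc
    rw [Subgroup.mem_centralizer_iff] at hc ⊢
    intro z hz
    obtain ⟨k, rfl⟩ := Subgroup.mem_zpowers_iff.mp hz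
    have hca : Commute a c := hc a rfl
    exact (Commute.zpow_left hca k).eq

/-- KEYSTONE 143607  K-1436-C -/
theorem cent_unique (hG : IsMinSimpleOddOrder G) {N : Subgroup G} (hN : IsCoatom N)
    {p : ℕ} (hp : p ∈ sigma N) (hβ : p ∈ beta N) {a : G} (ha : orderOf a = p) :
    ∃ g : G, a ∈ sigmaCore (N.map (MulAut.conj g).toMonoidHom) ∧
      centralizer ({a} : Set G) ≤ N.map (MulAut.conj g).toMonoidHom ∧
      ∀ L : Subgroup G, IsCoatom L → centralizer ({a} : Set G) ≤ L → L = N.map (MulAut.conj g).toMonoidHom := by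
  have hpp : p.Prime := hp.1
  have : Fact p.Prime := ⟨hpp⟩
  have hcard : Nat.card (zpowers a) = p := by rw [Nat.card_zpowers, ha]
  have hY1 : zpowers a ≠ ⊥ := by
    intro h
    rw [h, Subgroup.card_bot] at hcard
    exact hpp.one_lt.ne' hcard.symm
  have hY : ∀ r : ℕ, r.Prime → r ∣ Nat.card (zpowers a) → r ∈ sigma N := by
    intro r hr hrd
    rw [hcard] at hrd
    rw [(Nat.prime_dvd_prime_iff_eq hr hpp).mp hrd]
    exact hp
  obtain ⟨g, hg⟩ := Cfsg.Agent.S1425.result hG N hN (zpowers a) hY1 hY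
  have hg' : cj g (zpowers a) ≤ sigmaCore N := hg
  refine ⟨g⁻¹, ?_⟩
  have hN₁ : IsCoatom (cj g⁻¹ N) := isCoatom_cj g⁻¹ hN
  have hσ₁ : sigmaCore (cj g⁻¹ N) = cj g⁻¹ (sigmaCore N) :=
    Cfsg.Agent.Lib.Helper68.BG144.sigmaCore_cj hG hN g⁻¹
  have ha₁ : a ∈ sigmaCore (cj g⁻¹ N) := by
    rw [hσ₁, mem_cj, inv_inv]
    exact hg' (conj_mem_cj (mem_zpowers a))
  have hp₁ : p ∈ sigma (cj g⁻¹ N) := (Cfsg.Agent.Lib.Helper01.BG134.mem_sigma_cj_iff g⁻¹).mpr hp
  have hβ₁ : p ∈ beta (cj g⁻¹ N) := by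
    refine ⟨⟨hβ.1.1, ?_⟩, hβ.2⟩
    intro h
    exact hβ.1.2 ((Cfsg.Agent.Lib.Helper01.BG134.pRankLE_cj_iff g⁻¹ N p 2).mp h)
  have hσle : sigmaCore (cj g⁻¹ N) ≤ cj g⁻¹ N := (Cfsg.Agent.S1350.result hG _ hN₁).1.1
  have P : Sylow p ↥(sigmaCore (cj g⁻¹ N)) := default
  have h := (Cfsg.Agent.S1423.result hG (cj g⁻¹ N) hN₁ p hp₁ (zpowers a)
    (zpowers_le.mpr (hσle ha₁)) hcard P (Or.inl hβ₁)).1
  rw [centralizer_zpowers_eq] at h
  exact ⟨ha₁, h.1, h.2⟩

end Cfsg.Agent.Lib.Helper11.BG1436
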