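import Mathlib
import Cfsg.Agent.S1350
import Cfsg.Agent.S1414
import Cfsg.Agent.S1417
import Cfsg.Agent.S1423
import Cfsg.Agent.Lib.Helper01.PPrimeCore
import Cfsg.Agent.Lib.Helper13.BG12B
import Cfsg.Agent.Lib.Helper14.NilpHall
import Cfsg.Agent.Lib.Helper31.FittingHall
import Cfsg.Agent.Lib.Helper32.CoprimeHall
import Cfsg.Agent.Lib.Helper55.Basic
import Cfsg.Agent.Lib.Helper55.Uniq2
import Cfsg.Agent.Lib.Helper64.BG153F
import Cfsg.Agent.Lib.Helper71.BG11a

set_option autoImplicit false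

/-! Pack K-1436, keystone 143606 (leaf D) = BG Theorem 14.4(d): if `N` supports `x ∈ M_σ` of prime
order, every prime of `σ(N)` dividing `|M|` lies in `β(N)`. -/

namespace Cfsg.Agent.Lib.Helper11.BG1436

open Cfsg Subgroup Cfsg.Agent.Lib.Helper55

variable {G : Type*} [Group G] [Finite G]

/-- the image of `O_{r'}(M)` in `G` -/
def ppc (r : ℕ) (M : Subgroup G) : Subgroup G := (pPrimeCore r ↥M).map M.subtype

omit [Finite G] in
theorem ppc_le (r : ℕ) (M : Subgroup G) : ppc r M ≤ M := Subgroup.map_subtype_le _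

omit [Finite G] in
theorem le_normalizer_ppc (r : ℕ) (M : Subgroup G) :
    M ≤ Subgroup.normalizer (ppc r M : Set G) := by
  have hn : (pPrimeCore r ↥M).Normal := Cfsg.Agent.Lib.Helper01.pPrimeCore_normal (G := ↥M) r
  rw [Subgroup.le_normalizer_iff]
  intro m hm k hk
  obtain ⟨k', hk', rfl⟩ := hk
  refine ⟨(⟨m, hm⟩ : M) * k' * (⟨m, hm⟩ : M)⁻¹, ?_, rfl⟩
  exact hn.conj_mem k' hk' _

theorem card_ppc_coprime (r : ℕ) (M : Subgroup G) : (Nat.card (ppc r M)).Coprime r := by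
  have h : Nat.card (ppc r M) = Nat.card (pPrimeCore r ↥M) :=
    Subgroup.card_subtype M (pPrimeCore r ↥M)
  rw [h]
  exact Cfsg.Agent.Lib.Helper31.card_pPrimeCore_coprime r ↥M

omit [Finite G] in
theorem ppc_relIndex (r : ℕ) (M : Subgroup G) :
    (ppc r M).relIndex M = (pPrimeCore r ↥M).index := by
  unfold Subgroup.relIndex Subgroup.subgroupOf ppc
  rw [Subgroup.comap_map_eq_self_of_injective (Subgroup.subtype_injective _)]

omit [Finite G] in
theorem mem_ppc_of_coprime {r : ℕ} {M : Subgroup G} {a : G} (ha : a ∈ M)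
    (hc : (orderOf a).Coprime (pPrimeCore r ↥M).index) : a ∈ ppc r M := by
  have hn : (pPrimeCore r ↥M).Normal := Cfsg.Agent.Lib.Helper01.pPrimeCore_normal (G := ↥M) r
  have h1 : (⟨a, ha⟩ : M) ^ (pPrimeCore r ↥M).index ∈ pPrimeCore r ↥M :=
    Subgroup.pow_index_mem _ _
  have h2 : orderOf (⟨a, ha⟩ : M) = orderOf a := Subgroup.orderOf_mk a ha
  have h3 : (⟨a, ha⟩ : M) ∈ pPrimeCore r ↥M :=
    Cfsg.Agent.Lib.Helper14.mem_of_pow_mem_of_coprime (by rw [h2]; exact hc) h1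
  exact ⟨⟨a, ha⟩, h3, rfl⟩

/-- KEYSTONE 143606  K-1436-D -/
theorem mem_beta (hG : IsMinSimpleOddOrder G) {M N : Subgroup G} (hM : IsCoatom M) (hN : IsCoatom N) {x : G}
    (hx : x ∈ sigmaCore M) (hx1 : x ≠ 1) (hxM : ¬ centralizer ({x} : Set G) ≤ M) (hxN : centralizer ({x} : Set G) ≤ N)
    (hnil : Group.IsNilpotent (sigmaCore N)) (hcompl : IsComplIn (M ⊓ N) (sigmaCore N) N)
    (hdisj : ∀ p : ℕ, p ∈ sigma N → p ∉ sigma M)
    (hq : (orderOf x).Prime) (hqN : orderOf x ∈ tau2 N)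
    {p : ℕ} (hp : p ∈ sigma N) (hpM : p ∣ Nat.card M) : p ∈ beta N := by
  by_contra hpβ
  have hpp : p.Prime := hp.1
  have hHallM := (Cfsg.Agent.S1350.result hG M hM).1
  have hHallN := (Cfsg.Agent.S1350.result hG N hN).1
  have hσM : sigmaCore M ≤ M := hHallM.1
  have hxMem : x ∈ M := hσM hx
  have hqσM : orderOf x ∈ sigma M :=
    hHallM.2.1 (orderOf x) hq (Subgroup.orderOf_dvd_natCard _ hx)
  have hqp_ne : orderOf x ≠ p := by
    intro h
    rw [h] at hqσM
    exact hdisj p hp hqσM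
  have : Fact (orderOf x).Prime := ⟨hq⟩
  -- Step 1: `q ∉ β(M)`
  have hqβ : orderOf x ∉ beta M := by
    intro hβ
    have hX : Nat.card (zpowers x) = orderOf x := Nat.card_zpowers x
    have P : Sylow (orderOf x) ↥(sigmaCore M) := default
    have h := (Cfsg.Agent.S1423.result hG M hM (orderOf x) hqσM (zpowers x)
      (zpowers_le.mpr hxMem) hX P (Or.inl hβ)).1.1
    apply hxM
    intro c hc
    apply h
    rw [Subgroup.mem_centralizer_iff] at hc ⊢
    intro z hz
    obtain ⟨k, rfl⟩ := Subgroup.mem_zpowers_iff.mp hz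
    have hcx : Commute x c := hc x rfl
    exact (Commute.zpow_left hcx k).eq
  -- the elementary abelian `q`-subgroup of `N`
  obtain ⟨A, hAN, hAel, hAcard⟩ := Cfsg.Agent.Lib.Helper13.BG12.exists_elemAb_sq_of_tau2 hqN
  have h17d : sigmaCore N ⊓ centralizer (A : Set G) = ⊥ :=
    (Cfsg.Agent.S1417.result hG N hN (orderOf x) hqN A ⟨hAN, hAel, hAcard⟩).2.2.2.1
  -- the Sylow `p`-subgroup `S` of `N_σ`
  have hNtop : sigmaCore N ≠ ⊤ := fun h => hN.1 (top_le_iff.mp (h ▸ hHallN.1))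
  have hsolvN : Group.IsSolvable (sigmaCore N) := ms_solvable hG hNtop
  have hpNσ : p ∣ Nat.card (sigmaCore N) := by
    have h1 := Cfsg.Agent.Lib.Helper14.card_mul_relIndex_of_le hHallN.1
    have h2 : p ∣ Nat.card (sigmaCore N) * (sigmaCore N).relIndex N := by rw [h1]; exact hp.2.1
    rcases (Nat.Prime.dvd_mul hpp).mp h2 with h | h
    · exact h
    · exact absurd h (hHallN.2.2 p hpp hp)
  have hnσ0 : Nat.card (sigmaCore N) ≠ 0 := Nat.card_pos.ne'
  obtain ⟨S, hSσ, hScard⟩ := Cfsg.Agent.Lib.Helper32.hall_exists_in (sigmaCore N) hsolvN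
    (ordProj[p] (Nat.card (sigmaCore N))) (ordCompl[p] (Nat.card (sigmaCore N)))
    (Nat.ordProj_mul_ordCompl_eq_self _ p).symm
    (Nat.Coprime.pow_left _ (Nat.coprime_ordCompl hpp hnσ0))
  have hpS : p ∣ Nat.card S := by rw [hScard]; exact Nat.dvd_ordProj_of_dvd hnσ0 hpp hpNσ
  have hS1 : S ≠ ⊥ := by
    rintro rfl
    rw [Subgroup.card_bot] at hpS
    exact hpp.one_lt.ne' (Nat.dvd_one.mp hpS)
  have hSrel : S.relIndex (sigmaCore N) = ordCompl[p] (Nat.card (sigmaCore N)) := by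
    have h1 := Cfsg.Agent.Lib.Helper14.card_mul_relIndex_of_le hSσ
    rw [hScard] at h1
    have h2 := Nat.ordProj_mul_ordCompl_eq_self (Nat.card (sigmaCore N)) p
    exact Nat.eq_of_mul_eq_mul_left (Nat.ordProj_pos _ p) (h1.trans h2.symm)
  have hShall : (Nat.card S).Coprime (S.relIndex (sigmaCore N)) := by
    rw [hScard, hSrel]
    exact Nat.Coprime.pow_left _ (Nat.coprime_ordCompl hpp hnσ0)
  have hnσN : N ≤ normalizer (sigmaCore N : Set G) :=
    Cfsg.Agent.Lib.Helper71.BG11.le_normalizer_sigmaCore N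
  have hNS : ∀ n ∈ N, cj n S = S := by
    intro n hn
    have h1 : cj n S ≤ sigmaCore N := by
      have := cj_mono (g := n) hSσ
      rwa [cj_eq_self_iff.mpr (hnσN hn)] at this
    exact Cfsg.Agent.Lib.Helper64.BG153.eq_of_hall_of_nilpotent hSσ h1 hnil hShall (card_cj n S)
  -- Step 2: `q ∣ |N : O_{p'}(N)|`, hence `q < p`
  have hle_p : ∀ r : ℕ, r.Prime → r ∣ (pPrimeCore p ↥N).index → r ≤ p :=
    ((Cfsg.Agent.S1414.result hG N hN).2.2.2.2 p hpp hp.2.1 hpβ).2.2
  have hq_dvd : orderOf x ∣ (pPrimeCore p ↥N).index := by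
    by_contra hnd
    have hAW : A ≤ ppc p N := by
      intro a ha
      apply mem_ppc_of_coprime (hAN ha)
      have h1 : orderOf a ∣ orderOf x := orderOf_dvd_of_pow_eq_one (hAel.2 a ha)
      exact Nat.Coprime.coprime_dvd_left h1 ((Nat.Prime.coprime_iff_not_dvd hq).mpr hnd)
    have hSW : S ⊓ ppc p N = ⊥ := by
      apply (Subgroup.disjoint_of_coprime_natCard ?_).eq_bot
      rw [hScard]
      exact Nat.Coprime.pow_left _ (card_ppc_coprime p N).symm
    have hcomm : ∀ s ∈ S, ∀ w ∈ ppc p N, w * s = s * w := by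
      intro s hs w hw
      have hsN : s ∈ N := hHallN.1 (hSσ hs)
      have hwN : w ∈ N := ppc_le p N hw
      have h1 : s * w * s⁻¹ * w⁻¹ ∈ S := by
        have h0 : w * s⁻¹ * w⁻¹ ∈ S := by
          have h := hNS w hwN
          rw [← h]
          exact conj_mem_cj (S.inv_mem hs)
        have h00 := S.mul_mem hs h0
        have e : s * (w * s⁻¹ * w⁻¹) = s * w * s⁻¹ * w⁻¹ := by group
        rwa [e] at h00
      have h2 : s * w * s⁻¹ * w⁻¹ ∈ ppc p N := by
        have h0 : s * w * s⁻¹ ∈ ppc p N :=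
          (Subgroup.mem_normalizer_iff.mp (le_normalizer_ppc p N hsN) w).mp hw
        exact (ppc p N).mul_mem h0 ((ppc p N).inv_mem hw)
      have h3 : s * w * s⁻¹ * w⁻¹ ∈ S ⊓ ppc p N := ⟨h1, h2⟩
      rw [hSW, Subgroup.mem_bot] at h3
      calc w * s = (s * w * s⁻¹ * w⁻¹)⁻¹ * (s * w) := by group
        _ = s * w := by rw [h3, inv_one, one_mul]
    have hSle : S ≤ sigmaCore N ⊓ centralizer (A : Set G) := by
      intro s hs
      refine Subgroup.mem_inf.mpr ⟨hSσ hs, ?_⟩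
      rw [Subgroup.mem_centralizer_iff]
      intro a ha
      exact hcomm s hs a (hAW ha)
    rw [h17d] at hSle
    exact hS1 (le_bot_iff.mp hSle)
  have hqp : orderOf x < p := lt_of_le_of_ne (hle_p (orderOf x) hq hq_dvd) hqp_ne
  -- Step 3: an `x`-invariant Sylow `p`-subgroup `P` of `O_{q'}(M)`
  have hqM : orderOf x ∣ Nat.card M := hqσM.2.1
  have hle_q : ∀ r : ℕ, r.Prime → r ∣ (pPrimeCore (orderOf x) ↥M).index → r ≤ orderOf x :=
    ((Cfsg.Agent.S1414.result hG M hM).2.2.2.2 (orderOf x) hq hqM hqβ).2.2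
  have hp_nd : ¬ p ∣ (pPrimeCore (orderOf x) ↥M).index :=
    fun h => absurd (hle_q p hpp h) (not_le.mpr hqp)
  have hpW : p ∣ Nat.card (ppc (orderOf x) M) := by
    have h1 := Cfsg.Agent.Lib.Helper14.card_mul_relIndex_of_le (ppc_le (orderOf x) M)
    rw [ppc_relIndex] at h1
    have h2 : p ∣ Nat.card (ppc (orderOf x) M) * (pPrimeCore (orderOf x) ↥M).index := by
      rw [h1]; exact hpM
    rcases (Nat.Prime.dvd_mul hpp).mp h2 with h | h
    · exact h
    · exact absurd h hp_nd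
  have hWtop : ppc (orderOf x) M ≠ ⊤ :=
    fun h => hM.1 (top_le_iff.mp (h ▸ ppc_le (orderOf x) M))
  have hsolvW : Group.IsSolvable (ppc (orderOf x) M) := ms_solvable hG hWtop
  have hnW0 : Nat.card (ppc (orderOf x) M) ≠ 0 := Nat.card_pos.ne'
  have hxW : zpowers x ≤ normalizer (ppc (orderOf x) M : Set G) :=
    (zpowers_le.mpr hxMem).trans (le_normalizer_ppc (orderOf x) M)
  have hcopx : (Nat.card (zpowers x)).Coprime (Nat.card (ppc (orderOf x) M)) := by
    rw [Nat.card_zpowers]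
    exact (card_ppc_coprime (orderOf x) M).symm
  obtain ⟨P, hPW, hPcard, hxP⟩ := Cfsg.Agent.Lib.Helper32.exists_invariant_hall hxW hcopx hsolvW
    (ordProj[p] (Nat.card (ppc (orderOf x) M))) (ordCompl[p] (Nat.card (ppc (orderOf x) M)))
    (Nat.ordProj_mul_ordCompl_eq_self _ p).symm
    (Nat.Coprime.pow_left _ (Nat.coprime_ordCompl hpp hnW0))
  have hpP : p ∣ Nat.card P := by rw [hPcard]; exact Nat.dvd_ordProj_of_dvd hnW0 hpp hpW
  have hPM : P ≤ M := hPW.trans (ppc_le (orderOf x) M)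
  have hp_nσM : p ∉ sigma M := hdisj p hp
  have hσP : sigmaCore M ⊓ P = ⊥ := by
    apply (Subgroup.disjoint_of_coprime_natCard ?_).eq_bot
    rw [hPcard]
    apply Nat.Coprime.pow_right
    rw [Nat.coprime_comm]
    exact (Nat.Prime.coprime_iff_not_dvd hpp).mpr (fun h => hp_nσM (hHallM.2.1 p hpp h))
  have hnσM : M ≤ normalizer (sigmaCore M : Set G) :=
    Cfsg.Agent.Lib.Helper71.BG11.le_normalizer_sigmaCore M
  have hPC : P ≤ centralizer ({x} : Set G) := by
    intro y hy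
    have hyM : y ∈ M := hPM hy
    have hxn : x ∈ normalizer (P : Set G) := hxP (mem_zpowers x)
    have h1 : x * y * x⁻¹ * y⁻¹ ∈ P :=
      P.mul_mem ((Subgroup.mem_normalizer_iff.mp hxn y).mp hy) (P.inv_mem hy)
    have h2 : x * y * x⁻¹ * y⁻¹ ∈ sigmaCore M := by
      have h0 : y * x⁻¹ * y⁻¹ ∈ sigmaCore M :=
        (Subgroup.mem_normalizer_iff.mp (hnσM hyM) x⁻¹).mp ((sigmaCore M).inv_mem hx)
      have h00 := (sigmaCore M).mul_mem hx h0
      have e : x * (y * x⁻¹ * y⁻¹) = x * y * x⁻¹ * y⁻¹ := by group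
      rwa [e] at h00
    have h3 : x * y * x⁻¹ * y⁻¹ ∈ sigmaCore M ⊓ P := ⟨h2, h1⟩
    rw [hσP, Subgroup.mem_bot] at h3
    rw [Subgroup.mem_centralizer_iff]
    intro z hz
    rw [Set.mem_singleton_iff] at hz
    rw [hz]
    calc x * y = (x * y * x⁻¹ * y⁻¹) * (y * x) := by group
      _ = y * x := by rw [h3, one_mul]
  have hPMN : P ≤ M ⊓ N := le_inf hPM (hPC.trans hxN)
  have hcardMN : (sigmaCore N).relIndex N = Nat.card ↥(M ⊓ N) :=
    Cfsg.Agent.Lib.Helper13.BG12.relIndex_eq_card_of_complIn hcompl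
  have hfin : p ∣ (sigmaCore N).relIndex N := by
    rw [hcardMN]
    exact dvd_trans hpP (Subgroup.card_dvd_of_le hPMN)
  exact hHallN.2.2 p hpp hp hfin

end Cfsg.Agent.Lib.Helper11.BG1436
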