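import Mathlib
import Cfsg.Agent.S1350
import Cfsg.Agent.S1351
import Cfsg.Agent.S1352
import Cfsg.Agent.S1354
import Cfsg.Agent.S1366
import Cfsg.Agent.S1378
import Cfsg.Agent.Lib.Helper11.BG144Glue
import Cfsg.Agent.Lib.Helper13.BG1372
import Cfsg.Agent.Lib.Helper13.BG16P
import Cfsg.Agent.Lib.Helper15.BG1379V8
import Cfsg.Agent.Lib.Helper55.Basic
import Cfsg.Agent.Lib.Helper55.Uniq3
import Cfsg.Agent.Lib.Helper71.BG1381Fwd

set_option autoImplicit false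

/-! BG Corollary 15.9 / statement S1436, clause (a), `κ`-part when `κ(N) = ∅`: if `N` supports
`x ∈ M_σ`, `κ(N) = ∅` and some prime of `σ(N)` divides `|M|`, then `κ(M) = ∅`. -/

namespace Cfsg.Agent.Lib.Helper11.BG1436

open Cfsg Subgroup Cfsg.Agent.Lib.Helper55

variable {G : Type*} [Group G] [Finite G]

/-- `κ(cj g M) ⊇ κ(M)`, as nonemptiness. -/
theorem kappa_cj_nonempty (hG : IsMinSimpleOddOrder G) {M : Subgroup G} (hM : IsCoatom M) (g : G)
    (h : (kappa M).Nonempty) : (kappa (cj g M)).Nonempty := by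
  obtain ⟨q, hq⟩ := h
  refine ⟨q, ?_⟩
  apply Cfsg.Agent.Lib.Helper15.BG1379.mem_kappa_cj hG (isCoatom_cj g hM) g⁻¹
  have : cj g⁻¹ (cj g M) = M := cj_inv_cj g M
  show q ∈ kappa (cj g⁻¹ (cj g M))
  rw [this]
  exact hq

/-- S1436 (a), `κ`-part, in the case `κ(N) = ∅`. -/
theorem kappa_eq_empty_of_kappa_support_empty (hG : IsMinSimpleOddOrder G) {M : Subgroup G}
    (hM : IsCoatom M) {x : G} (hx : x ∈ sigmaCore M) (hx1 : x ≠ 1)
    (hxM : ¬ centralizer ({x} : Set G) ≤ M) {N : Subgroup G} (hN : IsCoatom N)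
    (hxN : centralizer ({x} : Set G) ≤ N) (hκN : kappa N = ∅)
    (hp : ∃ p ∈ sigma N, p ∣ Nat.card M) : kappa M = ∅ := by
  by_contra hne
  have hκM : (kappa M).Nonempty := Set.nonempty_iff_ne_empty.mpr hne
  obtain ⟨p, hpσ, hpM⟩ := hp
  have hpp : p.Prime := hpσ.1
  obtain ⟨⟨K, hK⟩, hcyc⟩ := Cfsg.Agent.S1351.result hG M hM
  obtain ⟨⟨U, hKU⟩, -⟩ := Cfsg.Agent.S1352.result hG M hM K (hcyc K hK) hK
  have hK1 : K ≠ ⊥ := Cfsg.Agent.Lib.Helper71.BG1381.ne_bot_of_kappa_nonempty hK hκM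
  obtain ⟨N₀, hS⟩ := Cfsg.Agent.Lib.Helper11.BG144.hB_main hG M hM x hx hx1 hxM
  have hN0 : N = N₀ := hS.uniq N hN hxN
  subst hN0
  obtain ⟨-, hc1, -, -, hc2⟩ :=
    Cfsg.Agent.Lib.Helper13.BG16.derived_card_of_decomp hG hM hKU hK1
  rw [← hc1, hc2] at hpM
  rcases (Nat.Prime.dvd_mul hpp).mp hpM with h | h
  · -- `p ∣ |K|`: the partner `M*` is conjugate to `N`, so `κ(N) ≠ ∅`
    obtain ⟨Ms, ⟨hMs, hKst, hKstH⟩, -⟩ := Cfsg.Agent.S1366.result hG M hM K U hKU hK1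
    have hKMs : K ≤ sigmaCore Ms := by
      intro k hk
      rw [hKst] at hk
      exact hk.1
    have hpMs : p ∈ sigma Ms :=
      (Cfsg.Agent.S1350.result hG Ms hMs).1.2.1 p hpp
        (dvd_trans h (Subgroup.card_dvd_of_le hKMs))
    obtain ⟨g, hg⟩ := (Cfsg.Agent.S1378.result hG).2 Ms N hMs hN ⟨p, hpMs, hpσ⟩
    have hKs1 : sigmaCore M ⊓ centralizer (K : Set G) ≠ ⊥ :=
      (Cfsg.Agent.S1354.result hG M hM K hKU.cyclic hKU.hall).1
    have hκMs : (kappa Ms).Nonempty :=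
      Cfsg.Agent.Lib.Helper13.BG16.kappa_nonempty_of_ne_bot hKstH hKs1
    have hκN' : (kappa (cj g Ms)).Nonempty := kappa_cj_nonempty hG hMs g hκMs
    have hg' : N = cj g Ms := hg
    rw [← hg', hκN] at hκN'
    exact Set.not_nonempty_empty hκN'
  · rcases (Nat.Prime.dvd_mul hpp).mp h with h | h
    · -- `p ∈ σ(M) ∩ σ(N)`: `N` is conjugate to `M`
      have hpσM : p ∈ sigma M := (Cfsg.Agent.S1350.result hG M hM).1.2.1 p hpp h
      obtain ⟨g, hg⟩ := (Cfsg.Agent.S1378.result hG).2 M N hM hN ⟨p, hpσM, hpσ⟩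
      exact hS.not_conj g hg
    · -- `p ∣ |U|`: `M` is of type `P₂`, which has no supporting subgroup
      have hU1 : U ≠ ⊥ := by
        rintro rfl
        rw [Subgroup.card_bot] at h
        exact hpp.one_lt.ne' (Nat.dvd_one.mp h)
      exact hxM (Cfsg.Agent.Lib.Helper13.BG1372.centralizer_le_of_P2 hG hM hKU hK1 hU1 hx hx1)

end Cfsg.Agent.Lib.Helper11.BG1436
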