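import Mathlib
import Cfsg.Agent.Lib.Helper11.BG1436k

set_option autoImplicit false

/-! Pack K-1436, keystone 143604 (leaf K): the `κ`-part of S1436 (a) when `κ(N) = ∅`, in the spec's signature. -/

namespace Cfsg.Agent.Lib.Helper11.BG1436

open Cfsg Subgroup

variable {G : Type*} [Group G] [Finite G]

/-- KEYSTONE 143604  K-1436-K -/
theorem kappa_eq_empty (hG : IsMinSimpleOddOrder G) {M N : Subgroup G} (hM : IsCoatom M) (hN : IsCoatom N) {x : G}
    (hx : x ∈ sigmaCore M) (hx1 : x ≠ 1) (hxM : ¬ centralizer ({x} : Set G) ≤ M) (hxN : centralizer ({x} : Set G) ≤ N)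
    (hdisj : ∀ p : ℕ, p ∈ sigma N → p ∉ sigma M) (hkN : kappa N = ∅)
    {p : ℕ} (hp : p ∈ sigma N) (hpM : p ∣ Nat.card M) : kappa M = ∅ :=
  kappa_eq_empty_of_kappa_support_empty hG hM hx hx1 hxM hN hxN hkN ⟨p, hp, hpM⟩

end Cfsg.Agent.Lib.Helper11.BG1436
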