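import Mathlib
import Cfsg.Agent.S1378
import Cfsg.Agent.Lib.Helper11.BG144Glue
import Cfsg.Agent.Lib.Helper55.Basic

set_option autoImplicit false

/-! Pack K-1436, keystone 143603 (leaf S): the basic facts on the support `N` of `x ∈ M_σ`. -/

namespace Cfsg.Agent.Lib.Helper11.BG1436

open Cfsg Subgroup Cfsg.Agent.Lib.Helper55

variable {G : Type*} [Group G] [Finite G]

/-- KEYSTONE 143603  K-1436-S -/
theorem facts (hG : IsMinSimpleOddOrder G) {M N : Subgroup G} (hM : IsCoatom M) (hN : IsCoatom N) {x : G}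
    (hx : x ∈ sigmaCore M) (hx1 : x ≠ 1) (hxM : ¬ centralizer ({x} : Set G) ≤ M) (hxN : centralizer ({x} : Set G) ≤ N) :
    Group.IsNilpotent (sigmaCore N) ∧ IsComplIn (M ⊓ N) (sigmaCore N) N ∧
      sigmaCore N ⊓ centralizer ({x} : Set G) ≠ ⊥ ∧
      (∀ g : G, N.map (MulAut.conj g).toMonoidHom ≠ M) ∧
      (∀ p : ℕ, p ∈ sigma N → p ∉ sigma M) := by
  obtain ⟨N₀, hS⟩ := Cfsg.Agent.Lib.Helper11.BG144.hB_main hG M hM x hx hx1 hxM
  have hN0 : N = N₀ := hS.uniq N hN hxN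
  subst hN0
  refine ⟨hS.nilp, hS.compl, hS.R_ne, ?_, ?_⟩
  · intro g hg
    apply hS.not_conj g⁻¹
    have h1 : cj g N = M := hg
    show N = cj g⁻¹ M
    rw [← h1, cj_inv_cj]
  · intro p hpN hpM
    obtain ⟨g, hg⟩ := (Cfsg.Agent.S1378.result hG).2 M N hM hN ⟨p, hpM, hpN⟩
    exact hS.not_conj g hg

end Cfsg.Agent.Lib.Helper11.BG1436
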