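import Mathlib
import Cfsg.Agent.S1350
import Cfsg.Agent.S1378
import Cfsg.Agent.S1432
import Cfsg.Agent.S1436
import Cfsg.Agent.Lib.Helper11.BG144Glue
import Cfsg.Agent.Lib.Helper55.Basic
import Cfsg.Agent.Lib.Helper55.Uniq2
import Cfsg.Agent.Lib.Helper71.BG11a
import Cfsg.Agent.Lib.Helper81.BG144R

set_option autoImplicit false

/-! Towards S1537 (Dade hypothesis for `A₁(M)`, `A(M)`, `A₀(M)`): the Dade data `R(x) = supportR M x`
for `x ∈ M_σ - 1`, the control of fusion in `M_σ` by `M`, and the coprimality of `|R(a)|` and `|C_M(b)|`. -/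

namespace Cfsg.Agent.Lib.Helper11.BG1537

open Cfsg Subgroup Cfsg.Agent.Lib.Helper55

variable {G : Type*} [Group G] [Finite G]

/-- The Dade data of `R(x)`, `x ∈ M_σ - 1`: `R(x) ≤ C(x)` is `C(x)`-invariant and complements `C_M(x)`. -/
theorem dade_R (hG : IsMinSimpleOddOrder G) {M : Subgroup G} (hM : IsCoatom M) {x : G}
    (hx : x ∈ sigmaCore M) (hx1 : x ≠ 1) :
    supportR M x ≤ centralizer ({x} : Set G) ∧
    (∀ c ∈ centralizer ({x} : Set G), ∀ u ∈ supportR M x, c * u * c⁻¹ ∈ supportR M x) ∧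
    supportR M x ⊓ (M ⊓ centralizer ({x} : Set G)) = ⊥ ∧
    supportR M x ⊔ (M ⊓ centralizer ({x} : Set G)) = centralizer ({x} : Set G) := by
  by_cases hC : centralizer ({x} : Set G) ≤ M
  · have h0 : supportR M x = ⊥ := Cfsg.Agent.Lib.Helper81.BG144.supportR_eq_bot M x hC
    rw [h0]
    refine ⟨bot_le, ?_, bot_inf_eq _, ?_⟩
    · intro c _ u hu
      rw [Subgroup.mem_bot] at hu ⊢
      rw [hu]; group
    · rw [bot_sup_eq]
      exact inf_eq_right.mpr hC
  · obtain ⟨N, hN⟩ := Cfsg.Agent.Lib.Helper11.BG144.hB_main hG M hM x hx hx1 hC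
    have h0 : supportR M x = sigmaCore N ⊓ centralizer ({x} : Set G) :=
      Cfsg.Agent.Lib.Helper81.BG144.supportR_eq (Cfsg.Agent.Lib.Helper11.BG144.hC_main hG) hN
    rw [h0]
    have hnσ : N ≤ normalizer (sigmaCore N : Set G) :=
      Cfsg.Agent.Lib.Helper71.BG11.le_normalizer_sigmaCore N
    refine ⟨inf_le_right, ?_, ?_, ?_⟩
    · intro c hc u hu
      refine Subgroup.mem_inf.mpr ⟨?_, ?_⟩
      · exact (Subgroup.mem_normalizer_iff.mp (hnσ (hN.cent_le hc)) u).mp hu.1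
      · exact Subgroup.mul_mem _ (Subgroup.mul_mem _ hc hu.2) (Subgroup.inv_mem _ hc)
    · rw [eq_bot_iff, ← hN.inf_bot]
      exact le_inf (inf_le_left.trans inf_le_left) (inf_le_right.trans inf_le_left)
    · apply le_antisymm
      · exact sup_le inf_le_right inf_le_right
      · intro n hn
        obtain ⟨e, he, a, ha, hea⟩ := hN.cent_split n hn
        rw [hea]
        exact Subgroup.mul_mem _ (Subgroup.mem_sup_right he) (Subgroup.mem_sup_left ha)

/-- `M` controls `G`-fusion of the elements of `M_σ - 1` in `M`. -/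
theorem fusion_sigma (hG : IsMinSimpleOddOrder G) {M : Subgroup G} (hM : IsCoatom M) {a : G}
    (ha : a ∈ sigmaCore M) (ha1 : a ≠ 1) {g : G} (hg : g * a * g⁻¹ ∈ M) :
    ∃ m ∈ M, m * a * m⁻¹ = g * a * g⁻¹ := by
  have hσM : sigmaCore M ≤ M := Cfsg.Agent.Lib.Helper71.BG11.sigmaCore_le M
  have ha' : a ∈ Cfsg.Agent.Lib.Helper11.BG144.cj g⁻¹ M := by
    have h : a ∈ cj g⁻¹ M := by
      rw [mem_cj, inv_inv]
      exact hg
    exact h
  obtain ⟨c, hc, hcM0⟩ := Cfsg.Agent.Lib.Helper11.BG144.hA_main hG M hM a ha ha1 g⁻¹ ha'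
  have hcM : cj c M = cj g⁻¹ M := hcM0
  have hM1 : M ≠ ⊥ := by
    intro h
    have : a ∈ (⊥ : Subgroup G) := h ▸ hσM ha
    exact ha1 (Subgroup.mem_bot.mp this)
  have hNM : normalizer (M : Set G) = M :=
    Cfsg.Agent.Lib.Helper55.ms_normalizer_eq hG hM hM1 le_rfl Subgroup.le_normalizer
  have hm : g * c ∈ M := by
    rw [← hNM, ← cj_eq_self_iff, cj_mul, hcM, cj_cj_inv]
  refine ⟨g * c, hm, ?_⟩
  have hca : a * c = c * a := (Subgroup.mem_centralizer_iff.mp hc) a rfl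
  have h1 : c * a * c⁻¹ = a := by rw [← hca]; group
  calc g * c * a * (g * c)⁻¹ = g * (c * a * c⁻¹) * g⁻¹ := by group
    _ = g * a * g⁻¹ := by rw [h1]

/-- If `κ(M) = ∅ = τ₂(M)`, every non-identity `σ(M)'`-element of `M` is fixed point free on `M_σ`. -/
theorem fpf_of_empty (hG : IsMinSimpleOddOrder G) {M : Subgroup G} (hM : IsCoatom M)
    (hκ : kappa M = ∅) (hτ : tau2 M = ∅) {c : G} (hcM : c ∈ M) (hc1 : c ≠ 1)
    (hcσ : ∀ p : ℕ, p.Prime → p ∣ orderOf c → p ∉ sigma M) {y : G} (hy : y ∈ sigmaCore M)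
    (hy1 : y ≠ 1) (h : c * y = y * c) : False := by
  have hcC : c ∈ M ⊓ centralizer ({y} : Set G) := by
    refine Subgroup.mem_inf.mpr ⟨hcM, ?_⟩
    rw [Subgroup.mem_centralizer_iff]
    intro z hz
    rw [Set.mem_singleton_iff] at hz
    rw [hz]
    exact h.symm
  have ho : orderOf c ≠ 1 := fun ho => hc1 (orderOf_eq_one_iff.mp ho)
  obtain ⟨p, hp, hpd⟩ := Nat.exists_prime_and_dvd ho
  rcases Cfsg.Agent.S1432.result hG M hM y hy hy1 c hcC hc1 hcσ with h1 | h1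
  · have := h1.1 p hp hpd
    rw [hκ] at this
    exact this
  · have := h1.1 p hp hpd
    rw [hτ] at this
    exact this

/-- A prime dividing both `|R(a)|` and `|M|`: then `κ(M) = ∅ = τ₂(M)` (S1436) and the prime is not in
`σ(M)`. -/
theorem of_dvd_card_supportR (hG : IsMinSimpleOddOrder G) {M : Subgroup G} (hM : IsCoatom M) {a : G}
    (ha : a ∈ sigmaCore M) (ha1 : a ≠ 1) {p : ℕ} (hp : p.Prime)
    (hpR : p ∣ Nat.card (supportR M a)) (hpM : p ∣ Nat.card M) :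
    kappa M = ∅ ∧ tau2 M = ∅ ∧ p ∉ sigma M := by
  by_cases hC : centralizer ({a} : Set G) ≤ M
  · exfalso
    rw [Cfsg.Agent.Lib.Helper81.BG144.supportR_eq_bot M a hC, Subgroup.card_bot] at hpR
    exact hp.one_lt.ne' (Nat.dvd_one.mp hpR)
  · obtain ⟨N, hN⟩ := Cfsg.Agent.Lib.Helper11.BG144.hB_main hG M hM a ha ha1 hC
    rw [Cfsg.Agent.Lib.Helper81.BG144.supportR_eq (Cfsg.Agent.Lib.Helper11.BG144.hC_main hG) hN] at hpR
    have hHallN := (Cfsg.Agent.S1350.result hG N hN.coatom).1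
    have hpσ : p ∈ sigma N :=
      hHallN.2.1 p hp (dvd_trans hpR (Subgroup.card_dvd_of_le inf_le_left))
    have h36 := (Cfsg.Agent.S1436.result hG M hM a ha ha1 hC N hN.coatom hN.cent_le).1 ⟨p, hpσ, hpM⟩
    refine ⟨h36.1, h36.2, ?_⟩
    intro hpσM
    obtain ⟨g, hg⟩ := (Cfsg.Agent.S1378.result hG).2 M N hM hN.coatom ⟨p, hpσM, hpσ⟩
    exact hN.not_conj g hg

/-- `|R(a)|` is prime to `|M|` unless `κ(M) = ∅ = τ₂(M)`. -/
theorem coprime_supportR_card (hG : IsMinSimpleOddOrder G) {M : Subgroup G} (hM : IsCoatom M) {a : G}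
    (ha : a ∈ sigmaCore M) (ha1 : a ≠ 1) (h : ¬ (kappa M = ∅ ∧ tau2 M = ∅)) :
    (Nat.card (supportR M a)).Coprime (Nat.card M) := by
  apply Nat.coprime_of_dvd
  intro p hp hpR hpM
  obtain ⟨h1, h2, -⟩ := of_dvd_card_supportR hG hM ha ha1 hp hpR hpM
  exact h ⟨h1, h2⟩

/-- powers by the index of `M_σ` land in `M_σ` -/
theorem pow_relIndex_mem_sigmaCore {M : Subgroup G} {b : G} (hbM : b ∈ M) :
    b ^ ((sigmaCore M).relIndex M) ∈ sigmaCore M := by
  have hσM : sigmaCore M ≤ M := Cfsg.Agent.Lib.Helper71.BG11.sigmaCore_le M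
  have hn : ((sigmaCore M).subgroupOf M).Normal :=
    (Subgroup.normal_subgroupOf_iff_le_normalizer hσM).mpr
      (Cfsg.Agent.Lib.Helper71.BG11.le_normalizer_sigmaCore M)
  have h1 : (⟨b, hbM⟩ : M) ^ ((sigmaCore M).subgroupOf M).index ∈ (sigmaCore M).subgroupOf M :=
    Subgroup.pow_index_mem _ _
  rw [Subgroup.mem_subgroupOf] at h1
  exact h1

/-- The coprimality clause of the Dade hypothesis: `|R(a)|` is prime to `|C_M(b)|` for `a ∈ M_σ - 1` and
`b ≠ 1` in `M` centralizing a non-identity element of `M_σ`. -/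
theorem coprime_R (hG : IsMinSimpleOddOrder G) {M : Subgroup G} (hM : IsCoatom M) {a : G}
    (ha : a ∈ sigmaCore M) (ha1 : a ≠ 1) {b : G} (hbM : b ∈ M) (hb1 : b ≠ 1) {y : G}
    (hy : y ∈ sigmaCore M) (hy1 : y ≠ 1) (hby : b * y = y * b) :
    (Nat.card (supportR M a)).Coprime (Nat.card ↥(M ⊓ centralizer ({b} : Set G))) := by
  apply Nat.coprime_of_dvd
  intro p hp hpR hpC
  have hpM : p ∣ Nat.card M := dvd_trans hpC (Subgroup.card_dvd_of_le inf_le_left)
  obtain ⟨hκ, hτ, hpσ⟩ := of_dvd_card_supportR hG hM ha ha1 hp hpR hpM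
  have hHallM := (Cfsg.Agent.S1350.result hG M hM).1
  have : Fact p.Prime := ⟨hp⟩
  obtain ⟨c, hc⟩ := exists_prime_orderOf_dvd_card' (G := ↥(M ⊓ centralizer ({b} : Set G))) p hpC
  have hcG : orderOf (c : G) = p := by rw [Subgroup.orderOf_coe]; exact hc
  have hc1 : (c : G) ≠ 1 := by
    intro h
    rw [h, orderOf_one] at hcG
    exact hp.one_lt.ne' hcG.symm
  have hcM : (c : G) ∈ M := c.2.1
  have hcb : b * (c : G) = (c : G) * b := (Subgroup.mem_centralizer_iff.mp c.2.2) b rfl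
  have hcσ : ∀ r : ℕ, r.Prime → r ∣ orderOf (c : G) → r ∉ sigma M := by
    intro r hr hrd
    rw [hcG] at hrd
    rw [(Nat.prime_dvd_prime_iff_eq hr hp).mp hrd]
    exact hpσ
  by_cases hb₁ : b ^ ((sigmaCore M).relIndex M) = 1
  · -- `b` is a `σ(M)'`-element
    have hbσ : ∀ r : ℕ, r.Prime → r ∣ orderOf b → r ∉ sigma M := by
      intro r hr hrd hrσ
      exact hHallM.2.2 r hr hrσ (dvd_trans hrd (orderOf_dvd_of_pow_eq_one hb₁))
    exact fpf_of_empty hG hM hκ hτ hbM hb1 hbσ hy hy1 hby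
  · have hcomm : (c : G) * b ^ ((sigmaCore M).relIndex M) = b ^ ((sigmaCore M).relIndex M) * (c : G) := by
      have : Commute b (c : G) := hcb
      exact (this.pow_left _).eq.symm
    exact fpf_of_empty hG hM hκ hτ hcM hc1 hcσ (pow_relIndex_mem_sigmaCore hbM) hb₁ hcomm

end Cfsg.Agent.Lib.Helper11.BG1537
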