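import Mathlib
import Cfsg.Agent.S1350
import Cfsg.Agent.S1351
import Cfsg.Agent.S1352
import Cfsg.Agent.S1355
import Cfsg.Agent.S1365
import Cfsg.Agent.S1382
import Cfsg.Agent.S1432
import Cfsg.Agent.Lib.Helper11.BG1390
import Cfsg.Agent.Lib.Helper11.BG1537R
import Cfsg.Agent.Lib.Helper13.BG16P
import Cfsg.Agent.Lib.Helper14.NilpHall
import Cfsg.Agent.Lib.Helper71.BG10Hall
import Cfsg.Agent.Lib.Helper71.BG11a
import Cfsg.Agent.Lib.Helper71.BG1381Fwd
import Cfsg.Agent.Lib.Helper81.BG144R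

set_option autoImplicit false

/-! Towards S1537: the sets `typeCore M`, `typeA M` in terms of `M_σ`, in every definitional branch. -/

namespace Cfsg.Agent.Lib.Helper11.BG1537

open Cfsg Subgroup

variable {G : Type*} [Group G] [Finite G]

/-- `M_s ≤ M_σ` in every branch of the definition of `typeCore`. -/
theorem typeCore_le_sigmaCore (hG : IsMinSimpleOddOrder G) {M : Subgroup G} (hM : IsCoatom M) :
    typeCore M ≤ sigmaCore M := by
  unfold typeCore
  split_ifs with h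
  · obtain ⟨⟨K, hK⟩, hcyc⟩ := Cfsg.Agent.S1351.result hG M hM
    obtain ⟨⟨U, hKU⟩, -⟩ := Cfsg.Agent.S1352.result hG M hM K (hcyc K hK) hK
    obtain ⟨hK1, hU, -⟩ := (Cfsg.Agent.S1382.result hG M hM K U hKU).1 h
    have hd := (Cfsg.Agent.S1365.result hG M hM K U hKU hK1).1
    rw [hd, hU, bot_sup_eq]
  · exact (Cfsg.Agent.S1355.result hG M hM).2.1

/-- `M_s ≤ M'` in every branch. -/
theorem typeCore_le_derived (hG : IsMinSimpleOddOrder G) {M : Subgroup G} (hM : IsCoatom M) :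
    typeCore M ≤ ⁅M, M⁆ := by
  have h55 := Cfsg.Agent.S1355.result hG M hM
  unfold typeCore
  split_ifs with h
  · exact le_rfl
  · exact h55.2.1.trans h55.2.2.1

/-- `M_s ≠ 1`. -/
theorem typeCore_ne_bot (hG : IsMinSimpleOddOrder G) {M : Subgroup G} (hM : IsCoatom M) :
    typeCore M ≠ ⊥ := by
  have h55 := Cfsg.Agent.S1355.result hG M hM
  unfold typeCore
  split_ifs with h
  · intro h0
    apply h55.1
    rw [eq_bot_iff, ← h0]
    exact h55.2.1.trans h55.2.2.1
  · exact h55.1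

/-- The elements of `A(M)` lie in `M`, are `≠ 1` and centralize a non-identity element of `M_σ`. -/
theorem of_mem_typeA (hG : IsMinSimpleOddOrder G) {M : Subgroup G} (hM : IsCoatom M) {a : G}
    (ha : a ∈ typeA M) :
    a ∈ M ∧ a ≠ 1 ∧ ∃ y ∈ sigmaCore M, y ≠ 1 ∧ a * y = y * a := by
  have h55 := Cfsg.Agent.S1355.result hG M hM
  unfold typeA at ha
  split_ifs at ha with hI
  · obtain ⟨haM, ha1, x, hx, hx1, hax⟩ := ha
    exact ⟨haM, ha1, x, h55.2.1 hx, hx1, hax⟩
  · obtain ⟨haM, ha1, x, hx, hx1, hax⟩ := ha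
    exact ⟨Cfsg.Agent.Lib.Helper71.BG10.commutator_self_le M haM, ha1, x,
      typeCore_le_sigmaCore hG hM hx, hx1, hax⟩

/-- `A₁(M) ⊆ A(M)`. -/
theorem typeA1_subset_typeA (hG : IsMinSimpleOddOrder G) {M : Subgroup G} (hM : IsCoatom M) :
    typeA1 M ⊆ typeA M := by
  intro a ha
  obtain ⟨haC, ha1⟩ := ha
  have ha1' : a ≠ 1 := fun h => ha1 (Set.mem_singleton_iff.mpr h)
  have hσM : sigmaCore M ≤ M := Cfsg.Agent.Lib.Helper71.BG11.sigmaCore_le M
  unfold typeA
  split_ifs with hI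
  · -- type I: `typeCore M = M_F`
    have hκ : kappa M = ∅ := Cfsg.Agent.Lib.Helper11.BG1390.kappa_eq_empty_of_typeF hG hM hI.1
    have hn34 : ¬ (IsOfTypeIII M ∨ IsOfTypeIV M) := by
      intro h
      obtain ⟨⟨K, hK⟩, hcyc⟩ := Cfsg.Agent.S1351.result hG M hM
      obtain ⟨⟨U, hKU⟩, -⟩ := Cfsg.Agent.S1352.result hG M hM K (hcyc K hK) hK
      obtain ⟨hK1, -, -⟩ := (Cfsg.Agent.S1382.result hG M hM K U hKU).1 h
      obtain ⟨p, hp⟩ := Cfsg.Agent.Lib.Helper13.BG16.kappa_nonempty_of_ne_bot hK hK1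
      rw [hκ] at hp
      exact hp
    have haF : a ∈ fittingHallOf M := by
      have : typeCore M = fittingHallOf M := by unfold typeCore; rw [if_neg hn34]
      rw [← this]; exact haC
    exact ⟨hσM ((Cfsg.Agent.S1355.result hG M hM).2.1 haF), ha1', a, haF, ha1', rfl⟩
  · exact ⟨typeCore_le_derived hG hM haC, ha1', a, haC, ha1', rfl⟩

/-- a `σ(M)`-element of `M` lies in `M_σ` -/
theorem mem_sigmaCore_of_orderOf_dvd (hG : IsMinSimpleOddOrder G) {M : Subgroup G} (hM : IsCoatom M)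
    {a : G} (haM : a ∈ M) (ho : orderOf a ∣ Nat.card (sigmaCore M)) : a ∈ sigmaCore M := by
  have hHall := (Cfsg.Agent.S1350.result hG M hM).1
  have hcop : (Nat.card (sigmaCore M)).Coprime ((sigmaCore M).relIndex M) := by
    apply Nat.coprime_of_dvd
    intro k hk hk1 hk2
    exact hHall.2.2 k hk (hHall.2.1 k hk hk1) hk2
  exact Cfsg.Agent.Lib.Helper14.mem_of_pow_mem_of_coprime
    (Nat.Coprime.coprime_dvd_left ho hcop) (pow_relIndex_mem_sigmaCore haM)

/-- The elements of `A(M)` outside `M_σ` have their centralizer in `M`. -/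
theorem centralizer_le_of_typeA (hG : IsMinSimpleOddOrder G) {M : Subgroup G} (hM : IsCoatom M)
    {a : G} (ha : a ∈ typeA M) (haσ : a ∉ sigmaCore M) : centralizer ({a} : Set G) ≤ M := by
  obtain ⟨haM, ha1, y, hy, hy1, hay⟩ := of_mem_typeA hG hM ha
  have hHall := (Cfsg.Agent.S1350.result hG M hM).1
  have hσM : sigmaCore M ≤ M := hHall.1
  have hcard : Nat.card (sigmaCore M) * (sigmaCore M).relIndex M = Nat.card M :=
    Cfsg.Agent.Lib.Helper14.card_mul_relIndex_of_le hσM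
  -- `c := a ^ |M_σ|`, the `σ(M)'`-part of `a`
  have hcM : a ^ Nat.card (sigmaCore M) ∈ M := M.pow_mem haM _
  have hc1 : a ^ Nat.card (sigmaCore M) ≠ 1 := by
    intro h
    exact haσ (mem_sigmaCore_of_orderOf_dvd hG hM haM (orderOf_dvd_of_pow_eq_one h))
  have hcm : (a ^ Nat.card (sigmaCore M)) ^ ((sigmaCore M).relIndex M) = 1 := by
    rw [← pow_mul, hcard]
    have h1 : (⟨a, haM⟩ : M) ^ Nat.card M = 1 := pow_card_eq_one'
    have h2 : a ^ Nat.card M = ((⟨a, haM⟩ : M) ^ Nat.card M : M) := by rw [Subgroup.coe_pow]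
    rw [h2, h1]
    rfl
  have hcσ : ∀ p : ℕ, p.Prime → p ∣ orderOf (a ^ Nat.card (sigmaCore M)) → p ∉ sigma M := by
    intro p hp hpd hpσ
    exact hHall.2.2 p hp hpσ (dvd_trans hpd (orderOf_dvd_of_pow_eq_one hcm))
  have hcy : a ^ Nat.card (sigmaCore M) * y = y * a ^ Nat.card (sigmaCore M) := by
    have : Commute a y := hay
    exact (this.pow_left _).eq
  have hcC : a ^ Nat.card (sigmaCore M) ∈ M ⊓ centralizer ({y} : Set G) := by
    refine Subgroup.mem_inf.mpr ⟨hcM, ?_⟩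
    rw [Subgroup.mem_centralizer_iff]
    intro z hz
    rw [Set.mem_singleton_iff] at hz
    rw [hz]
    exact hcy.symm
  have hCC : centralizer ({a} : Set G) ≤ centralizer ({a ^ Nat.card (sigmaCore M)} : Set G) := by
    intro g hg
    rw [Subgroup.mem_centralizer_iff] at hg ⊢
    intro z hz
    rw [Set.mem_singleton_iff] at hz
    rw [hz]
    have : Commute a g := hg a rfl
    exact (this.pow_left _).eq
  rcases Cfsg.Agent.S1432.result hG M hM y hy hy1 _ hcC hc1 hcσ with h | h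
  · -- the `κ`-alternative is impossible for elements of `A(M)`
    exfalso
    have ho : orderOf (a ^ Nat.card (sigmaCore M)) ≠ 1 := fun ho => hc1 (orderOf_eq_one_iff.mp ho)
    obtain ⟨p, hp, hpd⟩ := Nat.exists_prime_and_dvd ho
    have hpκ : p ∈ kappa M := h.1 p hp hpd
    unfold typeA at ha
    split_ifs at ha with hI
    · have hκ : kappa M = ∅ := Cfsg.Agent.Lib.Helper11.BG1390.kappa_eq_empty_of_typeF hG hM hI.1
      rw [hκ] at hpκ
      exact hpκ
    · obtain ⟨⟨K, hK⟩, hcyc⟩ := Cfsg.Agent.S1351.result hG M hM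
      obtain ⟨⟨U, hKU⟩, -⟩ := Cfsg.Agent.S1352.result hG M hM K (hcyc K hK) hK
      have hK1 : K ≠ ⊥ := Cfsg.Agent.Lib.Helper71.BG1381.ne_bot_of_kappa_nonempty hK ⟨p, hpκ⟩
      obtain ⟨-, -, hcop, -, -⟩ :=
        Cfsg.Agent.Lib.Helper13.BG16.derived_card_of_decomp hG hM hKU hK1
      have hpK : p ∣ Nat.card K := by
        have h1 := Cfsg.Agent.Lib.Helper14.card_mul_relIndex_of_le hK.1
        have h2 : p ∣ Nat.card K * K.relIndex M := by rw [h1]; exact hpκ.2.1
        rcases (Nat.Prime.dvd_mul hp).mp h2 with h3 | h3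
        · exact h3
        · exact absurd h3 (hK.2.2 p hp hpκ)
      have hcD : a ^ Nat.card (sigmaCore M) ∈ ⁅M, M⁆ := Subgroup.pow_mem _ ha.1 _
      have hpD : p ∣ Nat.card ↥⁅M, M⁆ :=
        dvd_trans hpd (Subgroup.orderOf_dvd_natCard _ hcD)
      have h4 : p ∣ Nat.gcd (Nat.card K) (Nat.card ↥⁅M, M⁆) := Nat.dvd_gcd hpK hpD
      rw [Nat.Coprime] at hcop
      rw [hcop] at h4
      exact hp.one_lt.ne' (Nat.dvd_one.mp h4)
  · exact hCC.trans h.2.2.1

end Cfsg.Agent.Lib.Helper11.BG1537
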