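import Mathlib
import Cfsg.Agent.S1362
import Cfsg.Agent.S1365
import Cfsg.Agent.Lib.Helper11.BG1390
import Cfsg.Agent.Lib.Helper13.BG16Q
import Cfsg.Agent.Lib.Helper55.Uniq2
import Cfsg.Agent.Lib.Helper64.BG1363H
import Cfsg.Agent.Lib.Helper71.BG10Hall
import Cfsg.Agent.Lib.Helper71.BG11a

/-!
# Pack K-1537 leaves D and J (spec notes/S1537_keystones.lean.txt).
-/

set_option autoImplicit false

namespace Cfsg.Agent.Lib.Helper11.BG1537

open Cfsg Subgroup
open scoped commutatorElement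

variable {G : Type*} [Group G] [Finite G]

omit [Finite G] in
/-- the set normalizer of `A` normalizes `closure A`. -/
theorem normalizer_le_normalizer_closure (A : Set G) :
    normalizer A ≤ normalizer (Subgroup.closure A : Set G) := by
  have key : ∀ g : G, g ∈ normalizer A → ∀ h ∈ Subgroup.closure A, g * h * g⁻¹ ∈ Subgroup.closure A := by
    intro g hg h hh
    have hle : Subgroup.closure A ≤ (Subgroup.closure A).comap (MulAut.conj g).toMonoidHom := by
      rw [Subgroup.closure_le]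
      intro x hx
      have : g * x * g⁻¹ ∈ A := (Subgroup.mem_set_normalizer_iff.mp hg x).mp hx
      simpa using Subgroup.subset_closure this
    simpa using hle hh
  intro g hg
  rw [Subgroup.mem_set_normalizer_iff]
  intro h
  refine ⟨key g hg h, fun hh => ?_⟩
  have := key g⁻¹ (inv_mem hg) _ hh
  simpa [mul_assoc] using this

/-- **L-J** a nonempty `M`-invariant subset of `M - 1` has set normalizer `M`. -/
theorem normalizer_eq_of_invariant (hG : IsMinSimpleOddOrder G) {M : Subgroup G} (hM : IsCoatom M)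
    {A : Set G} (hsub : A ⊆ (M : Set G) \ {1}) (hne : A.Nonempty)
    (hinv : ∀ m ∈ M, ∀ a ∈ A, m * a * m⁻¹ ∈ A) : normalizer A = M := by
  have h1 : M ≤ normalizer A := Cfsg.Agent.Lib.Helper13.BG16.le_set_normalizer_of_conj_mem hinv
  have hY1 : Subgroup.closure A ≠ ⊥ := by
    obtain ⟨a, ha⟩ := hne
    intro h
    have ha' : a ∈ Subgroup.closure A := Subgroup.subset_closure ha
    rw [h, Subgroup.mem_bot] at ha'
    exact (hsub ha).2 ha'
  have hYM : Subgroup.closure A ≤ M := by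
    rw [Subgroup.closure_le]
    intro x hx
    exact (hsub hx).1
  have h2 : normalizer (Subgroup.closure A : Set G) = M :=
    Cfsg.Agent.Lib.Helper55.ms_normalizer_eq hG hM hY1 hYM
      (h1.trans (normalizer_le_normalizer_closure A))
  exact le_antisymm (h2 ▸ normalizer_le_normalizer_closure A) h1

/-- **L-D** two `G`-conjugate elements of `A(M) - M_σ` (section-14 form) are conjugate by an element of `M`. -/
theorem mem_of_conj_sigmaA (hG : IsMinSimpleOddOrder G) {M K U : Subgroup G} (hM : IsCoatom M)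
    (hKU : IsSigmaDecomposition M K U) {a g : G} (ha : a ∈ sigmaA M U) (haσ : a ∉ sigmaCore M)
    (hb : g * a * g⁻¹ ∈ sigmaA M U) : g ∈ M := by
  have hσM : sigmaCore M ≤ M := Cfsg.Agent.Lib.Helper71.BG11.sigmaCore_le M
  have hσN : M ≤ normalizer (sigmaCore M : Set G) :=
    Cfsg.Agent.Lib.Helper71.BG11.le_normalizer_sigmaCore M
  have hσconj : ∀ m ∈ M, ∀ y : G, y ∈ sigmaCore M ↔ m * y * m⁻¹ ∈ sigmaCore M := fun m hm y =>
    Subgroup.mem_set_normalizer_iff.mp (hσN hm) y
  -- `U ⊔ M_σ` is `M`-invariant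
  have hV : ∀ m ∈ M, ∀ x ∈ U ⊔ sigmaCore M, m * x * m⁻¹ ∈ U ⊔ sigmaCore M := by
    by_cases hK1 : K = ⊥
    · have hUM : U ⊔ sigmaCore M = M := by
        have h := Cfsg.Agent.Lib.Helper11.BG1390.sup_eq_of_isComplIn hKU.compl
        rw [hK1, bot_sup_eq, sup_comm] at h
        exact h
      rw [hUM]
      intro m hm x hx
      exact mul_mem (mul_mem hm hx) (inv_mem hm)
    · have h := (Cfsg.Agent.S1365.result hG M hM K U hKU hK1).1
      rw [← h]
      intro m hm x hx
      have hxM : x ∈ M := Cfsg.Agent.Lib.Helper71.BG10.commutator_self_le M hx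
      have hc : ⁅m, x⁆ ∈ ⁅M, M⁆ := Subgroup.commutator_mem_commutator hm hxM
      have e : m * x * m⁻¹ = ⁅m, x⁆ * x := by
        rw [commutatorElement_def]; group
      rw [e]
      exact mul_mem hc hx
  -- `X := sigmaA M U \ M_σ`
  set X : Set G := sigmaA M U \ (sigmaCore M : Set G) with hX
  have hXinv : ∀ m ∈ M, ∀ x ∈ X, m * x * m⁻¹ ∈ X := by
    rintro m hm x ⟨⟨⟨hxM, y, hy, hy1, hxy⟩, hxV⟩, hxσ⟩
    refine ⟨⟨⟨mul_mem (mul_mem hm hxM) (inv_mem hm), m * y * m⁻¹, (hσconj m hm y).mp hy, ?_, ?_⟩,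
      hV m hm x hxV⟩, ?_⟩
    · intro h
      apply hy1
      have : y = m⁻¹ * (m * y * m⁻¹) * m := by group
      rw [this, h]; group
    · calc m * x * m⁻¹ * (m * y * m⁻¹) = m * (x * y) * m⁻¹ := by group
        _ = m * (y * x) * m⁻¹ := by rw [hxy]
        _ = m * y * m⁻¹ * (m * x * m⁻¹) := by group
    · intro h
      exact hxσ ((hσconj m hm x).mpr h)
  have hXsub : X ⊆ (M : Set G) \ {1} := by
    rintro x ⟨⟨⟨hxM, -⟩, -⟩, hxσ⟩
    refine ⟨hxM, ?_⟩
    intro h
    rw [Set.mem_singleton_iff] at h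
    exact hxσ (h ▸ (sigmaCore M).one_mem)
  have haX : a ∈ X := ⟨ha, haσ⟩
  have hNX : normalizer X = M := normalizer_eq_of_invariant hG hM hXsub ⟨a, haX⟩ hXinv
  have haM : a ∈ M := ha.1.1
  have ha1 : a ≠ 1 := (hXsub haX).2
  -- `g a g⁻¹ ∉ M_σ`
  have hbσ : g * a * g⁻¹ ∉ sigmaCore M := by
    intro h
    apply haσ
    refine Cfsg.Agent.Lib.Helper64.BG1363.mem_sigmaCore_of_orderOf hG hM haM ?_
    intro p hp hpa
    have e : orderOf (g * a * g⁻¹) = orderOf a := by
      have := orderOf_injective (MulAut.conj g).toMonoidHom (MulAut.conj g).injective a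
      simpa using this
    rw [← e] at hpa
    exact dvd_trans hpa (Subgroup.orderOf_dvd_natCard _ h)
  have hbX : g * a * g⁻¹ ∈ X := ⟨hb, hbσ⟩
  have hTI := Cfsg.Agent.S1362.result hG M hM K U hKU
  by_contra hg
  have hgN : g ∉ normalizer X := by rw [hNX]; exact hg
  exact ha1 (hTI g hgN a haX hbX)

end Cfsg.Agent.Lib.Helper11.BG1537
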