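import Mathlib
import Cfsg.Agent.Lib.Helper11.BG1537R

/-!
# Pack K-1537 leaves F, G, H, I (spec notes/S1537_keystones.lean.txt), from `BG1537R`.
-/

set_option autoImplicit false

namespace Cfsg.Agent.Lib.Helper11.BG1537

open Cfsg Subgroup

variable {G : Type*} [Group G] [Finite G]

/-- **L-F** fusion of `M_σ#` is controlled by `M` (BG 14.4(a)). -/
theorem fusion_sigmaCore (hG : IsMinSimpleOddOrder G) {M : Subgroup G} (hM : IsCoatom M)
    {a g : G} (ha : a ∈ sigmaCore M) (ha1 : a ≠ 1) (hb : g * a * g⁻¹ ∈ M) :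
    ∃ x ∈ M, x * a * x⁻¹ = g * a * g⁻¹ :=
  fusion_sigma hG hM ha ha1 hb

/-- **L-G** `C_G(a) = R(a) ⋊ C_M(a)` for `a ∈ M_σ#` (BG 14.4(b),(c)). -/
theorem supportR_compl (hG : IsMinSimpleOddOrder G) {M : Subgroup G} (hM : IsCoatom M)
    {a : G} (ha : a ∈ sigmaCore M) (ha1 : a ≠ 1) :
    supportR M a ⊓ (M ⊓ centralizer ({a} : Set G)) = ⊥ ∧
      supportR M a ⊔ (M ⊓ centralizer ({a} : Set G)) = centralizer ({a} : Set G) :=
  (dade_R hG hM ha ha1).2.2

/-- **L-H** `R(a)` is normalized by `C_G(a)` (no hypothesis on `G`). -/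
theorem conj_mem_supportR (M : Subgroup G) {a c u : G} (hc : c ∈ centralizer ({a} : Set G))
    (hu : u ∈ supportR M a) : c * u * c⁻¹ ∈ supportR M a := by
  unfold supportR at hu ⊢
  split_ifs at hu ⊢ with h
  · obtain ⟨hu1, hu2⟩ := Subgroup.mem_inf.mp hu
    refine Subgroup.mem_inf.mpr ⟨?_, mul_mem (mul_mem hc hu2) (inv_mem hc)⟩
    have hL := Classical.choose_spec h.2.exists
    set L := Classical.choose h.2.exists with hLdef
    have hcL : c ∈ L := hL.2 hc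
    unfold fittingHallOf at hu1 ⊢
    obtain ⟨y, hy, rfl⟩ := Subgroup.mem_map.mp hu1
    refine Subgroup.mem_map.mpr ⟨⟨c, hcL⟩ * y * ⟨c, hcL⟩⁻¹, ?_, by simp⟩
    exact (inferInstance : (fittingHall L).Normal).conj_mem y hy ⟨c, hcL⟩
  · rw [Subgroup.mem_bot] at hu ⊢
    rw [hu]; simp

/-- **L-I** `|R(a)|` is prime to `|C_M(b)|` for `a ∈ M_σ#`, `b ∈ M̂_σ - 1`. -/
theorem coprime_supportR (hG : IsMinSimpleOddOrder G) {M : Subgroup G} (hM : IsCoatom M)
    {a b : G} (ha : a ∈ sigmaCore M) (ha1 : a ≠ 1) (hb : b ∈ sigmaHat M) (hb1 : b ≠ 1) :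
    Nat.Coprime (Nat.card (supportR M a)) (Nat.card ↥(M ⊓ centralizer ({b} : Set G))) := by
  obtain ⟨hbM, y, hy, hy1, hby⟩ := hb
  exact coprime_R hG hM ha ha1 hbM hb1 hy hy1 hby

end Cfsg.Agent.Lib.Helper11.BG1537
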