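import Mathlib
import Cfsg.Prelude.Def_Transfer
import Cfsg.Agent.Lib.Helper26.BQL3
import Cfsg.Agent.Lib.Helper26.BQL5a
import Cfsg.Agent.Lib.Helper65.BQL1
import Cfsg.Agent.Lib.Helper65.BQL2
import Cfsg.Agent.Lib.Helper68.BQL6
import Cfsg.Agent.Lib.Helper96.BQL4

/-!
# K-BQS (S3912), part (I): the K-BQ lifting argument under the hypothesis (CM)

(CM): for every prime `p` dividing `card M`, every Sylow `p`-subgroup of `G` is cyclic or lies in `M`.
Copy-edit of `Helper96.BQL4` and `Helper26.BQL5a` (their proofs only use (CM)).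
-/

set_option autoImplicit false
set_option linter.unusedVariables false
open Cfsg
open Cfsg.Agent.Lib.Helper26.BQ

namespace Cfsg.Agent.Lib.Helper11.BQGen

/-- generalised L4 under (CM). -/
theorem isMulCommutative_of_min_supplement_good {G : Type*} [Group G] [Finite G]
    (M H A0 : Subgroup G) [M.Normal]
    (hCM : ∀ (p : ℕ) [Fact p.Prime], p ∣ Nat.card ↥M → ∀ P : Sylow p G,
      IsCyclic ↥(P : Subgroup G) ∨ (P : Subgroup G) ≤ M)
    (hsup : A0 ⊔ M = H) (hmin : ∀ X : Subgroup G, X ≤ A0 → X ⊔ M = H → X = A0)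
    (hab : ∀ x ∈ H, ∀ y ∈ H, x * y * x⁻¹ * y⁻¹ ∈ M) : IsMulCommutative ↥A0 := by
  classical
  have hA0H : A0 ≤ H := hsup ▸ le_sup_left
  have hcoat : ∀ X : Subgroup ↥A0, IsCoatom X → X.Normal :=
    Cfsg.Agent.Lib.Helper96.BQ.coatom_normal_of_min_supplement M H A0 hsup hmin hab
  have hsyl : ∀ (p : ℕ) (_hp : Fact p.Prime) (P : Sylow p ↥A0), (↑P : Subgroup ↥A0).Normal :=
    (Group.isNilpotent_of_finite_tfae (G := ↥A0)).out 2 3 |>.mp hcoat
  obtain ⟨e⟩ : Nonempty ((∀ p : (Nat.card ↥A0).primeFactors, ∀ P : Sylow p ↥A0,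
      (↑P : Subgroup ↥A0)) ≃* ↥A0) :=
    (Group.isNilpotent_of_finite_tfae (G := ↥A0)).out 2 4 |>.mp hcoat
  -- each Sylow subgroup is commutative
  have key : ∀ (p : ℕ) (_hp : Fact p.Prime) (Q : Sylow p ↥A0) (x y : ↥A0),
      x ∈ (Q : Subgroup ↥A0) → y ∈ (Q : Subgroup ↥A0) → x * y = y * x := by
    intro p hp Q x y hx hy
    by_cases hpM : p ∣ Nat.card ↥M
    · have hQp : IsPGroup p ↥((Q : Subgroup ↥A0).map A0.subtype) :=
        Q.2.map A0.subtype
      obtain ⟨P, hP⟩ := hQp.exists_le_sylow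
      have hxP : (x : G) ∈ (P : Subgroup G) := hP ⟨x, hx, rfl⟩
      have hyP : (y : G) ∈ (P : Subgroup G) := hP ⟨y, hy, rfl⟩
      rcases hCM p hpM P with hcyc | hPM
      · -- cyclic
        have := hcyc
        have hcomm : (⟨(x : G), hxP⟩ : ↥(P : Subgroup G)) * ⟨(y : G), hyP⟩
            = ⟨(y : G), hyP⟩ * ⟨(x : G), hxP⟩ := by
          let _ := IsCyclic.commGroup (α := ↥(P : Subgroup G))
          exact mul_comm _ _
        have h2 := congrArg (fun t : ↥(P : Subgroup G) => (t : G)) hcomm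
        simp only [Subgroup.coe_mul] at h2
        exact Subtype.ext (by simpa using h2)
      · -- P ≤ M, so Q = ⊥
        have hQM : (Q : Subgroup ↥A0).map A0.subtype ≤ M := hP.trans hPM
        have hbot := Cfsg.Agent.Lib.Helper96.BQ.sylow_eq_bot_of_le' M H A0 hsup hmin p Q (hsyl p hp Q) hQM
        rw [hbot, Subgroup.mem_bot] at hx hy
        rw [hx, hy]
    · -- p does not divide card M: commutator in Q ⊓ M = 1
      have hc : x * y * x⁻¹ * y⁻¹ = 1 := by
        have hcQ : x * y * x⁻¹ * y⁻¹ ∈ (Q : Subgroup ↥A0) :=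
          Subgroup.mul_mem _ (Subgroup.mul_mem _ (Subgroup.mul_mem _ hx hy)
            (Subgroup.inv_mem _ hx)) (Subgroup.inv_mem _ hy)
        have hcM : ((x * y * x⁻¹ * y⁻¹ : ↥A0) : G) ∈ M := by
          have := hab x (hA0H x.2) y (hA0H y.2)
          simpa using this
        obtain ⟨k, hk⟩ := (Q.2.map A0.subtype) ⟨((x * y * x⁻¹ * y⁻¹ : ↥A0) : G), ⟨_, hcQ, rfl⟩⟩
        have hk' : ((x * y * x⁻¹ * y⁻¹ : ↥A0) : G) ^ p ^ k = 1 := by
          have := congrArg (fun t : ↥((Q : Subgroup ↥A0).map A0.subtype) => (t : G)) hk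
          simpa using this
        have hord1 : orderOf ((x * y * x⁻¹ * y⁻¹ : ↥A0) : G) ∣ p ^ k := orderOf_dvd_of_pow_eq_one hk'
        have hord2 : orderOf ((x * y * x⁻¹ * y⁻¹ : ↥A0) : G) ∣ Nat.card ↥M := by
          have := orderOf_dvd_natCard (⟨_, hcM⟩ : ↥M)
          rwa [← Subgroup.orderOf_coe] at this
        have hcop : Nat.Coprime (p ^ k) (Nat.card ↥M) :=
          Nat.Coprime.pow_left k ((Nat.Prime.coprime_iff_not_dvd hp.out).mpr hpM)
        have hone : orderOf ((x * y * x⁻¹ * y⁻¹ : ↥A0) : G) = 1 :=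
          Nat.eq_one_of_dvd_coprimes hcop hord1 hord2
        have : ((x * y * x⁻¹ * y⁻¹ : ↥A0) : G) = 1 := orderOf_eq_one_iff.mp hone
        exact Subtype.ext (by simpa using this)
      calc x * y = (x * y * x⁻¹ * y⁻¹) * (y * x) := by group
        _ = y * x := by rw [hc, one_mul]
  refine ⟨⟨fun a b => ?_⟩⟩
  obtain ⟨f, rfl⟩ := e.surjective a
  obtain ⟨g, rfl⟩ := e.surjective b
  rw [← map_mul, ← map_mul]
  congr 1
  funext p P
  have := key p.1 ⟨Nat.prime_of_mem_primeFactors p.2⟩ P (f p P) (g p P) (f p P).2 (g p P).2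
  exact Subtype.ext (by simpa using congrArg (fun t : ↥A0 => t) this)


/-- the `p`-adic valuation of `card (A0 ⊓ M)` -/
theorem factorization_card_inf_good {G : Type*} [Group G] [Finite G]
    (M H A0 : Subgroup G) [M.Normal]
    (hCM : ∀ (p : ℕ) [Fact p.Prime], p ∣ Nat.card ↥M → ∀ P : Sylow p G,
      IsCyclic ↥(P : Subgroup G) ∨ (P : Subgroup G) ≤ M)
    (hsup : A0 ⊔ M = H) (hmin : ∀ X : Subgroup G, X ≤ A0 → X ⊔ M = H → X = A0)
    (hnil : Group.IsNilpotent ↥A0) (p : ℕ) (hpp : p.Prime) :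
    (Nat.card ↥(A0 ⊓ M)).factorization p =
      if p ∣ M.relIndex H ∧ p ∣ Nat.card ↥M then (Nat.card ↥M).factorization p else 0 := by
  have : Fact p.Prime := ⟨hpp⟩
  have hIM : Nat.card ↥(A0 ⊓ M) ∣ Nat.card ↥M := Subgroup.card_dvd_of_le inf_le_right
  have hIA : Nat.card ↥(A0 ⊓ M) ∣ Nat.card ↥A0 := Subgroup.card_dvd_of_le inf_le_left
  have hA0H : A0 ≤ H := hsup ▸ le_sup_left
  have hcardA := card_eq_relIndex_mul M H A0 hsup
  have htfae : Group.IsNilpotent ↥A0 ↔
      ∀ (p : ℕ) (_hp : Fact p.Prime) (P : Sylow p ↥A0), (↑P : Subgroup ↥A0).Normal :=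
    (Group.isNilpotent_of_finite_tfae (G := ↥A0)).out 0 3
  have hSyl : ∀ (Q : Sylow p ↥A0), (Q : Subgroup ↥A0).Normal :=
    fun Q => htfae.1 hnil p ⟨hpp⟩ Q
  obtain ⟨Q⟩ : Nonempty (Sylow p ↥A0) := inferInstance
  have hQn := hSyl Q
  -- if `Q` maps into `M` then `p ∤ card A0`
  have hkill : (Q : Subgroup ↥A0).map A0.subtype ≤ M → ¬ p ∣ Nat.card ↥A0 := fun hQM =>
    not_dvd_card_of_sylow_eq_bot p Q (sylow_eq_bot_of_le M H A0 hsup hmin p Q hQn hQM)
  by_cases hpm : p ∣ Nat.card ↥M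
  · by_cases hpn : p ∣ M.relIndex H
    · -- case (iii)
      rw [if_pos ⟨hpn, hpm⟩]
      have hQp : IsPGroup p ↥((Q : Subgroup ↥A0).map A0.subtype) := IsPGroup.map Q.2 _
      obtain ⟨P, hQP⟩ := hQp.exists_le_sylow
      have hQnotM : ¬ (Q : Subgroup ↥A0).map A0.subtype ≤ M := by
        intro hQM
        apply hkill hQM
        rw [hcardA]
        exact Dvd.dvd.mul_right hpn _
      rcases hCM p hpm P with hcyc | hPM
      · -- cyclic
        have hle : (P : Subgroup G) ⊓ M ≤ (Q : Subgroup ↥A0).map A0.subtype := by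
          set R' : Subgroup ↥(P : Subgroup G) := ((P : Subgroup G) ⊓ M).subgroupOf (P : Subgroup G)
            with hR'
          set Q' : Subgroup ↥(P : Subgroup G) :=
            ((Q : Subgroup ↥A0).map A0.subtype).subgroupOf (P : Subgroup G) with hQ'
          obtain ⟨i, hi⟩ := (P.2.to_subgroup R').exists_card_eq
          obtain ⟨j, hj⟩ := (P.2.to_subgroup Q').exists_card_eq
          rcases le_total i j with hij | hij
          · have hRQ : R' ≤ Q' :=
              le_of_card_dvd_of_isCyclic R' Q' (by rw [hi, hj]; exact pow_dvd_pow p hij)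
            intro x hx
            have hxP : x ∈ (P : Subgroup G) := hx.1
            have h1 : (⟨x, hxP⟩ : ↥(P : Subgroup G)) ∈ R' := by
              rw [hR', Subgroup.mem_subgroupOf]
              exact hx
            have h2 := hRQ h1
            rw [hQ', Subgroup.mem_subgroupOf] at h2
            exact h2
          · exfalso
            have hQR : Q' ≤ R' :=
              le_of_card_dvd_of_isCyclic Q' R' (by rw [hi, hj]; exact pow_dvd_pow p hij)
            apply hQnotM
            intro x hx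
            have hxP : x ∈ (P : Subgroup G) := hQP hx
            have h1 : (⟨x, hxP⟩ : ↥(P : Subgroup G)) ∈ Q' := by
              rw [hQ', Subgroup.mem_subgroupOf]
              exact hx
            have h2 := hQR h1
            rw [hR', Subgroup.mem_subgroupOf] at h2
            exact h2.2
        have hmapA : (Q : Subgroup ↥A0).map A0.subtype ≤ A0 := by
          rintro _ ⟨x, -, rfl⟩
          exact x.2
        have hle2 : (P : Subgroup G) ⊓ M ≤ A0 ⊓ M := le_inf (hle.trans hmapA) inf_le_right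
        have h1 : p ^ (Nat.card ↥M).factorization p ∣ Nat.card ↥(A0 ⊓ M) :=
          (pow_factorization_dvd_card_inf M p P).trans (Subgroup.card_dvd_of_le hle2)
        have hI0 : Nat.card ↥(A0 ⊓ M) ≠ 0 := Nat.card_pos.ne'
        have hm0 : Nat.card ↥M ≠ 0 := Nat.card_pos.ne'
        apply le_antisymm
        · exact (Nat.factorization_le_iff_dvd hI0 hm0).2 hIM p
        · exact (hpp.pow_dvd_iff_le_factorization hI0).1 h1
      · -- exponent p: contradiction
        exfalso
        have h1 : ¬ p ∣ (P : Subgroup G).index := Sylow.not_dvd_index P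
        have h2 : M.index ∣ (P : Subgroup G).index := Subgroup.index_dvd_of_le hPM
        have h3 : M.relIndex H ∣ M.index := Subgroup.relIndex_dvd_index_of_normal _ _
        exact h1 ((hpn.trans h3).trans h2)
    · -- case (ii)
      rw [if_neg (fun h => hpn h.1)]
      have hQM : (Q : Subgroup ↥A0).map A0.subtype ≤ M := by
        rintro _ ⟨x, hxQ, rfl⟩
        obtain ⟨k, hk⟩ := (IsPGroup.iff_orderOf.1 Q.2) ⟨x, hxQ⟩
        have hk' : orderOf ((x : ↥A0) : G) = p ^ k := by
          rw [Subgroup.orderOf_coe]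
          rw [← hk, ← Subgroup.orderOf_coe (⟨x, hxQ⟩ : ↥(Q : Subgroup ↥A0))]
        exact mem_of_orderOf_pow_of_not_dvd M H p hpn (hA0H x.2) hk'
      have hnd : ¬ p ∣ Nat.card ↥(A0 ⊓ M) := fun h => hkill hQM (h.trans hIA)
      exact Nat.factorization_eq_zero_of_not_dvd hnd
  · -- case (i)
    rw [if_neg (fun h => hpm h.2)]
    exact Nat.factorization_eq_zero_of_not_dvd (fun h => hpm (h.trans hIM))

/-- LEAF L5 modulo nilpotency (leaf L2). -/
theorem card_min_supplement_of_nilpotent_good {G : Type*} [Group G] [Finite G]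
    (M H A0 : Subgroup G) [M.Normal]
    (hCM : ∀ (p : ℕ) [Fact p.Prime], p ∣ Nat.card ↥M → ∀ P : Sylow p G,
      IsCyclic ↥(P : Subgroup G) ∨ (P : Subgroup G) ≤ M)
    (hsup : A0 ⊔ M = H) (hmin : ∀ X : Subgroup G, X ≤ A0 → X ⊔ M = H → X = A0)
    (hnil : Group.IsNilpotent ↥A0) :
    Nat.card ↥A0 = liftCard (Nat.card ↥M) (M.relIndex H) := by
  have key := factorization_card_inf_good M H A0 hCM hsup hmin hnil
  rw [card_eq_relIndex_mul M H A0 hsup, liftCard]
  congr 1
  have hI0 : Nat.card ↥(A0 ⊓ M) ≠ 0 := Nat.card_pos.ne'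
  have hm0 : Nat.card ↥M ≠ 0 := Nat.card_pos.ne'
  have hsupp : (Nat.card ↥(A0 ⊓ M)).primeFactors =
      (M.relIndex H).primeFactors ∩ (Nat.card ↥M).primeFactors := by
    ext p
    constructor
    · intro hp
      have hpp : p.Prime := Nat.prime_of_mem_primeFactors hp
      have hpd : p ∣ Nat.card ↥(A0 ⊓ M) := Nat.dvd_of_mem_primeFactors hp
      have hpos : 0 < (Nat.card ↥(A0 ⊓ M)).factorization p :=
        hpp.factorization_pos_of_dvd hI0 hpd
      rw [key p hpp] at hpos
      by_cases hc : p ∣ M.relIndex H ∧ p ∣ Nat.card ↥M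
      · rw [Finset.mem_inter]
        have hn0 : M.relIndex H ≠ 0 := by
          intro h0
          rw [h0] at hc
          have := card_eq_relIndex_mul M H A0 hsup
          rw [h0, zero_mul] at this
          exact (Nat.card_pos (α := ↥A0)).ne' this
        exact ⟨Nat.mem_primeFactors.2 ⟨hpp, hc.1, hn0⟩, Nat.mem_primeFactors.2 ⟨hpp, hc.2, hm0⟩⟩
      · rw [if_neg hc] at hpos
        exact absurd hpos (lt_irrefl 0)
    · intro hp
      rw [Finset.mem_inter] at hp
      have hpp : p.Prime := Nat.prime_of_mem_primeFactors hp.1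
      have hc : p ∣ M.relIndex H ∧ p ∣ Nat.card ↥M :=
        ⟨Nat.dvd_of_mem_primeFactors hp.1, Nat.dvd_of_mem_primeFactors hp.2⟩
      have h1 := key p hpp
      rw [if_pos hc] at h1
      have hpos : 0 < (Nat.card ↥M).factorization p := hpp.factorization_pos_of_dvd hm0 hc.2
      rw [← h1] at hpos
      rw [← Nat.support_factorization, Finsupp.mem_support_iff]
      exact hpos.ne'
  rw [← hsupp]
  conv_lhs => rw [← Nat.prod_factorization_pow_eq_self hI0]
  rw [Nat.prod_factorization_eq_prod_primeFactors]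
  refine Finset.prod_congr rfl fun p hp => ?_
  have hpp : p.Prime := Nat.prime_of_mem_primeFactors hp
  have hp' := hp
  rw [hsupp, Finset.mem_inter] at hp'
  have hc : p ∣ M.relIndex H ∧ p ∣ Nat.card ↥M :=
    ⟨Nat.dvd_of_mem_primeFactors hp'.1, Nat.dvd_of_mem_primeFactors hp'.2⟩
  rw [key p hpp, if_pos hc]


theorem map_conj_map_gen {G : Type*} [Group G] (M : Subgroup G) [M.Normal] (A0 : Subgroup G) (g : G) :
    (A0.map (MulAut.conj g).toMonoidHom).map (QuotientGroup.mk' M) =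
      (A0.map (QuotientGroup.mk' M)).map (MulAut.conj (QuotientGroup.mk' M g)).toMonoidHom := by
  rw [Subgroup.map_map, Subgroup.map_map]
  congr 1

theorem exists_abelian_lift_good {G : Type*} [Group G] [Finite G]
    (M : Subgroup G) [M.Normal]
    (hCM : ∀ (p : ℕ) [Fact p.Prime], p ∣ Nat.card ↥M → ∀ P : Sylow p G,
      IsCyclic ↥(P : Subgroup G) ∨ (P : Subgroup G) ≤ M)
    (A : Subgroup (G ⧸ M)) (hA : IsMulCommutative ↥A) :
    ∃ (A0 : Subgroup G) (n : ℕ), IsMulCommutative ↥A0 ∧ A0.map (QuotientGroup.mk' M) = A ∧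
      Nat.card ↥A0 = n ∧ n = liftCard (Nat.card ↥M) (Nat.card ↥A) := by
  obtain ⟨hMH, hidx, hab, hmap⟩ := Cfsg.Agent.Lib.Helper68.BQ.comap_facts M A hA
  obtain ⟨A0, hsup, hmin⟩ :=
    Cfsg.Agent.Lib.Helper65.BQ.exists_min_supplement M (A.comap (QuotientGroup.mk' M)) hMH
  refine ⟨A0, _, isMulCommutative_of_min_supplement_good M _ A0 hCM hsup hmin hab,
    hmap A0 hsup, rfl, ?_⟩
  rw [card_min_supplement_of_nilpotent_good M _ A0 hCM hsup hmin
    (Cfsg.Agent.Lib.Helper65.BQ.nilpotent_of_min_supplement M _ A0 hsup hmin hab), hidx]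

/-- **Part (I) of S3912.** Property B passes to `G ⧸ M` under (CM). -/
theorem main_good {G : Type*} [Group G] [Finite G]
    (hB : ∀ A B : Subgroup G, IsMulCommutative ↥A → IsMulCommutative ↥B → Nat.card ↥A = Nat.card ↥B →
      ∃ g : G, B = A.map (MulAut.conj g).toMonoidHom)
    (M : Subgroup G) [M.Normal]
    (hCM : ∀ (p : ℕ) [Fact p.Prime], p ∣ Nat.card ↥M → ∀ P : Sylow p G,
      IsCyclic ↥(P : Subgroup G) ∨ (P : Subgroup G) ≤ M) :
    ∀ A B : Subgroup (G ⧸ M), IsMulCommutative ↥A → IsMulCommutative ↥B → Nat.card ↥A = Nat.card ↥B →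
      ∃ g : G ⧸ M, B = A.map (MulAut.conj g).toMonoidHom := by
  intro A B hA hBc hcard
  obtain ⟨A0, n, hA0, hA0map, hA0card, hn⟩ := exists_abelian_lift_good M hCM A hA
  obtain ⟨B0, n', hB0, hB0map, hB0card, hn'⟩ := exists_abelian_lift_good M hCM B hBc
  obtain ⟨g, hg⟩ := hB A0 B0 hA0 hB0 (by rw [hA0card, hB0card, hn, hn', hcard])
  refine ⟨QuotientGroup.mk' M g, ?_⟩
  rw [← hB0map, hg, map_conj_map_gen, hA0map]

end Cfsg.Agent.Lib.Helper11.BQGen
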