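import Mathlib

/-!
# K-BQS (S3912), part (II): no generalized quaternion subgroup of order `≥ 16`

If `G` is solvable and every normal subgroup of `G` contains all elements whose order occurs in it
(S3909.1), then `G` has no subgroup isomorphic to `QuaternionGroup (2 ^ k)` with `k ≥ 2`.
Proof: by induction every term of the derived series contains all elements of order `4`.
-/

set_option autoImplicit false

namespace Cfsg.Agent.Lib.Helper11.BQQuat

open QuaternionGroup

theorem comm_xa {n : ℕ} [NeZero n] :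
    (xa 0 : QuaternionGroup n) * xa 1 * (xa 0)⁻¹ * (xa 1)⁻¹ = a 2 := by
  have h1 : (xa 0 : QuaternionGroup n) * xa 1 * (xa 0)⁻¹ * (xa 1)⁻¹
      = (xa 0 * xa 1) * (xa 1 * xa 0)⁻¹ := by group
  rw [h1, xa_mul_xa, xa_mul_xa]
  have h2 : (a ((n : ZMod (2 * n)) + 0 - 1) : QuaternionGroup n)⁻¹ = a (-((n : ZMod (2 * n)) + 0 - 1)) := by
    apply inv_eq_of_mul_eq_one_right
    rw [a_mul_a, add_neg_cancel, one_def]
  rw [h2, a_mul_a]
  congr 1
  ring

theorem orderOf_a_two {n : ℕ} (hn : 2 ≤ n) : orderOf (a 2 : QuaternionGroup n) = n := by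
  have : NeZero n := ⟨by omega⟩
  rw [orderOf_a]
  have hlt : 2 < 2 * n := by omega
  have hval : ((2 : ZMod (2 * n))).val = 2 := by
    have : ((2 : ℕ) : ZMod (2 * n)).val = 2 := ZMod.val_natCast_of_lt hlt
    simpa using this
  rw [hval]
  have : Nat.gcd (2 * n) 2 = 2 := by
    rw [Nat.gcd_comm]; exact Nat.gcd_eq_left (Dvd.intro n rfl)
  rw [this, Nat.mul_div_cancel_left n (by norm_num)]

/-- **Part (II).** -/
theorem quaternion_exponent_le_one {G : Type*} [Group G] [Finite G] (hsol : Group.IsSolvable G)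
    (h3909 : ∀ (K : Subgroup G), K.Normal → ∀ a : G, (∃ m ∈ K, orderOf m = orderOf a) → a ∈ K)
    (P : Subgroup G) (k : ℕ) (e : ↥P ≃* QuaternionGroup (2 ^ k)) : k ≤ 1 := by
  by_contra hk0
  have hk : 2 ≤ k := by omega
  have hn4 : 4 ≤ 2 ^ k := by
    calc 4 = 2 ^ 2 := by norm_num
      _ ≤ 2 ^ k := Nat.pow_le_pow_right (by norm_num) hk
  have : NeZero (2 ^ k) := ⟨by positivity⟩
  set u : G := ((e.symm (xa 0) : ↥P) : G) with hu
  set v : G := ((e.symm (xa 1) : ↥P) : G) with hv
  have hou : orderOf u = 4 := by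
    rw [hu, Subgroup.orderOf_coe, MulEquiv.orderOf_eq, orderOf_xa]
  have hov : orderOf v = 4 := by
    rw [hv, Subgroup.orderOf_coe, MulEquiv.orderOf_eq, orderOf_xa]
  set w : G := u * v * u⁻¹ * v⁻¹ with hw
  have hwe : w = ((e.symm (a 2) : ↥P) : G) := by
    rw [hw, hu, hv, ← comm_xa]
    simp only [map_mul, map_inv, Subgroup.coe_mul, Subgroup.coe_inv]
  have how : orderOf w = 2 ^ k := by
    rw [hwe, Subgroup.orderOf_coe, MulEquiv.orderOf_eq, orderOf_a_two (by omega)]
  set t : G := w ^ (2 ^ (k - 2)) with ht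
  have hot : orderOf t = 4 := by
    rw [ht, orderOf_pow, how]
    have h1 : 2 ^ k = 2 ^ (k - 2) * 4 := by
      rw [show (4 : ℕ) = 2 ^ 2 by norm_num, ← pow_add]
      congr 1; omega
    have h2 : Nat.gcd (2 ^ k) (2 ^ (k - 2)) = 2 ^ (k - 2) :=
      Nat.gcd_eq_right (pow_dvd_pow 2 (by omega))
    rw [h2]
    conv_lhs => rw [h1]
    exact Nat.mul_div_cancel_left 4 (by positivity)
  -- every term of the derived series contains all elements of order 4
  have key : ∀ i : ℕ, ∀ x : G, orderOf x = 4 → x ∈ derivedSeries G i := by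
    intro i
    induction i with
    | zero => intro x _; simp [derivedSeries_zero]
    | succ i ih =>
      intro x hx
      have hu' := ih u hou
      have hv' := ih v hov
      have hwm : w ∈ derivedSeries G (i + 1) := by
        rw [derivedSeries_succ, hw, ← commutatorElement_def]
        exact Subgroup.commutator_mem_commutator hu' hv'
      have htm : t ∈ derivedSeries G (i + 1) := Subgroup.pow_mem _ hwm _
      exact h3909 _ inferInstance x ⟨t, htm, by rw [hot, hx]⟩
  obtain ⟨N, hN⟩ := (Group.isSolvable_def G).1 hsol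
  have := key N u hou
  rw [hN, Subgroup.mem_bot] at this
  rw [this, orderOf_one] at hou
  omega

end Cfsg.Agent.Lib.Helper11.BQQuat
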