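import Mathlib

set_option autoImplicit false

namespace Cfsg.Agent.Lib.Helper11

variable {G : Type*} [Group G]

/-- powers of an element of order dividing three, indexed by `ZMod 3` -/
def pw3 (ρ : G) (i : ZMod 3) : G := ρ ^ i.val

theorem pw3_add {ρ : G} (h : ρ ^ 3 = 1) (i j : ZMod 3) : pw3 ρ (i + j) = pw3 ρ i * pw3 ρ j := by
  unfold pw3
  rw [ZMod.val_add, ← pow_eq_pow_mod _ h, pow_add]

theorem pw3_zero (ρ : G) : pw3 ρ 0 = 1 := by
  unfold pw3; simp

theorem pw3_one (ρ : G) : pw3 ρ 1 = ρ := by
  unfold pw3
  have : (1 : ZMod 3).val = 1 := rfl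
  rw [this, pow_one]

theorem pw3_sub {ρ : G} (h : ρ ^ 3 = 1) (i j : ZMod 3) :
    pw3 ρ (j - i) = (pw3 ρ i)⁻¹ * pw3 ρ j := by
  have := pw3_add h i (j - i)
  rw [add_sub_cancel] at this
  rw [this, inv_mul_cancel_left]

theorem pw3_conj {d e : G} (hd : d * d = 1) (he : e * e = 1) (i : ZMod 3) :
    pw3 (d * e) i * d = d * (pw3 (d * e) i)⁻¹ := by
  have hdinv : d⁻¹ = d := inv_eq_of_mul_eq_one_right hd
  have heinv : e⁻¹ = e := inv_eq_of_mul_eq_one_right he
  unfold pw3
  have h1 : d * (d * e)⁻¹ * d⁻¹ = d * e := by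
    rw [mul_inv_rev, hdinv, heinv, mul_assoc, mul_assoc, hd, mul_one]
  have h2 : d * ((d * e) ^ i.val)⁻¹ * d⁻¹ = (d * e) ^ i.val := by
    rw [← inv_pow, ← conj_pow, h1]
  calc (d * e) ^ i.val * d = (d * ((d * e) ^ i.val)⁻¹ * d⁻¹) * d := by rw [h2]
    _ = d * ((d * e) ^ i.val)⁻¹ := by rw [inv_mul_cancel_right]

/-- the map from the dihedral group of order six determined by two involutions whose product
cubes to one -/
def dihedralMap (d e : G) : DihedralGroup 3 → G
  | DihedralGroup.r i => pw3 (d * e) i
  | DihedralGroup.sr i => d * pw3 (d * e) i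

theorem dihedralMap_mul {d e : G} (hd : d * d = 1) (he : e * e = 1) (h3 : (d * e) ^ 3 = 1)
    (x y : DihedralGroup 3) :
    dihedralMap d e (x * y) = dihedralMap d e x * dihedralMap d e y := by
  cases x with
  | r i =>
    cases y with
    | r j => simp only [DihedralGroup.r_mul_r, dihedralMap, pw3_add h3]
    | sr j =>
      simp only [DihedralGroup.r_mul_sr, dihedralMap, pw3_sub h3]
      rw [← mul_assoc, ← mul_assoc, pw3_conj hd he]
  | sr i =>
    cases y with
    | r j => simp only [DihedralGroup.sr_mul_r, dihedralMap, pw3_add h3, mul_assoc]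
    | sr j =>
      simp only [DihedralGroup.sr_mul_sr, dihedralMap, pw3_sub h3]
      rw [mul_assoc d, ← mul_assoc _ d, pw3_conj hd he, ← mul_assoc, ← mul_assoc, hd, one_mul]

/-- the homomorphism from the dihedral group of order six -/
def dihedralHom (d e : G) (hd : d * d = 1) (he : e * e = 1) (h3 : (d * e) ^ 3 = 1) :
    DihedralGroup 3 →* G :=
  MonoidHom.mk' (dihedralMap d e) (dihedralMap_mul hd he h3)

theorem dihedralHom_injective {d e : G} (hd : d * d = 1) (he : e * e = 1)
    (h3 : (d * e) ^ 3 = 1) (hne : ¬ Commute d e) :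
    Function.Injective (dihedralHom d e hd he h3) := by
  have hdinv : d⁻¹ = d := inv_eq_of_mul_eq_one_right hd
  have heinv : e⁻¹ = e := inv_eq_of_mul_eq_one_right he
  have hρ : d * e ≠ 1 := by
    intro h
    apply hne
    have : e = d := by
      have := eq_inv_of_mul_eq_one_right h
      rw [hdinv] at this; exact this
    rw [this]
  have hρ2 : (d * e) ^ 2 ≠ 1 := by
    intro h
    apply hρ
    have : (d * e) ^ 3 = (d * e) ^ 2 * (d * e) := pow_succ _ _
    rw [h3, h, one_mul] at this
    exact this.symm
  rw [injective_iff_map_eq_one]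
  intro x hx
  change dihedralMap d e x = 1 at hx
  cases x with
  | r i =>
    simp only [dihedralMap, pw3] at hx
    rw [DihedralGroup.one_def]
    congr 1
    fin_cases i
    · rfl
    · exfalso; apply hρ
      have : (d * e) ^ 1 = 1 := hx
      simpa using this
    · exfalso; apply hρ2
      have : (d * e) ^ 2 = 1 := hx
      exact this
  | sr i =>
    exfalso
    simp only [dihedralMap] at hx
    -- d = (pw3 i)⁻¹ hence d commutes with d * e
    have h1 : d = pw3 (d * e) i := by
      have := eq_inv_of_mul_eq_one_right hx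
      rw [hdinv] at this
      exact this.symm
    have h2 : Commute d (d * e) := by
      have : Commute (pw3 (d * e) i) (d * e) := by
        unfold pw3; exact (Commute.refl _).pow_left _
      rw [← h1] at this; exact this
    apply hne
    have h3' : d * (d * e) = (d * e) * d := h2
    show d * e = e * d
    calc d * e = d * (d * (d * e)) := by rw [← mul_assoc d d, hd, one_mul]
      _ = d * ((d * e) * d) := by rw [h3']
      _ = e * d := by rw [← mul_assoc, ← mul_assoc, hd, one_mul]

theorem dihedralHom_range {d e : G} (hd : d * d = 1) (he : e * e = 1)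
    (h3 : (d * e) ^ 3 = 1) :
    (dihedralHom d e hd he h3).range = Subgroup.closure ({d, e} : Set G) := by
  apply le_antisymm
  · rintro _ ⟨x, rfl⟩
    have hdm : d ∈ Subgroup.closure ({d, e} : Set G) := Subgroup.subset_closure (by simp)
    have hem : e ∈ Subgroup.closure ({d, e} : Set G) := Subgroup.subset_closure (by simp)
    change dihedralMap d e x ∈ _
    cases x with
    | r i => exact pow_mem (mul_mem hdm hem) _
    | sr i => exact mul_mem hdm (pow_mem (mul_mem hdm hem) _)
  · rw [Subgroup.closure_le]
    rintro x hx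
    rcases hx with rfl | hx
    · refine ⟨DihedralGroup.sr 0, ?_⟩
      show dihedralMap x e (DihedralGroup.sr 0) = x
      simp [dihedralMap, pw3_zero]
    · rw [Set.mem_singleton_iff] at hx
      subst hx
      refine ⟨DihedralGroup.sr 1, ?_⟩
      show dihedralMap d x (DihedralGroup.sr 1) = x
      simp only [dihedralMap, pw3_one]
      rw [← mul_assoc, hd, one_mul]

/-- Two noncommuting involutions whose product cubes to one generate a copy of the dihedral
group of order six. -/
noncomputable def dihedralEquivClosure {d e : G} (hd : d * d = 1) (he : e * e = 1)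
    (h3 : (d * e) ^ 3 = 1) (hne : ¬ Commute d e) :
    DihedralGroup 3 ≃* Subgroup.closure ({d, e} : Set G) :=
  (MonoidHom.ofInjective (dihedralHom_injective hd he h3 hne)).trans
    (MulEquiv.subgroupCongr (dihedralHom_range hd he h3))

/-- The dihedral group of order six is the symmetric group of degree three. -/
theorem dihedral_three_equiv_perm : Nonempty (DihedralGroup 3 ≃* Equiv.Perm (Fin 3)) := by
  have hd : (Equiv.swap (0 : Fin 3) 1) * (Equiv.swap (0 : Fin 3) 1) = 1 := by decide
  have he : (Equiv.swap (1 : Fin 3) 2) * (Equiv.swap (1 : Fin 3) 2) = 1 := by decide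
  have h3 : ((Equiv.swap (0 : Fin 3) 1) * (Equiv.swap (1 : Fin 3) 2)) ^ 3 = 1 := by decide
  have hne : ¬ Commute (Equiv.swap (0 : Fin 3) 1) (Equiv.swap (1 : Fin 3) 2) := by
    unfold Commute SemiconjBy; decide
  have hinj := dihedralHom_injective hd he h3 hne
  have hbij : Function.Bijective (dihedralHom _ _ hd he h3) := by
    rw [Fintype.bijective_iff_injective_and_card]
    refine ⟨hinj, ?_⟩
    rw [DihedralGroup.card, Fintype.card_perm, Fintype.card_fin]
    rfl
  exact ⟨MulEquiv.ofBijective _ hbij⟩

theorem closure_pair_equiv_perm_three {d e : G} (hd : d * d = 1) (he : e * e = 1)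
    (h3 : (d * e) ^ 3 = 1) (hne : ¬ Commute d e) :
    Nonempty (Subgroup.closure ({d, e} : Set G) ≃* Equiv.Perm (Fin 3)) := by
  obtain ⟨f⟩ := dihedral_three_equiv_perm
  exact ⟨(dihedralEquivClosure hd he h3 hne).symm.trans f⟩

end Cfsg.Agent.Lib.Helper11
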