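import Mathlib
import Cfsg.Agent.Lib.Helper11.DihedralThree

set_option autoImplicit false
set_option linter.unusedSectionVars false
set_option linter.unusedSimpArgs false

namespace Cfsg.Agent.Lib.Helper11.CoxA3

variable {G : Type*} [Group G]

/-- The Coxeter relations of type `A₃` for three involutions `a - b - c`. -/
structure Rel (a b c : G) : Prop where
  aa : a * a = 1
  bb : b * b = 1
  cc : c * c = 1
  ac : a * c = c * a
  aba : a * b * a = b * a * b
  bcb : b * c * b = c * b * c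

namespace Rel

variable {a b c : G} (h : Rel a b c)
include h

theorem ainv : a⁻¹ = a := inv_eq_of_mul_eq_one_right h.aa
theorem binv : b⁻¹ = b := inv_eq_of_mul_eq_one_right h.bb
theorem cinv : c⁻¹ = c := inv_eq_of_mul_eq_one_right h.cc

theorem aa_t (t : G) : a * (a * t) = t := by rw [← mul_assoc, h.aa, one_mul]
theorem bb_t (t : G) : b * (b * t) = t := by rw [← mul_assoc, h.bb, one_mul]
theorem cc_t (t : G) : c * (c * t) = t := by rw [← mul_assoc, h.cc, one_mul]
theorem ca : c * a = a * c := h.ac.symm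
theorem ca_t (t : G) : c * (a * t) = a * (c * t) := by rw [← mul_assoc, h.ca, mul_assoc]
theorem bab : b * (a * b) = a * (b * a) := by rw [← mul_assoc, ← mul_assoc, h.aba]
theorem bab_t (t : G) : b * (a * (b * t)) = a * (b * (a * t)) := by
  rw [← mul_assoc a, ← mul_assoc b, h.bab]; simp only [mul_assoc]
theorem cbc : c * (b * c) = b * (c * b) := by rw [← mul_assoc, ← mul_assoc, h.bcb]
theorem cbc_t (t : G) : c * (b * (c * t)) = b * (c * (b * t)) := by
  rw [← mul_assoc b, ← mul_assoc c, h.cbc]; simp only [mul_assoc]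
theorem cbac : c * (b * (a * c)) = b * (c * (b * a)) := by
  rw [h.ac, h.cbc_t]
theorem cbac_t (t : G) : c * (b * (a * (c * t))) = b * (c * (b * (a * t))) := by
  rw [← h.ca_t, h.cbc_t]

/-- sample identity: `(ac) b (ac)` commutes with `b` -/
theorem conj_comm : (a * c) * b * (a * c)⁻¹ * b = b * ((a * c) * b * (a * c)⁻¹) := by
  simp only [mul_assoc, mul_one, one_mul, mul_inv_rev, h.ainv, h.binv, h.cinv, h.aa, h.bb, h.cc,
    h.aa_t, h.bb_t, h.cc_t, h.ca, h.ca_t, h.bab, h.bab_t, h.cbc, h.cbc_t, h.cbac, h.cbac_t]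

theorem cube : (a * b) ^ 3 = 1 := by
  rw [pow_succ, pow_two]
  simp only [mul_assoc, mul_one, one_mul, mul_inv_rev, h.ainv, h.binv, h.cinv, h.aa, h.bb, h.cc,
    h.aa_t, h.bb_t, h.cc_t, h.ca, h.ca_t, h.bab, h.bab_t, h.cbc, h.cbc_t, h.cbac, h.cbac_t]

theorem a_mem : a ∈ Subgroup.closure ({a, b} : Set G) :=
  Subgroup.subset_closure (by simp)

theorem b_mem : b ∈ Subgroup.closure ({a, b} : Set G) :=
  Subgroup.subset_closure (by simp)

/-- `c` is not in the subgroup generated by `a` and `b`. -/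
theorem c_notMem (hab : a * b ≠ b * a) (hac : a ≠ c) :
    c ∉ Subgroup.closure ({a, b} : Set G) := by
  intro hc
  rw [← Cfsg.Agent.Lib.Helper11.dihedralHom_range h.aa h.bb h.cube] at hc
  obtain ⟨y, hy⟩ := hc
  have hcomm : a * c = c * a := h.ac
  have hb1 : b ≠ 1 := by
    intro hb; apply hab; rw [hb, mul_one, one_mul]
  have key : ∀ i : ZMod 3, c = Cfsg.Agent.Lib.Helper11.pw3 (a * b) i → False := by
    intro i hi
    fin_cases i
    · -- c = 1
      have hc1 : c = 1 := by rw [hi]; exact Cfsg.Agent.Lib.Helper11.pw3_zero _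
      have := h.bcb
      rw [hc1, mul_one, one_mul, mul_one, h.bb] at this
      exact hb1 this.symm
    · -- c = a * b
      have hc1 : c = a * b := by rw [hi]; exact Cfsg.Agent.Lib.Helper11.pw3_one _
      rw [hc1] at hcomm
      -- a * (a * b) = a * b * a
      have h2 : b = a * b * a := by rw [← hcomm, ← mul_assoc, h.aa, one_mul]
      apply hab
      calc a * b = a * (a * b * a) := by rw [← h2]
        _ = b * a := by rw [← mul_assoc, ← mul_assoc, h.aa, one_mul]
    · -- c = (a*b)^2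
      have hc1 : c = a * b * (a * b) := by
        rw [hi]
        show (a * b) ^ (2 : ZMod 3).val = _
        have : (2 : ZMod 3).val = 2 := rfl
        rw [this, pow_two]
      rw [hc1] at hcomm
      have hL : a * (a * b * (a * b)) = b * (a * b) := by
        simp only [mul_assoc]; rw [h.aa_t]
      have hR : a * b * (a * b) * a = b := by
        calc a * b * (a * b) * a = (a * b * a) * (b * a) := by simp only [mul_assoc]
          _ = (b * a * b) * (b * a) := by rw [h.aba]
          _ = b := by simp only [mul_assoc]; rw [h.bb_t, h.aa, mul_one]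
      have h2 : b * (a * b) = b := by rw [← hL, hcomm, hR]
      apply hab
      have h3 : a * b = 1 := by
        have : b * (a * b) = b * 1 := by rw [mul_one]; exact h2
        exact mul_left_cancel this
      have h4 : a = b := by
        have : a * b = b * b := by rw [h3, h.bb]
        exact mul_right_cancel this
      rw [h4]
  cases y with
  | r i =>
    exact key i hy.symm
  | sr i =>
    -- c = a * pw3 (a*b) i
    have hi : c = a * Cfsg.Agent.Lib.Helper11.pw3 (a * b) i := hy.symm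
    fin_cases i
    · apply hac
      rw [hi]
      show a = a * Cfsg.Agent.Lib.Helper11.pw3 (a * b) 0
      rw [Cfsg.Agent.Lib.Helper11.pw3_zero, mul_one]
    · have hc1 : c = b := by
        rw [hi]
        show a * Cfsg.Agent.Lib.Helper11.pw3 (a * b) 1 = b
        rw [Cfsg.Agent.Lib.Helper11.pw3_one, ← mul_assoc, h.aa, one_mul]
      rw [hc1] at hcomm
      exact hab hcomm
    · have hc1 : c = b * a * b := by
        rw [hi]
        show a * (a * b) ^ (2 : ZMod 3).val = _
        have : (2 : ZMod 3).val = 2 := rfl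
        rw [this, pow_two]
        simp only [mul_assoc]
        rw [h.aa_t]
      rw [hc1, ← h.aba] at hcomm
      -- a * (a b a) = (a b a) a → b a = a b
      apply hab
      have : a * (a * b * a) = b * a := by rw [← mul_assoc, ← mul_assoc, h.aa, one_mul]
      rw [this] at hcomm
      rw [hcomm, mul_assoc, h.aa, mul_one]

end Rel

namespace Rel

variable {a b c : G} (h : Rel a b c)
include h

/-- `b` does not commute with `a * c` when `a ≠ c`. -/
theorem conj_ne (hac : a ≠ c) : (a * c) * b * (a * c)⁻¹ ≠ b := by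
  intro he
  apply hac
  -- b commutes with a * c
  have h1 : (a * c) * b = b * (a * c) := by
    have := congrArg (fun x => x * (a * c)) he
    simpa [mul_assoc] using this
  -- b (ac) b = ac
  have h2 : b * (a * c) * b = a * c := by
    rw [← h1, mul_assoc, h.bb, mul_one]
  -- b (ac) b = (aba)(cbc)
  have h3 : b * (a * c) * b = a * (b * (a * (c * (b * c)))) := by
    simp only [mul_assoc, mul_one, one_mul, mul_inv_rev, h.ainv, h.binv, h.cinv, h.aa, h.bb, h.cc,
      h.aa_t, h.bb_t, h.cc_t, h.ca, h.ca_t, h.bab, h.bab_t, h.cbc, h.cbc_t, h.cbac, h.cbac_t]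
  rw [h3] at h2
  -- cancel a: b a c b c = c
  have h4 : b * (a * (c * (b * c))) = c := mul_left_cancel h2
  -- cancel c on the right: b a c b = 1
  have h5 : b * (a * (c * b)) = 1 := by
    have : b * (a * (c * b)) * c = 1 * c := by rw [one_mul]; simpa [mul_assoc] using h4
    exact mul_right_cancel this
  -- a c = b b = 1
  have h6 : a * c = 1 := by
    have : b * (a * c) * b = b * 1 * b := by
      rw [mul_one, h.bb]; simpa [mul_assoc] using h5
    exact mul_left_cancel (mul_right_cancel this)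
  calc a = a * (c * c) := by rw [h.cc, mul_one]
    _ = c := by rw [← mul_assoc, h6, one_mul]

end Rel

namespace Rel

section iso

variable {a b c : G} (h : Rel a b c)

/-- the subgroup generated by `a` and `b` -/
abbrev S0 (a b : G) : Subgroup G := Subgroup.closure ({a, b} : Set G)

/-- the four cosets -/
def pt (a b c : G) : Fin 4 → G ⧸ S0 a b :=
  ![QuotientGroup.mk 1, QuotientGroup.mk c, QuotientGroup.mk (b * c),
    QuotientGroup.mk (a * b * c)]

theorem smul_mk' (g x : G) :
    g • (QuotientGroup.mk x : G ⧸ S0 a b) = QuotientGroup.mk (g * x) := rfl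

include h

theorem a_p0 : a • pt a b c 0 = pt a b c 0 := by
  show a • (QuotientGroup.mk 1 : G ⧸ S0 a b) = QuotientGroup.mk 1
  rw [smul_mk']
  apply QuotientGroup.eq.mpr
  simp only [mul_assoc, mul_one, one_mul, mul_inv_rev, h.ainv, h.binv, h.cinv, h.aa, h.bb, h.cc,
    h.aa_t, h.bb_t, h.cc_t, h.ca, h.ca_t, h.bab, h.bab_t, h.cbc, h.cbc_t, h.cbac, h.cbac_t]
  exact h.a_mem

theorem a_p1 : a • pt a b c 1 = pt a b c 1 := by
  show a • (QuotientGroup.mk c : G ⧸ S0 a b) = QuotientGroup.mk c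
  rw [smul_mk']
  apply QuotientGroup.eq.mpr
  simp only [mul_assoc, mul_one, one_mul, mul_inv_rev, h.ainv, h.binv, h.cinv, h.aa, h.bb, h.cc,
    h.aa_t, h.bb_t, h.cc_t, h.ca, h.ca_t, h.bab, h.bab_t, h.cbc, h.cbc_t, h.cbac, h.cbac_t]
  exact h.a_mem

theorem a_p2 : a • pt a b c 2 = pt a b c 3 := by
  show a • (QuotientGroup.mk (b * c) : G ⧸ S0 a b) = QuotientGroup.mk (a * b * c)
  rw [smul_mk', mul_assoc]

theorem a_p3 : a • pt a b c 3 = pt a b c 2 := by
  show a • (QuotientGroup.mk (a * b * c) : G ⧸ S0 a b) = QuotientGroup.mk (b * c)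
  rw [smul_mk', mul_assoc, h.aa_t]

theorem b_p0 : b • pt a b c 0 = pt a b c 0 := by
  show b • (QuotientGroup.mk 1 : G ⧸ S0 a b) = QuotientGroup.mk 1
  rw [smul_mk']
  apply QuotientGroup.eq.mpr
  simp only [mul_assoc, mul_one, one_mul, mul_inv_rev, h.ainv, h.binv, h.cinv, h.aa, h.bb, h.cc,
    h.aa_t, h.bb_t, h.cc_t, h.ca, h.ca_t, h.bab, h.bab_t, h.cbc, h.cbc_t, h.cbac, h.cbac_t]
  exact h.b_mem

theorem b_p1 : b • pt a b c 1 = pt a b c 2 := by
  show b • (QuotientGroup.mk c : G ⧸ S0 a b) = QuotientGroup.mk (b * c)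
  rw [smul_mk']

theorem b_p2 : b • pt a b c 2 = pt a b c 1 := by
  show b • (QuotientGroup.mk (b * c) : G ⧸ S0 a b) = QuotientGroup.mk c
  rw [smul_mk', h.bb_t]

theorem b_p3 : b • pt a b c 3 = pt a b c 3 := by
  show b • (QuotientGroup.mk (a * b * c) : G ⧸ S0 a b) = QuotientGroup.mk (a * b * c)
  rw [smul_mk']
  apply QuotientGroup.eq.mpr
  simp only [mul_assoc, mul_one, one_mul, mul_inv_rev, h.ainv, h.binv, h.cinv, h.aa, h.bb, h.cc,
    h.aa_t, h.bb_t, h.cc_t, h.ca, h.ca_t, h.bab, h.bab_t, h.cbc, h.cbc_t, h.cbac, h.cbac_t]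
  exact h.a_mem

theorem c_p0 : c • pt a b c 0 = pt a b c 1 := by
  show c • (QuotientGroup.mk 1 : G ⧸ S0 a b) = QuotientGroup.mk c
  rw [smul_mk', mul_one]

theorem c_p1 : c • pt a b c 1 = pt a b c 0 := by
  show c • (QuotientGroup.mk c : G ⧸ S0 a b) = QuotientGroup.mk 1
  rw [smul_mk', h.cc]

theorem c_p2 : c • pt a b c 2 = pt a b c 2 := by
  show c • (QuotientGroup.mk (b * c) : G ⧸ S0 a b) = QuotientGroup.mk (b * c)
  rw [smul_mk']
  apply QuotientGroup.eq.mpr
  simp only [mul_assoc, mul_one, one_mul, mul_inv_rev, h.ainv, h.binv, h.cinv, h.aa, h.bb, h.cc,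
    h.aa_t, h.bb_t, h.cc_t, h.ca, h.ca_t, h.bab, h.bab_t, h.cbc, h.cbc_t, h.cbac, h.cbac_t]
  exact h.b_mem

theorem c_p3 : c • pt a b c 3 = pt a b c 3 := by
  show c • (QuotientGroup.mk (a * b * c) : G ⧸ S0 a b) = QuotientGroup.mk (a * b * c)
  rw [smul_mk']
  apply QuotientGroup.eq.mpr
  simp only [mul_assoc, mul_one, one_mul, mul_inv_rev, h.ainv, h.binv, h.cinv, h.aa, h.bb, h.cc,
    h.aa_t, h.bb_t, h.cc_t, h.ca, h.ca_t, h.bab, h.bab_t, h.cbc, h.cbc_t, h.cbac, h.cbac_t]
  exact h.b_mem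

theorem gen_smul_pt (g : G) (hg : g ∈ ({a, b, c} : Set G)) (i : Fin 4) :
    ∃ j, g • pt a b c i = pt a b c j := by
  simp only [Set.mem_insert_iff, Set.mem_singleton_iff] at hg
  rcases hg with rfl | rfl | rfl
  · fin_cases i
    · exact ⟨0, h.a_p0⟩
    · exact ⟨1, h.a_p1⟩
    · exact ⟨3, h.a_p2⟩
    · exact ⟨2, h.a_p3⟩
  · fin_cases i
    · exact ⟨0, h.b_p0⟩
    · exact ⟨2, h.b_p1⟩
    · exact ⟨1, h.b_p2⟩
    · exact ⟨3, h.b_p3⟩
  · fin_cases i
    · exact ⟨1, h.c_p0⟩
    · exact ⟨0, h.c_p1⟩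
    · exact ⟨2, h.c_p2⟩
    · exact ⟨3, h.c_p3⟩

theorem gen_inv (g : G) (hg : g ∈ ({a, b, c} : Set G)) : g⁻¹ = g := by
  simp only [Set.mem_insert_iff, Set.mem_singleton_iff] at hg
  rcases hg with rfl | rfl | rfl
  · exact h.ainv
  · exact h.binv
  · exact h.cinv

theorem pt_surj (hgen : Subgroup.closure ({a, b, c} : Set G) = ⊤) :
    Function.Surjective (pt a b c) := by
  have key : ∀ g ∈ Subgroup.closure ({a, b, c} : Set G),
      (∀ i, ∃ j, g • pt a b c i = pt a b c j) ∧ (∀ i, ∃ j, g⁻¹ • pt a b c i = pt a b c j) := by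
    intro g hg
    induction hg using Subgroup.closure_induction with
    | mem x hx =>
      refine ⟨h.gen_smul_pt x hx, ?_⟩
      rw [h.gen_inv x hx]
      exact h.gen_smul_pt x hx
    | one => exact ⟨fun i => ⟨i, one_smul _ _⟩, fun i => ⟨i, by rw [inv_one, one_smul]⟩⟩
    | mul x y _ _ hx hy =>
      refine ⟨fun i => ?_, fun i => ?_⟩
      · obtain ⟨j, hj⟩ := hy.1 i
        obtain ⟨k, hk⟩ := hx.1 j
        exact ⟨k, by rw [mul_smul, hj, hk]⟩
      · obtain ⟨j, hj⟩ := hx.2 i
        obtain ⟨k, hk⟩ := hy.2 j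
        exact ⟨k, by rw [mul_inv_rev, mul_smul, hj, hk]⟩
    | inv x _ hx => exact ⟨hx.2, by rw [inv_inv]; exact hx.1⟩
  intro x
  induction x using QuotientGroup.induction_on with
  | H g =>
    obtain ⟨j, hj⟩ := (key g (by rw [hgen]; trivial)).1 0
    refine ⟨j, ?_⟩
    rw [← hj]
    show g • (QuotientGroup.mk 1 : G ⧸ S0 a b) = (QuotientGroup.mk g : G ⧸ S0 a b)
    rw [smul_mk', mul_one]

theorem pt_inj (hab : a * b ≠ b * a) (hac : a ≠ c) : Function.Injective (pt a b c) := by
  have hc := h.c_notMem hab hac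
  have ha := h.a_mem
  have hb := h.b_mem
  have e01 : pt a b c 0 ≠ pt a b c 1 := by
    intro he
    have hm : (1 : G)⁻¹ * c ∈ S0 a b := QuotientGroup.eq.mp he
    apply hc
    simpa using hm
  have e02 : pt a b c 0 ≠ pt a b c 2 := by
    intro he
    have hm : (1 : G)⁻¹ * (b * c) ∈ S0 a b := QuotientGroup.eq.mp he
    apply hc
    have : c = b * ((1 : G)⁻¹ * (b * c)) := by
      simp only [mul_assoc, mul_one, one_mul, mul_inv_rev, inv_one, h.ainv, h.binv, h.cinv, h.aa,
        h.bb, h.cc, h.aa_t, h.bb_t, h.cc_t, h.ca, h.ca_t, h.bab, h.bab_t, h.cbc, h.cbc_t, h.cbac,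
        h.cbac_t]
    rw [this]
    exact mul_mem hb hm
  have e03 : pt a b c 0 ≠ pt a b c 3 := by
    intro he
    have hm : (1 : G)⁻¹ * (a * b * c) ∈ S0 a b := QuotientGroup.eq.mp he
    apply hc
    have : c = b * (a * ((1 : G)⁻¹ * (a * b * c))) := by
      simp only [mul_assoc, mul_one, one_mul, mul_inv_rev, inv_one, h.ainv, h.binv, h.cinv, h.aa,
        h.bb, h.cc, h.aa_t, h.bb_t, h.cc_t, h.ca, h.ca_t, h.bab, h.bab_t, h.cbc, h.cbc_t, h.cbac,
        h.cbac_t]
    rw [this]
    exact mul_mem hb (mul_mem ha hm)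
  have e12 : pt a b c 1 ≠ pt a b c 2 := by
    intro he
    have hm : c⁻¹ * (b * c) ∈ S0 a b := QuotientGroup.eq.mp he
    apply hc
    have : c = b * (c⁻¹ * (b * c)) * b := by
      simp only [mul_assoc, mul_one, one_mul, mul_inv_rev, inv_one, h.ainv, h.binv, h.cinv, h.aa,
        h.bb, h.cc, h.aa_t, h.bb_t, h.cc_t, h.ca, h.ca_t, h.bab, h.bab_t, h.cbc, h.cbc_t, h.cbac,
        h.cbac_t]
    rw [this]
    exact mul_mem (mul_mem hb hm) hb
  have e13 : pt a b c 1 ≠ pt a b c 3 := by
    intro he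
    have hm : c⁻¹ * (a * b * c) ∈ S0 a b := QuotientGroup.eq.mp he
    apply hc
    have : c = b * (a * (c⁻¹ * (a * b * c))) * b := by
      simp only [mul_assoc, mul_one, one_mul, mul_inv_rev, inv_one, h.ainv, h.binv, h.cinv, h.aa,
        h.bb, h.cc, h.aa_t, h.bb_t, h.cc_t, h.ca, h.ca_t, h.bab, h.bab_t, h.cbc, h.cbc_t, h.cbac,
        h.cbac_t]
    rw [this]
    exact mul_mem (mul_mem hb (mul_mem ha hm)) hb
  have e23 : pt a b c 2 ≠ pt a b c 3 := by
    intro he
    have hm : (b * c)⁻¹ * (a * b * c) ∈ S0 a b := QuotientGroup.eq.mp he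
    apply hc
    have : c = b * (a * ((b * c)⁻¹ * (a * b * c))) * (a * b) := by
      simp only [mul_assoc, mul_one, one_mul, mul_inv_rev, inv_one, h.ainv, h.binv, h.cinv, h.aa,
        h.bb, h.cc, h.aa_t, h.bb_t, h.cc_t, h.ca, h.ca_t, h.bab, h.bab_t, h.cbc, h.cbc_t, h.cbac,
        h.cbac_t]
    rw [this]
    exact mul_mem (mul_mem hb (mul_mem ha hm)) (mul_mem ha hb)
  intro i j hij
  fin_cases i <;> fin_cases j <;> first | rfl | (exfalso; first | exact e01 hij | exact e02 hij | exact e03 hij | exact e12 hij | exact e13 hij | exact e23 hij | exact e01 hij.symm | exact e02 hij.symm | exact e03 hij.symm | exact e12 hij.symm | exact e13 hij.symm | exact e23 hij.symm)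

theorem swap_of_action (hab : a * b ≠ b * a) (hac : a ≠ c)
    (hgen : Subgroup.closure ({a, b, c} : Set G) = ⊤) [DecidableEq (G ⧸ S0 a b)] (g : G)
    (i j k l : Fin 4) (hij : i ≠ j) (hk : ∀ m, m = i ∨ m = j ∨ m = k ∨ m = l)
    (h1 : g • pt a b c i = pt a b c j) (h2 : g • pt a b c j = pt a b c i)
    (h3 : g • pt a b c k = pt a b c k) (h4 : g • pt a b c l = pt a b c l)
    (hki : k ≠ i) (hkj : k ≠ j) (hli : l ≠ i) (hlj : l ≠ j) :
    (MulAction.toPermHom G (G ⧸ S0 a b) g).IsSwap := by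
  have hinj := h.pt_inj hab hac
  refine ⟨pt a b c i, pt a b c j, fun he => hij (hinj he), ?_⟩
  ext z
  obtain ⟨m, rfl⟩ := h.pt_surj hgen z
  rw [MulAction.toPermHom_apply, MulAction.toPerm_apply]
  rcases hk m with rfl | rfl | rfl | rfl
  · rw [h1, Equiv.swap_apply_left]
  · rw [h2, Equiv.swap_apply_right]
  · rw [h3, Equiv.swap_apply_of_ne_of_ne (fun he => hki (hinj he)) (fun he => hkj (hinj he))]
  · rw [h4, Equiv.swap_apply_of_ne_of_ne (fun he => hli (hinj he)) (fun he => hlj (hinj he))]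

theorem equiv_perm_four [Finite G] (hab : a * b ≠ b * a) (hac : a ≠ c)
    (hgen : Subgroup.closure ({a, b, c} : Set G) = ⊤) :
    Nonempty (G ≃* Equiv.Perm (Fin 4)) := by
  classical
  let e : Fin 4 ≃ G ⧸ S0 a b :=
    Equiv.ofBijective (pt a b c) ⟨h.pt_inj hab hac, h.pt_surj hgen⟩
  have hsw : ∀ σ ∈ ({a, b, c} : Set G), (MulAction.toPermHom G (G ⧸ S0 a b) σ).IsSwap := by
    intro σ hσ
    simp only [Set.mem_insert_iff, Set.mem_singleton_iff] at hσ
    rcases hσ with rfl | rfl | rfl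
    · exact h.swap_of_action hab hac hgen _ 2 3 0 1 (by decide) (by decide) h.a_p2 h.a_p3 h.a_p0
        h.a_p1 (by decide) (by decide) (by decide) (by decide)
    · exact h.swap_of_action hab hac hgen _ 1 2 0 3 (by decide) (by decide) h.b_p1 h.b_p2 h.b_p0
        h.b_p3 (by decide) (by decide) (by decide) (by decide)
    · exact h.swap_of_action hab hac hgen _ 0 1 2 3 (by decide) (by decide) h.c_p0 h.c_p1 h.c_p2
        h.c_p3 (by decide) (by decide) (by decide) (by decide)
  have hsurj := surjective_of_isSwap_of_isPretransitive ({a, b, c} : Set G) hsw hgen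
  have hcardX : Nat.card (G ⧸ S0 a b) = 4 := by
    rw [← Nat.card_congr e]; simp
  have hcardS : Nat.card (S0 a b) = 6 := by
    rw [← Nat.card_congr (Cfsg.Agent.Lib.Helper11.dihedralEquivClosure h.aa h.bb h.cube
      (fun hc => hab hc)).toEquiv, DihedralGroup.nat_card]
  have hcardG : Nat.card G = 24 := by
    rw [Subgroup.card_eq_card_quotient_mul_card_subgroup (S0 a b), hcardX, hcardS]
  have hcardP : Nat.card (Equiv.Perm (G ⧸ S0 a b)) = 24 := by
    rw [Nat.card_congr (e.symm.permCongrHom.toEquiv), Nat.card_eq_fintype_card,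
      Fintype.card_perm, Fintype.card_fin]
    rfl
  have hbij := hsurj.bijective_of_nat_card_le (by rw [hcardG, hcardP])
  exact ⟨(MulEquiv.ofBijective _ hbij).trans e.symm.permCongrHom⟩

end iso

end Rel

end Cfsg.Agent.Lib.Helper11.CoxA3
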