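import Mathlib

/-!
# K-GS leaf G2 (S4840): an element of odd order centralizes a normal generalized quaternion subgroup
of order at least 16.
-/

set_option autoImplicit false
set_option linter.unusedSectionVars false

namespace Cfsg.Agent.Lib.Helper11.GS

open QuaternionGroup

universe u

theorem a_pow_gen {N : ℕ} (k : ZMod (2 * N)) (m : ℕ) :
    (a k : QuaternionGroup N) ^ m = a ((m : ZMod (2 * N)) * k) := by
  induction m with
  | zero => rw [pow_zero, Nat.cast_zero, zero_mul, one_def]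
  | succ m ih =>
    rw [pow_succ, ih, a_mul_a]
    congr 1
    push_cast
    ring

/-- an automorphism of odd order of `QuaternionGroup (2 ^ n)`, `n ≥ 2`, is trivial. -/
theorem aut_eq_one_of_odd (n : ℕ) (hn : 2 ≤ n) (ψ : MulAut (QuaternionGroup (2 ^ n))) (t : ℕ)
    (ht : Odd t) (hψ : ψ ^ t = 1) : ψ = 1 := by
  have hN : NeZero (2 ^ n) := ⟨by positivity⟩
  have hN4 : 4 ≤ 2 ^ n := by
    calc 4 = 2 ^ 2 := by norm_num
      _ ≤ 2 ^ n := Nat.pow_le_pow_right (by norm_num) hn
  have hmod : 2 * 2 ^ n = 2 ^ (n + 1) := by rw [pow_succ]; ring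
  -- Step 1
  obtain ⟨k, hk⟩ : ∃ k, ψ (a 1) = a k := by
    rcases h : ψ (a 1) with k | j
    · exact ⟨k, rfl⟩
    · exfalso
      have h1 : orderOf (ψ (a 1)) = 2 * 2 ^ n := by rw [MulEquiv.orderOf_eq, orderOf_a_one]
      rw [h, orderOf_xa] at h1
      omega
  -- Step 2
  have h2 : ∀ i : ZMod (2 * 2 ^ n), ψ (a i) = a (k * i) := by
    intro i
    have hi : (a i : QuaternionGroup (2 ^ n)) = (a 1) ^ i.val := by
      rw [a_pow_gen, mul_one, ZMod.natCast_val, ZMod.cast_id', id]
    rw [hi, map_pow, hk, a_pow_gen, ZMod.natCast_val, ZMod.cast_id', id, mul_comm]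
  -- Step 3
  have h3 : ∀ m : ℕ, (ψ ^ m) (a 1) = a (k ^ m) := by
    intro m
    induction m with
    | zero => simp
    | succ m ih =>
      rw [pow_succ', MulAut.mul_apply, ih, h2, pow_succ']
  have hkt : k ^ t = 1 := by
    have := h3 t
    rw [hψ, MulAut.one_apply] at this
    have h' := this.symm
    injection h'
  -- Step 4
  have ht0 : t ≠ 0 := by
    rintro rfl
    exact (Nat.not_odd_iff_even.2 (by decide : Even 0)) ht
  have hk1 : k = 1 := by
    set u : (ZMod (2 * 2 ^ n))ˣ := Units.ofPowEqOne k t hkt ht0 with hu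
    have hut : u ^ t = 1 := Units.pow_ofPowEqOne hkt ht0
    have hutot : u ^ Nat.totient (2 * 2 ^ n) = 1 := ZMod.pow_totient u
    have htot : Nat.totient (2 * 2 ^ n) = 2 ^ n := by
      rw [hmod, Nat.totient_prime_pow Nat.prime_two (Nat.succ_pos n)]
      simp
    rw [htot] at hutot
    have hd1 : orderOf u ∣ t := orderOf_dvd_of_pow_eq_one hut
    have hd2 : orderOf u ∣ 2 ^ n := orderOf_dvd_of_pow_eq_one hutot
    have hcop : Nat.Coprime t (2 ^ n) := by
      apply Nat.Coprime.pow_right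
      exact (Nat.coprime_comm.1 (Nat.coprime_two_left.2 ht))
    have h1 : orderOf u = 1 := Nat.eq_one_of_dvd_coprimes hcop hd1 hd2
    have hu1 : u = 1 := orderOf_eq_one_iff.1 h1
    have : (u : ZMod (2 * 2 ^ n)) = 1 := by rw [hu1]; rfl
    rwa [hu, Units.val_ofPowEqOne] at this
  -- Step 5
  have h5 : ∀ i : ZMod (2 * 2 ^ n), ψ (a i) = a i := by
    intro i; rw [h2, hk1, one_mul]
  -- Step 6
  obtain ⟨j, hj⟩ : ∃ j, ψ (xa 0) = xa j := by
    rcases h : ψ (xa 0) with m | j
    · exfalso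
      have : ψ (xa 0) = ψ (a m) := by rw [h, h5]
      have h' := ψ.injective this
      cases h'
    · exact ⟨j, rfl⟩
  -- Step 7
  have h7 : ∀ i : ZMod (2 * 2 ^ n), ψ (xa i) = xa (j + i) := by
    intro i
    have : (xa i : QuaternionGroup (2 ^ n)) = xa 0 * a i := by rw [xa_mul_a, zero_add]
    rw [this, map_mul, hj, h5, xa_mul_a]
  -- Step 8
  have h8 : ∀ m : ℕ, (ψ ^ m) (xa 0) = xa ((m : ZMod (2 * 2 ^ n)) * j) := by
    intro m
    induction m with
    | zero => simp
    | succ m ih =>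
      rw [pow_succ', MulAut.mul_apply, ih, h7]
      congr 1
      push_cast
      ring
  have htj : (t : ZMod (2 * 2 ^ n)) * j = 0 := by
    have := h8 t
    rw [hψ, MulAut.one_apply] at this
    have h' := this.symm
    injection h'
  have hj0 : j = 0 := by
    have hcop : Nat.Coprime t (2 * 2 ^ n) := by
      rw [hmod]
      apply Nat.Coprime.pow_right
      exact (Nat.coprime_comm.1 (Nat.coprime_two_left.2 ht))
    have hunit : IsUnit ((t : ℕ) : ZMod (2 * 2 ^ n)) := (ZMod.isUnit_iff_coprime t (2 * 2 ^ n)).2 hcop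
    exact (hunit.mul_right_eq_zero).1 htj
  -- Step 9
  ext q
  rw [MulAut.one_apply]
  rcases q with i | i
  · exact h5 i
  · rw [h7, hj0, zero_add]

variable {Γ : Type u} [Group Γ] [Finite Γ]

/-- G2. -/
theorem centralizes_of_quaternion_big (R : Subgroup Γ) [R.Normal] (n : ℕ) (hn : 2 ≤ n)
    (e : R ≃* QuaternionGroup (2 ^ n)) (x : Γ) (hx : Odd (orderOf x)) :
    x ∈ Subgroup.centralizer (R : Set Γ) := by
  set ψ : MulAut (QuaternionGroup (2 ^ n)) := e.symm.trans ((MulAut.conjNormal x).trans e) with hψ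
  have hpow : ∀ (m : ℕ) (q : QuaternionGroup (2 ^ n)),
      (ψ ^ m) q = e (MulAut.conjNormal (x ^ m) (e.symm q)) := by
    intro m
    induction m with
    | zero => intro q; simp
    | succ m ih =>
      intro q
      rw [pow_succ', MulAut.mul_apply, ih, pow_succ', map_mul, MulAut.mul_apply]
      simp [hψ]
  have hψt : ψ ^ orderOf x = 1 := by
    ext q
    rw [hpow, pow_orderOf_eq_one, map_one, MulAut.one_apply, MulAut.one_apply, MulEquiv.apply_symm_apply]
  have hψ1 : ψ = 1 := aut_eq_one_of_odd n hn ψ (orderOf x) hx hψt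
  rw [Subgroup.mem_centralizer_iff]
  intro r hr
  have h1 : ψ (e ⟨r, hr⟩) = e ⟨r, hr⟩ := by rw [hψ1, MulAut.one_apply]
  have h2 : MulAut.conjNormal x (⟨r, hr⟩ : R) = ⟨r, hr⟩ := by
    apply e.injective
    simpa [hψ] using h1
  have h3 := congrArg (fun s : R => (s : Γ)) h2
  simp only [MulAut.conjNormal_apply] at h3
  -- h3 : x * r * x⁻¹ = r
  calc r * x = (x * r * x⁻¹) * x := by rw [h3]
    _ = x * r := by group

end Cfsg.Agent.Lib.Helper11.GS
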