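import Cfsg.Prelude.Def_Sporadic_a

set_option autoImplicit false

namespace Cfsg.Agent.Lib.Helper11

open Cfsg

/-- the standard inner product of binary words of length 24 -/
def dot2 (v w : GolayPt → ZMod 2) : ZMod 2 := ∑ i, v i * w i

theorem dot2_add_left (u v w : GolayPt → ZMod 2) : dot2 (u + v) w = dot2 u w + dot2 v w := by
  simp [dot2, add_mul, Finset.sum_add_distrib]

theorem dot2_add_right (u v w : GolayPt → ZMod 2) : dot2 u (v + w) = dot2 u v + dot2 u w := by
  simp [dot2, mul_add, Finset.sum_add_distrib]

theorem dot2_smul_left (a : ZMod 2) (v w : GolayPt → ZMod 2) :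
    dot2 (a • v) w = a * dot2 v w := by
  unfold dot2
  rw [Finset.mul_sum]
  apply Finset.sum_congr rfl
  intro i _
  simp [mul_assoc]

theorem dot2_smul_right (a : ZMod 2) (v w : GolayPt → ZMod 2) :
    dot2 v (a • w) = a * dot2 v w := by
  unfold dot2
  rw [Finset.mul_sum]
  apply Finset.sum_congr rfl
  intro i _
  simp [mul_left_comm]

theorem dot2_zero_left (w : GolayPt → ZMod 2) : dot2 0 w = 0 := by simp [dot2]

theorem dot2_zero_right (w : GolayPt → ZMod 2) : dot2 w 0 = 0 := by simp [dot2]

set_option maxRecDepth 100000 in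
theorem dot2_qr_qr : ∀ s t : ZMod 23, dot2 (qrWord s) (qrWord t) = 0 := by decide

set_option maxRecDepth 100000 in
theorem dot2_qr_one : ∀ t : ZMod 23, dot2 (qrWord t) 1 = 0 := by decide

set_option maxRecDepth 100000 in
theorem dot2_one_qr : ∀ t : ZMod 23, dot2 1 (qrWord t) = 0 := by decide

set_option maxRecDepth 100000 in
theorem dot2_one_one : dot2 (1 : GolayPt → ZMod 2) 1 = 0 := by decide

set_option maxRecDepth 100000 in
theorem card_support_qr : ∀ t : ZMod 23, 4 ∣ (support₂ (qrWord t)).card := by decide

set_option maxRecDepth 100000 in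
theorem card_support_one : 4 ∣ (support₂ (1 : GolayPt → ZMod 2)).card := by decide

theorem dot2_gen {v w : GolayPt → ZMod 2} (hv : v ∈ Set.range qrWord ∪ {1})
    (hw : w ∈ Set.range qrWord ∪ {1}) : dot2 v w = 0 := by
  rcases hv with ⟨s, rfl⟩ | hv
  · rcases hw with ⟨t, rfl⟩ | hw
    · exact dot2_qr_qr s t
    · rw [Set.mem_singleton_iff] at hw; subst hw; exact dot2_qr_one s
  · rw [Set.mem_singleton_iff] at hv; subst hv
    rcases hw with ⟨t, rfl⟩ | hw
    · exact dot2_one_qr t
    · rw [Set.mem_singleton_iff] at hw; subst hw; exact dot2_one_one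

/-- The code is self-orthogonal. -/
theorem dot2_code {v w : GolayPt → ZMod 2} (hv : v ∈ golayCode) (hw : w ∈ golayCode) :
    dot2 v w = 0 := by
  unfold golayCode at hv hw
  induction hv using Submodule.span_induction with
  | mem x hx =>
    induction hw using Submodule.span_induction with
    | mem y hy => exact dot2_gen hx hy
    | zero => exact dot2_zero_right _
    | add y z _ _ hy hz => rw [dot2_add_right, hy, hz, add_zero]
    | smul a y _ hy => rw [dot2_smul_right, hy, mul_zero]
  | zero => exact dot2_zero_left _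
  | add x y _ _ hx hy => rw [dot2_add_left, hx, hy, add_zero]
  | smul a x _ hx => rw [dot2_smul_left, hx, mul_zero]

theorem zmod2_mul_ite : ∀ a b : ZMod 2, a * b = if (a ≠ 0 ∧ b ≠ 0) then 1 else 0 := by decide

theorem card_inter_cast (v w : GolayPt → ZMod 2) :
    (((support₂ v ∩ support₂ w).card : ℕ) : ZMod 2) = dot2 v w := by
  unfold dot2 support₂
  rw [← Finset.filter_and, Finset.card_filter]
  push_cast
  apply Finset.sum_congr rfl
  intro i _
  rw [zmod2_mul_ite]

/-- Two words of the code meet evenly. -/
theorem even_card_inter {v w : GolayPt → ZMod 2} (hv : v ∈ golayCode) (hw : w ∈ golayCode) :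
    Even (support₂ v ∩ support₂ w).card := by
  rw [← ZMod.natCast_eq_zero_iff_even, card_inter_cast, dot2_code hv hw]

theorem zmod2_ind_add : ∀ a b : ZMod 2,
    (if a + b ≠ 0 then 1 else 0 : ℕ) + 2 * (if (a ≠ 0 ∧ b ≠ 0) then 1 else 0) =
      (if a ≠ 0 then 1 else 0) + (if b ≠ 0 then 1 else 0) := by decide

theorem card_support_add (v w : GolayPt → ZMod 2) :
    (support₂ (v + w)).card + 2 * (support₂ v ∩ support₂ w).card =
      (support₂ v).card + (support₂ w).card := by
  unfold support₂
  rw [← Finset.filter_and]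
  simp only [Finset.card_filter]
  rw [Finset.mul_sum, ← Finset.sum_add_distrib, ← Finset.sum_add_distrib]
  apply Finset.sum_congr rfl
  intro i _
  exact zmod2_ind_add (v i) (w i)

theorem zmod2_smul_cases : ∀ a : ZMod 2, a = 0 ∨ a = 1 := by decide

/-- The code is doubly even. -/
theorem four_dvd_card_support {w : GolayPt → ZMod 2} (hw : w ∈ golayCode) :
    4 ∣ (support₂ w).card := by
  unfold golayCode at hw
  induction hw using Submodule.span_induction with
  | mem x hx =>
    rcases hx with ⟨t, rfl⟩ | hx
    · exact card_support_qr t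
    · rw [Set.mem_singleton_iff] at hx; subst hx; exact card_support_one
  | zero => simp [support₂]
  | add x y hx hy hx4 hy4 =>
    have h1 := card_support_add x y
    have h2 := even_card_inter (v := x) (w := y) hx hy
    obtain ⟨k, hk⟩ := h2
    omega
  | smul a x _ hx =>
    rcases zmod2_smul_cases a with rfl | rfl
    · simp [support₂]
    · simpa using hx

/-- supports of sums are symmetric differences -/
theorem zmod2_add_ne_zero : ∀ a b : ZMod 2, a + b ≠ 0 ↔ (a ≠ 0 ↔ b = 0) := by decide

end Cfsg.Agent.Lib.Helper11
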