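import Mathlib
import Cfsg.Prelude.Def_HallClasses
import Cfsg.Agent.Lib.Helper38.HallAlt.Defs
import Cfsg.Agent.Lib.Helper01.Basic

/-!
# Keystones 253816 (K-HB-L8) and 253825 (K-HB-L5) of the HallAlt pack (architect helper38)
-/

set_option autoImplicit false
open Cfsg

namespace Cfsg.Agent.Lib.Helper11.HallAlt

open Cfsg.Agent.Lib.Helper38.HallAlt

/-- for a normal subgroup `A` of a finite group, `[A : M ∩ A]` divides `[G : M]`. -/
theorem relIndex_dvd_index_of_normal_right {G : Type*} [Group G] [Finite G] (M A : Subgroup G)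
    [A.Normal] : M.relIndex A ∣ M.index := by
  have h1 := Cfsg.Agent.Lib.Helper01.card_sup_mul_card_inf A M
  have h2 : M.relIndex A * Nat.card (A ⊓ M : Subgroup G) = Nat.card A := by
    have := (M.subgroupOf A).index_mul_card
    rw [Cfsg.Agent.Lib.Helper01.card_subgroupOf_eq_card_inf] at this
    rw [inf_comm]; exact this
  have h3 : M.relIndex (M ⊔ A) * Nat.card M = Nat.card (M ⊔ A : Subgroup G) := by
    have := (M.subgroupOf (M ⊔ A)).index_mul_card
    rwa [Cfsg.Agent.Lib.Helper01.card_subgroupOf_of_le le_sup_left] at this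
  have hpos1 : 0 < Nat.card (A ⊓ M : Subgroup G) := Nat.card_pos
  have hpos2 : 0 < Nat.card M := Nat.card_pos
  have heq : M.relIndex A = M.relIndex (M ⊔ A) := by
    have : M.relIndex A * (Nat.card (A ⊓ M : Subgroup G) * Nat.card M) =
        M.relIndex (M ⊔ A) * (Nat.card (A ⊓ M : Subgroup G) * Nat.card M) := by
      calc M.relIndex A * (Nat.card (A ⊓ M : Subgroup G) * Nat.card M)
          = (M.relIndex A * Nat.card (A ⊓ M : Subgroup G)) * Nat.card M := by ring
        _ = Nat.card A * Nat.card M := by rw [h2]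
        _ = Nat.card (M ⊔ A : Subgroup G) * Nat.card (A ⊓ M : Subgroup G) := h1.symm
        _ = (M.relIndex (M ⊔ A) * Nat.card M) * Nat.card (A ⊓ M : Subgroup G) := by rw [h3]
        _ = M.relIndex (M ⊔ A) * (Nat.card (A ⊓ M : Subgroup G) * Nat.card M) := by ring
    exact Nat.eq_of_mul_eq_mul_right (Nat.mul_pos hpos1 hpos2) this
  rw [heq]
  exact Subgroup.relIndex_dvd_index_of_le le_sup_left

/-- **K-HB-L8** (253816). -/
theorem altHall_inf_of_isPiHall (π : Set ℕ) {α : Type} [Finite α] (M₀ : Subgroup (Equiv.Perm α))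
    (h : IsPiHall π M₀) : AltHall π (M₀ ⊓ altSub α) := by
  refine ⟨inf_le_right, ?_, ?_⟩
  · intro p hp hdvd
    exact h.1 p hp (dvd_trans hdvd (Subgroup.card_dvd_of_le inf_le_left))
  · intro p hp hpπ hdvd
    rw [Subgroup.inf_relIndex_right] at hdvd
    exact h.2 p hp hpπ (dvd_trans hdvd (relIndex_dvd_index_of_normal_right M₀ (altSub α)))

/-- conjugation by an element maps a normal subgroup onto itself -/
theorem map_conj_eq_of_normal {G : Type*} [Group G] (N : Subgroup G) [N.Normal] (g : G) :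
    N.map (MulAut.conj g).toMonoidHom = N := by
  ext x
  constructor
  · rintro ⟨y, hy, rfl⟩
    simpa [MulAut.conj_apply] using ‹N.Normal›.conj_mem y hy g
  · intro hx
    refine ⟨g⁻¹ * x * g, ?_, by simp [MulAut.conj_apply, mul_assoc]⟩
    have := ‹N.Normal›.conj_mem x hx g⁻¹
    simpa using this

/-- conjugation by an element of the subgroup maps it onto itself -/
theorem map_conj_eq_of_mem {G : Type*} [Group G] (M : Subgroup G) {m : G} (hm : m ∈ M) :
    M.map (MulAut.conj m).toMonoidHom = M := by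
  ext x
  constructor
  · rintro ⟨y, hy, rfl⟩
    simpa [MulAut.conj_apply] using M.mul_mem (M.mul_mem hm hy) (M.inv_mem hm)
  · intro hx
    refine ⟨m⁻¹ * x * m, M.mul_mem (M.mul_mem (M.inv_mem hm) hx) hm, by
      simp [MulAut.conj_apply, mul_assoc]⟩

/-- **K-HB-L5** (253825). -/
theorem alt_conj_of_conj {α : Type} [Finite α] (M₀ M₀' : Subgroup (Equiv.Perm α)) (g : Equiv.Perm α)
    (hg : M₀' = M₀.map (MulAut.conj g).toMonoidHom) (hodd : ¬ M₀ ≤ altSub α) :
    ∃ a ∈ altSub α, M₀' ⊓ altSub α = (M₀ ⊓ altSub α).map (MulAut.conj a).toMonoidHom := by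
  classical
  let _ := Fintype.ofFinite α
  -- first: some `a ∈ A` with `M₀' = a M₀ a⁻¹`
  have key : ∃ a ∈ altSub α, M₀' = M₀.map (MulAut.conj a).toMonoidHom := by
    by_cases hgA : g ∈ altSub α
    · exact ⟨g, hgA, hg⟩
    · obtain ⟨m, hmM, hmA⟩ := SetLike.not_le_iff_exists.mp hodd
      refine ⟨g * m, ?_, ?_⟩
      · rw [mem_altSub_iff] at hgA hmA ⊢
        have h1 : Equiv.Perm.sign g = -1 := (Int.units_eq_one_or _).resolve_left hgA
        have h2 : Equiv.Perm.sign m = -1 := (Int.units_eq_one_or _).resolve_left hmA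
        rw [map_mul, h1, h2]; simp
      · rw [hg]
        have : (MulAut.conj (g * m)).toMonoidHom =
            (MulAut.conj g).toMonoidHom.comp (MulAut.conj m).toMonoidHom := by
          ext x; simp [MulAut.conj_apply, mul_assoc]
        rw [this, ← Subgroup.map_map, map_conj_eq_of_mem M₀ hmM]
  obtain ⟨a, haA, ha⟩ := key
  refine ⟨a, haA, ?_⟩
  rw [Subgroup.map_inf _ _ _ (MulAut.conj a).injective, map_conj_eq_of_normal (altSub α) a, ha]

end Cfsg.Agent.Lib.Helper11.HallAlt
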