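import Cfsg.Agent.S5656

/-!
Abstract non-degenerate unitary forms (`Cfsg.Geo.IsUnitaryFormPow 2 f`) on `κ → F` over the field
with four elements: semilinearity on the right, the Gram formula, norms are `0` or `1`, and
Gram–Schmidt extension of orthonormal families.
-/

set_option autoImplicit false
set_option linter.unusedSectionVars false
open Matrix

namespace Cfsg.Agent.Lib.Helper11.HermF4

open Cfsg.Agent.S5656

section
variable {F : Type*} [Field F] [Fintype F] {κ : Type}

theorem sq_add (hF : Fintype.card F = 4) (a b : F) : (a + b) ^ 2 = a ^ 2 + b ^ 2 := by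
  have h2 := two_eq_zero hF
  linear_combination (a * b) * h2

theorem sq_sum (hF : Fintype.card F = 4) {α : Type*} (s : Finset α) (c : α → F) :
    (∑ a ∈ s, c a) ^ 2 = ∑ a ∈ s, (c a) ^ 2 := by
  classical
  induction s using Finset.induction_on with
  | empty => simp
  | insert a s ha ih => rw [Finset.sum_insert ha, Finset.sum_insert ha, sq_add hF, ih]

theorem pow_four (hF : Fintype.card F = 4) (x : F) : (x ^ 2) ^ 2 = x := by
  have := FiniteField.pow_card x
  rw [hF] at this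
  rw [← pow_mul]
  exact this

theorem uf_zero_left (f : (κ → F) → (κ → F) → F) (hf : Cfsg.Geo.IsUnitaryFormPow 2 f)
    (v : κ → F) : f 0 v = 0 := by
  have := hf.smul_left 0 0 v
  rw [zero_smul, zero_mul] at this
  exact this

theorem uf_zero_right (f : (κ → F) → (κ → F) → F) (hf : Cfsg.Geo.IsUnitaryFormPow 2 f)
    (v : κ → F) : f v 0 = 0 := by
  rw [hf.herm, uf_zero_left f hf]
  norm_num

theorem uf_add_right (hF : Fintype.card F = 4) (f : (κ → F) → (κ → F) → F)
    (hf : Cfsg.Geo.IsUnitaryFormPow 2 f) (v x y : κ → F) : f v (x + y) = f v x + f v y := by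
  rw [hf.herm, hf.add_left, sq_add hF, ← hf.herm, ← hf.herm]

theorem uf_smul_right (f : (κ → F) → (κ → F) → F)
    (hf : Cfsg.Geo.IsUnitaryFormPow 2 f) (c : F) (v x : κ → F) : f v (c • x) = c ^ 2 * f v x := by
  rw [hf.herm, hf.smul_left, mul_pow, ← hf.herm]

theorem uf_sum_left (f : (κ → F) → (κ → F) → F) (hf : Cfsg.Geo.IsUnitaryFormPow 2 f)
    {α : Type*} (s : Finset α) (c : α → F) (v : α → κ → F) (w : κ → F) :
    f (∑ a ∈ s, c a • v a) w = ∑ a ∈ s, c a * f (v a) w := by
  classical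
  induction s using Finset.induction_on with
  | empty => simp [uf_zero_left f hf]
  | insert a s ha ih =>
    rw [Finset.sum_insert ha, Finset.sum_insert ha, hf.add_left, hf.smul_left, ih]

theorem uf_sum_right (hF : Fintype.card F = 4) (f : (κ → F) → (κ → F) → F)
    (hf : Cfsg.Geo.IsUnitaryFormPow 2 f)
    {α : Type*} (s : Finset α) (c : α → F) (v : α → κ → F) (w : κ → F) :
    f w (∑ a ∈ s, c a • v a) = ∑ a ∈ s, (c a) ^ 2 * f w (v a) := by
  classical
  induction s using Finset.induction_on with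
  | empty => simp [uf_zero_right f hf]
  | insert a s ha ih =>
    rw [Finset.sum_insert ha, Finset.sum_insert ha, uf_add_right hF f hf, uf_smul_right f hf, ih]

theorem uf_self_cases (hF : Fintype.card F = 4) (f : (κ → F) → (κ → F) → F)
    (hf : Cfsg.Geo.IsUnitaryFormPow 2 f) (v : κ → F) : f v v = 0 ∨ f v v = 1 :=
  fixed_cases hF _ (hf.herm v v).symm

theorem uf_swap0 (f : (κ → F) → (κ → F) → F)
    (hf : Cfsg.Geo.IsUnitaryFormPow 2 f) (x y : κ → F) (h : f x y = 0) : f y x = 0 := by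
  rw [hf.herm, h]
  norm_num

theorem uf_swap1 (f : (κ → F) → (κ → F) → F)
    (hf : Cfsg.Geo.IsUnitaryFormPow 2 f) (x y : κ → F) (h : f x y = 1) : f y x = 1 := by
  rw [hf.herm, h]
  norm_num

theorem expand [Fintype κ] [DecidableEq κ] (x : κ → F) :
    x = ∑ a, x a • (Pi.single a (1 : F) : κ → F) := by
  conv_lhs => rw [← Finset.univ_sum_single x]
  apply Finset.sum_congr rfl
  intro a _
  ext j
  simp [Pi.single_apply]

theorem uf_eq_gram [Fintype κ] [DecidableEq κ] (hF : Fintype.card F = 4)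
    (f : (κ → F) → (κ → F) → F) (hf : Cfsg.Geo.IsUnitaryFormPow 2 f) (x y : κ → F) :
    f x y = Cfsg.Geo.formOfGram (fun t : F => t ^ 2) (Cfsg.Geo.gramMatrix f) x y := by
  unfold Cfsg.Geo.formOfGram Cfsg.Geo.gramMatrix
  conv_lhs => rw [expand x, uf_sum_left f hf]
  apply Finset.sum_congr rfl
  intro a _
  conv_lhs => rw [expand y, uf_sum_right hF f hf, Finset.mul_sum]
  apply Finset.sum_congr rfl
  intro b _
  ring

/-- the polarisation argument: a subspace all of whose vectors are isotropic is totally isotropic -/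
theorem uf_polar (hF : Fintype.card F = 4) (f : (κ → F) → (κ → F) → F)
    (hf : Cfsg.Geo.IsUnitaryFormPow 2 f) (S : (κ → F) → Prop)
    (hadd : ∀ v w, S v → S w → S (v + w)) (hsmul : ∀ (c : F) v, S v → S (c • v))
    (hiso : ∀ v, S v → f v v = 0) (x y : κ → F) (hx : S x) (hy : S y) : f y x = 0 := by
  have hxy : f x y = (f y x) ^ 2 := hf.herm x y
  have h1 := hiso (y + x) (hadd _ _ hy hx)
  rw [hf.add_left, uf_add_right hF f hf, uf_add_right hF f hf, hiso y hy, hiso x hx, hxy] at h1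
  obtain ⟨w, hw⟩ := exists_omega hF
  have h2 := hiso (y + w • x) (hadd _ _ hy (hsmul _ _ hx))
  rw [hf.add_left, uf_add_right hF f hf, uf_add_right hF f hf, hf.smul_left, hf.smul_left,
    uf_smul_right f hf, uf_smul_right f hf, hiso y hy, hiso x hx, hxy] at h2
  have hs2 : (f y x) ^ 2 = f y x := by
    linear_combination h1 - add_self hF (f y x)
  have h3 : f y x * (w ^ 2 + w) = 0 := by
    rw [hs2] at h2
    linear_combination h2
  exact (mul_eq_zero.mp h3).resolve_right hw

theorem exists_not_mem_span [Fintype κ] [DecidableEq κ] {k : ℕ} (y : Fin k → (κ → F))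
    (hk : k < Fintype.card κ) : ∃ z : κ → F, z ∉ Submodule.span F (Set.range y) := by
  by_contra hcon
  push Not at hcon
  have htop : Submodule.span F (Set.range y) = ⊤ := eq_top_iff.mpr fun z _ => hcon z
  have h1 := finrank_range_le_card (R := F) y
  unfold Set.finrank at h1
  rw [htop, finrank_top, Module.finrank_fintype_fun_eq_card, Fintype.card_fin] at h1
  omega

/-- Gram–Schmidt step -/
theorem gs_step [Fintype κ] [DecidableEq κ] (hF : Fintype.card F = 4)
    (f : (κ → F) → (κ → F) → F) (hf : Cfsg.Geo.IsUnitaryFormPow 2 f) {k : ℕ}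
    (y : Fin k → (κ → F)) (hy : ∀ i j, f (y i) (y j) = if i = j then 1 else 0)
    (hk : k < Fintype.card κ) :
    ∃ y' : κ → F, f y' y' = 1 ∧ ∀ i, f y' (y i) = 0 ∧ f (y i) y' = 0 := by
  obtain ⟨z, hz⟩ := exists_not_mem_span y hk
  have hpr : ∀ v : κ → F, ∀ i, f (v + ∑ j, f v (y j) • y j) (y i) = 0 := by
    intro v i
    rw [hf.add_left, uf_sum_left f hf]
    simp only [hy, mul_ite, mul_one, mul_zero, Finset.sum_ite_eq', Finset.mem_univ, if_true]
    exact add_self hF _
  have hz0 : z + ∑ j, f z (y j) • y j ≠ 0 := by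
    intro h0
    apply hz
    have : z = ∑ j, f z (y j) • y j := by
      have h1 := congrArg (fun t => t + ∑ j, f z (y j) • y j) h0
      simp only [add_assoc, add_self_eq_zero_of hF, add_zero, zero_add] at h1
      exact h1
    rw [this]
    exact Submodule.sum_mem _ fun j _ =>
      Submodule.smul_mem _ _ (Submodule.subset_span (Set.mem_range_self j))
  by_contra hcon
  push Not at hcon
  have hiso : ∀ v : κ → F, (∀ i, f v (y i) = 0) → f v v = 0 := by
    intro v hv
    rcases uf_self_cases hF f hf v with h | h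
    · exact h
    · exfalso
      obtain ⟨i, hi⟩ := hcon v h
      exact hi (hv i) (uf_swap0 f hf _ _ (hv i))
  have hzero := uf_polar hF f hf (fun v => ∀ i, f v (y i) = 0)
    (fun v w hv hw i => by rw [hf.add_left, hv i, hw i, add_zero])
    (fun c v hv i => by rw [hf.smul_left, hv i, mul_zero]) hiso
  obtain ⟨x, hx⟩ := (hf.nondegenerate _ hz0).1
  apply hx
  have hxe : x = (x + ∑ j, f x (y j) • y j) + ∑ j, f x (y j) • y j := by
    rw [add_assoc, add_self_eq_zero_of hF, add_zero]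
  rw [hxe, hf.add_left, hzero _ _ (hpr z) (hpr x), zero_add, uf_sum_left f hf]
  apply Finset.sum_eq_zero
  intro j _
  rw [uf_swap0 f hf _ _ (hpr z j), mul_zero]


theorem exists_on1 [Fintype κ] [DecidableEq κ] (hF : Fintype.card F = 4)
    (f : (κ → F) → (κ → F) → F) (hf : Cfsg.Geo.IsUnitaryFormPow 2 f)
    (hκ : 1 ≤ Fintype.card κ) : ∃ y₁ : κ → F, f y₁ y₁ = 1 := by
  obtain ⟨y', h1, -⟩ := gs_step hF f hf (k := 0) (fun i => i.elim0) (fun i => i.elim0) (by omega)
  exact ⟨y', h1⟩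

theorem exists_on2 [Fintype κ] [DecidableEq κ] (hF : Fintype.card F = 4)
    (f : (κ → F) → (κ → F) → F) (hf : Cfsg.Geo.IsUnitaryFormPow 2 f)
    (hκ : 2 ≤ Fintype.card κ) : ∃ y₁ y₂ : κ → F, f y₁ y₁ = 1 ∧ f y₂ y₂ = 1 ∧
      f y₁ y₂ = 0 ∧ f y₂ y₁ = 0 := by
  obtain ⟨y₁, h1⟩ := exists_on1 hF f hf (by omega)
  obtain ⟨y₂, h2, h21⟩ := gs_step hF f hf (k := 1) (fun _ => y₁)
    (fun i j => by rw [if_pos (Subsingleton.elim i j)]; exact h1) (by omega)
  exact ⟨y₁, y₂, h1, h2, (h21 0).2, (h21 0).1⟩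

theorem exists_on3 [Fintype κ] [DecidableEq κ] (hF : Fintype.card F = 4)
    (f : (κ → F) → (κ → F) → F) (hf : Cfsg.Geo.IsUnitaryFormPow 2 f)
    (hκ : 3 ≤ Fintype.card κ) : ∃ y₁ y₂ y₃ : κ → F, f y₁ y₁ = 1 ∧ f y₂ y₂ = 1 ∧ f y₃ y₃ = 1 ∧
      f y₁ y₂ = 0 ∧ f y₂ y₁ = 0 ∧ f y₁ y₃ = 0 ∧ f y₃ y₁ = 0 ∧ f y₂ y₃ = 0 ∧ f y₃ y₂ = 0 := by
  obtain ⟨y₁, y₂, h1, h2, h12, h21⟩ := exists_on2 hF f hf (by omega)
  obtain ⟨y₃, h3, h3i⟩ := gs_step hF f hf (k := 2) ![y₁, y₂]
    (fun i j => by
      fin_cases i <;> fin_cases j <;> simp [h1, h2, h12, h21]) (by omega)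
  have a := h3i 0
  have b := h3i 1
  simp only [Matrix.cons_val_zero, Matrix.cons_val_one] at a b
  exact ⟨y₁, y₂, y₃, h1, h2, h3, h12, h21, a.2, a.1, b.2, b.1⟩

theorem span_on2 [Fintype κ] [DecidableEq κ] (f : (κ → F) → (κ → F) → F)
    (hf : Cfsg.Geo.IsUnitaryFormPow 2 f) (hκ : Fintype.card κ = 2) (e₁ e₂ : κ → F)
    (h1 : f e₁ e₁ = 1) (h2 : f e₂ e₂ = 1) (h12 : f e₁ e₂ = 0) (h21 : f e₂ e₁ = 0) (x : κ → F) :
    ∃ α β : F, x = α • e₁ + β • e₂ := by
  have hli : LinearIndependent F ![e₁, e₂] := by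
    rw [LinearIndependent.pair_iff]
    intro s t hst
    have ha := congrArg (fun v => f v e₁) hst
    have hb := congrArg (fun v => f v e₂) hst
    simp only [hf.add_left, hf.smul_left, h1, h2, h12, h21, uf_zero_left f hf, mul_one, mul_zero,
      add_zero, zero_add] at ha hb
    exact ⟨ha, hb⟩
  have htop := hli.span_eq_top_of_card_eq_finrank' (by
    rw [Module.finrank_fintype_fun_eq_card, hκ, Fintype.card_fin])
  have hrange : Set.range ![e₁, e₂] = {e₁, e₂} := by
    ext v
    simp only [Set.mem_range, Set.mem_insert_iff, Set.mem_singleton_iff]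
    constructor
    · rintro ⟨k, rfl⟩
      fin_cases k
      · left; rfl
      · right; rfl
    · rintro (rfl | rfl)
      · exact ⟨0, rfl⟩
      · exact ⟨1, rfl⟩
  have hx : x ∈ Submodule.span F (Set.range ![e₁, e₂]) := by rw [htop]; trivial
  rw [hrange, Submodule.mem_span_pair] at hx
  obtain ⟨α, β, h⟩ := hx
  exact ⟨α, β, h.symm⟩

end

end Cfsg.Agent.Lib.Helper11.HermF4
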