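import Mathlib
import Cfsg.Agent.Lib.Helper11.Sharp

set_option autoImplicit false

namespace Cfsg.Agent.Lib.Helper11

open MulAction

variable {α : Type*}

/-- an embedding of `Fin 4` from four distinct points -/
def emb4 (p q r s : α) (h1 : p ≠ q) (h2 : p ≠ r) (h3 : p ≠ s) (h4 : q ≠ r) (h5 : q ≠ s)
    (h6 : r ≠ s) : Fin 4 ↪ α where
  toFun := ![p, q, r, s]
  inj' := by
    intro i j hij
    fin_cases i <;> fin_cases j <;> simp_all

theorem free_card_dvd (K Y : Type*) [Group K] [MulAction K Y]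
    (h : ∀ b : Y, stabilizer K b = ⊥) : Nat.card K ∣ Nat.card Y := by
  rw [Nat.card_congr (selfEquivOrbitsQuotientProd h), Nat.card_prod]
  exact dvd_mul_left _ _

theorem exists_emb_of_card_le [DecidableEq α] (s : Finset α) (h : 4 ≤ s.card) :
    ∃ u : Fin 4 ↪ α, ∀ i, u i ∈ s := by
  have : Nonempty (Fin 4 ↪ ↥s) := by
    rw [Function.Embedding.nonempty_iff_card_le]; simpa using h
  obtain ⟨v⟩ := this
  exact ⟨v.trans (Function.Embedding.subtype _), fun i => (v i).2⟩

section core

variable [Fintype α] [DecidableEq α] (G : Subgroup (Equiv.Perm α))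
  (hT : ∀ u v : Fin 4 ↪ α, ∃ g ∈ G, ∀ i, g (u i) = v i)
  (hS : ∀ g ∈ G, ∀ u : Fin 4 ↪ α, (∀ i, g (u i) = u i) → g = 1)

include hS in
/-- sharpness: fixing four distinct points forces the identity -/
theorem sharp4 (g : Equiv.Perm α) (hg : g ∈ G) (p q r s : α) (h1 : p ≠ q) (h2 : p ≠ r)
    (h3 : p ≠ s) (h4 : q ≠ r) (h5 : q ≠ s) (h6 : r ≠ s) (hp : g p = p) (hq : g q = q)
    (hr : g r = r) (hs : g s = s) : g = 1 := by
  apply hS g hg (emb4 p q r s h1 h2 h3 h4 h5 h6)
  intro i
  fin_cases i <;> simpa [emb4]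

/-- the centraliser of `x` in `G` -/
def centIn (x : Equiv.Perm α) : Subgroup (Equiv.Perm α) := G ⊓ Subgroup.centralizer {x}

theorem mem_centIn (x g : Equiv.Perm α) : g ∈ centIn G x ↔ g ∈ G ∧ ∀ a, g (x a) = x (g a) := by
  unfold centIn
  rw [Subgroup.mem_inf, Subgroup.mem_centralizer_iff]
  constructor
  · rintro ⟨h1, h2⟩
    refine ⟨h1, fun a => ?_⟩
    have := h2 x rfl
    have := DFunLike.congr_fun this a
    simpa using this.symm
  · rintro ⟨h1, h2⟩
    refine ⟨h1, fun h hh => ?_⟩
    rw [Set.mem_singleton_iff] at hh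
    subst hh
    ext a
    simpa using (h2 a).symm

include hT hS in
/-- the centraliser of an involution `x` of `G` is in bijection with the ordered pairs of
"oriented" 2-cycles of `x` -/
theorem card_centIn (x : Equiv.Perm α) (hxG : x ∈ G) (hx2 : ∀ a, x (x a) = a)
    (a₀ c₀ : α) (ha₀ : x a₀ ≠ a₀) (hc₀ : x c₀ ≠ c₀) (hca : c₀ ≠ a₀) (hcxa : c₀ ≠ x a₀) :
    Nat.card (centIn G x) =
      ((x.support ×ˢ x.support).filter (fun p : α × α => p.2 ≠ p.1 ∧ p.2 ≠ x p.1)).card := by
  classical
  set Xset := (x.support ×ˢ x.support).filter (fun p : α × α => p.2 ≠ p.1 ∧ p.2 ≠ x p.1)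
    with hX
  have hxinj : Function.Injective x := x.injective
  have hxc_ne_a : x c₀ ≠ a₀ := by
    intro h; apply hcxa; rw [← h, hx2]
  have hxc_ne_xa : x c₀ ≠ x a₀ := fun h => hca (hxinj h)
  -- the map
  have hwd : ∀ g : centIn G x, (g.1 a₀, g.1 c₀) ∈ Xset := by
    intro g
    obtain ⟨hgG, hgx⟩ := (mem_centIn G x g.1).mp g.2
    rw [hX, Finset.mem_filter, Finset.mem_product, Equiv.Perm.mem_support,
      Equiv.Perm.mem_support]
    refine ⟨⟨?_, ?_⟩, ?_, ?_⟩
    · rw [← hgx]; exact fun h => ha₀ (g.1.injective h)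
    · rw [← hgx]; exact fun h => hc₀ (g.1.injective h)
    · exact fun h => hca (g.1.injective h)
    · show g.1 c₀ ≠ x (g.1 a₀)
      rw [← hgx]; exact fun h => hcxa (g.1.injective h)
  let ψ : centIn G x → Xset := fun g => ⟨(g.1 a₀, g.1 c₀), hwd g⟩
  have hbij : Function.Bijective ψ := by
    constructor
    · intro g h hgh
      have h1 : g.1 a₀ = h.1 a₀ := congrArg (fun t : Xset => t.1.1) hgh
      have h2 : g.1 c₀ = h.1 c₀ := congrArg (fun t : Xset => t.1.2) hgh
      obtain ⟨hgG, hgx⟩ := (mem_centIn G x g.1).mp g.2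
      obtain ⟨hhG, hhx⟩ := (mem_centIn G x h.1).mp h.2
      have hw : h.1⁻¹ * g.1 = 1 := by
        apply sharp4 G hS _ (mul_mem (inv_mem hhG) hgG) a₀ (x a₀) c₀ (x c₀) (Ne.symm ha₀)
          (Ne.symm hca) (Ne.symm hxc_ne_a) (Ne.symm hcxa) (Ne.symm hxc_ne_xa) (Ne.symm hc₀)
        · simp [Equiv.Perm.mul_apply, h1]
        · simp [Equiv.Perm.mul_apply, hgx, h1, ← hhx]
        · simp [Equiv.Perm.mul_apply, h2]
        · simp [Equiv.Perm.mul_apply, hgx, h2, ← hhx]
      apply Subtype.ext
      exact (inv_mul_eq_one.mp hw).symm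
    · rintro ⟨⟨a, c⟩, hac⟩
      rw [hX, Finset.mem_filter, Finset.mem_product, Equiv.Perm.mem_support,
        Equiv.Perm.mem_support] at hac
      obtain ⟨⟨ha, hc⟩, hca', hcxa'⟩ := hac
      simp only at hca' hcxa'
      have hxc_ne_a' : x c ≠ a := by
        intro h; apply hcxa'; rw [← h, hx2]
      have hxc_ne_xa' : x c ≠ x a := fun h => hca' (hxinj h)
      obtain ⟨g, hgG, hg⟩ := hT
        (emb4 a₀ (x a₀) c₀ (x c₀) (Ne.symm ha₀) (Ne.symm hca) (Ne.symm hxc_ne_a) (Ne.symm hcxa)
          (Ne.symm hxc_ne_xa) (Ne.symm hc₀))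
        (emb4 a (x a) c (x c) (Ne.symm ha) (Ne.symm hca') (Ne.symm hxc_ne_a') (Ne.symm hcxa')
          (Ne.symm hxc_ne_xa') (Ne.symm hc))
      have g0 : g a₀ = a := hg 0
      have g1 : g (x a₀) = x a := hg 1
      have g2 : g c₀ = c := hg 2
      have g3 : g (x c₀) = x c := hg 3
      have e0 : g⁻¹ a = a₀ := by rw [Equiv.Perm.inv_eq_iff_eq, g0]
      have e1 : g⁻¹ (x a) = x a₀ := by rw [Equiv.Perm.inv_eq_iff_eq, g1]
      have e2 : g⁻¹ c = c₀ := by rw [Equiv.Perm.inv_eq_iff_eq, g2]
      have e3 : g⁻¹ (x c) = x c₀ := by rw [Equiv.Perm.inv_eq_iff_eq, g3]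
      have hw : g * x * g⁻¹ * x = 1 := by
        apply sharp4 G hS _ (mul_mem (mul_mem (mul_mem hgG hxG) (inv_mem hgG)) hxG) a (x a) c (x c)
          (Ne.symm ha) (Ne.symm hca') (Ne.symm hxc_ne_a') (Ne.symm hcxa')
          (Ne.symm hxc_ne_xa') (Ne.symm hc)
        · simp only [Equiv.Perm.mul_apply, hx2, e1, g0]
        · simp only [Equiv.Perm.mul_apply, hx2, e0, g1]
        · simp only [Equiv.Perm.mul_apply, hx2, e3, g2]
        · simp only [Equiv.Perm.mul_apply, hx2, e2, g3]
      have hgC : g ∈ centIn G x := by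
        rw [mem_centIn]
        refine ⟨hgG, fun b => ?_⟩
        have := DFunLike.congr_fun hw (x (g b))
        simp only [Equiv.Perm.mul_apply, hx2, Equiv.Perm.one_apply] at this
        simpa using this
      refine ⟨⟨g, hgC⟩, ?_⟩
      apply Subtype.ext
      exact Prod.ext g0 g2
  rw [Nat.card_congr (Equiv.ofBijective ψ hbij), Nat.card_eq_fintype_card, Fintype.card_coe]

theorem centIn_comm (x : Equiv.Perm α) (g : centIn G x) (a : α) : g.1 (x a) = x (g.1 a) :=
  ((mem_centIn G x g.1).mp g.2).2 a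

theorem card_pairs (x : Equiv.Perm α) (hx2 : ∀ a, x (x a) = a) :
    ((x.support ×ˢ x.support).filter (fun p : α × α => p.2 ≠ p.1 ∧ p.2 ≠ x p.1)).card =
      x.support.card * (x.support.card - 2) := by
  rw [Finset.card_filter, Finset.sum_product]
  have : ∀ a ∈ x.support, (∑ c ∈ x.support, if (c ≠ a ∧ c ≠ x a) then 1 else 0) =
      x.support.card - 2 := by
    intro a ha
    rw [← Finset.card_filter]
    have h1 : x.support.filter (fun c => c ≠ a ∧ c ≠ x a) = (x.support.erase a).erase (x a) := by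
      ext c
      simp only [Finset.mem_filter, Finset.mem_erase]
      tauto
    rw [h1, Finset.card_erase_of_mem, Finset.card_erase_of_mem ha]
    · rfl
    · rw [Finset.mem_erase]
      rw [Equiv.Perm.mem_support] at ha
      refine ⟨ha, ?_⟩
      rw [Equiv.Perm.mem_support, hx2]
      exact Ne.symm ha
  rw [Finset.sum_congr rfl this, Finset.sum_const, smul_eq_mul]

/-- the fixed points of `x`, acted on by the centraliser -/
def fixSMA (x : Equiv.Perm α) : SubMulAction (centIn G x) α where
  carrier := {a | x a = a}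
  smul_mem' := by
    intro g a ha
    show x (g.1 a) = g.1 a
    rw [← centIn_comm G x g a, ha]

/-- the moved points of `x`, acted on by the centraliser -/
def suppSMA (x : Equiv.Perm α) : SubMulAction (centIn G x) α where
  carrier := {a | x a ≠ a}
  smul_mem' := by
    intro g a ha
    show x (g.1 a) ≠ g.1 a
    rw [← centIn_comm G x g a]
    exact fun h => ha (g.1.injective h)

theorem card_fixSMA (x : Equiv.Perm α) : Nat.card (fixSMA G x) = (x.supportᶜ).card := by
  rw [← Nat.card_eq_finsetCard]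
  apply Nat.card_congr
  apply Equiv.subtypeEquivRight
  intro a
  show x a = a ↔ a ∈ x.supportᶜ
  rw [Finset.mem_compl, Equiv.Perm.mem_support, not_not]

theorem card_suppSMA (x : Equiv.Perm α) : Nat.card (suppSMA G x) = x.support.card := by
  rw [← Nat.card_eq_finsetCard]
  apply Nat.card_congr
  apply Equiv.subtypeEquivRight
  intro a
  show x a ≠ a ↔ a ∈ x.support
  rw [Equiv.Perm.mem_support]

include hT hS in
/-- the key divisibility in Jordan's argument -/
theorem jordan_dvd (x : Equiv.Perm α) (hxG : x ∈ G) (hx2 : ∀ a, x (x a) = a)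
    (r1 r2 : α) (hr12 : r1 ≠ r2) (hr1 : x r1 = r1) (hr2 : x r2 = r2)
    (hs4 : 4 ≤ x.support.card) :
    (x.support.card - 2) ∣ (x.supportᶜ.card).factorial := by
  classical
  -- choose a₀, c₀
  have hne : x.support.Nonempty := Finset.card_pos.mp (by omega)
  obtain ⟨a₀, ha₀s⟩ := hne
  have ha₀ : x a₀ ≠ a₀ := Equiv.Perm.mem_support.mp ha₀s
  have hxa₀s : x a₀ ∈ x.support.erase a₀ := by
    rw [Finset.mem_erase, Equiv.Perm.mem_support, hx2]
    exact ⟨ha₀, Ne.symm ha₀⟩
  have hcard2 : 0 < ((x.support.erase a₀).erase (x a₀)).card := by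
    rw [Finset.card_erase_of_mem hxa₀s, Finset.card_erase_of_mem ha₀s]; omega
  obtain ⟨c₀, hc₀s⟩ := Finset.card_pos.mp hcard2
  rw [Finset.mem_erase, Finset.mem_erase, Equiv.Perm.mem_support] at hc₀s
  obtain ⟨hcxa, hca, hc₀⟩ := hc₀s
  have hC := card_centIn G hT hS x hxG hx2 a₀ c₀ ha₀ hc₀ hca hcxa
  rw [card_pairs x hx2] at hC
  -- the action on fixed points
  set ρ := MulAction.toPermHom (centIn G x) (fixSMA G x) with hρ
  have h1 : Nat.card ρ.ker * Nat.card ρ.range = Nat.card (centIn G x) := by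
    rw [← Subgroup.index_ker, Subgroup.card_mul_index]
  have h2 : Nat.card ρ.range ∣ (x.supportᶜ.card).factorial := by
    rw [← card_fixSMA G x, ← Nat.card_perm]
    exact Subgroup.card_subgroup_dvd_card _
  have h3 : Nat.card ρ.ker ∣ x.support.card := by
    rw [← card_suppSMA G x]
    apply free_card_dvd
    intro b
    rw [eq_bot_iff]
    intro k hk
    rw [Subgroup.mem_bot]
    have hkb : k.1.1 b.1 = b.1 := by
      have := mem_stabilizer_iff.mp hk
      exact congrArg Subtype.val this
    have hkρ : ρ k.1 = 1 := k.2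
    have hfix : ∀ r : α, x r = r → k.1.1 r = r := by
      intro r hr
      have := DFunLike.congr_fun hkρ ⟨r, hr⟩
      exact congrArg Subtype.val this
    have hb : x b.1 ≠ b.1 := b.2
    have hk1 : k.1.1 = 1 := by
      apply sharp4 G hS _ ((mem_centIn G x k.1.1).mp k.1.2).1 b.1 (x b.1) r1 r2
        (Ne.symm hb) ?_ ?_ ?_ ?_ hr12 hkb ?_ (hfix r1 hr1) (hfix r2 hr2)
      · rintro h; apply hb; rw [h]; exact hr1
      · rintro h; apply hb; rw [h]; exact hr2
      · rintro h
        apply hb
        have : b.1 = r1 := by rw [← hx2 b.1, h, hr1]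
        rw [h, this]
      · rintro h
        apply hb
        have : b.1 = r2 := by rw [← hx2 b.1, h, hr2]
        rw [h, this]
      · rw [centIn_comm G x k.1 b.1, hkb]
    apply Subtype.ext
    apply Subtype.ext
    exact hk1
  -- arithmetic
  rw [hC] at h1
  obtain ⟨k', hk'⟩ := h3
  have hkpos : 0 < Nat.card ρ.ker := Nat.card_pos
  have : k' * (x.support.card - 2) = Nat.card ρ.range := by
    have h4 : Nat.card ρ.ker * Nat.card ρ.range =
        Nat.card ρ.ker * (k' * (x.support.card - 2)) := by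
      rw [h1]; nth_rewrite 1 [hk']; ring
    exact (Nat.eq_of_mul_eq_mul_left hkpos h4).symm
  exact (Dvd.intro_left k' this).trans h2

include hT hS in
/-- Jordan: a sharply 4-transitive group of degree at least 7 has degree 7 or 11. -/
theorem jordan_seven_or_eleven (hn : 7 ≤ Fintype.card α) :
    Fintype.card α = 7 ∨ Fintype.card α = 11 := by
  classical
  have hne : Nonempty (Fin 4 ↪ α) := by
    rw [Function.Embedding.nonempty_iff_card_le]; simp; omega
  obtain ⟨e⟩ := hne
  obtain ⟨x, hxG, hx⟩ := hT e ((Equiv.swap (0 : Fin 4) 1).toEmbedding.trans e)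
  have x0 : x (e 0) = e 1 := by simpa using hx 0
  have x1 : x (e 1) = e 0 := by simpa using hx 1
  have x2 : x (e 2) = e 2 := by
    have := hx 2
    simpa [Equiv.swap_apply_of_ne_of_ne] using this
  have x3 : x (e 3) = e 3 := by
    have := hx 3
    simpa [Equiv.swap_apply_of_ne_of_ne] using this
  have hxx : x * x = 1 := by
    apply hS _ (mul_mem hxG hxG) e
    intro i
    fin_cases i <;> simp [Equiv.Perm.mul_apply, x0, x1, x2, x3]
  have hx2 : ∀ a, x (x a) = a := fun a => by
    have := DFunLike.congr_fun hxx a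
    simpa using this
  have he01 : e 0 ≠ e 1 := fun h => by simpa using e.injective h
  have he23 : e 2 ≠ e 3 := fun h => by simpa using e.injective h
  -- number of fixed points
  have hf2 : 2 ≤ x.supportᶜ.card := by
    have hsub : ({e 2, e 3} : Finset α) ⊆ x.supportᶜ := by
      intro a ha
      rw [Finset.mem_insert, Finset.mem_singleton] at ha
      rw [Finset.mem_compl, Equiv.Perm.mem_support, not_not]
      rcases ha with rfl | rfl
      · exact x2
      · exact x3
    have := Finset.card_le_card hsub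
    rwa [Finset.card_pair he23] at this
  have hf3 : x.supportᶜ.card ≤ 3 := by
    by_contra hcon
    push Not at hcon
    obtain ⟨u, hu⟩ := exists_emb_of_card_le x.supportᶜ hcon
    have : x = 1 := by
      apply hS x hxG u
      intro i
      have := hu i
      rwa [Finset.mem_compl, Equiv.Perm.mem_support, not_not] at this
    rw [this] at x0
    exact he01 x0
  have hpar : x.supportᶜ.card ≡ Fintype.card α [MOD 2] := by
    have : Fact (Nat.Prime 2) := ⟨Nat.prime_two⟩
    apply Equiv.Perm.card_compl_support_modEq (n := 1)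
    rw [pow_one, pow_two]; exact hxx
  have hcc : x.supportᶜ.card = Fintype.card α - x.support.card := Finset.card_compl _
  have hle : x.support.card ≤ Fintype.card α := Finset.card_le_univ _
  have hs4 : 4 ≤ x.support.card := by omega
  have hdvd := jordan_dvd G hT hS x hxG hx2 (e 2) (e 3) he23 x2 x3 hs4
  unfold Nat.ModEq at hpar
  have hf : x.supportᶜ.card = 2 ∨ x.supportᶜ.card = 3 := by omega
  rcases hf with hf | hf
  · rw [hf] at hdvd
    have := Nat.le_of_dvd (by norm_num) hdvd
    simp only [Nat.factorial] at this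
    omega
  · rw [hf] at hdvd
    have h6 : (3 : ℕ).factorial = 6 := rfl
    rw [h6] at hdvd
    have hle6 := Nat.le_of_dvd (by norm_num) hdvd
    have hs8 : x.support.card ≤ 8 := by omega
    generalize x.support.card = s at *
    interval_cases s <;> omega

end core

end Cfsg.Agent.Lib.Helper11
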