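import Mathlib

set_option autoImplicit false

/-!
# Abstract transvections `x ↦ x + φ x • v` on a vector space (for McLaughlin's theorem)
-/

namespace Cfsg.Agent.Lib.Helper11.McTv

open Module

variable {F : Type*} [Field F] {V : Type*} [AddCommGroup V] [Module F V]

/-- the linear map `x ↦ x + φ x • v` -/
def tvL (v : V) (φ : (V →ₗ[F] F)) : V →ₗ[F] V := LinearMap.id + φ.smulRight v

theorem tvL_apply (v : V) (φ : (V →ₗ[F] F)) (x : V) : tvL v φ x = x + φ x • v := by
  simp [tvL]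

theorem tvL_comp_neg {v : V} {φ : (V →ₗ[F] F)} (h : φ v = 0) :
    tvL v φ ∘ₗ tvL (-v) φ = LinearMap.id := by
  ext x
  simp only [LinearMap.coe_comp, Function.comp_apply, tvL_apply, map_add, map_smul,
    map_neg, h, LinearMap.id_coe, id_eq, smul_neg]
  module

theorem tvL_neg_comp {v : V} {φ : (V →ₗ[F] F)} (h : φ v = 0) :
    tvL (-v) φ ∘ₗ tvL v φ = LinearMap.id := by
  ext x
  simp only [LinearMap.coe_comp, Function.comp_apply, tvL_apply, map_add, map_smul,
    h, LinearMap.id_coe, id_eq, smul_neg]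
  module

open Classical in
/-- transvection as a linear equivalence when `φ v = 0`, the identity otherwise -/
noncomputable def tv (v : V) (φ : (V →ₗ[F] F)) : V ≃ₗ[F] V :=
  if h : φ v = 0 then
    LinearEquiv.ofLinearMap (tvL v φ) (tvL (-v) φ) (tvL_comp_neg h) (tvL_neg_comp h)
  else 1

theorem tv_apply {v : V} {φ : (V →ₗ[F] F)} (h : φ v = 0) (x : V) : tv v φ x = x + φ x • v := by
  unfold tv
  rw [dif_pos h]
  simp [tvL_apply]

theorem tv_of_ne {v : V} {φ : (V →ₗ[F] F)} (h : φ v ≠ 0) : tv v φ = 1 := by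
  unfold tv
  rw [dif_neg h]

theorem tv_zero_left (φ : (V →ₗ[F] F)) : tv (0 : V) φ = 1 := by
  ext x
  rw [tv_apply (by simp)]
  simp

theorem tv_zero_right (v : V) : tv v (0 : (V →ₗ[F] F)) = 1 := by
  ext x
  rw [tv_apply (by simp)]
  simp

theorem tv_mul_right {v : V} {φ φ' : (V →ₗ[F] F)} (h : φ v = 0) (h' : φ' v = 0) :
    tv v φ * tv v φ' = tv v (φ + φ') := by
  ext x
  have h2 : (φ + φ') v = 0 := by simp [h, h']
  rw [LinearEquiv.mul_apply, tv_apply h, tv_apply h', tv_apply h2]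
  simp only [map_add, map_smul, h, smul_eq_mul, mul_zero, add_zero, LinearMap.add_apply, add_smul]
  abel

theorem tv_mul_left {v v' : V} {φ : (V →ₗ[F] F)} (h : φ v = 0) (h' : φ v' = 0) :
    tv v φ * tv v' φ = tv (v + v') φ := by
  ext x
  have h2 : φ (v + v') = 0 := by simp [h, h']
  rw [LinearEquiv.mul_apply, tv_apply h, tv_apply h', tv_apply h2]
  simp only [map_add, map_smul, h', smul_eq_mul, mul_zero, add_zero, smul_add]
  abel

theorem tv_inv (v : V) (φ : (V →ₗ[F] F)) : (tv v φ)⁻¹ = tv (-v) φ := by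
  by_cases h : φ v = 0
  · have h' : φ (-v) = 0 := by simp [h]
    rw [inv_eq_iff_mul_eq_one, tv_mul_left h h']
    simp [tv_zero_left]
  · have h' : φ (-v) ≠ 0 := by simpa using h
    rw [tv_of_ne h, tv_of_ne h', inv_one]

theorem tv_smul_left (a : F) (v : V) (φ : (V →ₗ[F] F)) : tv (a • v) φ = tv v (a • φ) := by
  by_cases h : φ v = 0
  · have h1 : φ (a • v) = 0 := by simp [h]
    have h2 : (a • φ) v = 0 := by simp [h]
    ext x
    rw [tv_apply h1, tv_apply h2]
    simp [smul_smul, mul_comm]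
  · by_cases ha : a = 0
    · subst ha
      simp [tv_zero_left, tv_zero_right]
    · have h1 : φ (a • v) ≠ 0 := by simp [h, ha]
      have h2 : (a • φ) v ≠ 0 := by simp [h, ha]
      rw [tv_of_ne h1, tv_of_ne h2]

theorem tv_conj (g : V ≃ₗ[F] V) (v : V) (φ : (V →ₗ[F] F)) :
    g * tv v φ * g⁻¹ = tv (g v) (φ ∘ₗ (g.symm : V →ₗ[F] V)) := by
  by_cases h : φ v = 0
  · have h' : (φ ∘ₗ (g.symm : V →ₗ[F] V)) (g v) = 0 := by simp [h]
    ext x
    rw [LinearEquiv.mul_apply, LinearEquiv.mul_apply, tv_apply h, tv_apply h']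
    simp
  · have h' : (φ ∘ₗ (g.symm : V →ₗ[F] V)) (g v) ≠ 0 := by simpa using h
    rw [tv_of_ne h, tv_of_ne h']
    simp

theorem tv_pow {v : V} {φ : (V →ₗ[F] F)} (h : φ v = 0) (n : ℕ) : (tv v φ) ^ n = tv v (n • φ) := by
  induction n with
  | zero => simp [tv_zero_right]
  | succ k ih =>
    have hk : (k • φ) v = 0 := by simp [h]
    rw [pow_succ, ih, tv_mul_right hk h, succ_nsmul]

/-- conjugating `tv v φ` by `tv w ψ` -/
theorem tv_conj_tv {v w : V} {φ ψ : (V →ₗ[F] F)} (hψ : ψ w = 0) :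
    tv w ψ * tv v φ * (tv w ψ)⁻¹ = tv (v + ψ v • w) (φ - φ w • ψ) := by
  rw [tv_conj]
  congr 1
  · rw [tv_apply hψ]
  · ext x
    have h' : ψ (-w) = 0 := by simp [hψ]
    have : ((tv w ψ).symm : V →ₗ[F] V) x = x + ψ x • (-w) := by
      have := tv_inv w ψ
      have h2 : (tv w ψ).symm = tv (-w) ψ := by
        rw [← this]; rfl
      rw [LinearEquiv.coe_coe, h2, tv_apply h']
    simp only [LinearMap.coe_comp, Function.comp_apply, this, map_add, map_smul, map_neg,
      smul_eq_mul, LinearMap.sub_apply, LinearMap.smul_apply]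
    ring

/-- a nontrivial transvection is not the identity -/
theorem tv_ne_one {v : V} {φ : (V →ₗ[F] F)} (h : φ v = 0) (hv : v ≠ 0) (hφ : φ ≠ 0) : tv v φ ≠ 1 := by
  intro h1
  apply hφ
  ext x
  have := congrArg (fun g : V ≃ₗ[F] V => g x) h1
  simp only [tv_apply h, LinearEquiv.coe_one, id_eq] at this
  have h2 : φ x • v = 0 := by simpa using this
  rcases smul_eq_zero.mp h2 with h3 | h3
  · simpa using h3
  · exact absurd h3 hv

/-- the commutator identity behind rule (M), in the form `g * g' = z * (g' * g)` -/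
theorem tv_ruleM {u c u' : V} {β γ β' : (V →ₗ[F] F)}
    (hβu : β u = 0) (hβ'u' : β' u' = 0) (hβc : β c = 0) (hγu : γ u = 0) (hγc : γ c = 0)
    (hβ'c : β' c = 0) (hγu' : γ u' = 0) :
    (tv (u + c) (β + γ) * tv (-u) β) * (tv (u' + c) (β' + γ) * tv (-u') β') =
      tv ((β u' - β' u) • c) γ * ((tv (u' + c) (β' + γ) * tv (-u') β') *
        (tv (u + c) (β + γ) * tv (-u) β)) := by
  have h1 : (β + γ) (u + c) = 0 := by simp [hβu, hβc, hγu, hγc]
  have h2 : β (-u) = 0 := by simp [hβu]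
  have h3 : (β' + γ) (u' + c) = 0 := by simp [hβ'u', hβ'c, hγu', hγc]
  have h4 : β' (-u') = 0 := by simp [hβ'u']
  have h5 : γ ((β u' - β' u) • c) = 0 := by simp [hγc]
  ext x
  simp only [LinearEquiv.mul_apply, tv_apply h1, tv_apply h2, tv_apply h3, tv_apply h4,
    tv_apply h5, map_add, map_smul, map_neg, LinearMap.add_apply, smul_eq_mul, hβu, hβ'u', hβc,
    hγu, hγc, hβ'c, hγu', mul_zero, add_zero, neg_zero, zero_add, mul_neg]
  module

end Cfsg.Agent.Lib.Helper11.McTv
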