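import Mathlib
import Cfsg.Agent.Lib.Helper11.McTv

set_option autoImplicit false

/-!
# E-systems: the closure rules satisfied by the transvection pairs `(v, φ)` of a group
generated by transvections with trivial `p`-core; the special-linear growth analysis.
-/

namespace Cfsg.Agent.Lib.Helper11.McE

open Module

/-- the closure rules for the set of pairs `(v, φ)` with `1 + v ⊗ φ ∈ H` -/
structure ESys (F : Type*) [Field F] (V : Type*) [AddCommGroup V] [Module F V] where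
  E : V → (V →ₗ[F] F) → Prop
  apply_zero : ∀ {v φ}, E v φ → φ v = 0
  zero_left : ∀ φ, E 0 φ
  zero_right : ∀ v, E v 0
  smul : ∀ {v φ} (a b : F), E v φ → E (a • v) (b • φ)
  add_right : ∀ {v φ φ'}, E v φ → E v φ' → E v (φ + φ')
  add_left : ∀ {v v' φ}, E v φ → E v' φ → E (v + v') φ
  conj : ∀ {v φ w ψ}, E v φ → E w ψ → E (v + ψ v • w) (φ - φ w • ψ)
  opp : ∀ {v φ}, E v φ → v ≠ 0 → φ ≠ 0 → ∃ w ψ, E w ψ ∧ φ w ≠ 0 ∧ ψ v ≠ 0
  ruleM : ∀ {u c u' β γ β'}, E u β → E (u + c) (β + γ) → E u' β' → E (u' + c) (β' + γ) →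
    β c = 0 → γ u = 0 → γ c = 0 → β' c = 0 → γ u' = 0 → E ((β u' - β' u) • c) γ

variable {F : Type*} [Field F] {V : Type*} [AddCommGroup V] [Module F V]

namespace ESys

variable (S : ESys F V)

theorem smul_left {v : V} {φ : (V →ₗ[F] F)} (a : F) (h : S.E v φ) : S.E (a • v) φ := by
  have := S.smul a 1 h
  rwa [one_smul] at this

theorem smul_right {v : V} {φ : (V →ₗ[F] F)} (b : F) (h : S.E v φ) : S.E v (b • φ) := by
  have := S.smul 1 b h
  rwa [one_smul] at this

theorem neg_left {v : V} {φ : (V →ₗ[F] F)} (h : S.E v φ) : S.E (-v) φ := by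
  have := S.smul_left (-1) h
  rwa [neg_one_smul] at this

theorem neg_right {v : V} {φ : (V →ₗ[F] F)} (h : S.E v φ) : S.E v (-φ) := by
  have := S.smul_right (-1) h
  have e : (-1 : F) • φ = -φ := neg_one_smul F φ
  rwa [e] at this

theorem sub_right {v : V} {φ φ' : (V →ₗ[F] F)} (h : S.E v φ) (h' : S.E v φ') : S.E v (φ - φ') := by
  rw [sub_eq_add_neg]; exact S.add_right h (S.neg_right h')

theorem sub_left {v v' : V} {φ : (V →ₗ[F] F)} (h : S.E v φ) (h' : S.E v' φ) : S.E (v - v') φ := by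
  rw [sub_eq_add_neg]; exact S.add_left h (S.neg_left h')

/-- rule (B) -/
theorem ruleB {v w : V} {φ ψ : (V →ₗ[F] F)} (h1 : S.E v φ) (h2 : S.E w ψ) (h : ψ v = 0) :
    S.E (φ w • v) ψ := by
  have h3 := S.conj h2 h1
  rw [h, zero_smul, sub_zero] at h3
  have h4 := S.sub_left h3 h2
  rwa [add_sub_cancel_left] at h4

theorem ruleB' {v w : V} {φ ψ : (V →ₗ[F] F)} (h1 : S.E v φ) (h2 : S.E w ψ) (h : ψ v = 0)
    (hne : φ w ≠ 0) : S.E v ψ := by
  have h3 := S.smul_left (φ w)⁻¹ (S.ruleB h1 h2 h)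
  rwa [smul_smul, inv_mul_cancel₀ hne, one_smul] at h3

end ESys

/-! ### Idempotents and existence lemmas -/

theorem idem_apply {π : V →ₗ[F] V} (hπ : π ∘ₗ π = π) (x : V) : π (π x) = π x :=
  LinearMap.congr_fun hπ x

theorem comp_apply' {π : V →ₗ[F] V} {χ : (V →ₗ[F] F)} (hχ : χ ∘ₗ π = χ) (x : V) : χ (π x) = χ x :=
  LinearMap.congr_fun hχ x

theorem comp_zero_apply {π : V →ₗ[F] V} {γ : (V →ₗ[F] F)} (hγ : γ ∘ₗ π = 0) (x : V) : γ (π x) = 0 :=
  LinearMap.congr_fun hγ x

theorem exists_C0 {π : V →ₗ[F] V} (hπ : π ∘ₗ π = π) (S' : Submodule F V) {y : V} (hy : π y = y)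
    (hyS : y ∉ S') :
    ∃ χ : (V →ₗ[F] F), χ ∘ₗ π = χ ∧ χ y ≠ 0 ∧ ∀ s ∈ S', π s = s → χ s = 0 := by
  obtain ⟨f, hf1, hf2⟩ := Submodule.exists_dual_map_eq_bot_of_notMem hyS inferInstance
  refine ⟨f ∘ₗ π, ?_, ?_, ?_⟩
  · rw [LinearMap.comp_assoc, hπ]
  · rw [LinearMap.comp_apply, hy]; exact hf1
  · intro s hs hs'
    rw [LinearMap.comp_apply, hs']
    have : f s ∈ Submodule.map f S' := Submodule.mem_map_of_mem hs
    rw [hf2, Submodule.mem_bot] at this
    exact this

theorem exists_inU_notMem [FiniteDimensional F V] {π : V →ₗ[F] V} (hπ : π ∘ₗ π = π)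
    (S' : Submodule F V) (h : finrank F ↥S' < finrank F ↥(LinearMap.range π)) :
    ∃ y, π y = y ∧ y ∉ S' := by
  by_contra hcon
  push Not at hcon
  have : LinearMap.range π ≤ S' := by
    rintro y ⟨x, rfl⟩
    exact hcon (π x) (idem_apply hπ x)
  have := Submodule.finrank_mono this
  omega

theorem finrank_ker_dual_add_one_ge [FiniteDimensional F V] (ψ : (V →ₗ[F] F)) :
    finrank F V ≤ finrank F ↥(LinearMap.ker ψ) + 1 := by
  have h1 := LinearMap.finrank_range_add_finrank_ker ψ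
  have h2 : finrank F ↥(LinearMap.range ψ) ≤ 1 := by
    have := Submodule.finrank_le (LinearMap.range ψ)
    rwa [Module.finrank_self] at this
  omega

theorem exists_inU_ker_notMem [FiniteDimensional F V] {π : V →ₗ[F] V} (hπ : π ∘ₗ π = π)
    (ψ : (V →ₗ[F] F)) (S' : Submodule F V)
    (h : finrank F ↥S' + 1 < finrank F ↥(LinearMap.range π)) :
    ∃ u, π u = u ∧ ψ u = 0 ∧ u ∉ S' := by
  by_contra hcon
  push Not at hcon
  have hle : LinearMap.range π ⊓ LinearMap.ker ψ ≤ S' := by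
    rintro y ⟨⟨x, rfl⟩, hy2⟩
    exact hcon (π x) (idem_apply hπ x) (by simpa using hy2)
  have h1 := Submodule.finrank_mono hle
  have h2 := Submodule.finrank_sup_add_finrank_inf_eq (LinearMap.range π) (LinearMap.ker ψ)
  have h3 := finrank_ker_dual_add_one_ge ψ
  have h4 := Submodule.finrank_le (LinearMap.range π ⊔ LinearMap.ker ψ)
  omega

theorem finrank_span_singleton_le (x : V) : finrank F ↥(Submodule.span F ({x} : Set V)) ≤ 1 := by
  classical
  have := finrank_span_le_card (R := F) ({x} : Set V)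
  simpa using this

theorem finrank_span_pair_le (x y : V) : finrank F ↥(Submodule.span F ({x, y} : Set V)) ≤ 2 := by
  classical
  have := finrank_span_le_card (R := F) ({x, y} : Set V)
  refine this.trans ?_
  rw [Set.toFinset_insert, Set.toFinset_singleton]
  exact Finset.card_le_two

/-- if `χ` is not a multiple of `ψ ≠ 0` then some vector is killed by `χ` but not by `ψ` -/
theorem exists_ker_ne {χ ψ : (V →ₗ[F] F)} (hψ0 : ψ ≠ 0) (h : ¬ ∃ a : F, χ = a • ψ) :
    ∃ x, χ x = 0 ∧ ψ x ≠ 0 := by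
  by_contra hcon
  push Not at hcon
  have hχ0 : χ ≠ 0 := by
    intro h0; exact h ⟨0, by rw [h0, zero_smul]⟩
  obtain ⟨x₀, hx₀⟩ : ∃ x₀, χ x₀ ≠ 0 := by
    by_contra h1
    push Not at h1
    exact hχ0 (LinearMap.ext h1)
  have key : ∀ x, ψ x = (χ x / χ x₀) * ψ x₀ := by
    intro x
    have h1 : χ (x - (χ x / χ x₀) • x₀) = 0 := by
      simp only [map_sub, map_smul, smul_eq_mul]
      field_simp
      ring
    have h2 := hcon _ h1
    simp only [map_sub, map_smul, smul_eq_mul] at h2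
    exact sub_eq_zero.mp h2
  have hψx₀ : ψ x₀ ≠ 0 := by
    intro h0
    apply hψ0
    ext x
    rw [key x, h0, mul_zero]; rfl
  apply h
  refine ⟨χ x₀ / ψ x₀, ?_⟩
  ext x
  simp only [LinearMap.smul_apply, smul_eq_mul]
  rw [key x]
  field_simp

/-! ### The special linear analysis -/

variable (S : ESys F V)

/-- `H` contains every transvection of `range π` extended by the identity on `ker π` -/
def SLgood (π : V →ₗ[F] V) : Prop :=
  π ∘ₗ π = π ∧ ∀ (u : V) (χ : (V →ₗ[F] F)), π u = u → χ ∘ₗ π = χ → χ u = 0 → S.E u χ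

/-- functionals vanishing on `range π` that are axes for every centre in `range π` -/
def Gam (π : V →ₗ[F] V) : Set ((V →ₗ[F] F)) := {γ | γ ∘ₗ π = 0 ∧ ∀ u, π u = u → S.E u γ}

/-- vectors of `ker π` that are centres for every axis containing `ker π` -/
def Dd (π : V →ₗ[F] V) : Set V := {c | π c = 0 ∧ ∀ χ : (V →ₗ[F] F), χ ∘ₗ π = χ → S.E c χ}

/-- every nontrivial pair lives on `range π` or on `ker π` -/
def Types (π : V →ₗ[F] V) : Prop :=
  ∀ (w : V) (ψ : (V →ₗ[F] F)), S.E w ψ → w ≠ 0 → ψ ≠ 0 →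
    (π w = w ∧ ψ ∘ₗ π = ψ) ∨ (π w = 0 ∧ ψ ∘ₗ π = 0)

variable {S}

theorem Dd_smul {π : V →ₗ[F] V} {c : V} (hc : c ∈ Dd S π) (a : F) : a • c ∈ Dd S π :=
  ⟨by rw [map_smul, hc.1, smul_zero], fun χ hχ => S.smul_left a (hc.2 χ hχ)⟩

theorem sub_comp_self {π : V →ₗ[F] V} (hπ : π ∘ₗ π = π) (ψ : (V →ₗ[F] F)) :
    (ψ - ψ ∘ₗ π) ∘ₗ π = 0 := by
  rw [LinearMap.sub_comp, LinearMap.comp_assoc, hπ, sub_self]

theorem gam_of_inU [FiniteDimensional F V] {π : V →ₗ[F] V} (hg : SLgood S π) {w : V}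
    {ψ : (V →ₗ[F] F)} (h : S.E w ψ) (hw : π w = w) (hw0 : w ≠ 0) : ψ - ψ ∘ₗ π ∈ Gam S π := by
  have hπ := hg.1
  have hψw : (ψ ∘ₗ π) w = 0 := by rw [LinearMap.comp_apply, hw]; exact S.apply_zero h
  have h1 : S.E w (-(ψ ∘ₗ π)) := by
    apply hg.2 w _ hw
    · rw [LinearMap.neg_comp, LinearMap.comp_assoc, hπ]
    · rw [LinearMap.neg_apply, hψw, neg_zero]
  have h2 : S.E w (ψ - ψ ∘ₗ π) := by
    rw [sub_eq_add_neg]; exact S.add_right h h1
  refine ⟨sub_comp_self hπ ψ, fun u hu => ?_⟩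
  by_cases hus : u ∈ Submodule.span F ({w} : Set V)
  · obtain ⟨a, rfl⟩ := Submodule.mem_span_singleton.mp hus
    exact S.smul_left a h2
  · have hwu : w ∉ Submodule.span F ({u} : Set V) := by
      intro hwu
      obtain ⟨b, hb⟩ := Submodule.mem_span_singleton.mp hwu
      have hb0 : b ≠ 0 := by
        rintro rfl; rw [zero_smul] at hb; exact hw0 hb.symm
      apply hus
      rw [Submodule.mem_span_singleton]
      exact ⟨b⁻¹, by rw [← hb, smul_smul, inv_mul_cancel₀ hb0, one_smul]⟩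
    obtain ⟨χ, hχ1, hχ2, hχ3⟩ := exists_C0 hπ _ hw hwu
    have hχu : χ u = 0 := hχ3 u (Submodule.mem_span_singleton_self u) hu
    have h3 : S.E u χ := hg.2 u χ hu hχ1 hχu
    have h4 : (ψ - ψ ∘ₗ π) u = 0 := by
      rw [LinearMap.sub_apply, LinearMap.comp_apply, hu, sub_self]
    exact S.ruleB' h3 h2 h4 hχ2

theorem dd_of_inC0 {π : V →ₗ[F] V} (hg : SLgood S π) {w : V}
    {ψ : (V →ₗ[F] F)} (h : S.E w ψ) (hψ : ψ ∘ₗ π = ψ) (hψ0 : ψ ≠ 0) : w - π w ∈ Dd S π := by
  have hπ := hg.1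
  have h1 : S.E (-(π w)) ψ := by
    apply hg.2 _ ψ _ hψ
    · rw [map_neg, comp_apply' hψ]; rw [S.apply_zero h, neg_zero]
    · rw [map_neg, idem_apply hπ]
  have h2 : S.E (w - π w) ψ := by
    rw [sub_eq_add_neg]; exact S.add_left h h1
  refine ⟨by rw [map_sub, idem_apply hπ, sub_self], fun χ hχ => ?_⟩
  by_cases hχψ : ∃ a : F, χ = a • ψ
  · obtain ⟨a, rfl⟩ := hχψ
    exact S.smul_right a h2
  · obtain ⟨x, hx1, hx2⟩ := exists_ker_ne hψ0 hχψ
    have h3 : S.E (π x) χ := by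
      apply hg.2 _ χ (idem_apply hπ x) hχ
      rw [comp_apply' hχ]; exact hx1
    have h4 : χ (w - π w) = 0 := by
      rw [map_sub, comp_apply' hχ, sub_self]
    have h5 : ψ (π x) ≠ 0 := by rw [comp_apply' hψ]; exact hx2
    exact S.ruleB' h2 h3 h4 h5

/-- growing an `SLgood` idempotent by one dimension -/
theorem grow {π : V →ₗ[F] V} (hg : SLgood S π) {γ : (V →ₗ[F] F)} {c : V} (hγ : γ ∈ Gam S π)
    (hc : c ∈ Dd S π) (h1 : γ c = 1) : SLgood S (π + γ.smulRight c) := by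
  have hπ := hg.1
  have hπ' : ∀ x, (π + γ.smulRight c) x = π x + γ x • c := fun x => by
    simp [LinearMap.smulRight_apply]
  refine ⟨?_, ?_⟩
  · ext x
    rw [LinearMap.comp_apply, hπ', hπ', map_add, map_add, map_smul, map_smul, idem_apply hπ,
      hc.1, comp_zero_apply hγ.1, h1]
    simp
  · intro x ξ hx hξ hξx
    rw [hπ'] at hx
    set u := π x with hu
    set l := γ x with hl
    set χ : (V →ₗ[F] F) := ξ ∘ₗ π with hχdef
    set μ := ξ c with hμ
    have huu : π u = u := idem_apply hπ x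
    have hχπ : χ ∘ₗ π = χ := by rw [hχdef, LinearMap.comp_assoc, hπ]
    have hξeq : ξ = χ + μ • γ := by
      ext y
      have := LinearMap.congr_fun hξ y
      rw [LinearMap.comp_apply, hπ', map_add, map_smul] at this
      rw [LinearMap.add_apply, LinearMap.smul_apply, ← this, hχdef, LinearMap.comp_apply,
        smul_eq_mul, smul_eq_mul, mul_comm]
    have hχc : χ c = 0 := by rw [hχdef, LinearMap.comp_apply, hc.1, map_zero]
    have hγu : γ u = 0 := comp_zero_apply hγ.1 x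
    have hcons : χ u + μ * l = 0 := by
      have := hξx
      rw [← hx, hξeq] at this
      simp only [LinearMap.add_apply, LinearMap.smul_apply, map_add, map_smul, smul_eq_mul,
        hχc, hγu, h1, mul_zero, add_zero, mul_one, zero_add] at this
      rw [← this]; ring
    rw [← hx, hξeq]
    by_cases hl0 : l = 0
    · rw [hl0, zero_smul, add_zero]
      rw [hl0, mul_zero, add_zero] at hcons
      exact S.add_right (hg.2 u χ huu hχπ hcons) (S.smul_right μ (hγ.2 u huu))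
    · by_cases hu0 : u = 0
      · rw [hu0, map_zero, zero_add] at hcons
        have hμ0 : μ = 0 := by
          rcases mul_eq_zero.mp hcons with h | h
          · exact h
          · exact absurd h hl0
        rw [hu0, zero_add, hμ0, zero_smul, add_zero]
        exact S.smul_left l (hc.2 χ hχπ)
      · have hubot : u ∉ (⊥ : Submodule F V) := by simpa using hu0
        obtain ⟨χ₁, hχ₁1, hχ₁2, -⟩ := exists_C0 hπ ⊥ huu hubot
        set χ₀ : (V →ₗ[F] F) := (l / χ₁ u) • χ₁ with hχ₀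
        have hχ₀π : χ₀ ∘ₗ π = χ₀ := by rw [hχ₀, LinearMap.smul_comp, hχ₁1]
        have hχ₀u : χ₀ u = l := by
          rw [hχ₀, LinearMap.smul_apply, smul_eq_mul]; field_simp
        have hχ₀c : χ₀ c = 0 := by rw [← comp_apply' hχ₀π, hc.1, map_zero]
        set χ' : (V →ₗ[F] F) := χ + μ • χ₀ with hχ'
        have hχ'π : χ' ∘ₗ π = χ' := by
          rw [hχ', LinearMap.add_comp, LinearMap.smul_comp, hχπ, hχ₀π]
        have hχ'u : χ' u = 0 := by
          rw [hχ', LinearMap.add_apply, LinearMap.smul_apply, hχ₀u, smul_eq_mul]; exact hcons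
        have h2 : S.E u (χ' + μ • γ) :=
          S.add_right (hg.2 u χ' huu hχ'π hχ'u) (S.smul_right μ (hγ.2 u huu))
        have h3 : S.E c χ₀ := hc.2 χ₀ hχ₀π
        have h4 := S.conj h2 h3
        have e1 : u + χ₀ u • c = u + l • c := by rw [hχ₀u]
        have e2 : (χ' + μ • γ) - (χ' + μ • γ) c • χ₀ = χ + μ • γ := by
          have : (χ' + μ • γ) c = μ := by
            rw [LinearMap.add_apply, LinearMap.smul_apply, hχ', LinearMap.add_apply,
              LinearMap.smul_apply, hχc, hχ₀c, h1]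
            simp
          rw [this, hχ']
          module
        rw [e1, e2] at h4
        exact h4

theorem mixed_nonzero [FiniteDimensional F V] {π : V →ₗ[F] V} (hg : SLgood S π)
    (hr : 2 ≤ finrank F ↥(LinearMap.range π)) {w : V} {ψ : (V →ₗ[F] F)} (h : S.E w ψ)
    (hne : ψ (π w) ≠ 0) : ψ - ψ ∘ₗ π ∈ Gam S π ∧ w - π w ∈ Dd S π := by
  have hπ := hg.1
  constructor
  · obtain ⟨u, hu1, hu2, hu3⟩ := exists_inU_ker_notMem hπ ψ ⊥ (by rw [finrank_bot]; omega)
    have hu0 : u ≠ 0 := by simpa using hu3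
    have hπw : π w ∉ Submodule.span F ({u} : Set V) := by
      intro hmem
      obtain ⟨a, ha⟩ := Submodule.mem_span_singleton.mp hmem
      apply hne
      rw [← ha, map_smul, hu2, smul_zero]
    obtain ⟨χ, hχ1, hχ2, hχ3⟩ := exists_C0 hπ _ (idem_apply hπ w) hπw
    have hχu : χ u = 0 := hχ3 u (Submodule.mem_span_singleton_self u) hu1
    have h3 : S.E u χ := hg.2 u χ hu1 hχ1 hχu
    have hχw : χ w ≠ 0 := by rw [← comp_apply' hχ1]; exact hχ2
    have h4 : S.E u ψ := S.ruleB' h3 h hu2 hχw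
    exact gam_of_inU hg h4 hu1 hu0
  · obtain ⟨y, hy1, hy2⟩ := exists_inU_notMem hπ (Submodule.span F ({π w} : Set V))
      (lt_of_le_of_lt (finrank_span_singleton_le _) (by omega))
    obtain ⟨χ', hχ1, hχ2, hχ3⟩ := exists_C0 hπ _ hy1 hy2
    have hχ0 : χ' ≠ 0 := by
      intro h0; rw [h0] at hχ2; exact hχ2 rfl
    have hχπw : χ' (π w) = 0 :=
      hχ3 (π w) (Submodule.mem_span_singleton_self _) (idem_apply hπ w)
    have h3 : S.E (π w) χ' := hg.2 _ χ' (idem_apply hπ w) hχ1 hχπw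
    have hχw : χ' w = 0 := by rw [← comp_apply' hχ1]; exact hχπw
    have h4 : S.E w χ' := S.ruleB' h h3 hχw hne
    exact dd_of_inC0 hg h4 hχ1 hχ0

theorem mixed_a [FiniteDimensional F V] {π : V →ₗ[F] V} (hg : SLgood S π)
    (hr : 3 ≤ finrank F ↥(LinearMap.range π)) {w : V} {ψ : (V →ₗ[F] F)} (h : S.E w ψ)
    (hψU : ψ ∘ₗ π ≠ 0) : w - π w ∈ Dd S π := by
  have hπ := hg.1
  obtain ⟨x₁, hx₁⟩ : ∃ x₁, (ψ ∘ₗ π) x₁ ≠ 0 := by
    by_contra h1
    push Not at h1
    exact hψU (LinearMap.ext h1)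
  set u' := π x₁ with hu'
  have hu'1 : π u' = u' := idem_apply hπ x₁
  have hψu' : ψ u' ≠ 0 := hx₁
  obtain ⟨y, hy1, hy2⟩ := exists_inU_notMem hπ (Submodule.span F ({u', π w} : Set V))
    (lt_of_le_of_lt (finrank_span_pair_le _ _) (by omega))
  obtain ⟨χ', hχ1, hχ2, hχ3⟩ := exists_C0 hπ _ hy1 hy2
  have hχ0 : χ' ≠ 0 := by
    intro h0; rw [h0] at hχ2; exact hχ2 rfl
  have hχu' : χ' u' = 0 := hχ3 u' (Submodule.subset_span (by simp)) hu'1
  have hχπw : χ' (π w) = 0 := hχ3 (π w) (Submodule.subset_span (by simp)) (idem_apply hπ w)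
  have h3 : S.E u' χ' := hg.2 _ χ' hu'1 hχ1 hχu'
  have hχw : χ' w = 0 := by rw [← comp_apply' hχ1]; exact hχπw
  have h4 : S.E w χ' := S.ruleB' h h3 hχw hψu'
  exact dd_of_inC0 hg h4 hχ1 hχ0

theorem mixed_b [FiniteDimensional F V] {π : V →ₗ[F] V} (hg : SLgood S π)
    (hr : 3 ≤ finrank F ↥(LinearMap.range π)) {w : V} {ψ : (V →ₗ[F] F)} (h : S.E w ψ)
    (hwU : π w ≠ 0) : ψ - ψ ∘ₗ π ∈ Gam S π := by
  have hπ := hg.1
  obtain ⟨u, hu1, hu2, hu3⟩ := exists_inU_ker_notMem hπ ψ (Submodule.span F ({π w} : Set V))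
    (by have := finrank_span_singleton_le (F := F) (π w); omega)
  have hu0 : u ≠ 0 := by
    rintro rfl; exact hu3 (Submodule.zero_mem _)
  have hπw : π w ∉ Submodule.span F ({u} : Set V) := by
    intro hmem
    obtain ⟨b, hb⟩ := Submodule.mem_span_singleton.mp hmem
    have hb0 : b ≠ 0 := by
      rintro rfl; rw [zero_smul] at hb; exact hwU hb.symm
    apply hu3
    rw [Submodule.mem_span_singleton]
    exact ⟨b⁻¹, by rw [← hb, smul_smul, inv_mul_cancel₀ hb0, one_smul]⟩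
  obtain ⟨χ, hχ1, hχ2, hχ3⟩ := exists_C0 hπ _ (idem_apply hπ w) hπw
  have hχu : χ u = 0 := hχ3 u (Submodule.mem_span_singleton_self u) hu1
  have h3 : S.E u χ := hg.2 u χ hu1 hχ1 hχu
  have hχw : χ w ≠ 0 := by rw [← comp_apply' hχ1]; exact hχ2
  have h4 : S.E u ψ := S.ruleB' h3 h hu2 hχw
  exact gam_of_inU hg h4 hu1 hu0

/-- if `π` cannot be grown then `Γ` and `D` are trivial -/
theorem gam_dd_trivial [FiniteDimensional F V] {π : V →ₗ[F] V} (hg : SLgood S π)
    (hr : 2 ≤ finrank F ↥(LinearMap.range π))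
    (hng : ∀ γ ∈ Gam S π, ∀ c ∈ Dd S π, γ c = 0) :
    (∀ γ ∈ Gam S π, γ = 0) ∧ (∀ c ∈ Dd S π, c = 0) := by
  have hπ := hg.1
  have key : ∀ (x' : V) (ξ' : (V →ₗ[F] F)), S.E x' ξ' → ξ' (π x') = 0 := by
    intro x' ξ' hE
    by_contra hne
    obtain ⟨h1, h2⟩ := mixed_nonzero hg hr hE hne
    have h3 := hng _ h1 _ h2
    apply hne
    have h4 : (ξ' - ξ' ∘ₗ π) (x' - π x') = - ξ' (π x') := by
      simp only [LinearMap.sub_apply, LinearMap.comp_apply, map_sub, idem_apply hπ,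
        S.apply_zero hE]
      ring
    rw [h4] at h3
    simpa using h3
  obtain ⟨u₀, hu₀1, hu₀2⟩ := exists_inU_notMem hπ (⊥ : Submodule F V)
    (by rw [finrank_bot]; omega)
  have hu₀0 : u₀ ≠ 0 := by simpa using hu₀2
  constructor
  · intro γ hγ
    by_contra hγ0
    have hE : S.E u₀ γ := hγ.2 u₀ hu₀1
    obtain ⟨x, ξ, hxE, hγx, hξu⟩ := S.opp hE hu₀0 hγ0
    by_cases h0 : ξ (π x) = 0
    · have h1 := S.conj hxE hE
      have h2 := key _ _ h1
      apply hγx
      have h3 : (ξ - ξ u₀ • γ) (π (x + γ x • u₀)) = γ x * ξ u₀ := by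
        simp only [LinearMap.sub_apply, LinearMap.smul_apply, map_add, map_smul, hu₀1, h0,
          comp_zero_apply hγ.1, smul_eq_mul, mul_zero, sub_zero, zero_add]
        have : γ u₀ = 0 := by rw [← hu₀1]; exact comp_zero_apply hγ.1 u₀
        rw [this]; ring
      rw [h3] at h2
      rcases mul_eq_zero.mp h2 with h | h
      · exact h
      · exact absurd h hξu
    · exact h0 (key _ _ hxE)
  · intro d hd
    by_contra hd0
    have hubot : u₀ ∉ (⊥ : Submodule F V) := hu₀2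
    obtain ⟨χ, hχ1, hχ2, -⟩ := exists_C0 hπ ⊥ hu₀1 hubot
    have hχ0 : χ ≠ 0 := by
      intro h0; rw [h0] at hχ2; exact hχ2 rfl
    have hE : S.E d χ := hd.2 χ hχ1
    obtain ⟨x, ξ, hxE, hχx, hξd⟩ := S.opp hE hd0 hχ0
    by_cases h0 : ξ (π x) = 0
    · have h1 := S.conj hxE hE
      have h2 := key _ _ h1
      apply hχx
      have h3 : (ξ - ξ d • χ) (π (x + χ x • d)) = - (ξ d * χ x) := by
        simp only [LinearMap.sub_apply, LinearMap.smul_apply, map_add, map_smul, hd.1, h0,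
          comp_apply' hχ1, smul_eq_mul, smul_zero, add_zero, zero_sub]
      rw [h3] at h2
      rcases mul_eq_zero.mp (neg_eq_zero.mp h2) with h | h
      · exact absurd h hξd
      · exact h
    · exact h0 (key _ _ hxE)

theorem types_of_not_grow [FiniteDimensional F V] {π : V →ₗ[F] V} (hg : SLgood S π)
    (hr : 3 ≤ finrank F ↥(LinearMap.range π))
    (hng : ∀ γ ∈ Gam S π, ∀ c ∈ Dd S π, γ c = 0) : Types S π := by
  have hπ := hg.1
  obtain ⟨hΓ, hD⟩ := gam_dd_trivial hg (by omega) hng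
  intro w ψ hE hw0 hψ0
  by_cases h1 : π w = 0
  · right
    refine ⟨h1, ?_⟩
    by_contra hψU
    have := hD _ (mixed_a hg hr hE hψU)
    rw [h1, sub_zero] at this
    exact hw0 this
  · left
    have h2 := hΓ _ (mixed_b hg hr hE h1)
    have hψeq : ψ ∘ₗ π = ψ := (sub_eq_zero.mp h2).symm
    have hψU : ψ ∘ₗ π ≠ 0 := by rw [hψeq]; exact hψ0
    have h3 := hD _ (mixed_a hg hr hE hψU)
    exact ⟨(sub_eq_zero.mp h3).symm, hψeq⟩

/-- a maximal `SLgood` idempotent of rank at least three splits the system -/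
theorem sl_split [FiniteDimensional F V] :
    ∀ (n : ℕ) (π : V →ₗ[F] V), SLgood S π → 3 ≤ finrank F ↥(LinearMap.range π) →
      finrank F ↥(LinearMap.ker π) ≤ n →
      ∃ π' : V →ₗ[F] V, SLgood S π' ∧ 3 ≤ finrank F ↥(LinearMap.range π') ∧ Types S π' := by
  intro n
  induction n with
  | zero =>
    intro π hg hr hk
    refine ⟨π, hg, hr, types_of_not_grow hg hr ?_⟩
    intro γ _ c hc
    have hker : LinearMap.ker π = ⊥ := by
      apply Submodule.finrank_eq_zero.mp
      omega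
    have : c ∈ LinearMap.ker π := hc.1
    rw [hker, Submodule.mem_bot] at this
    rw [this, map_zero]
  | succ k ih =>
    intro π hg hr hk
    by_cases hng : ∀ γ ∈ Gam S π, ∀ c ∈ Dd S π, γ c = 0
    · exact ⟨π, hg, hr, types_of_not_grow hg hr hng⟩
    · push Not at hng
      obtain ⟨γ, hγ, c, hc, hγc⟩ := hng
      have hπ := hg.1
      set c' := (γ c)⁻¹ • c with hc'
      have hc'D : c' ∈ Dd S π := Dd_smul hc _
      have hγc' : γ c' = 1 := by
        rw [hc', map_smul, smul_eq_mul, inv_mul_cancel₀ hγc]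
      have hg' := grow hg hγ hc'D hγc'
      have hπ' : ∀ x, (π + γ.smulRight c') x = π x + γ x • c' := fun x => by
        simp [LinearMap.smulRight_apply]
      apply ih _ hg'
      · refine hr.trans (Submodule.finrank_mono ?_)
        rintro y ⟨x, rfl⟩
        refine ⟨π x, ?_⟩
        rw [hπ', idem_apply hπ, comp_zero_apply hγ.1, zero_smul, add_zero]
      · have hlt : LinearMap.ker (π + γ.smulRight c') < LinearMap.ker π := by
          rw [SetLike.lt_iff_le_and_exists]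
          constructor
          · intro x hx
            rw [LinearMap.mem_ker, hπ'] at hx
            have := congrArg π hx
            rw [map_add, map_smul, idem_apply hπ, hc'D.1, smul_zero, add_zero, map_zero] at this
            exact this
          · refine ⟨c', hc'D.1, ?_⟩
            rw [LinearMap.mem_ker, hπ', hc'D.1, hγc', one_smul, zero_add]
            intro h0
            rw [h0, map_zero] at hγc'
            exact zero_ne_one hγc'
        have := Submodule.finrank_lt_finrank_of_lt hlt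
        omega

end Cfsg.Agent.Lib.Helper11.McE
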