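import Mathlib
import Cfsg.Agent.Lib.Helper11.McTv
import Cfsg.Agent.Lib.Helper07.SLGen

set_option autoImplicit false
set_option linter.unusedSectionVars false

/-!
# Linear equivalences of determinant one are products of transvections
-/

namespace Cfsg.Agent.Lib.Helper11.McG

open Module Matrix Cfsg.Agent.Lib.Helper11.McTv

variable {F : Type*} [Field F] {U : Type*} [AddCommGroup U] [Module F U]

/-- the set of transvections of `U` -/
def tvSet (F : Type*) [Field F] (U : Type*) [AddCommGroup U] [Module F U] : Set (U ≃ₗ[F] U) :=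
  {g | ∃ (u : U) (χ : U →ₗ[F] F), χ u = 0 ∧ g = tv u χ}

theorem sl_gen [FiniteDimensional F U] (f : U ≃ₗ[F] U)
    (hf : LinearMap.det (f : U →ₗ[F] U) = 1) : f ∈ Subgroup.closure (tvSet F U) := by
  classical
  set b := Module.finBasis F U with hb
  let A : SpecialLinearGroup (Fin (finrank F U)) F :=
    ⟨LinearMap.toMatrix b b (f : U →ₗ[F] U), by rw [LinearMap.det_toMatrix]; exact hf⟩
  have key : ∀ A : SpecialLinearGroup (Fin (finrank F U)) F,
      ∃ g ∈ Subgroup.closure (tvSet F U), ∀ x, b.equivFun (g x) = A.1 *ᵥ b.equivFun x := by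
    intro A
    refine Cfsg.Agent.Lib.Helper07.transvection_induction
      (fun A => ∃ g ∈ Subgroup.closure (tvSet F U), ∀ x, b.equivFun (g x) = A.1 *ᵥ b.equivFun x)
      ?_ ?_ ?_ A
    · exact ⟨1, Subgroup.one_mem _, fun x => by simp⟩
    · intro i j hij c
      have h0 : (c • b.coord j) (b i) = 0 := by
        simp [Basis.coord_apply, Finsupp.single_eq_of_ne hij.symm]
      refine ⟨tv (b i) (c • b.coord j), Subgroup.subset_closure ⟨_, _, h0, rfl⟩, fun x => ?_⟩
      rw [tv_apply h0, SpecialLinearGroup.transvection_coe, Matrix.add_mulVec, Matrix.one_mulVec,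
        Matrix.single_mulVec_eq, map_add, map_smul]
      congr 1
      have : b.equivFun (b i) = Pi.single i (1 : F) := by
        ext k
        simp [Pi.single_apply, eq_comm]
      rw [this]
      simp [Basis.coord_apply, Basis.equivFun_apply]
    · rintro A B ⟨gA, hgA, hA⟩ ⟨gB, hgB, hB⟩
      refine ⟨gA * gB, Subgroup.mul_mem _ hgA hgB, fun x => ?_⟩
      have e : (A * B).1 = A.1 * B.1 := rfl
      rw [LinearEquiv.mul_apply, hA, hB, e, Matrix.mulVec_mulVec]
  obtain ⟨g, hg, hgx⟩ := key A
  have : g = f := by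
    ext x
    apply b.equivFun.injective
    rw [hgx]
    show LinearMap.toMatrix b b (f : U →ₗ[F] U) *ᵥ b.equivFun x = _
    have := LinearMap.toMatrix_mulVec_repr b b (f : U →ₗ[F] U) x
    simpa [Basis.equivFun_apply] using this
  rw [← this]
  exact hg

end Cfsg.Agent.Lib.Helper11.McG
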