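import Mathlib
import Cfsg.Agent.Lib.Helper11.McTv

set_option autoImplicit false
set_option linter.unusedSectionVars false

/-!
# Isometries of a nondegenerate alternating form are products of symplectic transvections
-/

namespace Cfsg.Agent.Lib.Helper11.McG

open Module Cfsg.Agent.Lib.Helper11.McTv

variable {F : Type*} [Field F] {W : Type*} [AddCommGroup W] [Module F W]

/-- the set of symplectic transvections of `(W, B)` -/
def spSet (B : W →ₗ[F] W →ₗ[F] F) : Set (W ≃ₗ[F] W) :=
  {g | ∃ (u : W) (a : F), g = tv u (a • B u)}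

/-- the fixed space -/
def fixSp (f : W ≃ₗ[F] W) : Submodule F W := LinearMap.ker ((f : W →ₗ[F] W) - LinearMap.id)

theorem mem_fixSp {f : W ≃ₗ[F] W} {x : W} : x ∈ fixSp f ↔ f x = x := by
  simp [fixSp, sub_eq_zero]

theorem le_one_apply (x : W) : (1 : W ≃ₗ[F] W) x = x := rfl

theorem le_inv_apply_self (g : W ≃ₗ[F] W) (x : W) : g⁻¹ (g x) = x := by
  rw [← LinearEquiv.mul_apply, inv_mul_cancel]; rfl

theorem le_apply_inv_self (g : W ≃ₗ[F] W) (x : W) : g (g⁻¹ x) = x := by
  rw [← LinearEquiv.mul_apply, mul_inv_cancel]; rfl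

section

variable {B : W →ₗ[F] W →ₗ[F] F} (halt : ∀ x, B x x = 0)
include halt

theorem sp_skew (x y : W) : B x y = - B y x := by
  have h' := halt (x + y)
  simp only [map_add, LinearMap.add_apply, halt x, halt y, zero_add, add_zero] at h'
  exact eq_neg_of_add_eq_zero_right h'

theorem sp_tv_zero (u : W) (a : F) : (a • B u) u = 0 := by
  rw [LinearMap.smul_apply, halt, smul_zero]

theorem sp_tv_iso (u : W) (a : F) (x y : W) :
    B (tv u (a • B u) x) (tv u (a • B u) y) = B x y := by
  rw [tv_apply (sp_tv_zero halt u a), tv_apply (sp_tv_zero halt u a)]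
  simp only [map_add, map_smul, LinearMap.add_apply, LinearMap.smul_apply, smul_eq_mul, halt u]
  rw [sp_skew halt x u]
  ring

theorem sp_exists_both (hnd : ∀ x, (∀ y, B x y = 0) → x = 0) {u v : W} (hu0 : u ≠ 0)
    (hv0 : v ≠ 0) : ∃ z, B u z ≠ 0 ∧ B v z ≠ 0 := by
  have h1 : ∃ z, B u z ≠ 0 := by
    by_contra h; push Not at h; exact hu0 (hnd u h)
  have h2 : ∃ z, B v z ≠ 0 := by
    by_contra h; push Not at h; exact hv0 (hnd v h)
  obtain ⟨z₁, h1⟩ := h1
  obtain ⟨z₂, h2⟩ := h2
  by_cases h3 : B v z₁ = 0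
  · by_cases h4 : B u z₂ = 0
    · refine ⟨z₁ + z₂, ?_, ?_⟩
      · rw [map_add, h4, add_zero]; exact h1
      · rw [map_add, h3, zero_add]; exact h2
    · exact ⟨z₂, h4, h2⟩
  · exact ⟨z₁, h1, h3⟩

theorem sp_stepA [FiniteDimensional F W] (f : W ≃ₗ[F] W) (hf : ∀ x y, B (f x) (f y) = B x y)
    {x : W} (hx : B x (f x) ≠ 0) :
    ∃ τ ∈ spSet B, ∃ g : W ≃ₗ[F] W, (∀ x y, B (g x) (g y) = B x y) ∧ f = τ * g ∧
      finrank F ↥(fixSp f) < finrank F ↥(fixSp g) := by
  obtain ⟨c, hc⟩ : ∃ c, c = f x - x := ⟨_, rfl⟩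
  have hcx : B c x ≠ 0 := by
    rw [hc, map_sub, LinearMap.sub_apply, halt, sub_zero, sp_skew halt]
    exact neg_ne_zero.mpr hx
  obtain ⟨a, ha⟩ : ∃ a, a = (B c x)⁻¹ := ⟨_, rfl⟩
  have h0 := sp_tv_zero halt c a
  have hτx : tv c (a • B c) x = f x := by
    rw [tv_apply h0, LinearMap.smul_apply, smul_eq_mul, ha, inv_mul_cancel₀ hcx, one_smul, hc]
    abel
  have hτfix : ∀ y, f y = y → tv c (a • B c) y = y := by
    intro y hy
    have : B c y = 0 := by
      rw [hc, map_sub, LinearMap.sub_apply]
      nth_rewrite 1 [← hy]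
      rw [hf, sub_self]
    rw [tv_apply h0, LinearMap.smul_apply, this, smul_zero, zero_smul, add_zero]
  refine ⟨tv c (a • B c), ⟨c, a, rfl⟩, (tv c (a • B c))⁻¹ * f, ?_, by group, ?_⟩
  · intro y z
    rw [LinearEquiv.mul_apply, LinearEquiv.mul_apply, ← sp_tv_iso halt c a, le_apply_inv_self,
      le_apply_inv_self, hf]
  · apply Submodule.finrank_lt_finrank_of_lt
    rw [SetLike.lt_iff_le_and_exists]
    constructor
    · intro y hy
      rw [mem_fixSp] at hy ⊢
      rw [LinearEquiv.mul_apply, hy]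
      have := hτfix y hy
      calc (tv c (a • B c))⁻¹ y = (tv c (a • B c))⁻¹ (tv c (a • B c) y) := by rw [this]
        _ = y := le_inv_apply_self _ _
    · refine ⟨x, ?_, ?_⟩
      · rw [mem_fixSp, LinearEquiv.mul_apply, ← hτx, le_inv_apply_self]
      · rw [mem_fixSp]
        intro h
        rw [h, halt] at hx
        exact hx rfl

theorem sp_gen_aux [FiniteDimensional F W] (hnd : ∀ x, (∀ y, B x y = 0) → x = 0) :
    ∀ (n : ℕ) (f : W ≃ₗ[F] W), (∀ x y, B (f x) (f y) = B x y) →
      finrank F W ≤ finrank F ↥(fixSp f) + n → f ∈ Subgroup.closure (spSet B) := by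
  intro n
  induction n with
  | zero =>
    intro f _ hn
    have htop : fixSp f = ⊤ := Submodule.eq_top_of_finrank_eq (le_antisymm (Submodule.finrank_le _) hn)
    have : f = 1 := by
      ext x
      have : x ∈ fixSp f := by rw [htop]; trivial
      rw [mem_fixSp] at this
      rw [this, le_one_apply]
    rw [this]; exact Subgroup.one_mem _
  | succ k ih =>
    intro f hf hn
    by_cases hA : ∃ x, B x (f x) ≠ 0
    · obtain ⟨x, hx⟩ := hA
      obtain ⟨τ, hτ, g, hg, hfg, hlt⟩ := sp_stepA halt f hf hx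
      rw [hfg]
      exact Subgroup.mul_mem _ (Subgroup.subset_closure hτ) (ih g hg (by omega))
    · push Not at hA
      by_cases h1 : f = 1
      · rw [h1]; exact Subgroup.one_mem _
      · obtain ⟨x₀, hx₀⟩ : ∃ x₀, f x₀ ≠ x₀ := by
          by_contra h
          push Not at h
          apply h1
          ext x
          rw [h x, le_one_apply]
        obtain ⟨c, hc⟩ : ∃ c, c = f x₀ - x₀ := ⟨_, rfl⟩
        have hc0 : c ≠ 0 := by
          rw [hc]; exact sub_ne_zero.mpr hx₀
        have h0 := sp_tv_zero halt c 1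
        have hfc0 : f.symm c ≠ 0 := by
          intro h
          apply hc0
          have := congrArg f h
          rwa [LinearEquiv.apply_symm_apply, map_zero] at this
        obtain ⟨x, hx1, hx2⟩ := sp_exists_both halt hnd hfc0 hc0
        have hτfix : ∀ y, f y = y → tv c ((1 : F) • B c) y = y := by
          intro y hy
          have : B c y = 0 := by
            rw [hc, map_sub, LinearMap.sub_apply]
            nth_rewrite 1 [← hy]
            rw [hf, sub_self]
          rw [tv_apply h0, LinearMap.smul_apply, this, smul_zero, zero_smul, add_zero]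
        have hf' : ∀ y z, B ((tv c ((1 : F) • B c) * f) y) ((tv c ((1 : F) • B c) * f) z) = B y z := by
          intro y z
          rw [LinearEquiv.mul_apply, LinearEquiv.mul_apply, sp_tv_iso halt, hf]
        have hx' : B x ((tv c ((1 : F) • B c) * f) x) ≠ 0 := by
          rw [LinearEquiv.mul_apply, tv_apply h0, map_add, map_smul, hA, zero_add,
            LinearMap.smul_apply, smul_eq_mul, one_smul]
          have e1 : B c (f x) = B (f.symm c) x := by
            rw [← hf (f.symm c) x, LinearEquiv.apply_symm_apply]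
          have e2 : B x c = - B c x := sp_skew halt x c
          rw [e1, e2]
          exact mul_ne_zero hx1 (neg_ne_zero.mpr hx2)
        obtain ⟨τ', hτ', g, hg, hfg, hlt⟩ := sp_stepA halt _ hf' hx'
        have hle : finrank F ↥(fixSp f) ≤ finrank F ↥(fixSp (tv c ((1 : F) • B c) * f)) := by
          apply Submodule.finrank_mono
          intro y hy
          rw [mem_fixSp] at hy ⊢
          rw [LinearEquiv.mul_apply, hy, hτfix y hy]
        have hgc := ih g hg (by omega)
        have : f = (tv c ((1 : F) • B c))⁻¹ * (τ' * g) := by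
          rw [← hfg]; group
        rw [this]
        refine Subgroup.mul_mem _ (Subgroup.inv_mem _ (Subgroup.subset_closure ⟨c, 1, rfl⟩)) ?_
        exact Subgroup.mul_mem _ (Subgroup.subset_closure hτ') hgc

theorem sp_gen [FiniteDimensional F W] (hnd : ∀ x, (∀ y, B x y = 0) → x = 0) (f : W ≃ₗ[F] W)
    (hf : ∀ x y, B (f x) (f y) = B x y) : f ∈ Subgroup.closure (spSet B) :=
  sp_gen_aux halt hnd (finrank F W) f hf (by omega)

end

end Cfsg.Agent.Lib.Helper11.McG
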