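import Mathlib
import Cfsg.Agent.Lib.Helper11.McTv

set_option autoImplicit false

/-!
# Unipotent groups of a flag; recognising transvections
-/

namespace Cfsg.Agent.Lib.Helper11.McTv

open Module

variable {F : Type*} [Field F] {V : Type*} [AddCommGroup V] [Module F V]

/-- the unipotent group attached to the flag `0 < ⟨v⟩ < ⟨v, w⟩ < V` -/
def Uni (v w : V) : Subgroup (V ≃ₗ[F] V) where
  carrier := {g | g v = v ∧ (∃ a : F, g w = w + a • v) ∧ ∀ x, ∃ a b : F, g x = x + a • v + b • w}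
  one_mem' := ⟨rfl, ⟨0, by simp⟩, fun x => ⟨0, 0, by simp⟩⟩
  mul_mem' := by
    rintro g h ⟨hg1, ⟨a1, hg2⟩, hg3⟩ ⟨hh1, ⟨a2, hh2⟩, hh3⟩
    refine ⟨by rw [LinearEquiv.mul_apply, hh1, hg1], ⟨a1 + a2, ?_⟩, fun x => ?_⟩
    · rw [LinearEquiv.mul_apply, hh2, map_add, map_smul, hg1, hg2]
      module
    · obtain ⟨a, b, hx⟩ := hh3 x
      obtain ⟨a', b', hx'⟩ := hg3 x
      refine ⟨a' + a + b * a1, b' + b, ?_⟩
      rw [LinearEquiv.mul_apply, hx, map_add, map_add, map_smul, map_smul, hg1, hg2, hx']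
      module
  inv_mem' := by
    rintro g ⟨hg1, ⟨a1, hg2⟩, hg3⟩
    have h1 : g⁻¹ v = v := by
      have := congrArg (fun y => g⁻¹ y) hg1
      simpa using this.symm
    have h2 : g⁻¹ w = w + (-a1) • v := by
      have := congrArg (fun y => g⁻¹ y) hg2
      simp only [map_add, map_smul, h1] at this
      have h3 : g⁻¹ (g w) = w := by simp
      rw [h3] at this
      calc g⁻¹ w = (g⁻¹ w + a1 • v) - a1 • v := by abel
        _ = w - a1 • v := by rw [← this]
        _ = w + (-a1) • v := by module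
    refine ⟨h1, ⟨-a1, h2⟩, fun x => ?_⟩
    obtain ⟨a, b, hx⟩ := hg3 (g⁻¹ x)
    have h3 : g (g⁻¹ x) = x := by simp
    rw [h3] at hx
    refine ⟨-a, -b, ?_⟩
    have h4 : g⁻¹ x = x - a • v - b • w := by
      rw [eq_sub_iff_add_eq, eq_sub_iff_add_eq, add_right_comm]; exact hx.symm
    rw [h4]
    module

theorem mem_Uni {v w : V} {g : V ≃ₗ[F] V} :
    g ∈ Uni v w ↔ g v = v ∧ (∃ a : F, g w = w + a • v) ∧ ∀ x, ∃ a b : F, g x = x + a • v + b • w :=
  Iff.rfl

theorem Uni_pow_apply {v w : V} {g : V ≃ₗ[F] V} (hg : g ∈ Uni v w) {a' : F} (hw : g w = w + a' • v)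
    {x : V} {a b : F} (hx : g x = x + a • v + b • w) (n : ℕ) :
    (g ^ n) x = x + (n : F) • (a • v + b • w) + ((n.choose 2 : ℕ) : F) • ((b * a') • v) := by
  induction n with
  | zero => simp
  | succ k ih =>
    rw [pow_succ', LinearEquiv.mul_apply, ih, map_add, map_add, map_smul, map_smul, map_add,
      map_smul, map_smul, map_smul, hg.1, hw, hx]
    have : ((k + 1).choose 2 : ℕ) = k + k.choose 2 := by
      rw [Nat.choose_succ_succ, Nat.choose_one_right]
    rw [this]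
    push_cast
    module

theorem Uni_pow_char {v w : V} {p : ℕ} [Fact p.Prime] [CharP F p] (hp : p ≠ 2) {g : V ≃ₗ[F] V}
    (hg : g ∈ Uni v w) : g ^ p = 1 := by
  obtain ⟨a', hw⟩ := hg.2.1
  ext x
  obtain ⟨a, b, hx⟩ := hg.2.2 x
  rw [Uni_pow_apply hg hw hx]
  have h1 : ((p : ℕ) : F) = 0 := CharP.cast_eq_zero F p
  have hpp : p.Prime := Fact.out
  have h2 : ((p.choose 2 : ℕ) : F) = 0 := by
    rw [CharP.cast_eq_zero_iff F p]
    apply hpp.dvd_choose_self (by norm_num)
    have := hpp.two_le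
    omega
  rw [h1, h2]
  simp

theorem Uni_isPGroup {v w : V} {p : ℕ} [Fact p.Prime] [CharP F p] (hp : p ≠ 2) :
    IsPGroup p (Uni (F := F) v w) := by
  intro g
  refine ⟨1, ?_⟩
  apply Subtype.ext
  rw [pow_one]
  simpa using Uni_pow_char hp g.2

theorem tv_mem_Uni_left {v w : V} {φ : (V →ₗ[F] F)} (h : φ v = 0) : tv v φ ∈ Uni v w := by
  refine ⟨by rw [tv_apply h, h, zero_smul, add_zero], ⟨φ w, by rw [tv_apply h]⟩, fun x => ⟨φ x, 0, ?_⟩⟩
  rw [tv_apply h]; simp

theorem tv_mem_Uni_right {v w : V} {ψ : (V →ₗ[F] F)} (h : ψ w = 0) (hv : ψ v = 0) : tv w ψ ∈ Uni v w := by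
  refine ⟨by rw [tv_apply h, hv, zero_smul, add_zero], ⟨0, by rw [tv_apply h, h]; simp⟩,
    fun x => ⟨0, ψ x, ?_⟩⟩
  rw [tv_apply h]; simp

/-- two non-opposite transvections generate a `p`-group -/
theorem closure_pair_isPGroup {p : ℕ} [Fact p.Prime] [CharP F p] (hp : p ≠ 2) {v w : V}
    {φ ψ : (V →ₗ[F] F)} (h1 : φ v = 0) (h2 : ψ w = 0) (h : φ w = 0 ∨ ψ v = 0) :
    ∀ g ∈ Subgroup.closure ({tv v φ, tv w ψ} : Set (V ≃ₗ[F] V)), g ^ p = 1 := by
  intro g hg
  rcases h with h | h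
  · have : Subgroup.closure ({tv v φ, tv w ψ} : Set (V ≃ₗ[F] V)) ≤ Uni w v := by
      rw [Subgroup.closure_le]
      rintro x (rfl | rfl)
      · exact tv_mem_Uni_right h1 h
      · exact tv_mem_Uni_left h2
    exact Uni_pow_char hp (this hg)
  · have : Subgroup.closure ({tv v φ, tv w ψ} : Set (V ≃ₗ[F] V)) ≤ Uni v w := by
      rw [Subgroup.closure_le]
      rintro x (rfl | rfl)
      · exact tv_mem_Uni_left h1
      · exact tv_mem_Uni_right h2 h
    exact Uni_pow_char hp (this hg)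

section zmod

variable {p : ℕ} [Fact p.Prime] {W : Type*} [AddCommGroup W] [Module (ZMod p) W]

theorem tv_smul_right_zmod {v : W} {φ : (W →ₗ[ZMod p] ZMod p)} (h : φ v = 0) (a : ZMod p) :
    tv v (a • φ) = (tv v φ) ^ a.val := by
  rw [tv_pow h]
  congr 1
  rw [← Nat.cast_smul_eq_nsmul (ZMod p), ZMod.natCast_val, ZMod.cast_id', id_eq]

/-- an element of order `p` fixing a hyperplane pointwise is a transvection -/
theorem exists_tv_of_hyp [FiniteDimensional (ZMod p) W] (t : W ≃ₗ[ZMod p] W) (ho : orderOf t = p)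
    (hk : finrank (ZMod p) ↥(LinearMap.ker ((t : W →ₗ[ZMod p] W) - LinearMap.id)) + 1 =
      finrank (ZMod p) W) :
    ∃ (v : W) (φ : (W →ₗ[ZMod p] ZMod p)), v ≠ 0 ∧ φ ≠ 0 ∧ φ v = 0 ∧ t = tv v φ := by
  set K := LinearMap.ker ((t : W →ₗ[ZMod p] W) - LinearMap.id) with hK
  have hKtop : K ≠ ⊤ := by
    intro h
    rw [h, finrank_top] at hk
    omega
  obtain ⟨x₀, -, hx₀⟩ := SetLike.exists_of_lt (lt_top_iff_ne_top.mpr hKtop)
  obtain ⟨f, hf1, hf2⟩ := Submodule.exists_dual_map_eq_bot_of_notMem hx₀ inferInstance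
  set φ : (W →ₗ[ZMod p] ZMod p) := (f x₀)⁻¹ • f with hφ
  have hφx₀ : φ x₀ = 1 := by simp [hφ, hf1]
  have hφK : ∀ y ∈ K, φ y = 0 := by
    intro y hy
    have : f y ∈ Submodule.map f K := Submodule.mem_map_of_mem hy
    rw [hf2, Submodule.mem_bot] at this
    simp [hφ, this]
  have hφ0 : φ ≠ 0 := by
    intro h; rw [h] at hφx₀; simp at hφx₀
  have hsurj : LinearMap.range φ = ⊤ := by
    rw [LinearMap.range_eq_top]
    intro c
    exact ⟨c • x₀, by simp [hφx₀]⟩
  have hker : finrank (ZMod p) ↥(LinearMap.ker φ) + 1 = finrank (ZMod p) W := by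
    have := LinearMap.finrank_range_add_finrank_ker φ
    rw [hsurj, finrank_top, Module.finrank_self] at this
    omega
  have hKle : K ≤ LinearMap.ker φ := fun y hy => by
    rw [LinearMap.mem_ker]; exact hφK y hy
  have hKeq : K = LinearMap.ker φ := by
    apply Submodule.eq_of_le_of_finrank_eq hKle
    omega
  set v : W := t x₀ - x₀ with hv
  have hv0 : v ≠ 0 := by
    intro h
    apply hx₀
    rw [hK, LinearMap.mem_ker]
    simpa [hv] using h
  have hform : ∀ x, t x = x + φ x • v := by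
    intro x
    have h1 : x - φ x • x₀ ∈ LinearMap.ker φ := by
      rw [LinearMap.mem_ker]; simp [hφx₀]
    rw [← hKeq, hK, LinearMap.mem_ker] at h1
    simp only [LinearMap.sub_apply, LinearEquiv.coe_coe, LinearMap.id_coe, id_eq, map_sub,
      map_smul] at h1
    have : t x - x = φ x • (t x₀ - x₀) := sub_eq_zero.mp h1
    rw [← this]; abel
  have hpow : ∀ n : ℕ, (t ^ n) v = (1 + φ v) ^ n • v := by
    intro n
    induction n with
    | zero => simp
    | succ k ih =>
      rw [pow_succ', LinearEquiv.mul_apply, ih, map_smul, hform v, pow_succ]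
      module
  have hφv : φ v = 0 := by
    have h1 := hpow p
    have htp : t ^ p = 1 := by
      have := pow_orderOf_eq_one t
      rwa [ho] at this
    rw [htp] at h1
    simp only [LinearEquiv.coe_one, id_eq] at h1
    rw [ZMod.pow_card] at h1
    have h2 : (φ v) • v = 0 := by
      have : v = v + φ v • v := by
        conv_lhs => rw [h1]
        module
      have h3 := sub_eq_zero.mpr this.symm
      simpa using h3
    rcases smul_eq_zero.mp h2 with h3 | h3
    · exact h3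
    · exact absurd h3 hv0
  refine ⟨v, φ, hv0, hφ0, hφv, ?_⟩
  ext x
  rw [hform x, tv_apply hφv]

end zmod

end Cfsg.Agent.Lib.Helper11.McTv
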