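import Mathlib
import Cfsg.Agent.Lib.Helper11.McTv2
import Cfsg.Agent.Lib.Helper11.McESys
import Cfsg.Agent.Lib.Helper06.BaerSuzuki

set_option autoImplicit false
set_option linter.unusedSectionVars false

/-!
# The E-system of a transvection group over `ZMod p` without normal `p`-subgroups
-/

namespace Cfsg.Agent.Lib.Helper11.McG

open Module Cfsg.Agent.Lib.Helper11.McTv Cfsg.Agent.Lib.Helper11.McE

variable {p : ℕ} [Fact p.Prime] {V : Type*} [AddCommGroup V] [Module (ZMod p) V]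

/-- Baer–Suzuki: an element outside every normal `p`-subgroup generates a non-`p`-group with one of
its conjugates (copied from the library of helper02 to keep the dependency cone small). -/
theorem exists_conj_not_pGroup' {H : Type*} [Group H] [Finite H] {p : ℕ} [Fact p.Prime] (a : H)
    (ha : ∀ N : Subgroup H, N.Normal → IsPGroup p N → a ∉ N) :
    ∃ g : H, ¬ IsPGroup p (Subgroup.closure ({a, g * a * g⁻¹} : Set H)) := by
  by_contra hcon
  push Not at hcon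
  set K : Set H := {x | ∃ g : H, x = g * a * g⁻¹} with hK
  have hKconj : ∀ g k : H, k ∈ K → g * k * g⁻¹ ∈ K := by
    rintro g k ⟨g', rfl⟩
    exact ⟨g * g', by group⟩
  have hKp : ∀ x ∈ K, ∀ y ∈ K, IsPGroup p (Subgroup.closure ({x, y} : Set H)) := by
    rintro x ⟨g₁, rfl⟩ y ⟨g₂, rfl⟩
    have h1 := hcon (g₁⁻¹ * g₂)
    have h2 : Subgroup.closure ({g₁ * a * g₁⁻¹, g₂ * a * g₂⁻¹} : Set H) =
        (Subgroup.closure ({a, g₁⁻¹ * g₂ * a * (g₁⁻¹ * g₂)⁻¹} : Set H)).map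
          (MulAut.conj g₁).toMonoidHom := by
      rw [MonoidHom.map_closure, Set.image_pair]
      congr 2
      · simp only [MulEquiv.coe_toMonoidHom, MulAut.conj_apply]
        group
    rw [h2]
    exact h1.map _
  obtain ⟨N, hNn, hNp, hKN⟩ := Cfsg.Agent.Lib.Helper06.baer_suzuki_set (p := p) K hKconj hKp
  exact ha N hNn hNp (hKN ⟨1, by group⟩)

/-- no nontrivial `p`-subgroup of `H` is normalised by `H` -/
def NoNormP (p : ℕ) [Fact p.Prime] {V : Type*} [AddCommGroup V] [Module (ZMod p) V]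
    (H : Subgroup (V ≃ₗ[ZMod p] V)) : Prop :=
  ∀ N : Subgroup (V ≃ₗ[ZMod p] V), N ≤ H → (∀ h ∈ H, ∀ n ∈ N, h * n * h⁻¹ ∈ N) →
    (∀ n ∈ N, ∃ k : ℕ, n ^ p ^ k = 1) → N = ⊥

/-- the pairs `(v, φ)` whose transvection lies in `H` -/
def EH (H : Subgroup (V ≃ₗ[ZMod p] V)) (v : V) (φ : V →ₗ[ZMod p] ZMod p) : Prop :=
  φ v = 0 ∧ tv v φ ∈ H

instance finite_linearEquiv [Finite V] : Finite (V ≃ₗ[ZMod p] V) :=
  Finite.of_injective (fun e => (e : V → V)) DFunLike.coe_injective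

theorem tv_pow_p {v : V} {φ : V →ₗ[ZMod p] ZMod p} (h : φ v = 0) : (tv v φ) ^ p = 1 := by
  rw [tv_pow h]
  have : (p • φ : V →ₗ[ZMod p] ZMod p) = 0 := by
    rw [← Nat.cast_smul_eq_nsmul (ZMod p), ZMod.natCast_self, zero_smul]
  rw [this, tv_zero_right]

theorem opp_of_noNormP [Finite V] (hp2 : p ≠ 2) {H : Subgroup (V ≃ₗ[ZMod p] V)}
    (hH : NoNormP p H) {v : V} {φ : V →ₗ[ZMod p] ZMod p} (hE : EH H v φ) (hv0 : v ≠ 0)
    (hφ0 : φ ≠ 0) : ∃ w ψ, EH H w ψ ∧ φ w ≠ 0 ∧ ψ v ≠ 0 := by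
  obtain ⟨hφv, ht⟩ := hE
  have hne := tv_ne_one hφv hv0 hφ0
  have ha : ∀ N : Subgroup ↥H, N.Normal → IsPGroup p N → (⟨tv v φ, ht⟩ : ↥H) ∉ N := by
    intro N hN hpN hmem
    have hbot : N.map H.subtype = ⊥ := by
      apply hH
      · exact Subgroup.map_subtype_le N
      · rintro h hh n ⟨n', hn', rfl⟩
        refine ⟨⟨h, hh⟩ * n' * ⟨h, hh⟩⁻¹, hN.conj_mem n' hn' ⟨h, hh⟩, ?_⟩
        simp
      · rintro n ⟨n', hn', rfl⟩
        obtain ⟨k, hk⟩ := hpN ⟨n', hn'⟩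
        refine ⟨k, ?_⟩
        have := congrArg (fun x : ↥N => ((x : ↥H) : V ≃ₗ[ZMod p] V)) hk
        simpa using this
    have hNbot : N = ⊥ := by
      rw [← Subgroup.map_eq_bot_iff_of_injective N H.subtype_injective]
      exact hbot
    rw [hNbot, Subgroup.mem_bot] at hmem
    apply hne
    exact congrArg Subtype.val hmem
  obtain ⟨g, hg⟩ := exists_conj_not_pGroup' (p := p)
    (⟨tv v φ, ht⟩ : ↥H) ha
  set w := (g : V ≃ₗ[ZMod p] V) v with hw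
  set ψ : V →ₗ[ZMod p] ZMod p := φ ∘ₗ ((g : V ≃ₗ[ZMod p] V).symm : V →ₗ[ZMod p] V) with hψ
  have hconj : (g : V ≃ₗ[ZMod p] V) * tv v φ * (g : V ≃ₗ[ZMod p] V)⁻¹ = tv w ψ := tv_conj _ v φ
  have hψw : ψ w = 0 := by simp [hψ, hw, hφv]
  have hmem : tv w ψ ∈ H := by
    rw [← hconj]
    exact H.mul_mem (H.mul_mem g.2 ht) (H.inv_mem g.2)
  refine ⟨w, ψ, ⟨hψw, hmem⟩, ?_⟩
  by_contra hcon
  have hor : φ w = 0 ∨ ψ v = 0 := by
    by_contra h
    push Not at h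
    exact hcon h
  apply hg
  have hpg := closure_pair_isPGroup (p := p) hp2 hφv hψw hor
  intro y
  refine ⟨1, ?_⟩
  rw [pow_one]
  apply Subtype.ext
  apply Subtype.ext
  have hy : ((y : ↥H) : V ≃ₗ[ZMod p] V) ∈
      Subgroup.closure ({tv v φ, tv w ψ} : Set (V ≃ₗ[ZMod p] V)) := by
    have h1 : ((y : ↥H) : V ≃ₗ[ZMod p] V) ∈
        (Subgroup.closure ({(⟨tv v φ, ht⟩ : ↥H), g * ⟨tv v φ, ht⟩ * g⁻¹} : Set ↥H)).map
          H.subtype := ⟨y, y.2, rfl⟩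
    rw [MonoidHom.map_closure, Set.image_pair] at h1
    have e : H.subtype (g * ⟨tv v φ, ht⟩ * g⁻¹) = tv w ψ := by
      rw [← hconj]; simp
    rw [e] at h1
    exact h1
  have := hpg _ hy
  simpa using this

/-- the E-system of `H` -/
noncomputable def esysOf [Finite V] (hp2 : p ≠ 2) (H : Subgroup (V ≃ₗ[ZMod p] V))
    (hH : NoNormP p H) : ESys (ZMod p) V where
  E := EH H
  apply_zero := fun h => h.1
  zero_left := fun φ => ⟨map_zero φ, by rw [tv_zero_left]; exact H.one_mem⟩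
  zero_right := fun v => ⟨rfl, by rw [tv_zero_right]; exact H.one_mem⟩
  smul := by
    rintro v φ a b ⟨h1, h2⟩
    refine ⟨by simp [h1], ?_⟩
    rw [tv_smul_left, smul_smul, tv_smul_right_zmod h1]
    exact H.pow_mem h2 _
  add_right := by
    rintro v φ φ' ⟨h1, h2⟩ ⟨h1', h2'⟩
    refine ⟨by simp [h1, h1'], ?_⟩
    rw [← tv_mul_right h1 h1']
    exact H.mul_mem h2 h2'
  add_left := by
    rintro v v' φ ⟨h1, h2⟩ ⟨h1', h2'⟩
    refine ⟨by simp [h1, h1'], ?_⟩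
    rw [← tv_mul_left h1 h1']
    exact H.mul_mem h2 h2'
  conj := by
    rintro v φ w ψ ⟨h1, h2⟩ ⟨h1', h2'⟩
    refine ⟨by simp [h1, h1']; ring, ?_⟩
    rw [← tv_conj_tv h1']
    exact H.mul_mem (H.mul_mem h2' h2) (H.inv_mem h2')
  opp := fun hE hv0 hφ0 => opp_of_noNormP hp2 hH hE hv0 hφ0
  ruleM := by
    rintro u c u' β γ β' ⟨h1, h2⟩ ⟨h3, h4⟩ ⟨h5, h6⟩ ⟨h7, h8⟩ hβc hγu hγc hβ'c hγu'
    refine ⟨by simp [hγc], ?_⟩
    have key := tv_ruleM h1 h5 hβc hγu hγc hβ'c hγu'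
    have hg : tv (u + c) (β + γ) * tv (-u) β ∈ H := by
      rw [← tv_inv]; exact H.mul_mem h4 (H.inv_mem h2)
    have hg' : tv (u' + c) (β' + γ) * tv (-u') β' ∈ H := by
      rw [← tv_inv]; exact H.mul_mem h8 (H.inv_mem h6)
    have : tv ((β u' - β' u) • c) γ =
        (tv (u + c) (β + γ) * tv (-u) β) * (tv (u' + c) (β' + γ) * tv (-u') β') *
          ((tv (u' + c) (β' + γ) * tv (-u') β') * (tv (u + c) (β + γ) * tv (-u) β))⁻¹ := by
      rw [key]; group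
    rw [this]
    exact H.mul_mem (H.mul_mem hg hg') (H.inv_mem (H.mul_mem hg' hg))

theorem esysOf_E [Finite V] (hp2 : p ≠ 2) (H : Subgroup (V ≃ₗ[ZMod p] V)) (hH : NoNormP p H)
    (v : V) (φ : V →ₗ[ZMod p] ZMod p) : (esysOf hp2 H hH).E v φ ↔ (φ v = 0 ∧ tv v φ ∈ H) :=
  Iff.rfl

end Cfsg.Agent.Lib.Helper11.McG
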