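import Mathlib
import Cfsg.Agent.Lib.Helper11.McGroup1
import Cfsg.Agent.Lib.Helper11.McGen2

set_option autoImplicit false
set_option linter.unusedSectionVars false

/-!
# Splitting a transvection group along an idempotent
-/

namespace Cfsg.Agent.Lib.Helper11.McG

open Module Cfsg.Agent.Lib.Helper11.McTv Cfsg.Agent.Lib.Helper11.McE

section general

variable {F : Type*} [Field F] {V : Type*} [AddCommGroup V] [Module F V]

theorem tv_comm {v w : V} {φ ψ : V →ₗ[F] F} (h1 : φ v = 0) (h2 : ψ w = 0) (h3 : φ w = 0)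
    (h4 : ψ v = 0) : tv v φ * tv w ψ = tv w ψ * tv v φ := by
  ext x
  rw [LinearEquiv.mul_apply, LinearEquiv.mul_apply, tv_apply h1, tv_apply h2, tv_apply h1,
    tv_apply h2]
  simp only [map_add, map_smul, h3, h4, smul_eq_mul, mul_zero, add_zero]
  abel

/-- transvections living on `range π` -/
def gens00 (π : V →ₗ[F] V) : Set (V ≃ₗ[F] V) :=
  {g | ∃ (u : V) (χ : V →ₗ[F] F), π u = u ∧ χ ∘ₗ π = χ ∧ χ u = 0 ∧ g = tv u χ}

/-- transvections of `H` living on `ker π` -/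
def gensFar (H : Subgroup (V ≃ₗ[F] V)) (π : V →ₗ[F] V) : Set (V ≃ₗ[F] V) :=
  {g | ∃ (w : V) (ψ : V →ₗ[F] F), ψ w = 0 ∧ tv w ψ ∈ H ∧ π w = 0 ∧ ψ ∘ₗ π = 0 ∧ g = tv w ψ}

/-- maps which are the identity on `ker π` and commute with `π` -/
def Kside (π : V →ₗ[F] V) : Subgroup (V ≃ₗ[F] V) where
  carrier := {g | (∀ x, π x = 0 → g x = x) ∧ (∀ x, g (π x) = π (g x))}
  one_mem' := ⟨fun _ _ => rfl, fun _ => rfl⟩
  mul_mem' := by
    rintro a b ⟨ha1, ha2⟩ ⟨hb1, hb2⟩
    refine ⟨fun x hx => ?_, fun x => ?_⟩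
    · rw [LinearEquiv.mul_apply, hb1 x hx, ha1 x hx]
    · rw [LinearEquiv.mul_apply, LinearEquiv.mul_apply, hb2, ha2]
  inv_mem' := by
    rintro a ⟨ha1, ha2⟩
    refine ⟨fun x hx => ?_, fun x => ?_⟩
    · have := ha1 x hx
      conv_lhs => rw [← this]
      exact le_inv_apply_self a x
    · apply a.injective
      rw [le_apply_inv_self, ha2, le_apply_inv_self]

/-- maps which fix `range π` pointwise and preserve the fibres of `π` -/
def Fside (π : V →ₗ[F] V) : Subgroup (V ≃ₗ[F] V) where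
  carrier := {g | (∀ x, g (π x) = π x) ∧ (∀ x, π (g x) = π x)}
  one_mem' := ⟨fun _ => rfl, fun _ => rfl⟩
  mul_mem' := by
    rintro a b ⟨ha1, ha2⟩ ⟨hb1, hb2⟩
    exact ⟨fun x => by rw [LinearEquiv.mul_apply, hb1, ha1],
      fun x => by rw [LinearEquiv.mul_apply, ha2, hb2]⟩
  inv_mem' := by
    rintro a ⟨ha1, ha2⟩
    refine ⟨fun x => ?_, fun x => ?_⟩
    · conv_lhs => rw [← ha1 x]
      exact le_inv_apply_self a _
    · have := ha2 (a⁻¹ x)
      rw [le_apply_inv_self] at this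
      exact this.symm

theorem gens00_le_Kside {π : V →ₗ[F] V} : gens00 π ⊆ (Kside π : Set (V ≃ₗ[F] V)) := by
  rintro g ⟨u, χ, hu, hχ, hχu, rfl⟩
  refine ⟨fun x hx => ?_, fun x => ?_⟩
  · rw [tv_apply hχu, ← comp_apply' hχ, hx, map_zero, zero_smul, add_zero]
  · rw [tv_apply hχu, tv_apply hχu, map_add, map_smul, hu, comp_apply' hχ]

theorem gensFar_le_Fside {H : Subgroup (V ≃ₗ[F] V)} {π : V →ₗ[F] V} :
    gensFar H π ⊆ (Fside π : Set (V ≃ₗ[F] V)) := by
  rintro g ⟨w, ψ, hψw, -, hw, hψ, rfl⟩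
  refine ⟨fun x => ?_, fun x => ?_⟩
  · rw [tv_apply hψw, comp_zero_apply hψ, zero_smul, add_zero]
  · rw [tv_apply hψw, map_add, map_smul, hw, smul_zero, add_zero]

theorem comm_of_gens {G : Type*} [Group G] {s t : Set G}
    (h : ∀ a ∈ s, ∀ b ∈ t, a * b = b * a) :
    ∀ a ∈ Subgroup.closure s, ∀ b ∈ Subgroup.closure t, a * b = b * a := by
  intro a ha b hb
  induction hb using Subgroup.closure_induction with
  | mem b hb =>
    induction ha using Subgroup.closure_induction with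
    | mem a ha => exact h a ha b hb
    | one => simp
    | mul x y _ _ hx hy => rw [mul_assoc, hy, ← mul_assoc, hx, mul_assoc]
    | inv x _ hx =>
      rw [inv_mul_eq_iff_eq_mul, ← mul_assoc, hx, mul_assoc, mul_inv_cancel, mul_one]
  | one => simp
  | mul x y _ _ hx hy => rw [← mul_assoc, hx, mul_assoc, hy, mul_assoc]
  | inv x _ hx =>
    rw [eq_comm, inv_mul_eq_iff_eq_mul, ← mul_assoc, ← hx, mul_assoc, mul_inv_cancel, mul_one]

/-- the data of a splitting `H = K × H'` along `π` -/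
structure Split (H : Subgroup (V ≃ₗ[F] V)) (π : V →ₗ[F] V) (K H' : Subgroup (V ≃ₗ[F] V)) :
    Prop where
  idem : π ∘ₗ π = π
  K_le : K ≤ H
  H'_le : H' ≤ H
  le_sup : H ≤ K ⊔ H'
  comm : ∀ a ∈ K, ∀ b ∈ H', a * b = b * a
  K_side : K ≤ Kside π
  H'_side : H' ≤ Fside π

theorem split_of {H : Subgroup (V ≃ₗ[F] V)} {π : V →ₗ[F] V} (hπ : π ∘ₗ π = π)
    (gK : Set (V ≃ₗ[F] V)) (h00 : gK ⊆ gens00 π) (hKH : gK ⊆ (H : Set (V ≃ₗ[F] V)))
    (T : Set (V ≃ₗ[F] V)) (hHT : H = Subgroup.closure T)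
    (hT : ∀ t ∈ T, t ∈ gK ∨ t ∈ gensFar H π) :
    Split H π (Subgroup.closure gK) (Subgroup.closure (gensFar H π)) := by
  refine ⟨hπ, (Subgroup.closure_le _).mpr hKH, ?_, ?_, ?_, ?_, ?_⟩
  · rw [Subgroup.closure_le]
    rintro g ⟨w, ψ, -, hmem, -, -, rfl⟩
    exact hmem
  · conv_lhs => rw [hHT]
    rw [Subgroup.closure_le]
    intro t ht
    rcases hT t ht with h | h
    · exact (le_sup_left : Subgroup.closure gK ≤ _) (Subgroup.subset_closure h)
    · exact (le_sup_right : Subgroup.closure (gensFar H π) ≤ _) (Subgroup.subset_closure h)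
  · apply comm_of_gens
    intro a ha b hb
    obtain ⟨u, χ, hu, hχ, hχu, rfl⟩ := h00 ha
    obtain ⟨w, ψ, hψw, -, hw, hψ, rfl⟩ := hb
    apply tv_comm hχu hψw
    · rw [← comp_apply' hχ, hw, map_zero]
    · rw [← hu, comp_zero_apply hψ]
  · rw [Subgroup.closure_le]
    exact fun g hg => gens00_le_Kside (h00 hg)
  · rw [Subgroup.closure_le]
    exact gensFar_le_Fside

namespace Split

variable {H K H' : Subgroup (V ≃ₗ[F] V)} {π : V →ₗ[F] V}

theorem inf_eq_bot (h : Split H π K H') : K ⊓ H' = ⊥ := by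
  rw [eq_bot_iff]
  rintro g ⟨hg1, hg2⟩
  rw [Subgroup.mem_bot]
  ext x
  have h1 := (h.K_side hg1).1 (x - π x) (by rw [map_sub, idem_apply h.idem, sub_self])
  have h2 := (h.H'_side hg2).1 x
  have : g x = g (π x) + g (x - π x) := by rw [← map_add]; congr 1; abel
  rw [this, h1, h2, le_one_apply]
  abel

theorem sup_eq (h : Split H π K H') : K ⊔ H' = H :=
  le_antisymm (sup_le h.K_le h.H'_le) h.le_sup

theorem card_lt [Finite (V ≃ₗ[F] V)] (h : Split H π K H') (hK : K ≠ ⊥) :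
    Nat.card ↥H' < Nat.card ↥H := by
  by_contra hcon
  push Not at hcon
  have heq : H' = H := Subgroup.eq_of_le_of_card_ge h.H'_le hcon
  apply hK
  rw [← h.inf_eq_bot, heq]
  exact (inf_eq_left.mpr h.K_le).symm

end Split

end general

section zmod

variable {p : ℕ} [Fact p.Prime] {V : Type*} [AddCommGroup V] [Module (ZMod p) V]

theorem Split.noNormP {H K H' : Subgroup (V ≃ₗ[ZMod p] V)} {π : V →ₗ[ZMod p] V}
    (h : Split H π K H') (hH : NoNormP p H) : NoNormP p H' := by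
  intro N hN hnorm hpN
  apply hH N (hN.trans h.H'_le) _ hpN
  have h1 : K ≤ Subgroup.normalizer (N : Set (V ≃ₗ[ZMod p] V)) := by
    rw [Subgroup.le_normalizer_iff]
    intro k hk n hn
    rw [h.comm k hk n (hN hn), mul_inv_cancel_right]
    exact hn
  have h2 : H' ≤ Subgroup.normalizer (N : Set (V ≃ₗ[ZMod p] V)) := by
    rw [Subgroup.le_normalizer_iff]
    exact hnorm
  have h3 := h.le_sup.trans (sup_le h1 h2)
  exact Subgroup.le_normalizer_iff.mp h3

end zmod

end Cfsg.Agent.Lib.Helper11.McG
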