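import Mathlib
import Cfsg.Agent.Lib.Helper11.McESys

set_option autoImplicit false

/-!
# Opposite pairs give `SL₂`; the symplectic regime (no `SL₃`): uniqueness of axes and centres
-/

namespace Cfsg.Agent.Lib.Helper11.McE

open Module

variable {F : Type*} [Field F] {V : Type*} [AddCommGroup V] [Module F V]

/-- projection onto `⟨v, w⟩` along `ker φ ∩ ker ψ` -/
def pi2 (v w : V) (φ ψ : V →ₗ[F] F) : V →ₗ[F] V :=
  (ψ v)⁻¹ • ψ.smulRight v + (φ w)⁻¹ • φ.smulRight w

theorem pi2_apply (v w : V) (φ ψ : V →ₗ[F] F) (x : V) :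
    pi2 v w φ ψ x = ((ψ v)⁻¹ * ψ x) • v + ((φ w)⁻¹ * φ x) • w := by
  simp [pi2, LinearMap.smulRight_apply, smul_smul]

section pi2

variable {S : ESys F V} {v w : V} {φ ψ : V →ₗ[F] F}

theorem pi2_left (hφv : φ v = 0) (h2 : ψ v ≠ 0) : pi2 v w φ ψ v = v := by
  rw [pi2_apply, hφv, mul_zero, zero_smul, add_zero, inv_mul_cancel₀ h2, one_smul]

theorem pi2_right (hψw : ψ w = 0) (h1 : φ w ≠ 0) : pi2 v w φ ψ w = w := by
  rw [pi2_apply, hψw, mul_zero, zero_smul, zero_add, inv_mul_cancel₀ h1, one_smul]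

theorem pi2_comp_left (hφv : φ v = 0) (h1 : φ w ≠ 0) : φ ∘ₗ pi2 v w φ ψ = φ := by
  ext x
  rw [LinearMap.comp_apply, pi2_apply, map_add, map_smul, map_smul, hφv, smul_zero, zero_add,
    smul_eq_mul]
  field_simp

theorem pi2_comp_right (hψw : ψ w = 0) (h2 : ψ v ≠ 0) : ψ ∘ₗ pi2 v w φ ψ = ψ := by
  ext x
  rw [LinearMap.comp_apply, pi2_apply, map_add, map_smul, map_smul, hψw, smul_zero, add_zero,
    smul_eq_mul]
  field_simp

theorem pi2_idem (hφv : φ v = 0) (hψw : ψ w = 0) (h1 : φ w ≠ 0) (h2 : ψ v ≠ 0) :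
    pi2 v w φ ψ ∘ₗ pi2 v w φ ψ = pi2 v w φ ψ := by
  ext x
  rw [LinearMap.comp_apply, pi2_apply v w φ ψ (pi2 v w φ ψ x)]
  have e1 : ψ (pi2 v w φ ψ x) = ψ x := LinearMap.congr_fun (pi2_comp_right hψw h2) x
  have e2 : φ (pi2 v w φ ψ x) = φ x := LinearMap.congr_fun (pi2_comp_left hφv h1) x
  rw [e1, e2, pi2_apply]

theorem pi2_good (hv : S.E v φ) (hw : S.E w ψ) (h1 : φ w ≠ 0) (h2 : ψ v ≠ 0) :
    SLgood S (pi2 v w φ ψ) := by
  have hφv := S.apply_zero hv
  have hψw := S.apply_zero hw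
  refine ⟨pi2_idem hφv hψw h1 h2, ?_⟩
  intro u χ hu hχ hχu
  set a := (ψ v)⁻¹ * ψ u with ha
  set b := (φ w)⁻¹ * φ u with hb
  set α := (φ w)⁻¹ * χ w with hα
  set β := (ψ v)⁻¹ * χ v with hβ
  have hu' : u = a • v + b • w := by
    conv_lhs => rw [← hu, pi2_apply]
  have hχ' : χ = α • φ + β • ψ := by
    ext x
    have := LinearMap.congr_fun hχ x
    rw [LinearMap.comp_apply, pi2_apply, map_add, map_smul, map_smul] at this
    rw [← this]
    simp only [LinearMap.add_apply, LinearMap.smul_apply, smul_eq_mul, hα, hβ]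
    ring
  have hcons : α * b * φ w + β * a * ψ v = 0 := by
    have := hχu
    rw [hχ', hu'] at this
    simp only [LinearMap.add_apply, LinearMap.smul_apply, map_add, map_smul, smul_eq_mul, hφv,
      hψw, mul_zero, zero_add, add_zero] at this
    rw [← this]; ring
  by_cases ha0 : a = 0
  · by_cases hb0 : b = 0
    · rw [hu', ha0, hb0, zero_smul, zero_smul, add_zero]
      exact S.zero_left χ
    · have hα0 : α = 0 := by
        rw [ha0, mul_zero, zero_mul, add_zero] at hcons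
        rcases mul_eq_zero.mp hcons with h | h
        · rcases mul_eq_zero.mp h with h | h
          · exact h
          · exact absurd h hb0
        · exact absurd h h1
      rw [hu', hχ', ha0, hα0, zero_smul, zero_smul, zero_add, zero_add]
      exact S.smul b β hw
  · set k := b / (a * ψ v) with hk
    have hkE : S.E (k • w) ψ := S.smul_left k hw
    have hc := S.smul a α (S.conj hv hkE)
    have e1 : a • (v + ψ v • k • w) = u := by
      rw [hu', smul_add, smul_smul, smul_smul]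
      congr 2
      rw [hk]; field_simp
    have e2 : α • (φ - φ (k • w) • ψ) = χ := by
      rw [hχ']
      ext x
      simp only [LinearMap.smul_apply, LinearMap.sub_apply, LinearMap.add_apply, map_smul,
        smul_eq_mul, hk]
      have hav : a * ψ v ≠ 0 := mul_ne_zero ha0 h2
      field_simp
      linear_combination (-(ψ x)) * hcons
    rw [e1, e2] at hc
    exact hc

theorem pi2_rank [FiniteDimensional F V] (hφv : φ v = 0) (hψw : ψ w = 0) (h1 : φ w ≠ 0) (h2 : ψ v ≠ 0) :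
    2 ≤ finrank F ↥(LinearMap.range (pi2 v w φ ψ)) := by
  have hli : LinearIndependent F ![v, w] := by
    rw [LinearIndependent.pair_iff]
    intro s t hst
    have e1 := congrArg φ hst
    have e2 := congrArg ψ hst
    simp only [map_add, map_smul, smul_eq_mul, hφv, hψw, mul_zero, zero_add, add_zero,
      map_zero] at e1 e2
    constructor
    · rcases mul_eq_zero.mp e2 with h | h
      · exact h
      · exact absurd h h2
    · rcases mul_eq_zero.mp e1 with h | h
      · exact h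
      · exact absurd h h1
  have h3 : finrank F ↥(Submodule.span F (Set.range ![v, w])) = 2 := by
    rw [finrank_span_eq_card hli]; simp
  rw [← h3]
  apply Submodule.finrank_mono
  rw [Submodule.span_le]
  rintro y ⟨i, rfl⟩
  fin_cases i
  · exact ⟨v, pi2_left hφv h2⟩
  · exact ⟨w, pi2_right hψw h1⟩

end pi2

/-! ### The regime without `SL₃` -/

variable (S : ESys F V)

/-- no `SLgood` idempotent of rank at least three -/
def NoSL3 [FiniteDimensional F V] : Prop :=
  ¬ ∃ π : V →ₗ[F] V, SLgood S π ∧ 3 ≤ finrank F ↥(LinearMap.range π)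

variable {S}

theorem grow_range_lt [FiniteDimensional F V] {π : V →ₗ[F] V} (hπ : π ∘ₗ π = π)
    {γ : V →ₗ[F] F} {c : V} (hγ : γ ∘ₗ π = 0) (hc : π c = 0) (h1 : γ c = 1) :
    finrank F ↥(LinearMap.range π) < finrank F ↥(LinearMap.range (π + γ.smulRight c)) := by
  have hπ' : ∀ x, (π + γ.smulRight c) x = π x + γ x • c := fun x => by
    simp [LinearMap.smulRight_apply]
  apply Submodule.finrank_lt_finrank_of_lt
  rw [SetLike.lt_iff_le_and_exists]
  constructor
  · rintro y ⟨x, rfl⟩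
    refine ⟨π x, ?_⟩
    rw [hπ', idem_apply hπ, comp_zero_apply hγ, zero_smul, add_zero]
  · refine ⟨c, ⟨c, by rw [hπ', hc, h1, one_smul, zero_add]⟩, ?_⟩
    rintro ⟨x, hx⟩
    have : π c = c := by rw [← hx, idem_apply hπ]
    rw [hc] at this
    rw [← this, map_zero] at h1
    exact zero_ne_one h1

theorem rank2_trivial [FiniteDimensional F V] (hN : NoSL3 S) {π : V →ₗ[F] V} (hg : SLgood S π)
    (hr : 2 ≤ finrank F ↥(LinearMap.range π)) :
    (∀ γ ∈ Gam S π, γ = 0) ∧ (∀ c ∈ Dd S π, c = 0) := by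
  apply gam_dd_trivial hg hr
  intro γ hγ c hc
  by_contra hγc
  apply hN
  set c' := (γ c)⁻¹ • c with hc'
  have hc'D : c' ∈ Dd S π := Dd_smul hc _
  have hγc' : γ c' = 1 := by
    rw [hc', map_smul, smul_eq_mul, inv_mul_cancel₀ hγc]
  refine ⟨_, grow hg hγ hc'D hγc', ?_⟩
  have := grow_range_lt hg.1 hγ.1 hc'D.1 hγc'
  omega

/-- uniqueness of the axis of a centre -/
theorem axis_unique [FiniteDimensional F V] (hN : NoSL3 S) {v : V} {φ φ' : V →ₗ[F] F}
    (hv : S.E v φ) (hv' : S.E v φ') (hv0 : v ≠ 0) (hφ0 : φ ≠ 0) : ∃ a : F, φ' = a • φ := by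
  obtain ⟨w, ψ, hw, h1, h2⟩ := S.opp hv hv0 hφ0
  have hφv := S.apply_zero hv
  have hψw := S.apply_zero hw
  have hg := pi2_good hv hw h1 h2
  have hr := pi2_rank (F := F) hφv hψw h1 h2
  have h3 := (rank2_trivial hN hg hr).1 _ (gam_of_inU hg hv' (pi2_left hφv h2) hv0)
  have h4 : φ' = φ' ∘ₗ pi2 v w φ ψ := sub_eq_zero.mp h3
  refine ⟨(φ w)⁻¹ * φ' w, ?_⟩
  ext x
  have := LinearMap.congr_fun h4 x
  rw [LinearMap.comp_apply, pi2_apply, map_add, map_smul, map_smul, S.apply_zero hv',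
    smul_zero, zero_add] at this
  rw [this]
  simp only [LinearMap.smul_apply, smul_eq_mul]
  ring

/-- uniqueness of the centre of an axis -/
theorem centre_unique [FiniteDimensional F V] (hN : NoSL3 S) {v v' : V} {φ : V →ₗ[F] F}
    (hv : S.E v φ) (hv' : S.E v' φ) (hv0 : v ≠ 0) (hφ0 : φ ≠ 0) : ∃ a : F, v' = a • v := by
  obtain ⟨w, ψ, hw, h1, h2⟩ := S.opp hv hv0 hφ0
  have hφv := S.apply_zero hv
  have hψw := S.apply_zero hw
  have hg := pi2_good hv hw h1 h2
  have hr := pi2_rank (F := F) hφv hψw h1 h2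
  have h3 := (rank2_trivial hN hg hr).2 _ (dd_of_inC0 hg hv' (pi2_comp_left hφv h1) hφ0)
  have h4 : v' = pi2 v w φ ψ v' := sub_eq_zero.mp h3
  refine ⟨(ψ v)⁻¹ * ψ v', ?_⟩
  rw [pi2_apply, S.apply_zero hv', mul_zero, zero_smul, add_zero] at h4
  exact h4

/-- symmetry of perpendicularity -/
theorem perp_symm [FiniteDimensional F V] (hN : NoSL3 S) {v w : V} {φ ψ : V →ₗ[F] F}
    (hv : S.E v φ) (hw : S.E w ψ) (hv0 : v ≠ 0) (hφ0 : φ ≠ 0) (hψ0 : ψ ≠ 0)
    (h : ψ v = 0) : φ w = 0 := by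
  by_contra hne
  have h1 : S.E v ψ := S.ruleB' hv hw h hne
  obtain ⟨a, ha⟩ := axis_unique hN hv h1 hv0 hφ0
  have h2 := S.apply_zero hw
  rw [ha, LinearMap.smul_apply, smul_eq_mul] at h2
  rcases mul_eq_zero.mp h2 with h3 | h3
  · rw [h3, zero_smul] at ha; exact hψ0 ha
  · exact hne h3

end Cfsg.Agent.Lib.Helper11.McE
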