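import Mathlib
import Cfsg.Agent.Lib.Helper11.McSp1

set_option autoImplicit false
set_option linter.unusedSectionVars false

/-!
# The symplectic regime: `Spgood` idempotents, the shape of pairs, mixed pairs
-/

namespace Cfsg.Agent.Lib.Helper11.McE

open Module

variable {F : Type*} [Field F] {V : Type*} [AddCommGroup V] [Module F V]

theorem skew_of_alt {B : V →ₗ[F] V →ₗ[F] F} (h : ∀ x, B x x = 0) (x y : V) : B x y = - B y x := by
  have h' := h (x + y)
  simp only [map_add, LinearMap.add_apply, h x, h y, zero_add, add_zero] at h'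
  exact eq_neg_of_add_eq_zero_right h'

/-- `H` contains every symplectic transvection of `(range π, B)` -/
structure Spgood [FiniteDimensional F V] (S : ESys F V) (π : V →ₗ[F] V)
    (B : V →ₗ[F] V →ₗ[F] F) : Prop where
  idem : π ∘ₗ π = π
  alt : ∀ x, B x x = 0
  facl : ∀ x y, B (π x) y = B x y
  facr : ∀ x y, B x (π y) = B x y
  nd : ∀ u, π u = u → (∀ y, B u y = 0) → u = 0
  good : ∀ u, π u = u → S.E u (B u)
  rk : 2 ≤ finrank F ↥(LinearMap.range π)

namespace Spgood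

variable [FiniteDimensional F V] {S : ESys F V} {π : V →ₗ[F] V} {B : V →ₗ[F] V →ₗ[F] F}

theorem skew (hS : Spgood S π B) (x y : V) : B x y = - B y x := skew_of_alt hS.alt x y

theorem apply_ker (hS : Spgood S π B) {c : V} (hc : π c = 0) (x : V) : B x c = 0 := by
  rw [← hS.facr, hc, map_zero]

theorem ker_apply (hS : Spgood S π B) {c : V} (hc : π c = 0) (x : V) : B c x = 0 := by
  rw [← hS.facl, hc, map_zero, LinearMap.zero_apply]

theorem comp_pi (hS : Spgood S π B) (x : V) : B x ∘ₗ π = B x := by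
  ext y; exact hS.facr x y

theorem ne_zero (hS : Spgood S π B) {u : V} (hu : π u = u) (hu0 : u ≠ 0) : B u ≠ 0 := by
  intro h
  apply hu0
  apply hS.nd u hu
  intro y
  rw [h]; rfl

theorem exists_ne (hS : Spgood S π B) {u : V} (hu : π u = u) (hu0 : u ≠ 0) :
    ∃ z, π z = z ∧ B u z ≠ 0 := by
  by_contra hcon
  push Not at hcon
  apply hu0
  apply hS.nd u hu
  intro y
  rw [← hS.facr]
  exact hcon (π y) (idem_apply hS.idem y)

theorem inj (hS : Spgood S π B) {u u' : V} (hu : π u = u) (hu' : π u' = u') (h : B u = B u') :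
    u = u' := by
  have : u - u' = 0 := hS.nd _ (by rw [map_sub, hu, hu'])
    (fun y => by rw [map_sub, LinearMap.sub_apply, h, sub_self])
  exact sub_eq_zero.mp this

theorem exists_both (hS : Spgood S π B) {u v : V} (hu : π u = u) (hu0 : u ≠ 0) (hv : π v = v)
    (hv0 : v ≠ 0) : ∃ z, π z = z ∧ B u z ≠ 0 ∧ B v z ≠ 0 := by
  obtain ⟨z₁, hz₁, h1⟩ := hS.exists_ne hu hu0
  obtain ⟨z₂, hz₂, h2⟩ := hS.exists_ne hv hv0
  by_cases h3 : B v z₁ = 0
  · by_cases h4 : B u z₂ = 0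
    · refine ⟨z₁ + z₂, by rw [map_add, hz₁, hz₂], ?_, ?_⟩
      · rw [map_add, h4, add_zero]; exact h1
      · rw [map_add, h3, zero_add]; exact h2
    · exact ⟨z₂, hz₂, h4, h2⟩
  · exact ⟨z₁, hz₁, h1, h3⟩

end Spgood

section sp

variable [FiniteDimensional F V] {S : ESys F V} {π : V →ₗ[F] V} {B : V →ₗ[F] V →ₗ[F] F}

theorem sp_ker (hN : NoSL3 S) (hS : Spgood S π B) {w : V} {ψ : V →ₗ[F] F} (hE : S.E w ψ)
    (hw0 : w ≠ 0) (hψ0 : ψ ≠ 0) {u : V} (hu : π u = u) : ψ u = 0 ↔ B u w = 0 := by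
  by_cases hu0 : u = 0
  · subst hu0; simp
  · have hEu := hS.good u hu
    have hB0 := hS.ne_zero hu hu0
    constructor
    · intro h; exact perp_symm hN hEu hE hu0 hB0 hψ0 h
    · intro h; exact perp_symm hN hE hEu hw0 hψ0 hB0 h

theorem sp_form (hN : NoSL3 S) (hS : Spgood S π B) {w : V} {ψ : V →ₗ[F] F} (hE : S.E w ψ)
    (hw0 : w ≠ 0) (hψ0 : ψ ≠ 0) :
    (π w = 0 ∧ ψ ∘ₗ π = 0) ∨ (π w ≠ 0 ∧ ∃ a : F, a ≠ 0 ∧ ψ ∘ₗ π = a • B (π w)) := by
  have hπ := hS.idem
  have key : ∀ x, ψ (π x) = 0 ↔ B (π w) x = 0 := by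
    intro x
    have e : B (π x) w = - B (π w) x := by
      rw [hS.skew (π x) w, hS.facr, ← hS.facl w x]
    rw [sp_ker hN hS hE hw0 hψ0 (idem_apply hπ x), e, neg_eq_zero]
  by_cases hπw : π w = 0
  · left
    refine ⟨hπw, ?_⟩
    ext x
    rw [LinearMap.comp_apply, LinearMap.zero_apply, key, hπw, map_zero, LinearMap.zero_apply]
  · right
    refine ⟨hπw, ?_⟩
    have hB0 := hS.ne_zero (idem_apply hπ w) hπw
    have h1 : ∃ a : F, ψ ∘ₗ π = a • B (π w) := by
      by_contra hcon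
      obtain ⟨x, hx1, hx2⟩ := exists_ker_ne hB0 hcon
      rw [LinearMap.comp_apply, key] at hx1
      exact hx2 hx1
    obtain ⟨a, ha⟩ := h1
    refine ⟨a, ?_, ha⟩
    rintro rfl
    rw [zero_smul] at ha
    apply hB0
    ext x
    have := LinearMap.congr_fun ha x
    rw [LinearMap.comp_apply, LinearMap.zero_apply, key] at this
    rw [this]; rfl

/-- a pair living on `range π` is a symplectic transvection pair -/
theorem sp_00 (hN : NoSL3 S) (hS : Spgood S π B) {w : V} {ψ : V →ₗ[F] F} (hE : S.E w ψ)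
    (hw0 : w ≠ 0) (hψ0 : ψ ≠ 0) (hw : π w = w) (hψ : ψ ∘ₗ π = ψ) : ∃ a : F, ψ = a • B w := by
  rcases sp_form hN hS hE hw0 hψ0 with ⟨h1, -⟩ | ⟨-, a, -, ha⟩
  · rw [hw] at h1; exact absurd h1 hw0
  · rw [hψ, hw] at ha
    exact ⟨a, ha⟩

/-- the pairs `(u + c, B u + γ)` for all `u` in `range π` -/
def Mix (S : ESys F V) (π : V →ₗ[F] V) (B : V →ₗ[F] V →ₗ[F] F) (c : V) (γ : V →ₗ[F] F) : Prop :=
  π c = 0 ∧ γ ∘ₗ π = 0 ∧ ∀ u, π u = u → S.E (u + c) (B u + γ)

theorem Mix.E0 {c : V} {γ : V →ₗ[F] F} (h : Mix S π B c γ) : S.E c γ := by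
  have := h.2.2 0 (map_zero π)
  rwa [zero_add, map_zero, zero_add] at this

theorem Mix.apply_self {c : V} {γ : V →ₗ[F] F} (h : Mix S π B c γ) : γ c = 0 :=
  S.apply_zero h.E0

theorem Mix.apply_U {c : V} {γ : V →ₗ[F] F} (h : Mix S π B c γ) {u : V} (hu : π u = u) :
    γ u = 0 := by
  rw [← hu]; exact comp_zero_apply h.2.1 u

theorem mix_step (hS : Spgood S π B) {c : V} {γ : V →ₗ[F] F} (hc : π c = 0) (hγ : γ ∘ₗ π = 0)
    {u u' : V} (hu : π u = u) (hu' : π u' = u') (hE : S.E (u + c) (B u + γ))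
    (hne : B u u' ≠ 0) : S.E (u' + c) (B u' + γ) := by
  obtain ⟨y, hy⟩ : ∃ y, y = u' - u := ⟨_, rfl⟩
  have hyU : π y = y := by rw [hy, map_sub, hu, hu']
  obtain ⟨a, ha⟩ : ∃ a, a = (B u' u)⁻¹ := ⟨_, rfl⟩
  have hBne : B u' u ≠ 0 := by rw [hS.skew]; exact neg_ne_zero.mpr hne
  have hyE : S.E y (a • B y) := S.smul_right a (hS.good y hyU)
  have h1 := S.conj hE hyE
  have hγy : γ y = 0 := by rw [← hyU]; exact comp_zero_apply hγ y
  have e1 : (a • B y) (u + c) = 1 := by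
    rw [LinearMap.smul_apply, map_add, hS.apply_ker hc, add_zero, hy, map_sub,
      LinearMap.sub_apply, hS.alt, sub_zero, smul_eq_mul, ha, inv_mul_cancel₀ hBne]
  have e2 : (B u + γ) y = B u u' := by
    rw [LinearMap.add_apply, hγy, add_zero, hy, map_sub, hS.alt, sub_zero]
  have e5 : B u u' * a = -1 := by
    rw [ha, hS.skew u u', neg_mul, mul_inv_cancel₀ hBne]
  have e3 : (u + c) + (a • B y) (u + c) • y = u' + c := by
    rw [e1, one_smul, hy]; abel
  have e4 : (B u + γ) - (B u + γ) y • (a • B y) = B u' + γ := by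
    rw [e2, smul_smul, e5, hy, map_sub]
    module
  rw [e3, e4] at h1
  exact h1

theorem mix_of_one (hS : Spgood S π B) (h2 : (2 : F) ≠ 0) {c : V} {γ : V →ₗ[F] F}
    (hc : π c = 0) (hγ : γ ∘ₗ π = 0) {u₁ : V} (hu₁ : π u₁ = u₁) (hu₁0 : u₁ ≠ 0)
    (hE : S.E (u₁ + c) (B u₁ + γ)) : Mix S π B c γ := by
  refine ⟨hc, hγ, ?_⟩
  have hγu : ∀ u, π u = u → γ u = 0 := fun u hu => by
    rw [← hu]; exact comp_zero_apply hγ u
  have hstep : ∀ u, π u = u → u ≠ 0 → S.E (u + c) (B u + γ) := by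
    intro u hu hu0
    obtain ⟨z, hz, hz1, hz2⟩ := hS.exists_both hu₁ hu₁0 hu hu0
    have h3 := mix_step hS hc hγ hu₁ hz hE hz1
    have hz3 : B z u ≠ 0 := by rw [hS.skew]; exact neg_ne_zero.mpr hz2
    exact mix_step hS hc hγ hz hu h3 hz3
  intro u hu
  by_cases hu0 : u = 0
  · subst hu0
    rw [zero_add, map_zero, zero_add]
    obtain ⟨u', hu', hne⟩ := hS.exists_ne hu₁ hu₁0
    have hu'0 : u' ≠ 0 := by
      rintro rfl; rw [map_zero] at hne; exact hne rfl
    have hE' := hstep u' hu' hu'0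
    have hγc : γ c = 0 := by
      have := S.apply_zero hE
      rw [LinearMap.add_apply, map_add, map_add, hS.alt, hS.apply_ker hc, hγu u₁ hu₁] at this
      simpa using this
    have hM := S.ruleM (hS.good u₁ hu₁) hE (hS.good u' hu') hE' (hS.apply_ker hc _)
      (hγu u₁ hu₁) hγc (hS.apply_ker hc _) (hγu u' hu')
    have e : B u₁ u' - B u' u₁ = 2 * B u₁ u' := by rw [hS.skew u' u₁]; ring
    rw [e] at hM
    have := S.smul_left (2 * B u₁ u')⁻¹ hM
    rwa [smul_smul, inv_mul_cancel₀ (mul_ne_zero h2 hne), one_smul] at this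
  · exact hstep u hu hu0

end sp

end Cfsg.Agent.Lib.Helper11.McE
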