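import Mathlib
import Cfsg.Agent.Lib.Helper11.McGroup2
import Cfsg.Agent.Lib.Helper11.McGen1
import Cfsg.Agent.Lib.Helper11.McSp2

set_option autoImplicit false
set_option linter.unusedSectionVars false

/-!
# The group induced on a block: special linear or symplectic
-/

namespace Cfsg.Agent.Lib.Helper11.McG

open Module Cfsg.Agent.Lib.Helper11.McTv Cfsg.Agent.Lib.Helper11.McE

section general

variable {F : Type*} [Field F] {V : Type*} [AddCommGroup V] [Module F V]

/-- restriction of a linear equivalence to an invariant submodule -/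
def resEquiv (U : Submodule F V) (g : V ≃ₗ[F] V) (h1 : ∀ x ∈ U, g x ∈ U)
    (h2 : ∀ x ∈ U, g⁻¹ x ∈ U) : ↥U ≃ₗ[F] ↥U :=
  LinearEquiv.ofLinearMap ((g : V →ₗ[F] V).restrict (p := U) (q := U) (fun x hx => h1 x hx))
    (((g⁻¹ : V ≃ₗ[F] V) : V →ₗ[F] V).restrict (p := U) (q := U) (fun x hx => h2 x hx))
    (by ext x; simp) (by ext x; simp)

/-- restriction as a homomorphism -/
def resHom (U : Submodule F V) (K : Subgroup (V ≃ₗ[F] V)) (hK : ∀ k ∈ K, ∀ x ∈ U, k x ∈ U) :
    ↥K →* (↥U ≃ₗ[F] ↥U) where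
  toFun k := resEquiv U k (hK k k.2) (hK _ (K.inv_mem k.2))
  map_one' := by ext x; rfl
  map_mul' := fun a b => by ext x; rfl

theorem resHom_apply (U : Submodule F V) (K : Subgroup (V ≃ₗ[F] V))
    (hK : ∀ k ∈ K, ∀ x ∈ U, k x ∈ U) (k : ↥K) (v : ↥U) :
    ((resHom U K hK k v : ↥U) : V) = (k : V ≃ₗ[F] V) (v : V) := rfl

end general

section zmod

variable {p : ℕ} [Fact p.Prime] {V : Type*} [AddCommGroup V] [Module (ZMod p) V]

/-- the conclusion about one block -/
def Typ (K : Subgroup (V ≃ₗ[ZMod p] V)) (U : Submodule (ZMod p) V) : Prop :=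
  ∃ ρ : ↥K →* (↥U ≃ₗ[ZMod p] ↥U),
    (∀ (h : ↥K) (v : ↥U), ((ρ h v : ↥U) : V) = (h : V ≃ₗ[ZMod p] V) (v : V)) ∧
    ((ρ.range : Set (↥U ≃ₗ[ZMod p] ↥U)) =
        {f : ↥U ≃ₗ[ZMod p] ↥U | LinearMap.det (f : ↥U →ₗ[ZMod p] ↥U) = 1} ∨
      ∃ B : LinearMap.BilinForm (ZMod p) ↥U, B.IsAlt ∧ B.Nondegenerate ∧
        (ρ.range : Set (↥U ≃ₗ[ZMod p] ↥U)) = {f : ↥U ≃ₗ[ZMod p] ↥U | ∀ x y, B (f x) (f y) = B x y})

theorem units_eq_one_of_pow (x : (ZMod p)ˣ) (h : x ^ p = 1) : x = 1 := by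
  apply Units.ext
  have := congrArg Units.val h
  rw [Units.val_pow_eq_pow_val, ZMod.pow_card] at this
  exact this

theorem Kside_range {π : V →ₗ[ZMod p] V} {K : Subgroup (V ≃ₗ[ZMod p] V)} (hK : K ≤ Kside π) :
    ∀ k ∈ K, ∀ x ∈ LinearMap.range π, k x ∈ LinearMap.range π := by
  rintro k hk x ⟨y, rfl⟩
  exact ⟨k y, ((hK hk).2 y).symm⟩

theorem typ_sl [Finite V] {π : V →ₗ[ZMod p] V} (hπ : π ∘ₗ π = π) :
    Typ (Subgroup.closure (gens00 π)) (LinearMap.range π) := by
  have hKs : Subgroup.closure (gens00 π) ≤ Kside π := by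
    rw [Subgroup.closure_le]; exact gens00_le_Kside
  have hK := Kside_range hKs
  refine ⟨resHom _ _ hK, fun _ _ => rfl, Or.inl ?_⟩
  have hdet : ∀ (g : V ≃ₗ[ZMod p] V) (hg : g ∈ Subgroup.closure (gens00 π)),
      LinearEquiv.det (resHom _ _ hK ⟨g, hg⟩) = 1 := by
    intro g hg
    induction hg using Subgroup.closure_induction with
    | mem g hg =>
      obtain ⟨u, χ, hu, hχ, hχu, rfl⟩ := hg
      apply units_eq_one_of_pow
      rw [← map_pow, ← map_pow]
      have : (⟨tv u χ, Subgroup.subset_closure ⟨u, χ, hu, hχ, hχu, rfl⟩⟩ :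
          ↥(Subgroup.closure (gens00 π))) ^ p = 1 := by
        apply Subtype.ext
        rw [Subgroup.coe_pow]
        exact tv_pow_p hχu
      rw [this, map_one, map_one]
    | one => exact map_one _
    | mul x y hx hy ihx ihy =>
      have : (⟨x * y, Subgroup.mul_mem _ hx hy⟩ : ↥(Subgroup.closure (gens00 π))) =
          ⟨x, hx⟩ * ⟨y, hy⟩ := rfl
      rw [this, map_mul, map_mul, ihx, ihy, one_mul]
    | inv x hx ihx =>
      have : (⟨x⁻¹, Subgroup.inv_mem _ hx⟩ : ↥(Subgroup.closure (gens00 π))) = ⟨x, hx⟩⁻¹ := rfl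
      rw [this, map_inv, map_inv, ihx, inv_one]
  ext f
  constructor
  · rintro ⟨k, rfl⟩
    have := hdet k.1 k.2
    show LinearMap.det ((resHom _ _ hK k : ↥(LinearMap.range π) ≃ₗ[ZMod p] ↥(LinearMap.range π)) :
      ↥(LinearMap.range π) →ₗ[ZMod p] ↥(LinearMap.range π)) = 1
    rw [← LinearEquiv.coe_det, show (⟨k.1, k.2⟩ : ↥(Subgroup.closure (gens00 π))) = k from rfl] at *
    rw [this]; rfl
  · intro hf
    have hf' : LinearMap.det (f : ↥(LinearMap.range π) →ₗ[ZMod p] ↥(LinearMap.range π)) = 1 := hf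
    have hmem := sl_gen f hf'
    refine (Subgroup.closure_le (resHom _ _ hK).range).mpr ?_ hmem
    rintro g ⟨u, χ, hχu, rfl⟩
    have huU : π (u : V) = u := by
      obtain ⟨y, hy⟩ := u.2
      rw [← hy, idem_apply hπ]
    set χ' : V →ₗ[ZMod p] ZMod p := χ ∘ₗ π.rangeRestrict with hχ'
    have hχ'π : χ' ∘ₗ π = χ' := by
      ext x
      simp only [hχ', LinearMap.comp_apply]
      congr 1
      apply Subtype.ext
      show π (π x) = π x
      exact idem_apply hπ x
    have hχ'U : ∀ v : ↥(LinearMap.range π), χ' (v : V) = χ v := by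
      intro v
      simp only [hχ', LinearMap.comp_apply]
      congr 1
      apply Subtype.ext
      obtain ⟨y, hy⟩ := v.2
      show π (v : V) = (v : V)
      rw [← hy, idem_apply hπ]
    have hχ'u : χ' (u : V) = 0 := by rw [hχ'U, hχu]
    refine ⟨⟨tv (u : V) χ', Subgroup.subset_closure ⟨u, χ', huU, hχ'π, hχ'u, rfl⟩⟩, ?_⟩
    ext v
    rw [resHom_apply]
    show tv (u : V) χ' (v : V) = ((tv u χ v : ↥(LinearMap.range π)) : V)
    rw [tv_apply hχ'u, tv_apply hχu, hχ'U]
    simp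

/-- generators of the symplectic block -/
def gensSp (π : V →ₗ[ZMod p] V) (B : V →ₗ[ZMod p] V →ₗ[ZMod p] ZMod p) :
    Set (V ≃ₗ[ZMod p] V) :=
  {g | ∃ (u : V) (a : ZMod p), π u = u ∧ g = tv u (a • B u)}

theorem gensSp_le_gens00 [Finite V] {S : ESys (ZMod p) V} {π : V →ₗ[ZMod p] V}
    {B : V →ₗ[ZMod p] V →ₗ[ZMod p] ZMod p} (hS : Spgood S π B) : gensSp π B ⊆ gens00 π := by
  rintro g ⟨u, a, hu, rfl⟩
  exact ⟨u, a • B u, hu, by rw [LinearMap.smul_comp, hS.comp_pi],
    by rw [LinearMap.smul_apply, hS.alt, smul_zero], rfl⟩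

theorem typ_sp [Finite V] {S : ESys (ZMod p) V} {π : V →ₗ[ZMod p] V}
    {B : V →ₗ[ZMod p] V →ₗ[ZMod p] ZMod p} (hS : Spgood S π B) :
    Typ (Subgroup.closure (gensSp π B)) (LinearMap.range π) := by
  have hπ := hS.idem
  have hKs : Subgroup.closure (gensSp π B) ≤ Kside π := by
    rw [Subgroup.closure_le]
    exact fun g hg => gens00_le_Kside (gensSp_le_gens00 hS hg)
  have hK := Kside_range hKs
  have hU : ∀ x : ↥(LinearMap.range π), π (x : V) = x := by
    intro x
    obtain ⟨y, hy⟩ := x.2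
    rw [← hy, idem_apply hπ]
  have hBr : ∀ x y : ↥(LinearMap.range π),
      LinearMap.BilinForm.restrict B (LinearMap.range π) x y = B (x : V) (y : V) := fun _ _ => rfl
  have halt : ∀ x : ↥(LinearMap.range π),
      LinearMap.BilinForm.restrict B (LinearMap.range π) x x = 0 := fun x => hS.alt x
  have hnd : ∀ x : ↥(LinearMap.range π),
      (∀ y, LinearMap.BilinForm.restrict B (LinearMap.range π) x y = 0) → x = 0 := by
    intro x hx
    apply Subtype.ext
    apply hS.nd x (hU x)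
    intro y
    rw [← hS.facr]
    exact hx ⟨π y, LinearMap.mem_range_self π y⟩
  refine ⟨resHom _ _ hK, fun _ _ => rfl,
    Or.inr ⟨LinearMap.BilinForm.restrict B (LinearMap.range π), halt, ⟨hnd, ?_⟩, ?_⟩⟩
  · intro y hy
    apply hnd
    intro z
    rw [sp_skew halt]
    rw [hy z, neg_zero]
  · have hiso : ∀ g ∈ Subgroup.closure (gensSp π B), ∀ x y : V, B (g x) (g y) = B x y := by
      intro g hg
      induction hg using Subgroup.closure_induction with
      | mem g hg =>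
        obtain ⟨u, a, hu, rfl⟩ := hg
        exact sp_tv_iso hS.alt u a
      | one => intro x y; rfl
      | mul a b _ _ iha ihb =>
        intro x y
        rw [LinearEquiv.mul_apply, LinearEquiv.mul_apply, iha, ihb]
      | inv a _ iha =>
        intro x y
        rw [← iha, le_apply_inv_self, le_apply_inv_self]
    ext f
    constructor
    · rintro ⟨k, rfl⟩ x y
      exact hiso k.1 k.2 x y
    · intro hf
      have hmem := sp_gen halt hnd f hf
      refine (Subgroup.closure_le (resHom _ _ hK).range).mpr ?_ hmem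
      rintro g ⟨u, a, rfl⟩
      have h0 : (a • B (u : V)) (u : V) = 0 := sp_tv_zero hS.alt _ a
      have h0' : (a • LinearMap.BilinForm.restrict B (LinearMap.range π) u) u = 0 :=
        sp_tv_zero halt u a
      refine ⟨⟨tv (u : V) (a • B (u : V)), Subgroup.subset_closure ⟨u, a, hU u, rfl⟩⟩, ?_⟩
      ext v
      rw [resHom_apply]
      show tv (u : V) (a • B (u : V)) (v : V) = ((tv u _ v : ↥(LinearMap.range π)) : V)
      rw [tv_apply h0, tv_apply h0']
      simp

end zmod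

end Cfsg.Agent.Lib.Helper11.McG
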