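import Mathlib
import Cfsg.Agent.Lib.Helper11.McSp2

set_option autoImplicit false
set_option linter.unusedSectionVars false

/-!
# The symplectic regime: antisymmetry of mixed pairs, a second mixed pair, growing
-/

namespace Cfsg.Agent.Lib.Helper11.McE

open Module

variable {F : Type*} [Field F] {V : Type*} [AddCommGroup V] [Module F V]

section sp

variable [FiniteDimensional F V] {S : ESys F V} {π : V →ₗ[F] V} {B : V →ₗ[F] V →ₗ[F] F}

theorem mix_antisymm (hN : NoSL3 S) (hS : Spgood S π B) {c₁ c₂ : V} {γ₁ γ₂ : V →ₗ[F] F}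
    (h1 : Mix S π B c₁ γ₁) (h2 : Mix S π B c₂ γ₂) : γ₁ c₂ + γ₂ c₁ = 0 := by
  have hπ := hS.idem
  obtain ⟨u, hu, hu0'⟩ := exists_inU_notMem hπ (⊥ : Submodule F V)
    (by rw [finrank_bot]; have := hS.rk; omega)
  have hu0 : u ≠ 0 := by simpa using hu0'
  obtain ⟨u', hu', hu'n⟩ := exists_inU_notMem hπ (Submodule.span F ({u} : Set V))
    (lt_of_le_of_lt (finrank_span_singleton_le _) (by have := hS.rk; omega))
  have hind : ∀ s : F, u' + s • u ≠ 0 := by
    intro s h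
    apply hu'n
    rw [Submodule.mem_span_singleton]
    exact ⟨-s, by rw [neg_smul]; exact (eq_neg_of_add_eq_zero_left h).symm⟩
  have hE := S.conj (h2.2.2 u' hu') (h1.2.2 u hu)
  obtain ⟨lam, hlam⟩ : ∃ lam, lam = B u u' + γ₁ c₂ := ⟨_, rfl⟩
  obtain ⟨mu, hmu⟩ : ∃ mu, mu = B u' u + γ₂ c₁ := ⟨_, rfl⟩
  have e1 : (B u + γ₁) (u' + c₂) = lam := by
    rw [LinearMap.add_apply, map_add, map_add, hS.apply_ker h2.1, add_zero, h1.apply_U hu',
      zero_add, hlam]
  have e2 : (B u' + γ₂) (u + c₁) = mu := by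
    rw [LinearMap.add_apply, map_add, map_add, hS.apply_ker h1.1, add_zero, h2.apply_U hu,
      zero_add, hmu]
  rw [e1, e2] at hE
  obtain ⟨w, hw⟩ : ∃ w, w = u' + c₂ + lam • (u + c₁) := ⟨_, rfl⟩
  obtain ⟨ψ, hψ⟩ : ∃ ψ, ψ = B u' + γ₂ - mu • (B u + γ₁) := ⟨_, rfl⟩
  rw [← hw, ← hψ] at hE
  have hπw : π w = u' + lam • u := by
    rw [hw, map_add, map_add, map_smul, map_add, hu', hu, h1.1, h2.1, add_zero, add_zero]
  have hψπ : ψ ∘ₗ π = B (u' - mu • u) := by
    rw [hψ, LinearMap.sub_comp, LinearMap.add_comp, LinearMap.smul_comp, LinearMap.add_comp,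
      hS.comp_pi, hS.comp_pi, h1.2.1, h2.2.1, add_zero, add_zero, map_sub, map_smul]
  have hw0 : w ≠ 0 := by
    intro h; rw [h, map_zero] at hπw; exact hind lam hπw.symm
  have hUm : π (u' - mu • u) = u' - mu • u := by rw [map_sub, map_smul, hu, hu']
  have hψ0 : ψ ≠ 0 := by
    intro h
    rw [h, LinearMap.zero_comp] at hψπ
    have := hS.nd (u' - mu • u) hUm (fun y => by rw [← hψπ]; rfl)
    apply hind (-mu)
    rw [neg_smul, ← sub_eq_add_neg]; exact this
  rcases sp_form hN hS hE hw0 hψ0 with ⟨h3, -⟩ | ⟨-, a, ha0, ha⟩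
  · rw [hπw] at h3; exact absurd h3 (hind lam)
  · rw [hψπ, hπw, ← map_smul] at ha
    have hUa : π (a • (u' + lam • u)) = a • (u' + lam • u) := by
      rw [map_smul, map_add, map_smul, hu, hu']
    have h4 := hS.inj hUm hUa ha
    have h5 : (1 - a) • u' = (a * lam + mu) • u := by
      have : (1 - a) • u' - (a * lam + mu) • u = (u' - mu • u) - a • (u' + lam • u) := by module
      rw [h4, sub_self] at this
      exact sub_eq_zero.mp this
    have ha1 : 1 - a = 0 := by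
      by_contra hne
      apply hu'n
      rw [Submodule.mem_span_singleton]
      refine ⟨(1 - a)⁻¹ * (a * lam + mu), ?_⟩
      rw [mul_smul, ← h5, smul_smul, inv_mul_cancel₀ hne, one_smul]
    rw [ha1, zero_smul] at h5
    have h6 : a * lam + mu = 0 := by
      rcases smul_eq_zero.mp h5.symm with h | h
      · exact h
      · exact absurd h hu0
    have ha' : a = 1 := (sub_eq_zero.mp ha1).symm
    rw [ha', one_mul, hlam, hmu, hS.skew u' u] at h6
    linear_combination h6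

theorem exists_second (hN : NoSL3 S) (hS : Spgood S π B) (h2 : (2 : F) ≠ 0) {c₁ : V}
    {γ₁ : V →ₗ[F] F} (h1 : Mix S π B c₁ γ₁) (hc0 : c₁ ≠ 0) (hγ0 : γ₁ ≠ 0) :
    ∃ (c₂ : V) (γ₂ : V →ₗ[F] F), Mix S π B c₂ γ₂ ∧ γ₁ c₂ ≠ 0 := by
  have hπ := hS.idem
  obtain ⟨x, ξ, hxE, hγx, hξc⟩ := S.opp h1.E0 hc0 hγ0
  have hx0 : x ≠ 0 := by
    rintro rfl; rw [map_zero] at hγx; exact hγx rfl
  have hξ0 : ξ ≠ 0 := by
    rintro rfl; exact hξc rfl
  rcases sp_form hN hS hxE hx0 hξ0 with ⟨h3, h4⟩ | ⟨h3, a, ha0, ha⟩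
  · refine ⟨c₁ + ξ c₁ • x, γ₁ - γ₁ x • ξ, ⟨?_, ?_, ?_⟩, ?_⟩
    · rw [map_add, map_smul, h1.1, h3, smul_zero, add_zero]
    · rw [LinearMap.sub_comp, LinearMap.smul_comp, h1.2.1, h4, smul_zero, sub_zero]
    · intro u hu
      have h5 := S.conj (h1.2.2 u hu) hxE
      have e1 : ξ (u + c₁) = ξ c₁ := by
        rw [map_add, ← hu, comp_zero_apply h4, zero_add]
      have e2 : (B u + γ₁) x = γ₁ x := by
        rw [LinearMap.add_apply, hS.apply_ker h3, zero_add]
      rw [e1, e2, add_assoc, add_sub_assoc] at h5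
      exact h5
    · rw [map_add, map_smul, h1.apply_self, zero_add, smul_eq_mul]
      exact mul_ne_zero hξc hγx
  · have hU : π (π x) = π x := idem_apply hπ x
    have hc : π (x - π x) = 0 := by rw [map_sub, hU, sub_self]
    have hγ : (a⁻¹ • (ξ - ξ ∘ₗ π)) ∘ₗ π = 0 := by
      rw [LinearMap.smul_comp, sub_comp_self hπ, smul_zero]
    have hE : S.E (π x + (x - π x)) (B (π x) + a⁻¹ • (ξ - ξ ∘ₗ π)) := by
      have e1 : π x + (x - π x) = x := by abel
      have e2 : B (π x) + a⁻¹ • (ξ - ξ ∘ₗ π) = a⁻¹ • ξ := by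
        rw [ha, smul_sub, smul_smul, inv_mul_cancel₀ ha0, one_smul]
        abel
      rw [e1, e2]
      exact S.smul_right a⁻¹ hxE
    refine ⟨x - π x, a⁻¹ • (ξ - ξ ∘ₗ π), mix_of_one hS h2 hc hγ hU h3 hE, ?_⟩
    rw [map_sub, ← LinearMap.comp_apply, h1.2.1, LinearMap.zero_apply, sub_zero]
    exact hγx

end sp

end Cfsg.Agent.Lib.Helper11.McE
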