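import Mathlib
import Cfsg.Agent.Lib.Helper11.McSp3

set_option autoImplicit false
set_option linter.unusedSectionVars false

/-!
# The symplectic regime: growing an `Spgood` idempotent by a hyperbolic plane
-/

namespace Cfsg.Agent.Lib.Helper11.McE

open Module

variable {F : Type*} [Field F] {V : Type*} [AddCommGroup V] [Module F V]

/-- the grown idempotent -/
def piG (π : V →ₗ[F] V) (c₁ c₂ : V) (γ₁ γ₂ : V →ₗ[F] F) (κ : F) : V →ₗ[F] V :=
  π - κ⁻¹ • γ₂.smulRight c₁ + κ⁻¹ • γ₁.smulRight c₂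

/-- the grown form -/
def BG (B : V →ₗ[F] V →ₗ[F] F) (γ₁ γ₂ : V →ₗ[F] F) (κ : F) : V →ₗ[F] V →ₗ[F] F :=
  B + κ⁻¹ • (γ₁.smulRight γ₂ - γ₂.smulRight γ₁)

theorem piG_apply (π : V →ₗ[F] V) (c₁ c₂ : V) (γ₁ γ₂ : V →ₗ[F] F) (κ : F) (x : V) :
    piG π c₁ c₂ γ₁ γ₂ κ x = π x - (κ⁻¹ * γ₂ x) • c₁ + (κ⁻¹ * γ₁ x) • c₂ := by
  simp [piG, LinearMap.smulRight_apply, smul_smul]

theorem BG_apply (B : V →ₗ[F] V →ₗ[F] F) (γ₁ γ₂ : V →ₗ[F] F) (κ : F) (x : V) :
    BG B γ₁ γ₂ κ x = B x + κ⁻¹ • (γ₁ x • γ₂ - γ₂ x • γ₁) := by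
  simp [BG, LinearMap.smulRight_apply]

theorem BG_apply2 (B : V →ₗ[F] V →ₗ[F] F) (γ₁ γ₂ : V →ₗ[F] F) (κ : F) (x y : V) :
    BG B γ₁ γ₂ κ x y = B x y + κ⁻¹ * (γ₁ x * γ₂ y - γ₂ x * γ₁ y) := by
  rw [BG_apply]; simp

section sp

variable [FiniteDimensional F V] {S : ESys F V}

/-- closure of `{x | E x (B x)}` under symplectic transvections -/
theorem P_conj {B : V →ₗ[F] V →ₗ[F] F} (halt : ∀ x, B x x = 0) {x y : V} (hx : S.E x (B x))
    (hy : S.E y (B y)) (a : F) : S.E (x + (a * B y x) • y) (B (x + (a * B y x) • y)) := by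
  have h1 := S.conj hx (S.smul_right a hy)
  have e1 : (a • B y) x = a * B y x := by rw [LinearMap.smul_apply, smul_eq_mul]
  have e2 : B x - B x y • (a • B y) = B (x + (a * B y x) • y) := by
    rw [map_add, map_smul, skew_of_alt halt x y, smul_smul]
    module
  rw [e1, e2] at h1
  exact h1

theorem P_smul {B : V →ₗ[F] V →ₗ[F] F} {x : V} (hx : S.E x (B x)) (s : F) :
    S.E (s • x) (B (s • x)) := by
  rw [map_smul]; exact S.smul s s hx

theorem P_add {B : V →ₗ[F] V →ₗ[F] F} (halt : ∀ x, B x x = 0) {x y : V} (hx : S.E x (B x))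
    (hy : S.E y (B y)) (hne : B x y ≠ 0) : S.E (x + y) (B (x + y)) := by
  have hne' : B y x ≠ 0 := by rw [skew_of_alt halt]; exact neg_ne_zero.mpr hne
  have := P_conj halt hx hy (B y x)⁻¹
  rwa [inv_mul_cancel₀ hne', one_smul] at this

variable {π : V →ₗ[F] V} {B : V →ₗ[F] V →ₗ[F] F}

theorem grow_sp (hS : Spgood S π B) {c₁ c₂ : V} {γ₁ γ₂ : V →ₗ[F] F}
    (h1 : Mix S π B c₁ γ₁) (h2 : Mix S π B c₂ γ₂) {κ : F} (hκ : γ₁ c₂ = κ) (hκ' : γ₂ c₁ = -κ)
    (hκ0 : κ ≠ 0) : Spgood S (piG π c₁ c₂ γ₁ γ₂ κ) (BG B γ₁ γ₂ κ) := by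
  have hπ := hS.idem
  have hg1 : ∀ x, γ₁ (π x) = 0 := comp_zero_apply h1.2.1
  have hg2 : ∀ x, γ₂ (π x) = 0 := comp_zero_apply h2.2.1
  have hπp : ∀ x, π (piG π c₁ c₂ γ₁ γ₂ κ x) = π x := by
    intro x
    rw [piG_apply, map_add, map_sub, map_smul, map_smul, h1.1, h2.1, idem_apply hπ]
    simp
  have hγ1p : ∀ x, γ₁ (piG π c₁ c₂ γ₁ γ₂ κ x) = γ₁ x := by
    intro x
    rw [piG_apply, map_add, map_sub, map_smul, map_smul, hg1, h1.apply_self, hκ]
    simp only [smul_eq_mul, mul_zero, sub_zero, zero_add]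
    field_simp
  have hγ2p : ∀ x, γ₂ (piG π c₁ c₂ γ₁ γ₂ κ x) = γ₂ x := by
    intro x
    rw [piG_apply, map_add, map_sub, map_smul, map_smul, hg2, h2.apply_self, hκ']
    simp only [smul_eq_mul, mul_zero, add_zero, zero_sub, mul_neg, neg_neg]
    field_simp
  have halt : ∀ x, BG B γ₁ γ₂ κ x x = 0 := by
    intro x
    rw [BG_apply2, hS.alt]; ring
  have hBc₁ : BG B γ₁ γ₂ κ c₁ = γ₁ := by
    ext y
    rw [BG_apply2, hS.ker_apply h1.1, h1.apply_self, hκ']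
    field_simp
    ring
  have hBc₂ : BG B γ₁ γ₂ κ c₂ = γ₂ := by
    ext y
    rw [BG_apply2, hS.ker_apply h2.1, h2.apply_self, hκ]
    field_simp
    ring
  have hBU : ∀ u, π u = u → BG B γ₁ γ₂ κ u = B u := by
    intro u hu
    rw [BG_apply, h1.apply_U hu, h2.apply_U hu]
    simp
  -- membership in `P`
  have hP1 : ∀ u, π u = u → ∀ t : F, S.E (u + t • c₁) (BG B γ₁ γ₂ κ (u + t • c₁)) := by
    intro u hu t
    by_cases ht : t = 0
    · rw [ht, zero_smul, add_zero, hBU u hu]; exact hS.good u hu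
    · have hu' : π (t⁻¹ • u) = t⁻¹ • u := by rw [map_smul, hu]
      have h3 : S.E (t⁻¹ • u + c₁) (BG B γ₁ γ₂ κ (t⁻¹ • u + c₁)) := by
        rw [map_add, hBU _ hu', hBc₁]; exact h1.2.2 _ hu'
      have h4 := P_smul h3 t
      rwa [smul_add, smul_smul, mul_inv_cancel₀ ht, one_smul] at h4
  have hP2 : ∀ u, π u = u → ∀ t : F, S.E (u + t • c₂) (BG B γ₁ γ₂ κ (u + t • c₂)) := by
    intro u hu t
    by_cases ht : t = 0
    · rw [ht, zero_smul, add_zero, hBU u hu]; exact hS.good u hu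
    · have hu' : π (t⁻¹ • u) = t⁻¹ • u := by rw [map_smul, hu]
      have h3 : S.E (t⁻¹ • u + c₂) (BG B γ₁ γ₂ κ (t⁻¹ • u + c₂)) := by
        rw [map_add, hBU _ hu', hBc₂]; exact h2.2.2 _ hu'
      have h4 := P_smul h3 t
      rwa [smul_add, smul_smul, mul_inv_cancel₀ ht, one_smul] at h4
  have hP : ∀ u, π u = u → ∀ s t : F,
      S.E (u + s • c₁ + t • c₂) (BG B γ₁ γ₂ κ (u + s • c₁ + t • c₂)) := by
    intro u hu s t
    by_cases ht : t = 0
    · rw [ht, zero_smul, add_zero]; exact hP1 u hu s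
    · by_cases hs : s = 0
      · rw [hs, zero_smul, add_zero]; exact hP2 u hu t
      · have h3 := hP1 u hu s
        have h4 := hP2 0 (map_zero π) t
        rw [zero_add] at h4
        apply P_add halt h3 h4
        have e : BG B γ₁ γ₂ κ (u + s • c₁) (t • c₂) = s * t * κ := by
          rw [BG_apply2]
          simp only [map_add, map_smul, smul_eq_mul, LinearMap.add_apply, LinearMap.smul_apply,
            hS.apply_ker h2.1, hS.ker_apply h1.1, h1.apply_U hu, h2.apply_U hu, h1.apply_self,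
            h2.apply_self, hκ, hκ', mul_zero, zero_add, add_zero, zero_mul, zero_sub, mul_neg,
            neg_mul, neg_neg]
          field_simp
        rw [e]
        exact mul_ne_zero (mul_ne_zero hs ht) hκ0
  refine ⟨?_, halt, ?_, ?_, ?_, ?_, ?_⟩
  · ext x
    rw [LinearMap.comp_apply, piG_apply π c₁ c₂ γ₁ γ₂ κ (piG π c₁ c₂ γ₁ γ₂ κ x), hπp, hγ1p, hγ2p,
      piG_apply]
  · intro x y
    rw [BG_apply2, BG_apply2, hγ1p, hγ2p, ← hS.facl, hπp, hS.facl]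
  · intro x y
    rw [BG_apply2, BG_apply2, hγ1p, hγ2p, ← hS.facr, hπp, hS.facr]
  · intro u hu hall
    have e1 := hall c₂
    rw [BG_apply2, hS.apply_ker h2.1, h2.apply_self, hκ] at e1
    have hγ₂u : γ₂ u = 0 := by
      have : κ⁻¹ * (γ₁ u * 0 - γ₂ u * κ) = - γ₂ u := by
        rw [mul_zero, zero_sub, mul_neg, mul_comm (γ₂ u) κ, inv_mul_cancel_left₀ hκ0]
      rw [zero_add, this] at e1
      exact neg_eq_zero.mp e1
    have e2 := hall c₁
    rw [BG_apply2, hS.apply_ker h1.1, h1.apply_self, hκ'] at e2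
    have hγ₁u : γ₁ u = 0 := by
      have : κ⁻¹ * (γ₁ u * -κ - γ₂ u * 0) = - γ₁ u := by
        rw [mul_zero, sub_zero, mul_neg, mul_neg, mul_comm (γ₁ u) κ, inv_mul_cancel_left₀ hκ0]
      rw [zero_add, this] at e2
      exact neg_eq_zero.mp e2
    have hu' : π u = u := by
      have := hu
      rw [piG_apply, hγ₁u, hγ₂u] at this
      simpa using this
    apply hS.nd u hu'
    intro y
    have := hall y
    rw [BG_apply2, hγ₁u, hγ₂u] at this
    simpa using this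
  · intro x hx
    have := hP (π x) (idem_apply hπ x) (-(κ⁻¹ * γ₂ x)) (κ⁻¹ * γ₁ x)
    have e : π x + -(κ⁻¹ * γ₂ x) • c₁ + (κ⁻¹ * γ₁ x) • c₂ = x := by
      conv_rhs => rw [← hx, piG_apply]
      rw [neg_smul, ← sub_eq_add_neg]
    rw [e] at this
    exact this
  · refine hS.rk.trans (Submodule.finrank_mono ?_)
    rintro y ⟨x, rfl⟩
    refine ⟨π x, ?_⟩
    rw [piG_apply, hg1, hg2]
    simp [idem_apply hπ]

theorem grow_sp_ker (hS : Spgood S π B) {c₁ c₂ : V} {γ₁ γ₂ : V →ₗ[F] F}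
    (h1 : Mix S π B c₁ γ₁) (h2 : Mix S π B c₂ γ₂) {κ : F} (hκ : γ₁ c₂ = κ) (hκ' : γ₂ c₁ = -κ)
    (hκ0 : κ ≠ 0) (hc0 : c₁ ≠ 0) :
    finrank F ↥(LinearMap.ker (piG π c₁ c₂ γ₁ γ₂ κ)) < finrank F ↥(LinearMap.ker π) := by
  have hπ := hS.idem
  apply Submodule.finrank_lt_finrank_of_lt
  rw [SetLike.lt_iff_le_and_exists]
  constructor
  · intro x hx
    rw [LinearMap.mem_ker] at hx ⊢
    have := congrArg π hx
    rw [piG_apply, map_add, map_sub, map_smul, map_smul, h1.1, h2.1, idem_apply hπ, map_zero] at this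
    simpa using this
  · refine ⟨c₁, h1.1, ?_⟩
    rw [LinearMap.mem_ker, piG_apply, h1.1, h1.apply_self, hκ']
    intro h0
    apply hc0
    have : (κ⁻¹ * -κ) = -1 := by field_simp
    rw [this] at h0
    simpa using h0

end sp

end Cfsg.Agent.Lib.Helper11.McE
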