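import Mathlib
import Cfsg.Agent.Lib.Helper11.McSp4

set_option autoImplicit false
set_option linter.unusedSectionVars false

/-!
# The dichotomy for E-systems: a special linear or a symplectic block splits off
-/

namespace Cfsg.Agent.Lib.Helper11.McE

open Module

variable {F : Type*} [Field F] {V : Type*} [AddCommGroup V] [Module F V]

section sp

variable [FiniteDimensional F V] {S : ESys F V}

theorem sp_step {π : V →ₗ[F] V} {B : V →ₗ[F] V →ₗ[F] F} (hN : NoSL3 S) (hS : Spgood S π B)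
    (h2 : (2 : F) ≠ 0) (hT : ¬ Types S π) :
    ∃ (π' : V →ₗ[F] V) (B' : V →ₗ[F] V →ₗ[F] F), Spgood S π' B' ∧
      finrank F ↥(LinearMap.ker π') < finrank F ↥(LinearMap.ker π) := by
  have hπ := hS.idem
  unfold Types at hT
  push Not at hT
  obtain ⟨w, ψ, hE, hw0, hψ0, hnot⟩ := hT
  rcases sp_form hN hS hE hw0 hψ0 with ⟨h3, h4⟩ | ⟨h3, a, ha0, ha⟩
  · exact absurd h4 (hnot.2 h3)
  · have hU : π (π w) = π w := idem_apply hπ w
    obtain ⟨c, hcdef⟩ : ∃ c, c = w - π w := ⟨_, rfl⟩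
    obtain ⟨γ, hγdef⟩ : ∃ γ, γ = a⁻¹ • (ψ - ψ ∘ₗ π) := ⟨_, rfl⟩
    have hc : π c = 0 := by rw [hcdef, map_sub, hU, sub_self]
    have hγ : γ ∘ₗ π = 0 := by
      rw [hγdef, LinearMap.smul_comp, sub_comp_self hπ, smul_zero]
    have hE' : S.E (π w + c) (B (π w) + γ) := by
      have e1 : π w + c = w := by rw [hcdef]; abel
      have e2 : B (π w) + γ = a⁻¹ • ψ := by
        rw [hγdef, ha, smul_sub, smul_smul, inv_mul_cancel₀ ha0, one_smul]
        abel
      rw [e1, e2]
      exact S.smul_right a⁻¹ hE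
    have hM : Mix S π B c γ := mix_of_one hS h2 hc hγ hU h3 hE'
    have hB0 := hS.ne_zero hU h3
    have hcγ : c ≠ 0 ∧ γ ≠ 0 := by
      by_cases hc0 : c = 0
      · by_cases hγ0 : γ = 0
        · exfalso
          have e1 : π w = w := by
            rw [hcdef] at hc0; exact (sub_eq_zero.mp hc0).symm
          have e2 : ψ ∘ₗ π = ψ := by
            rw [hγdef] at hγ0
            rcases smul_eq_zero.mp hγ0 with h | h
            · exact absurd h (inv_ne_zero ha0)
            · exact (sub_eq_zero.mp h).symm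
          exact hnot.1 e1 e2
        · exfalso
          have hEu := hM.2.2 (π w) hU
          rw [hc0, add_zero] at hEu
          have hEγ : S.E (π w) γ := by
            have := S.sub_right hEu (hS.good _ hU)
            rwa [add_sub_cancel_left] at this
          obtain ⟨b, hb⟩ := axis_unique hN (hS.good _ hU) hEγ h3 hB0
          apply hγ0
          have : γ ∘ₗ π = γ := by rw [hb, LinearMap.smul_comp, hS.comp_pi]
          rw [← this, hγ]
      · by_cases hγ0 : γ = 0
        · exfalso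
          have hEu := hM.2.2 (π w) hU
          rw [hγ0, add_zero] at hEu
          have hEc : S.E c (B (π w)) := by
            have := S.sub_left hEu (hS.good _ hU)
            rwa [add_sub_cancel_left] at this
          obtain ⟨b, hb⟩ := centre_unique hN (hS.good _ hU) hEc h3 hB0
          apply hc0
          have : π c = c := by rw [hb, map_smul, hU]
          rw [← this, hc]
        · exact ⟨hc0, hγ0⟩
    obtain ⟨c₂, γ₂, hM2, hκ0⟩ := exists_second hN hS h2 hM hcγ.1 hcγ.2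
    have hanti := mix_antisymm hN hS hM hM2
    have hκ' : γ₂ c = - γ c₂ := eq_neg_of_add_eq_zero_right hanti
    exact ⟨_, _, grow_sp hS hM hM2 rfl hκ' hκ0, grow_sp_ker hS hM hM2 rfl hκ' hκ0 hcγ.1⟩

theorem sp_split (hN : NoSL3 S) (h2 : (2 : F) ≠ 0) :
    ∀ (n : ℕ) (π : V →ₗ[F] V) (B : V →ₗ[F] V →ₗ[F] F), Spgood S π B →
      finrank F ↥(LinearMap.ker π) ≤ n →
      ∃ (π' : V →ₗ[F] V) (B' : V →ₗ[F] V →ₗ[F] F), Spgood S π' B' ∧ Types S π' := by
  intro n
  induction n with
  | zero =>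
    intro π B hS hk
    by_cases hT : Types S π
    · exact ⟨π, B, hS, hT⟩
    · obtain ⟨π', B', -, hlt⟩ := sp_step hN hS h2 hT
      omega
  | succ k ih =>
    intro π B hS hk
    by_cases hT : Types S π
    · exact ⟨π, B, hS, hT⟩
    · obtain ⟨π', B', hS', hlt⟩ := sp_step hN hS h2 hT
      exact ih π' B' hS' (by omega)

theorem spgood_pi2 {v w : V} {φ ψ : V →ₗ[F] F} (hv : S.E v φ) (hw : S.E w ψ) (h1 : φ w ≠ 0)
    (h2 : ψ v ≠ 0) : Spgood S (pi2 v w φ ψ) (φ.smulRight ψ - ψ.smulRight φ) := by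
  have hφv := S.apply_zero hv
  have hψw := S.apply_zero hw
  have hB : ∀ x y, (φ.smulRight ψ - ψ.smulRight φ) x y = φ x * ψ y - ψ x * φ y := by
    intro x y; simp [LinearMap.smulRight_apply]
  have hcl := pi2_comp_left (ψ := ψ) hφv h1
  have hcr := pi2_comp_right (φ := φ) hψw h2
  refine ⟨pi2_idem hφv hψw h1 h2, ?_, ?_, ?_, ?_, ?_, pi2_rank hφv hψw h1 h2⟩
  · intro x; rw [hB]; ring
  · intro x y; rw [hB, hB, comp_apply' hcl, comp_apply' hcr]
  · intro x y; rw [hB, hB, comp_apply' hcl, comp_apply' hcr]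
  · intro u hu hall
    have e1 := hall v
    rw [hB, hφv, mul_zero, sub_zero] at e1
    have e2 := hall w
    rw [hB, hψw, mul_zero, zero_sub] at e2
    have hφu : φ u = 0 := (mul_eq_zero.mp e1).resolve_right h2
    have hψu : ψ u = 0 := (mul_eq_zero.mp (neg_eq_zero.mp e2)).resolve_right h1
    rw [← hu, pi2_apply, hφu, hψu]; simp
  · intro u hu
    apply (pi2_good hv hw h1 h2).2 u _ hu
    · ext y
      rw [LinearMap.comp_apply, hB, hB, comp_apply' hcl, comp_apply' hcr]
    · rw [hB]; ring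

/-- the dichotomy -/
theorem esys_main (S : ESys F V) (h2 : (2 : F) ≠ 0) {v : V} {φ : V →ₗ[F] F} (hE : S.E v φ)
    (hv0 : v ≠ 0) (hφ0 : φ ≠ 0) :
    (∃ π : V →ₗ[F] V, SLgood S π ∧ 3 ≤ finrank F ↥(LinearMap.range π) ∧ Types S π) ∨
    (NoSL3 S ∧ ∃ (π : V →ₗ[F] V) (B : V →ₗ[F] V →ₗ[F] F), Spgood S π B ∧ Types S π) := by
  by_cases hN : NoSL3 S
  · right
    refine ⟨hN, ?_⟩
    obtain ⟨w, ψ, hw, h1, h2'⟩ := S.opp hE hv0 hφ0
    exact sp_split hN h2 _ _ _ (spgood_pi2 hE hw h1 h2') le_rfl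
  · left
    unfold NoSL3 at hN
    push Not at hN
    obtain ⟨π, hg, hr⟩ := hN
    exact sl_split _ π hg hr le_rfl

end sp

end Cfsg.Agent.Lib.Helper11.McE
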