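import Mathlib
import Cfsg.Agent.Lib.Helper11.McGroup3
import Cfsg.Agent.Lib.Helper11.McSp5

set_option autoImplicit false
set_option linter.unusedSectionVars false

/-!
# Block decompositions of transvection groups: the inductive construction
-/

namespace Cfsg.Agent.Lib.Helper11.McG

open Module Cfsg.Agent.Lib.Helper11.McTv Cfsg.Agent.Lib.Helper11.McE

variable {p : ℕ} [Fact p.Prime] {V : Type*} [AddCommGroup V] [Module (ZMod p) V]

/-- the commutator space `[V, H]` -/
def Cen (H : Subgroup (V ≃ₗ[ZMod p] V)) : Submodule (ZMod p) V :=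
  Submodule.span (ZMod p) {y | ∃ h ∈ H, ∃ x, y = h x - x}

/-- the fixed space `C_V(H)` -/
def CV (H : Subgroup (V ≃ₗ[ZMod p] V)) : Submodule (ZMod p) V where
  carrier := {x | ∀ h ∈ H, h x = x}
  add_mem' := fun {a b} ha hb h hh => by rw [map_add, ha h hh, hb h hh]
  zero_mem' := fun h _ => map_zero h
  smul_mem' := fun c x hx h hh => by rw [map_smul, hx h hh]

theorem Cen_mono {H H' : Subgroup (V ≃ₗ[ZMod p] V)} (h : H' ≤ H) : Cen H' ≤ Cen H :=
  Submodule.span_mono (by rintro y ⟨g, hg, x, rfl⟩; exact ⟨g, h hg, x, rfl⟩)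

theorem CV_anti {H H' : Subgroup (V ≃ₗ[ZMod p] V)} (h : H' ≤ H) : CV H ≤ CV H' :=
  fun _ hx g hg => hx g (h hg)

/-- a decomposition of `H` into blocks -/
structure Dec (H : Subgroup (V ≃ₗ[ZMod p] V)) (ι : Type) (π : ι → V →ₗ[ZMod p] V)
    (K : ι → Subgroup (V ≃ₗ[ZMod p] V)) : Prop where
  idem : ∀ j, π j ∘ₗ π j = π j
  orth : ∀ i j, i ≠ j → π i ∘ₗ π j = 0
  le : ∀ j, K j ≤ H
  sup : ⨆ j, K j = H
  comm : ∀ j j', j ≠ j' → ∀ a ∈ K j, ∀ b ∈ K j', a * b = b * a
  side : ∀ j, K j ≤ Kside (π j)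
  typ : ∀ j, Typ (K j) (LinearMap.range (π j))
  cen : ∀ j, LinearMap.range (π j) ≤ Cen H
  cv : ∀ j, CV H ≤ LinearMap.ker (π j)

/-- generated by transvections -/
def TvGen (H : Subgroup (V ≃ₗ[ZMod p] V)) : Prop :=
  ∃ T : Set (V ≃ₗ[ZMod p] V), H = Subgroup.closure T ∧
    ∀ t ∈ T, ∃ (v : V) (φ : V →ₗ[ZMod p] ZMod p), φ v = 0 ∧ t = tv v φ

theorem dec_cons {H K H' : Subgroup (V ≃ₗ[ZMod p] V)} {π : V →ₗ[ZMod p] V}
    (hs : Split H π K H') (htyp : Typ K (LinearMap.range π)) (hcen : LinearMap.range π ≤ Cen H)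
    (hcv : CV H ≤ LinearMap.ker π) {ι : Type} {π' : ι → V →ₗ[ZMod p] V}
    {K' : ι → Subgroup (V ≃ₗ[ZMod p] V)} (hd : Dec H' ι π' K') :
    Dec H (Option ι) (fun o => o.elim π π') (fun o => o.elim K K') := by
  have hCen : Cen H' ≤ LinearMap.ker π := by
    unfold Cen
    rw [Submodule.span_le]
    rintro y ⟨h, hh, x, rfl⟩
    show π (h x - x) = 0
    rw [map_sub, (hs.H'_side hh).2, sub_self]
  have hCV : LinearMap.range π ≤ CV H' := by
    rintro y ⟨x, rfl⟩ h hh
    exact (hs.H'_side hh).1 x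
  refine ⟨?_, ?_, ?_, ?_, ?_, ?_, ?_, ?_, ?_⟩
  · rintro (_ | j)
    · exact hs.idem
    · exact hd.idem j
  · rintro (_ | i) (_ | j) hne
    · exact absurd rfl hne
    · ext x
      have : π' j x ∈ LinearMap.ker π := hCen (hd.cen j (LinearMap.mem_range_self _ x))
      exact this
    · ext x
      have : π x ∈ LinearMap.ker (π' i) := hd.cv i (hCV (LinearMap.mem_range_self _ x))
      exact this
    · exact hd.orth i j (fun h => hne (by rw [h]))
  · rintro (_ | j)
    · exact hs.K_le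
    · exact (hd.le j).trans hs.H'_le
  · show ⨆ o : Option ι, o.elim K K' = H
    rw [iSup_option_elim, hd.sup, hs.sup_eq]
  · rintro (_ | i) (_ | j) hne a ha b hb
    · exact absurd rfl hne
    · exact hs.comm a ha b (hd.le j hb)
    · exact (hs.comm b hb a (hd.le i ha)).symm
    · exact hd.comm i j (fun h => hne (by rw [h])) a ha b hb
  · rintro (_ | j)
    · exact hs.K_side
    · exact hd.side j
  · rintro (_ | j)
    · exact htyp
    · exact hd.typ j
  · rintro (_ | j)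
    · exact hcen
    · exact (hd.cen j).trans (Cen_mono hs.H'_le)
  · rintro (_ | j)
    · exact hcv
    · exact (CV_anti hs.H'_le).trans (hd.cv j)

theorem gens00_zero : Subgroup.closure (gens00 (0 : V →ₗ[ZMod p] V)) = ⊥ := by
  rw [eq_bot_iff, Subgroup.closure_le]
  rintro g ⟨u, χ, hu, -, -, rfl⟩
  have : u = 0 := by rw [← hu]; rfl
  rw [this, tv_zero_left]
  exact Subgroup.one_mem _

theorem dec_bot [Finite V] :
    Dec (⊥ : Subgroup (V ≃ₗ[ZMod p] V)) Unit (fun _ => 0) (fun _ => ⊥) := by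
  refine ⟨fun _ => by simp, fun i j hne => absurd (Subsingleton.elim i j) hne, fun _ => le_rfl,
    by simp, fun i j hne => absurd (Subsingleton.elim i j) hne, fun _ => bot_le, fun _ => ?_,
    fun _ => ?_, fun _ => ?_⟩
  · have := typ_sl (p := p) (V := V) (π := 0) (by simp)
    rw [gens00_zero] at this
    exact this
  · rintro y ⟨x, rfl⟩
    exact Submodule.zero_mem _
  · intro x _
    simp

end Cfsg.Agent.Lib.Helper11.McG
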