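import Mathlib
import Cfsg.Agent.Lib.Helper11.McMain1

set_option autoImplicit false
set_option linter.unusedSectionVars false

/-!
# Block decompositions of transvection groups: splitting off one block
-/

namespace Cfsg.Agent.Lib.Helper11.McG

open Module Cfsg.Agent.Lib.Helper11.McTv Cfsg.Agent.Lib.Helper11.McE

section general

variable {F : Type*} [Field F] {V : Type*} [AddCommGroup V] [Module F V] [FiniteDimensional F V]

theorem exists_axis {π : V →ₗ[F] V} (hπ : π ∘ₗ π = π)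
    (hr : 2 ≤ finrank F ↥(LinearMap.range π)) {u : V} (hu : π u = u) :
    ∃ (χ : V →ₗ[F] F) (u' : V), χ ∘ₗ π = χ ∧ χ u = 0 ∧ π u' = u' ∧ χ u' ≠ 0 := by
  obtain ⟨u', hu', hu'n⟩ := exists_inU_notMem hπ (Submodule.span F ({u} : Set V))
    (lt_of_le_of_lt (finrank_span_singleton_le _) (by omega))
  obtain ⟨χ, hχ1, hχ2, hχ3⟩ := exists_C0 hπ _ hu' hu'n
  exact ⟨χ, u', hχ1, hχ3 u (Submodule.mem_span_singleton_self u) hu, hu', hχ2⟩

theorem exists_pair_through {π : V →ₗ[F] V} (hπ : π ∘ₗ π = π)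
    (hr : 2 ≤ finrank F ↥(LinearMap.range π)) {u₀ : V} (hu₀ : π u₀ = u₀) (hu₀0 : u₀ ≠ 0) :
    ∃ (u : V) (χ : V →ₗ[F] F), π u = u ∧ u ≠ 0 ∧ χ ∘ₗ π = χ ∧ χ u = 0 ∧ χ u₀ ≠ 0 := by
  obtain ⟨u, hu, hun⟩ := exists_inU_notMem hπ (Submodule.span F ({u₀} : Set V))
    (lt_of_le_of_lt (finrank_span_singleton_le _) (by omega))
  have hu0 : u ≠ 0 := by
    rintro rfl; exact hun (Submodule.zero_mem _)
  have hu₀n : u₀ ∉ Submodule.span F ({u} : Set V) := by
    intro hmem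
    obtain ⟨b, hb⟩ := Submodule.mem_span_singleton.mp hmem
    have hb0 : b ≠ 0 := by
      rintro rfl; rw [zero_smul] at hb; exact hu₀0 hb.symm
    apply hun
    rw [Submodule.mem_span_singleton]
    exact ⟨b⁻¹, by rw [← hb, smul_smul, inv_mul_cancel₀ hb0, one_smul]⟩
  obtain ⟨χ, hχ1, hχ2, hχ3⟩ := exists_C0 hπ _ hu₀ hu₀n
  exact ⟨u, χ, hu, hu0, hχ1, hχ3 u (Submodule.mem_span_singleton_self u) hu, hχ2⟩

end general

variable {p : ℕ} [Fact p.Prime] {V : Type*} [AddCommGroup V] [Module (ZMod p) V]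

theorem two_ne_zero_zmod (hp2 : p ≠ 2) : (2 : ZMod p) ≠ 0 := by
  intro h
  have h' : ((2 : ℕ) : ZMod p) = 0 := by exact_mod_cast h
  rw [ZMod.natCast_eq_zero_iff] at h'
  have hp : p.Prime := Fact.out
  exact hp2 ((Nat.prime_dvd_prime_iff_eq hp Nat.prime_two).mp h')

theorem tv_sub_self {v : V} {φ : V →ₗ[ZMod p] ZMod p} (h : φ v = 0) (x : V) :
    tv v φ x - x = φ x • v := by
  rw [tv_apply h]; abel

theorem sl_block [Finite V] (hp2 : p ≠ 2) {H : Subgroup (V ≃ₗ[ZMod p] V)} (hH : NoNormP p H)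
    {T : Set (V ≃ₗ[ZMod p] V)} (hHT : H = Subgroup.closure T)
    (hT : ∀ t ∈ T, ∃ (v : V) (φ : V →ₗ[ZMod p] ZMod p), φ v = 0 ∧ t = tv v φ)
    {π : V →ₗ[ZMod p] V} (hg : SLgood (esysOf hp2 H hH) π)
    (hr : 3 ≤ finrank (ZMod p) ↥(LinearMap.range π)) (hTy : Types (esysOf hp2 H hH) π) :
    ∃ K : Subgroup (V ≃ₗ[ZMod p] V), Split H π K (Subgroup.closure (gensFar H π)) ∧
      Typ K (LinearMap.range π) ∧ LinearMap.range π ≤ Cen H ∧ CV H ≤ LinearMap.ker π ∧
      K ≠ ⊥ := by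
  have hπ := hg.1
  have hr2 : 2 ≤ finrank (ZMod p) ↥(LinearMap.range π) := by omega
  have hmemH : ∀ (u : V) (χ : V →ₗ[ZMod p] ZMod p), π u = u → χ ∘ₗ π = χ → χ u = 0 →
      tv u χ ∈ H := fun u χ h1 h2 h3 => (hg.2 u χ h1 h2 h3).2
  have hsplit : Split H π (Subgroup.closure (gens00 π)) (Subgroup.closure (gensFar H π)) := by
    apply split_of hπ (gens00 π) le_rfl _ T hHT
    · intro t ht
      obtain ⟨v, φ, hφv, rfl⟩ := hT t ht
      have hmem : tv v φ ∈ H := by rw [hHT]; exact Subgroup.subset_closure ht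
      by_cases hv0 : v = 0
      · left
        refine ⟨0, 0, map_zero π, LinearMap.zero_comp _, rfl, ?_⟩
        rw [hv0, tv_zero_left, tv_zero_left]
      by_cases hφ0 : φ = 0
      · left
        refine ⟨0, 0, map_zero π, LinearMap.zero_comp _, rfl, ?_⟩
        rw [hφ0, tv_zero_right, tv_zero_left]
      rcases hTy v φ ⟨hφv, hmem⟩ hv0 hφ0 with ⟨h1, h2⟩ | ⟨h1, h2⟩
      · left; exact ⟨v, φ, h1, h2, hφv, rfl⟩
      · right; exact ⟨v, φ, hφv, hmem, h1, h2, rfl⟩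
    · rintro g ⟨u, χ, h1, h2, h3, rfl⟩
      exact hmemH u χ h1 h2 h3
  refine ⟨_, hsplit, typ_sl hπ, ?_, ?_, ?_⟩
  · rintro y ⟨x, rfl⟩
    obtain ⟨χ, u', hχ, hχu, hu', hne⟩ := exists_axis hπ hr2 (idem_apply hπ x)
    have hmem := hmemH (π x) χ (idem_apply hπ x) hχ hχu
    apply Submodule.subset_span
    refine ⟨tv (π x) χ, hmem, (χ u')⁻¹ • u', ?_⟩
    rw [tv_sub_self hχu, map_smul, smul_eq_mul, inv_mul_cancel₀ hne, one_smul]
  · intro x hx
    rw [LinearMap.mem_ker]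
    by_contra hne
    obtain ⟨u, χ, hu, hu0, hχ, hχu, hχne⟩ := exists_pair_through hπ hr2 (idem_apply hπ x) hne
    have hmem := hmemH u χ hu hχ hχu
    have h1 := hx _ hmem
    have h2 : χ x • u = 0 := by rw [← tv_sub_self hχu, h1, sub_self]
    rcases smul_eq_zero.mp h2 with h3 | h3
    · apply hχne
      rw [comp_apply' hχ]; exact h3
    · exact hu0 h3
  · obtain ⟨u, hu, hun⟩ := exists_inU_notMem hπ (⊥ : Submodule (ZMod p) V)
      (by rw [finrank_bot]; omega)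
    have hu0 : u ≠ 0 := by simpa using hun
    obtain ⟨χ, u', hχ, hχu, hu', hne⟩ := exists_axis hπ hr2 hu
    have hχ0 : χ ≠ 0 := by
      rintro rfl; exact hne rfl
    intro hbot
    have : tv u χ ∈ Subgroup.closure (gens00 π) :=
      Subgroup.subset_closure ⟨u, χ, hu, hχ, hχu, rfl⟩
    rw [hbot, Subgroup.mem_bot] at this
    exact tv_ne_one hχu hu0 hχ0 this

theorem sp_block [Finite V] (hp2 : p ≠ 2) {H : Subgroup (V ≃ₗ[ZMod p] V)} (hH : NoNormP p H)
    {T : Set (V ≃ₗ[ZMod p] V)} (hHT : H = Subgroup.closure T)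
    (hT : ∀ t ∈ T, ∃ (v : V) (φ : V →ₗ[ZMod p] ZMod p), φ v = 0 ∧ t = tv v φ)
    {π : V →ₗ[ZMod p] V} {B : V →ₗ[ZMod p] V →ₗ[ZMod p] ZMod p}
    (hN : NoSL3 (esysOf hp2 H hH)) (hS : Spgood (esysOf hp2 H hH) π B)
    (hTy : Types (esysOf hp2 H hH) π) :
    ∃ K : Subgroup (V ≃ₗ[ZMod p] V), Split H π K (Subgroup.closure (gensFar H π)) ∧
      Typ K (LinearMap.range π) ∧ LinearMap.range π ≤ Cen H ∧ CV H ≤ LinearMap.ker π ∧
      K ≠ ⊥ := by
  have hπ := hS.idem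
  have hmemH : ∀ (u : V), π u = u → tv u (B u) ∈ H := fun u h1 => (hS.good u h1).2
  have hsplit : Split H π (Subgroup.closure (gensSp π B)) (Subgroup.closure (gensFar H π)) := by
    apply split_of hπ (gensSp π B) (gensSp_le_gens00 hS) _ T hHT
    · intro t ht
      obtain ⟨v, φ, hφv, rfl⟩ := hT t ht
      have hmem : tv v φ ∈ H := by rw [hHT]; exact Subgroup.subset_closure ht
      by_cases hv0 : v = 0
      · left
        refine ⟨0, 0, map_zero π, ?_⟩
        rw [hv0, tv_zero_left, tv_zero_left]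
      by_cases hφ0 : φ = 0
      · left
        refine ⟨0, 0, map_zero π, ?_⟩
        rw [hφ0, tv_zero_right, tv_zero_left]
      rcases hTy v φ ⟨hφv, hmem⟩ hv0 hφ0 with ⟨h1, h2⟩ | ⟨h1, h2⟩
      · left
        obtain ⟨a, ha⟩ := sp_00 hN hS (show (esysOf hp2 H hH).E v φ from ⟨hφv, hmem⟩) hv0 hφ0 h1 h2
        exact ⟨v, a, h1, by rw [ha]⟩
      · right; exact ⟨v, φ, hφv, hmem, h1, h2, rfl⟩
    · rintro g ⟨u, a, h1, rfl⟩
      exact ((esysOf hp2 H hH).smul_right a (hS.good u h1)).2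
  refine ⟨_, hsplit, typ_sp hS, ?_, ?_, ?_⟩
  · rintro y ⟨x, rfl⟩
    by_cases h0 : π x = 0
    · rw [h0]; exact Submodule.zero_mem _
    · obtain ⟨z, hz, hne⟩ := hS.exists_ne (idem_apply hπ x) h0
      have hmem := hmemH (π x) (idem_apply hπ x)
      apply Submodule.subset_span
      refine ⟨tv (π x) (B (π x)), hmem, (B (π x) z)⁻¹ • z, ?_⟩
      rw [tv_sub_self (hS.alt _), map_smul, smul_eq_mul, inv_mul_cancel₀ hne, one_smul]
  · intro x hx
    rw [LinearMap.mem_ker]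
    apply hS.nd (π x) (idem_apply hπ x)
    intro y
    rw [hS.facl, hS.skew, ← hS.facl, neg_eq_zero]
    by_cases h0 : π y = 0
    · rw [h0, map_zero, LinearMap.zero_apply]
    · have hmem := hmemH (π y) (idem_apply hπ y)
      have h1 := hx _ hmem
      have h2 : B (π y) x • π y = 0 := by rw [← tv_sub_self (hS.alt _), h1, sub_self]
      rcases smul_eq_zero.mp h2 with h3 | h3
      · exact h3
      · exact absurd h3 h0
  · obtain ⟨u, hu, hun⟩ := exists_inU_notMem hπ (⊥ : Submodule (ZMod p) V)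
      (by rw [finrank_bot]; have := hS.rk; omega)
    have hu0 : u ≠ 0 := by simpa using hun
    intro hbot
    have : tv u ((1 : ZMod p) • B u) ∈ Subgroup.closure (gensSp π B) :=
      Subgroup.subset_closure ⟨u, 1, hu, rfl⟩
    rw [hbot, Subgroup.mem_bot, one_smul] at this
    exact tv_ne_one (hS.alt u) hu0 (hS.ne_zero hu hu0) this

end Cfsg.Agent.Lib.Helper11.McG
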