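import Mathlib
import Cfsg.Agent.Lib.Helper11.McMain2

set_option autoImplicit false
set_option linter.unusedSectionVars false

/-!
# Block decompositions of transvection groups: the induction
-/

namespace Cfsg.Agent.Lib.Helper11.McG

open Module Cfsg.Agent.Lib.Helper11.McTv Cfsg.Agent.Lib.Helper11.McE

variable {p : ℕ} [Fact p.Prime] {V : Type*} [AddCommGroup V] [Module (ZMod p) V]

theorem exists_dec [Finite V] (hp2 : p ≠ 2) :
    ∀ (n : ℕ) (H : Subgroup (V ≃ₗ[ZMod p] V)), Nat.card ↥H ≤ n → TvGen H → NoNormP p H →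
      ∃ (ι : Type) (_ : Fintype ι) (_ : Nonempty ι) (π : ι → V →ₗ[ZMod p] V)
        (K : ι → Subgroup (V ≃ₗ[ZMod p] V)), Dec H ι π K := by
  intro n
  induction n with
  | zero =>
    intro H hcard _ _
    have : 0 < Nat.card ↥H := Nat.card_pos
    omega
  | succ k ih =>
    intro H hcard hgen hH
    by_cases hbot : H = ⊥
    · subst hbot
      exact ⟨Unit, inferInstance, inferInstance, _, _, dec_bot⟩
    · obtain ⟨T, hHT, hT⟩ := hgen
      have hex : ∃ t ∈ T, t ≠ 1 := by
        by_contra hcon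
        push Not at hcon
        apply hbot
        rw [hHT, Subgroup.closure_eq_bot_iff]
        intro t ht
        exact hcon t ht
      obtain ⟨t, ht, ht1⟩ := hex
      obtain ⟨v, φ, hφv, rfl⟩ := hT t ht
      have hv0 : v ≠ 0 := by
        rintro rfl; exact ht1 (tv_zero_left φ)
      have hφ0 : φ ≠ 0 := by
        rintro rfl; exact ht1 (tv_zero_right v)
      have hmem : tv v φ ∈ H := by rw [hHT]; exact Subgroup.subset_closure ht
      have hE : (esysOf hp2 H hH).E v φ := ⟨hφv, hmem⟩
      have key : ∃ (π : V →ₗ[ZMod p] V) (K : Subgroup (V ≃ₗ[ZMod p] V)),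
          Split H π K (Subgroup.closure (gensFar H π)) ∧
          Typ K (LinearMap.range π) ∧ LinearMap.range π ≤ Cen H ∧ CV H ≤ LinearMap.ker π ∧
          K ≠ ⊥ := by
        rcases esys_main (esysOf hp2 H hH) (two_ne_zero_zmod hp2) hE hv0 hφ0 with
          ⟨π, hg, hr, hTy⟩ | ⟨hN, π, B, hS, hTy⟩
        · exact ⟨π, sl_block hp2 hH hHT hT hg hr hTy⟩
        · exact ⟨π, sp_block hp2 hH hHT hT hN hS hTy⟩
      obtain ⟨π, K, hs, htyp, hcen, hcv, hK⟩ := key
      have hcard' : Nat.card ↥(Subgroup.closure (gensFar H π)) ≤ k := by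
        have := hs.card_lt hK
        omega
      have hgen' : TvGen (Subgroup.closure (gensFar H π)) := by
        refine ⟨gensFar H π, rfl, ?_⟩
        rintro g ⟨w, ψ, hψw, -, -, -, rfl⟩
        exact ⟨w, ψ, hψw, rfl⟩
      obtain ⟨ι, hι1, hι2, π', K', hd⟩ := ih _ hcard' hgen' (hs.noNormP hH)
      exact ⟨Option ι, inferInstance, inferInstance, _, _, dec_cons hs htyp hcen hcv hd⟩

end Cfsg.Agent.Lib.Helper11.McG
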