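import Mathlib
import Cfsg.Agent.Lib.Helper11.McMain3

set_option autoImplicit false
set_option linter.unusedSectionVars false

/-!
# From a block decomposition to the statement of McLaughlin's theorem
-/

namespace Cfsg.Agent.Lib.Helper11.McG

open Module Cfsg.Agent.Lib.Helper11.McTv Cfsg.Agent.Lib.Helper11.McE

variable {p : ℕ} [Fact p.Prime] {V : Type*} [AddCommGroup V] [Module (ZMod p) V]

/-- the conclusion of the theorem -/
def Concl (H : Subgroup (V ≃ₗ[ZMod p] V)) : Prop :=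
  ∃ (n : ℕ) (W : Fin (n + 1) → Submodule (ZMod p) V) (K : Fin n → Subgroup (V ≃ₗ[ZMod p] V)),
      1 ≤ n ∧ DirectSum.IsInternal W ∧
      (∀ h ∈ H, ∀ i, (W i).map (h : V →ₗ[ZMod p] V) = W i) ∧
      (∀ j, K j ≤ H ∧ ((K j).subgroupOf H).Normal) ∧ ⨆ j, K j = H ∧
      (∀ j, K j ⊓ (⨆ j' ∈ {j' : Fin n | j' ≠ j}, K j') = ⊥) ∧
      (∀ j j', j ≠ j' → ∀ a ∈ K j, ∀ b ∈ K j', a * b = b * a) ∧
      (∀ j, ∀ h ∈ K j, ∀ i : Fin (n + 1), i ≠ j.succ → ∀ v ∈ W i, h v = v) ∧
      (∀ j, Typ (K j) (W j.succ))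

theorem dec_reindex {H : Subgroup (V ≃ₗ[ZMod p] V)} {ι ι' : Type} {π : ι → V →ₗ[ZMod p] V}
    {K : ι → Subgroup (V ≃ₗ[ZMod p] V)} (hd : Dec H ι π K) (e : ι' ≃ ι) :
    Dec H ι' (fun i => π (e i)) (fun i => K (e i)) := by
  refine ⟨fun j => hd.idem _, fun i j hne => hd.orth _ _ (e.injective.ne hne), fun j => hd.le _,
    ?_, fun i j hne => hd.comm _ _ (e.injective.ne hne), fun j => hd.side _, fun j => hd.typ _,
    fun j => hd.cen _, fun j => hd.cv _⟩
  rw [← hd.sup]
  exact e.iSup_comp (g := K)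

theorem comp_zero_apply2 {f g : V →ₗ[ZMod p] V} (h : f ∘ₗ g = 0) (x : V) : f (g x) = 0 :=
  LinearMap.congr_fun h x

theorem Kside_le_Fside {π π' : V →ₗ[ZMod p] V} (h1 : π' ∘ₗ π = 0) (h2 : π ∘ₗ π' = 0)
    (hπ' : π' ∘ₗ π' = π') : Kside π' ≤ Fside π := by
  rintro g ⟨hg1, hg2⟩
  have ha : ∀ x, g (π x) = π x := fun x => hg1 _ (comp_zero_apply2 h1 x)
  refine ⟨ha, fun x => ?_⟩
  have h3 : g (x - π' x) = x - π' x :=
    hg1 _ (by rw [map_sub, idem_apply hπ', sub_self])
  have h4 : g x = π' (g x) + (x - π' x) := by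
    rw [← hg2, ← h3, ← map_add]; congr 1; abel
  rw [h4, map_add, map_sub, comp_zero_apply2 h2, comp_zero_apply2 h2, zero_add, sub_zero]

/-- maps commuting with every `π j` -/
def CommAll {ι : Type} (π : ι → V →ₗ[ZMod p] V) : Subgroup (V ≃ₗ[ZMod p] V) where
  carrier := {g | ∀ j x, π j (g x) = g (π j x)}
  one_mem' := fun _ _ => rfl
  mul_mem' := by
    intro a b ha hb j x
    rw [LinearEquiv.mul_apply, LinearEquiv.mul_apply, ha, hb]
  inv_mem' := by
    intro a ha j x
    apply a.injective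
    rw [le_apply_inv_self, ← ha, le_apply_inv_self]

theorem concl_of_dec {H : Subgroup (V ≃ₗ[ZMod p] V)} {n : ℕ} (hn : 1 ≤ n)
    {π : Fin n → V →ₗ[ZMod p] V} {K : Fin n → Subgroup (V ≃ₗ[ZMod p] V)}
    (hd : Dec H (Fin n) π K) : Concl H := by
  classical
  obtain ⟨P0, hP0⟩ : ∃ P0 : V →ₗ[ZMod p] V, P0 = LinearMap.id - ∑ j, π j := ⟨_, rfl⟩
  have hsum1 : ∀ i x, π i (∑ j, π j x) = π i x := by
    intro i x
    rw [map_sum, Finset.sum_eq_single i]
    · exact idem_apply (hd.idem i) x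
    · intro j _ hne; exact comp_zero_apply2 (hd.orth i j hne.symm) x
    · intro h; exact absurd (Finset.mem_univ i) h
  have hsum2 : ∀ i x, ∑ j, π j (π i x) = π i x := by
    intro i x
    rw [Finset.sum_eq_single i]
    · exact idem_apply (hd.idem i) x
    · intro j _ hne; exact comp_zero_apply2 (hd.orth j i hne) x
    · intro h; exact absurd (Finset.mem_univ i) h
  have hP0x : ∀ x, P0 x = x - ∑ j, π j x := by
    intro x
    rw [hP0, LinearMap.sub_apply, LinearMap.id_apply, LinearMap.sum_apply]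
  have f1 : ∀ i, π i ∘ₗ P0 = 0 := by
    intro i
    ext x
    rw [LinearMap.comp_apply, hP0x, map_sub, hsum1, sub_self]; rfl
  have f2 : ∀ i, P0 ∘ₗ π i = 0 := by
    intro i
    ext x
    rw [LinearMap.comp_apply, hP0x, hsum2, sub_self]; rfl
  have f3 : P0 ∘ₗ P0 = P0 := by
    ext x
    rw [LinearMap.comp_apply, hP0x (P0 x),
      Finset.sum_eq_zero (fun i _ => comp_zero_apply2 (f1 i) x), sub_zero]
  obtain ⟨Q, hQ⟩ : ∃ Q : Fin (n + 1) → V →ₗ[ZMod p] V, Q = Fin.cons P0 π := ⟨_, rfl⟩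
  have hQ0 : Q 0 = P0 := by rw [hQ, Fin.cons_zero]
  have hQs : ∀ j : Fin n, Q j.succ = π j := fun j => by rw [hQ, Fin.cons_succ]
  have hQ1 : ∀ i, Q i ∘ₗ Q i = Q i := by
    intro i
    refine Fin.cases ?_ (fun j => ?_) i
    · rw [hQ0, f3]
    · rw [hQs, hd.idem]
  have hQ2 : ∀ i j, i ≠ j → Q i ∘ₗ Q j = 0 := by
    intro i j
    refine Fin.cases ?_ (fun i' => ?_) i <;> refine Fin.cases ?_ (fun j' => ?_) j
    · intro h; exact absurd rfl h
    · intro _; rw [hQ0, hQs, f2]
    · intro _; rw [hQ0, hQs, f1]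
    · intro h
      rw [hQs, hQs]
      exact hd.orth i' j' (fun h' => h (by rw [h']))
  have hQ3 : ∀ x, ∑ i, Q i x = x := by
    intro x
    rw [Fin.sum_univ_succ, hQ0]
    simp only [hQs]
    rw [hP0x]
    abel
  have hQfix : ∀ i x, x ∈ LinearMap.range (Q i) → Q i x = x := by
    rintro i x ⟨y, rfl⟩
    exact idem_apply (hQ1 i) y
  -- the groups `K j'` with `j' ≠ j` fix `range (π j)` pointwise
  have hKF : ∀ j j', j' ≠ j → K j' ≤ Fside (π j) := fun j j' hne =>
    (hd.side j').trans (Kside_le_Fside (hd.orth j' j hne) (hd.orth j j' hne.symm) (hd.idem j'))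
  have hcomm : H ≤ CommAll π := by
    rw [← hd.sup]
    apply iSup_le
    intro j' g hg j x
    by_cases hjj : j' = j
    · subst hjj
      exact ((hd.side j' hg).2 x).symm
    · have := hKF j j' hjj hg
      rw [this.1, this.2]
  have hcommQ : ∀ h ∈ H, ∀ i x, Q i (h x) = h (Q i x) := by
    intro h hh i x
    refine Fin.cases ?_ (fun j => ?_) i
    · rw [hQ0, hP0x, hP0x, map_sub, map_sum]
      congr 1
      exact Finset.sum_congr rfl (fun j _ => hcomm hh j x)
    · rw [hQs]; exact hcomm hh j x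
  refine ⟨n, fun i => LinearMap.range (Q i), K, hn, ?_, ?_, ?_, hd.sup, ?_, hd.comm, ?_, ?_⟩
  · -- internal direct sum
    apply DirectSum.isInternal_submodule_of_iSupIndep_of_iSup_eq_top
    · rw [iSupIndep_def]
      intro i
      rw [Submodule.disjoint_def]
      intro x hx1 hx2
      have hle : (⨆ j, ⨆ (_ : j ≠ i), LinearMap.range (Q j)) ≤ LinearMap.ker (Q i) := by
        apply iSup_le; intro j
        apply iSup_le; intro hj
        rintro y ⟨z, rfl⟩
        exact comp_zero_apply2 (hQ2 i j hj.symm) z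
      have h0 : Q i x = 0 := hle hx2
      rw [← hQfix i x hx1, h0]
    · rw [eq_top_iff]
      intro x _
      rw [← hQ3 x]
      exact Submodule.sum_mem _ (fun i _ =>
        Submodule.mem_iSup_of_mem i (LinearMap.mem_range_self (Q i) x))
  · -- invariance
    intro h hh i
    apply le_antisymm
    · rintro y ⟨z, ⟨x, rfl⟩, rfl⟩
      exact ⟨h x, hcommQ h hh i x⟩
    · rintro y ⟨x, rfl⟩
      refine ⟨Q i (h⁻¹ x), LinearMap.mem_range_self _ _, ?_⟩
      show h (Q i (h⁻¹ x)) = Q i x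
      rw [← hcommQ h hh, le_apply_inv_self]
  · -- normality
    intro j
    refine ⟨hd.le j, ?_⟩
    rw [Subgroup.normal_subgroupOf_iff_le_normalizer (hd.le j)]
    conv_lhs => rw [← hd.sup]
    apply iSup_le
    intro j'
    rw [Subgroup.le_normalizer_iff]
    intro h hh k hk
    by_cases hjj : j' = j
    · subst hjj
      exact (K j').mul_mem ((K j').mul_mem hh hk) ((K j').inv_mem hh)
    · rw [hd.comm j' j hjj h hh k hk, mul_inv_cancel_right]
      exact hk
  · -- independence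
    intro j
    rw [eq_bot_iff]
    rintro g ⟨hg1, hg2⟩
    have hle : (⨆ j' ∈ {j' : Fin n | j' ≠ j}, K j') ≤ Fside (π j) := by
      apply iSup_le; intro j'
      apply iSup_le; intro hj'
      exact hKF j j' hj'
    have h2 := (hle hg2).1
    have h1 := (hd.side j hg1).1
    rw [Subgroup.mem_bot]
    ext x
    have h3 := h1 (x - π j x) (by rw [map_sub, idem_apply (hd.idem j), sub_self])
    have : g x = g (π j x) + g (x - π j x) := by rw [← map_add]; congr 1; abel
    rw [this, h3, h2, le_one_apply]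
    abel
  · -- trivial action
    rintro j h hh i hne v ⟨y, rfl⟩
    apply (hd.side j hh).1
    rw [← hQs j]
    exact comp_zero_apply2 (hQ2 j.succ i hne.symm) y
  · intro j
    have : LinearMap.range (Q j.succ) = LinearMap.range (π j) := by rw [hQs]
    show Typ (K j) (LinearMap.range (Q j.succ))
    rw [this]
    exact hd.typ j

theorem concl_of_tvGen [Finite V] (hp2 : p ≠ 2) {H : Subgroup (V ≃ₗ[ZMod p] V)} (hgen : TvGen H)
    (hH : NoNormP p H) : Concl H := by
  obtain ⟨ι, hι1, hι2, π, K, hd⟩ := exists_dec hp2 _ H le_rfl hgen hH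
  have hn : 1 ≤ Fintype.card ι := Fintype.card_pos
  exact concl_of_dec hn (dec_reindex hd (Fintype.equivFin ι).symm)

end Cfsg.Agent.Lib.Helper11.McG
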