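import Mathlib
import Cfsg.Prelude.Def_GeometricClasses
import Cfsg.Agent.Lib.Helper61.SpMax

/-!
Geometry of an abstract non-degenerate quadratic form over a finite field of odd order: polar
form identities, Riesz representation, vectors of prescribed norm orthogonal to a few given
vectors, adjusting a vector to a singular one, splitting a vector into two singular ones.
-/

set_option autoImplicit false
set_option linter.unusedSectionVars false
set_option linter.unusedVariables false

namespace Cfsg.Agent.Lib.Helper11.OrthMax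

open scoped MatrixGroups Matrix
open Cfsg.Agent.Lib.Helper95
open Cfsg.Agent.Lib.Helper61.SpMax (fv fv_dot GL_ext)
open QuadraticMap (polar)

section Geo
variable {ι : Type} [Fintype ι] [DecidableEq ι] {F : Type*} [Field F]
variable {Q : (ι → F) → F}

theorem two_ne_zero_of_odd [Fintype F] (hodd : Odd (Fintype.card F)) : (2 : F) ≠ 0 := by
  intro h2
  have hchar : ringChar F = 2 := CharP.ringChar_of_prime_eq_zero Nat.prime_two h2
  have := FiniteField.even_card_of_char_two hchar
  rw [Nat.odd_iff] at hodd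
  omega

theorem pol_comm (x y : ι → F) : polar Q x y = polar Q y x := QuadraticMap.polar_comm Q x y

theorem q_add (Q : (ι → F) → F) (x y : ι → F) : Q (x + y) = Q x + Q y + polar Q x y := by
  unfold QuadraticMap.polar
  ring

theorem q_zero (hQ : Cfsg.Geo.IsNondegenerateQuadraticForm Q) : Q 0 = 0 := by
  have := hQ.smul 0 0
  simpa using this

theorem pol_self (hQ : Cfsg.Geo.IsNondegenerateQuadraticForm Q) (x : ι → F) :
    polar Q x x = 2 * Q x := by
  unfold QuadraticMap.polar
  have : x + x = (2 : F) • x := (two_smul F x).symm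
  rw [this, hQ.smul]
  ring

theorem pol_add_left (hQ : Cfsg.Geo.IsNondegenerateQuadraticForm Q) (x y v : ι → F) :
    polar Q (x + y) v = polar Q x v + polar Q y v := hQ.polar_bilinear.add_left x y v

theorem pol_add_right (hQ : Cfsg.Geo.IsNondegenerateQuadraticForm Q) (v x y : ι → F) :
    polar Q v (x + y) = polar Q v x + polar Q v y := hQ.polar_bilinear.add_right v x y

theorem pol_smul_left (hQ : Cfsg.Geo.IsNondegenerateQuadraticForm Q) (c : F) (x v : ι → F) :
    polar Q (c • x) v = c * polar Q x v := hQ.polar_bilinear.smul_left c x v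

theorem pol_smul_right (hQ : Cfsg.Geo.IsNondegenerateQuadraticForm Q) (c : F) (v x : ι → F) :
    polar Q v (c • x) = c * polar Q v x := hQ.polar_bilinear.smul_right c v x

theorem pol_zero_left (hQ : Cfsg.Geo.IsNondegenerateQuadraticForm Q) (v : ι → F) :
    polar Q 0 v = 0 := by
  have := pol_smul_left hQ 0 0 v
  rwa [zero_smul, zero_mul] at this

theorem pol_zero_right (hQ : Cfsg.Geo.IsNondegenerateQuadraticForm Q) (v : ι → F) :
    polar Q v 0 = 0 := by
  rw [pol_comm, pol_zero_left hQ]

theorem pol_neg_left (hQ : Cfsg.Geo.IsNondegenerateQuadraticForm Q) (x v : ι → F) :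
    polar Q (-x) v = - polar Q x v := by
  have := pol_smul_left hQ (-1) x v
  simpa using this

theorem pol_neg_right (hQ : Cfsg.Geo.IsNondegenerateQuadraticForm Q) (x v : ι → F) :
    polar Q x (-v) = - polar Q x v := by
  rw [pol_comm, pol_neg_left hQ, pol_comm]

theorem pol_sub_left (hQ : Cfsg.Geo.IsNondegenerateQuadraticForm Q) (x y v : ι → F) :
    polar Q (x - y) v = polar Q x v - polar Q y v := by
  rw [sub_eq_add_neg, pol_add_left hQ, pol_neg_left hQ, sub_eq_add_neg]

theorem pol_sub_right (hQ : Cfsg.Geo.IsNondegenerateQuadraticForm Q) (x y v : ι → F) :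
    polar Q x (y - v) = polar Q x y - polar Q x v := by
  rw [sub_eq_add_neg, pol_add_right hQ, pol_neg_right hQ, sub_eq_add_neg]

theorem q_neg (hQ : Cfsg.Geo.IsNondegenerateQuadraticForm Q) (x : ι → F) : Q (-x) = Q x := by
  have := hQ.smul (-1) x
  simpa using this

theorem q_sub (hQ : Cfsg.Geo.IsNondegenerateQuadraticForm Q) (x y : ι → F) :
    Q (x - y) = Q x + Q y - polar Q x y := by
  rw [sub_eq_add_neg, q_add Q, q_neg hQ, pol_neg_right hQ]
  ring

theorem pol_swap0 {x y : ι → F} (h : polar Q x y = 0) : polar Q y x = 0 := by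
  rw [pol_comm]; exact h

variable [Fintype F]

theorem riesz (hQ : Cfsg.Geo.IsNondegenerateQuadraticForm Q) (φ : ι → F) :
    ∃ z : ι → F, ∀ x, polar Q x z = φ ⬝ᵥ x := by
  have hbl := hQ.polar_bilinear
  have hinj : Function.Injective (fun z : ι → F => fv (polar Q) z) := by
    intro z z' h
    by_contra hne
    have h0 : z - z' ≠ 0 := sub_ne_zero.mpr hne
    obtain ⟨⟨x, hx⟩, _⟩ := hQ.nondegenerate _ h0
    apply hx
    have h' : fv (polar Q) z = fv (polar Q) z' := h
    rw [pol_sub_right hQ, ← fv_dot hbl, ← fv_dot hbl z', h', sub_self]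
  have hsurj := Finite.injective_iff_surjective.mp hinj
  obtain ⟨z, hz⟩ := hsurj φ
  have hz' : fv (polar Q) z = φ := hz
  exact ⟨z, fun x => by rw [← fv_dot hbl, hz']⟩

theorem sepR (hQ : Cfsg.Geo.IsNondegenerateQuadraticForm Q) (U : Submodule F (ι → F))
    (x : ι → F) (hx : x ∉ U) : ∃ z : ι → F, (∀ u ∈ U, polar Q u z = 0) ∧ polar Q x z = 1 := by
  obtain ⟨φ, hφU, hφx⟩ := exists_dotProduct_separating U x hx
  obtain ⟨z, hz⟩ := riesz hQ φ
  exact ⟨z, fun u hu => by rw [hz, hφU u hu], by rw [hz, hφx]⟩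

theorem exists_orth_notMem (hQ : Cfsg.Geo.IsNondegenerateQuadraticForm Q) {κ : Type} [Fintype κ]
    (s : κ → (ι → F)) (U : Submodule F (ι → F))
    (h : Module.finrank F U + Fintype.card κ < Fintype.card ι) :
    ∃ x : ι → F, x ∉ U ∧ ∀ i, polar Q x (s i) = 0 := by
  classical
  let L : (ι → F) →ₗ[F] (κ → F) :=
    { toFun := fun x i => polar Q x (s i)
      map_add' := fun x y => by funext i; exact pol_add_left hQ x y (s i)
      map_smul' := fun c x => by funext i; simpa using pol_smul_left hQ c x (s i) }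
  by_contra hcon
  push Not at hcon
  have hker : LinearMap.ker L ≤ U := by
    intro x hx
    by_contra hxU
    obtain ⟨i, hi⟩ := hcon x hxU
    apply hi
    have := congrFun (LinearMap.mem_ker.mp hx) i
    exact this
  have h1 := LinearMap.finrank_range_add_finrank_ker L
  have h2 : Module.finrank F (LinearMap.range L) ≤ Fintype.card κ := by
    have := Submodule.finrank_le (LinearMap.range L)
    rwa [Module.finrank_fintype_fun_eq_card] at this
  have h3 := Submodule.finrank_mono hker
  rw [Module.finrank_fintype_fun_eq_card] at h1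
  omega

/-- orthogonality to a spanning family passes to the span -/
theorem pol_span_zero (hQ : Cfsg.Geo.IsNondegenerateQuadraticForm Q) {κ : Type}
    (s : κ → (ι → F)) (p : ι → F) (hp : ∀ i, polar Q p (s i) = 0) :
    ∀ d ∈ Submodule.span F (Set.range s), polar Q p d = 0 := by
  intro d hd
  induction hd using Submodule.span_induction with
  | mem x hx =>
    obtain ⟨i, rfl⟩ := hx
    exact hp i
  | zero => exact pol_zero_right hQ p
  | add x y _ _ hx hy => rw [pol_add_right hQ, hx, hy, add_zero]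
  | smul c x _ hx => rw [pol_smul_right hQ, hx, mul_zero]

theorem exists_orth_anis (hQ : Cfsg.Geo.IsNondegenerateQuadraticForm Q) {κ : Type} [Fintype κ]
    (s : κ → (ι → F)) (h : 2 * Fintype.card κ < Fintype.card ι) :
    ∃ w : ι → F, Q w ≠ 0 ∧ ∀ i, polar Q (s i) w = 0 := by
  classical
  have hU : Module.finrank F (Submodule.span F (Set.range s)) ≤ Fintype.card κ :=
    finrank_range_le_card (R := F) s
  obtain ⟨x₁, hx₁U, hx₁s⟩ := exists_orth_notMem hQ s (Submodule.span F (Set.range s)) (by omega)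
  obtain ⟨z, hzU, hxz⟩ := sepR hQ _ x₁ hx₁U
  have hzs : ∀ i, polar Q (s i) z = 0 := fun i =>
    hzU _ (Submodule.subset_span (Set.mem_range_self i))
  by_cases h1 : Q x₁ = 0
  · by_cases h2 : Q z = 0
    · refine ⟨x₁ + z, ?_, fun i => ?_⟩
      · rw [q_add Q, h1, h2, hxz]
        simp
      · rw [pol_add_right hQ, hzs i, pol_swap0 (hx₁s i), add_zero]
    · exact ⟨z, h2, hzs⟩
  · exact ⟨x₁, h1, fun i => pol_swap0 (hx₁s i)⟩

theorem exists_orth_norm (hQ : Cfsg.Geo.IsNondegenerateQuadraticForm Q)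
    (hodd : Odd (Fintype.card F)) {κ : Type} [Fintype κ]
    (s : κ → (ι → F)) (h : 2 * (Fintype.card κ + 1) < Fintype.card ι) (ν : F) :
    ∃ w : ι → F, Q w = ν ∧ ∀ i, polar Q (s i) w = 0 := by
  classical
  obtain ⟨w₁, hw₁, hw₁s⟩ := exists_orth_anis hQ s (by omega)
  obtain ⟨w₂, hw₂, hw₂s⟩ := exists_orth_anis hQ (fun o : Option κ => o.elim w₁ s)
    (by rw [Fintype.card_option]; omega)
  have h12 : polar Q w₁ w₂ = 0 := hw₂s none
  have hw₂s' : ∀ i, polar Q (s i) w₂ = 0 := fun i => hw₂s (some i)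
  obtain ⟨x, y, hxy⟩ := FiniteField.exists_root_sum_quadratic
    (f := Polynomial.C (Q w₁) * Polynomial.X ^ 2)
    (g := Polynomial.C (Q w₂) * Polynomial.X ^ 2 - Polynomial.C ν)
    (Polynomial.degree_C_mul_X_pow 2 hw₁)
    (by
      rw [Polynomial.degree_sub_C]
      · exact Polynomial.degree_C_mul_X_pow 2 hw₂
      · rw [Polynomial.degree_C_mul_X_pow 2 hw₂]; norm_num)
    (Nat.odd_iff.mp hodd)
  simp only [Polynomial.eval_mul, Polynomial.eval_C, Polynomial.eval_pow, Polynomial.eval_X,
    Polynomial.eval_sub] at hxy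
  refine ⟨x • w₁ + y • w₂, ?_, fun i => ?_⟩
  · rw [q_add Q, hQ.smul, hQ.smul, pol_smul_left hQ, pol_smul_right hQ, h12]
    linear_combination hxy
  · rw [pol_add_right hQ, pol_smul_right hQ, pol_smul_right hQ, hw₁s i, hw₂s' i]
    ring

theorem exists_iso_adjust (hQ : Cfsg.Geo.IsNondegenerateQuadraticForm Q)
    (hodd : Odd (Fintype.card F)) {κ : Type} [Fintype κ]
    (s : κ → (ι → F)) (z : ι → F) (h : 2 * (Fintype.card κ + 2) < Fintype.card ι) :
    ∃ d : ι → F, Q d = 0 ∧ ∀ i, polar Q (s i) d = polar Q (s i) z := by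
  classical
  obtain ⟨w, hw, hws⟩ := exists_orth_norm hQ hodd (fun o : Option κ => o.elim z s)
    (by rw [Fintype.card_option]; omega) (- Q z)
  have hwz : polar Q z w = 0 := hws none
  have hwi : ∀ i, polar Q (s i) w = 0 := fun i => hws (some i)
  refine ⟨z + w, ?_, fun i => ?_⟩
  · rw [q_add Q, hw, hwz]
    ring
  · rw [pol_add_right hQ, hwi i, add_zero]

theorem exists_split (hQ : Cfsg.Geo.IsNondegenerateQuadraticForm Q)
    (hodd : Odd (Fintype.card F)) {κ : Type} [Fintype κ]
    (s : κ → (ι → F)) (x : ι → F) (h : 2 * (Fintype.card κ + 2) < Fintype.card ι) :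
    ∃ e₁ e₂ : ι → F, x = e₁ + e₂ ∧ Q e₁ = 0 ∧ Q e₂ = 0 ∧
      ∀ i, polar Q (s i) x = 0 → (polar Q (s i) e₁ = 0 ∧ polar Q (s i) e₂ = 0) := by
  classical
  have h2 : (2 : F) ≠ 0 := two_ne_zero_of_odd hodd
  obtain ⟨w, hw, hws⟩ := exists_orth_norm hQ hodd (fun o : Option κ => o.elim x s)
    (by rw [Fintype.card_option]; omega) (- ((2 : F)⁻¹ ^ 2 * Q x))
  have hwx : polar Q x w = 0 := hws none
  have hwi : ∀ i, polar Q (s i) w = 0 := fun i => hws (some i)
  refine ⟨(2 : F)⁻¹ • x + w, (2 : F)⁻¹ • x - w, ?_, ?_, ?_, fun i hi => ⟨?_, ?_⟩⟩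
  · have : (2 : F)⁻¹ • x + w + ((2 : F)⁻¹ • x - w) = ((2 : F)⁻¹ + (2 : F)⁻¹) • x := by
      rw [add_smul]; abel
    rw [this]
    have : (2 : F)⁻¹ + (2 : F)⁻¹ = 1 := by field_simp; norm_num
    rw [this, one_smul]
  · rw [q_add Q, hQ.smul, hw, pol_smul_left hQ, hwx]
    ring
  · rw [q_sub hQ, hQ.smul, hw, pol_smul_left hQ, hwx]
    ring
  · rw [pol_add_right hQ, pol_smul_right hQ, hi, hwi i, mul_zero, add_zero]
  · rw [pol_sub_right hQ, pol_smul_right hQ, hi, hwi i, mul_zero, sub_zero]

/-- A singular vector orthogonal to the family `s` with prescribed pairing `1` against `x`. -/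
theorem exists_iso_sep (hQ : Cfsg.Geo.IsNondegenerateQuadraticForm Q)
    (hodd : Odd (Fintype.card F)) {κ : Type} [Fintype κ]
    (s : κ → (ι → F)) (x : ι → F) (hx : x ∉ Submodule.span F (Set.range s))
    (h : 2 * (Fintype.card κ + 3) < Fintype.card ι) :
    ∃ d : ι → F, Q d = 0 ∧ (∀ i, polar Q (s i) d = 0) ∧ polar Q x d = 1 := by
  classical
  obtain ⟨z, hzU, hxz⟩ := sepR hQ _ x hx
  obtain ⟨d, hd, hds⟩ := exists_iso_adjust hQ hodd (fun o : Option κ => o.elim x s) z
    (by rw [Fintype.card_option]; omega)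
  refine ⟨d, hd, fun i => ?_, ?_⟩
  · have := hds (some i)
    simp only [Option.elim] at this
    rw [this]
    exact hzU _ (Submodule.subset_span (Set.mem_range_self i))
  · have := hds none
    simp only [Option.elim] at this
    rw [this, hxz]

/-- A singular vector orthogonal to the family `s` and outside its span. -/
theorem exists_iso_generic (hQ : Cfsg.Geo.IsNondegenerateQuadraticForm Q)
    (hodd : Odd (Fintype.card F)) {κ : Type} [Fintype κ]
    (s : κ → (ι → F)) (h : 2 * (Fintype.card κ + 3) < Fintype.card ι) :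
    ∃ d : ι → F, Q d = 0 ∧ (∀ i, polar Q (s i) d = 0) ∧
      d ∉ Submodule.span F (Set.range s) := by
  classical
  have hU : Module.finrank F (Submodule.span F (Set.range s)) ≤ Fintype.card κ :=
    finrank_range_le_card (R := F) s
  obtain ⟨p, hpU, hps⟩ := exists_orth_notMem hQ s (Submodule.span F (Set.range s)) (by omega)
  obtain ⟨d, hd, hds, hpd⟩ := exists_iso_sep hQ hodd s p hpU h
  refine ⟨d, hd, hds, fun hmem => ?_⟩
  have := pol_span_zero hQ s p hps d hmem
  rw [this] at hpd
  exact zero_ne_one hpd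

end Geo

end Cfsg.Agent.Lib.Helper11.OrthMax
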