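import Cfsg.Agent.Lib.Helper11.OrthMaxA

/-!
Group elements attached to a quadratic form: transvections `x ↦ x + B x y • b`, the predicate
`InP Q M b y`, long root elements `E c c'` and pairs of reflections `Rho u v`.
-/

set_option autoImplicit false
set_option linter.unusedSectionVars false
set_option linter.unusedVariables false

namespace Cfsg.Agent.Lib.Helper11.OrthMax

open scoped MatrixGroups Matrix
open Cfsg.Agent.Lib.Helper95
open Cfsg.Agent.Lib.Helper61.SpMax (fv fv_dot GL_ext)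
open QuadraticMap (polar)

section Grp
variable {ι : Type} [Fintype ι] [DecidableEq ι] {F : Type*} [Field F]
variable {Q : (ι → F) → F}

/-- The transvection `x ↦ x + polar Q x y • b`. -/
def X (hQ : Cfsg.Geo.IsNondegenerateQuadraticForm Q) (b y : ι → F) (h : polar Q b y = 0) :
    GL ι F :=
  tvGL (fv (polar Q) y) b (by rw [fv_dot hQ.polar_bilinear]; exact h)

theorem X_apply (hQ : Cfsg.Geo.IsNondegenerateQuadraticForm Q) (b y : ι → F)
    (h : polar Q b y = 0) (x : ι → F) :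
    ((X hQ b y h : GL ι F) : Matrix ι ι F) *ᵥ x = x + polar Q x y • b := by
  unfold X
  rw [tvGL_apply, fv_dot hQ.polar_bilinear]

theorem X_mem_SL (hQ : Cfsg.Geo.IsNondegenerateQuadraticForm Q) (b y : ι → F)
    (h : polar Q b y = 0) : X hQ b y h ∈ Cfsg.Geo.specialLinear ι F :=
  tvGL_mem_specialLinear _ _ _

theorem X_inv_apply (hQ : Cfsg.Geo.IsNondegenerateQuadraticForm Q) (b y : ι → F)
    (h : polar Q b y = 0) (x : ι → F) :
    (((X hQ b y h)⁻¹ : GL ι F) : Matrix ι ι F) *ᵥ x = x - polar Q x y • b := by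
  apply GL_mulVec_inj (X hQ b y h)
  rw [GL_mulVec_inv_mulVec, X_apply, pol_sub_left hQ, pol_smul_left hQ, h, mul_zero, sub_zero]
  abel

/-- The transvection `x ↦ x + polar Q x y • b` lies in `M`. -/
def InP (Q : (ι → F) → F) (M : Subgroup (GL ι F)) (b y : ι → F) : Prop :=
  polar Q b y = 0 ∧ ∀ g : GL ι F, (∀ x, (g : Matrix ι ι F) *ᵥ x = x + polar Q x y • b) → g ∈ M

variable {M : Subgroup (GL ι F)} {b y y' : ι → F}

theorem InP.mem (hQ : Cfsg.Geo.IsNondegenerateQuadraticForm Q) (h : InP Q M b y) :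
    X hQ b y h.1 ∈ M :=
  h.2 _ (X_apply hQ b y h.1)

theorem inP_of_mem (hQ : Cfsg.Geo.IsNondegenerateQuadraticForm Q) (h0 : polar Q b y = 0)
    (hm : X hQ b y h0 ∈ M) : InP Q M b y :=
  ⟨h0, fun g hg => by
    have : g = X hQ b y h0 := GL_ext (fun x => by rw [hg, X_apply])
    rw [this]; exact hm⟩

theorem InP.add (hQ : Cfsg.Geo.IsNondegenerateQuadraticForm Q) (h : InP Q M b y)
    (h' : InP Q M b y') : InP Q M b (y + y') := by
  refine ⟨by rw [pol_add_right hQ, h.1, h'.1, add_zero], fun g hg => ?_⟩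
  have : g = X hQ b y h.1 * X hQ b y' h'.1 := by
    apply GL_ext
    intro x
    rw [hg, Units.val_mul, ← Matrix.mulVec_mulVec, X_apply, X_apply, pol_add_left hQ,
      pol_smul_left hQ, h.1, mul_zero, add_zero, pol_add_right hQ, add_smul]
    abel
  rw [this]
  exact M.mul_mem (h.mem hQ) (h'.mem hQ)

theorem InP.neg (hQ : Cfsg.Geo.IsNondegenerateQuadraticForm Q) (h : InP Q M b y) :
    InP Q M b (-y) := by
  refine ⟨by rw [pol_neg_right hQ, h.1, neg_zero], fun g hg => ?_⟩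
  have : g = (X hQ b y h.1)⁻¹ := by
    apply GL_ext
    intro x
    rw [hg, X_inv_apply, pol_neg_right hQ, neg_smul, sub_eq_add_neg]
  rw [this]
  exact M.inv_mem (h.mem hQ)

theorem InP.sub (hQ : Cfsg.Geo.IsNondegenerateQuadraticForm Q) (h : InP Q M b y)
    (h' : InP Q M b y') : InP Q M b (y - y') := by
  rw [sub_eq_add_neg]
  exact h.add hQ (h'.neg hQ)

theorem inP_zero_center (hQ : Cfsg.Geo.IsNondegenerateQuadraticForm Q) (M : Subgroup (GL ι F))
    (y : ι → F) : InP Q M 0 y := by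
  refine ⟨pol_zero_left hQ y, fun g hg => ?_⟩
  have : g = 1 := by
    apply GL_ext
    intro x
    rw [hg, smul_zero, add_zero, Units.val_one, Matrix.one_mulVec]
  rw [this]
  exact M.one_mem

theorem inP_smul_iff (hQ : Cfsg.Geo.IsNondegenerateQuadraticForm Q) (c : F) :
    InP Q M (c • b) y ↔ InP Q M b (c • y) := by
  have e1 : polar Q (c • b) y = polar Q b (c • y) := by
    rw [pol_smul_left hQ, pol_smul_right hQ]
  have e2 : ∀ x, polar Q x y • (c • b) = polar Q x (c • y) • b := by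
    intro x
    rw [pol_smul_right hQ, smul_smul, mul_comm]
  unfold InP
  simp only [e1, e2]

theorem InP.isom (hQ : Cfsg.Geo.IsNondegenerateQuadraticForm Q) (h : InP Q M b y) (m : GL ι F)
    (hm : m ∈ M)
    (hiso : ∀ u v, polar Q ((m : Matrix ι ι F) *ᵥ u) ((m : Matrix ι ι F) *ᵥ v) = polar Q u v) :
    InP Q M ((m : Matrix ι ι F) *ᵥ b) ((m : Matrix ι ι F) *ᵥ y) := by
  refine ⟨by rw [hiso, h.1], fun g hg => ?_⟩
  have : g = m * X hQ b y h.1 * m⁻¹ := by
    apply GL_ext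
    intro x
    rw [hg, Units.val_mul, Units.val_mul, ← Matrix.mulVec_mulVec, ← Matrix.mulVec_mulVec,
      X_apply, Matrix.mulVec_add, Matrix.mulVec_smul, GL_mulVec_inv_mulVec]
    congr 2
    rw [← hiso (((m⁻¹ : GL ι F) : Matrix ι ι F) *ᵥ x) y, GL_mulVec_inv_mulVec]
  rw [this]
  exact M.mul_mem (M.mul_mem hm (h.mem hQ)) (M.inv_mem hm)

/-- Every transvection with centre `b` lies in `M`. -/
def Full (Q : (ι → F) → F) (M : Subgroup (GL ι F)) (b : ι → F) : Prop :=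
  ∀ y, polar Q b y = 0 → InP Q M b y

theorem Full.map [Fintype F] (hQ : Cfsg.Geo.IsNondegenerateQuadraticForm Q) (hb : Full Q M b)
    (m : GL ι F) (hm : m ∈ M) : Full Q M ((m : Matrix ι ι F) *ᵥ b) := by
  intro y hy
  refine ⟨hy, fun g hg => ?_⟩
  obtain ⟨z, hz⟩ := riesz hQ ((fv (polar Q) y) ᵥ* (m : Matrix ι ι F))
  have hz' : ∀ x, polar Q x z = polar Q ((m : Matrix ι ι F) *ᵥ x) y := by
    intro x
    rw [hz, ← Matrix.dotProduct_mulVec, fv_dot hQ.polar_bilinear]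
  have hb0 : polar Q b z = 0 := by rw [hz', hy]
  have hmem := (hb z hb0).mem hQ
  have : g = m * X hQ b z hb0 * m⁻¹ := by
    apply GL_ext
    intro x
    rw [hg, Units.val_mul, Units.val_mul, ← Matrix.mulVec_mulVec, ← Matrix.mulVec_mulVec,
      X_apply, Matrix.mulVec_add, Matrix.mulVec_smul, GL_mulVec_inv_mulVec, hz',
      GL_mulVec_inv_mulVec]
  rw [this]
  exact M.mul_mem (M.mul_mem hm hmem) (M.inv_mem hm)

theorem Full.of_smul (hQ : Cfsg.Geo.IsNondegenerateQuadraticForm Q) (c : F) (hc : c ≠ 0)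
    (hb : Full Q M (c • b)) : Full Q M b := by
  intro y hy
  have h1 : polar Q (c • b) (c⁻¹ • y) = 0 := by
    rw [pol_smul_left hQ, pol_smul_right hQ, hy, mul_zero, mul_zero]
  have h2 := (inP_smul_iff hQ c).mp (hb _ h1)
  rwa [smul_smul, mul_inv_cancel₀ hc, one_smul] at h2

theorem Full.smul (hQ : Cfsg.Geo.IsNondegenerateQuadraticForm Q) (c : F) (hc : c ≠ 0)
    (hb : Full Q M b) : Full Q M (c • b) := by
  apply Full.of_smul hQ c⁻¹ (inv_ne_zero hc)
  rwa [smul_smul, inv_mul_cancel₀ hc, one_smul]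

theorem full_zero (hQ : Cfsg.Geo.IsNondegenerateQuadraticForm Q) (M : Subgroup (GL ι F)) :
    Full Q M 0 := fun y _ => inP_zero_center hQ M y

/-- Sum of two independent full centres is a full centre. -/
theorem full_add [Fintype F] (hQ : Cfsg.Geo.IsNondegenerateQuadraticForm Q) {x y : ι → F}
    (hx : Full Q M x) (hy : Full Q M y) (hxy : x ∉ Submodule.span F {y}) :
    Full Q M (x + y) := by
  obtain ⟨z, hzU, hz⟩ := sepR hQ _ x hxy
  have h0 : polar Q y z = 0 := hzU y (Submodule.mem_span_singleton_self y)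
  have hm := (hy z h0).mem hQ
  have := hx.map hQ _ hm
  rwa [X_apply, hz, one_smul] at this

/-! ### Long root elements -/

/-- The long root element `x ↦ x + B x c' • c - B x c • c'`. -/
def E (hQ : Cfsg.Geo.IsNondegenerateQuadraticForm Q) (c c' : ι → F) (h : polar Q c c' = 0) :
    GL ι F :=
  X hQ c c' h * X hQ c' (-c) (by rw [pol_neg_right hQ, pol_swap0 h, neg_zero])

theorem E_apply (hQ : Cfsg.Geo.IsNondegenerateQuadraticForm Q) (c c' : ι → F)
    (h : polar Q c c' = 0) (hc' : Q c' = 0) (x : ι → F) :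
    ((E hQ c c' h : GL ι F) : Matrix ι ι F) *ᵥ x = x + polar Q x c' • c - polar Q x c • c' := by
  unfold E
  rw [Units.val_mul, ← Matrix.mulVec_mulVec, X_apply, X_apply, pol_add_left hQ,
    pol_smul_left hQ, pol_self hQ, hc', pol_neg_right hQ]
  module

theorem E_mem_SL (hQ : Cfsg.Geo.IsNondegenerateQuadraticForm Q) (c c' : ι → F)
    (h : polar Q c c' = 0) : E hQ c c' h ∈ Cfsg.Geo.specialLinear ι F :=
  (Cfsg.Geo.specialLinear ι F).mul_mem (X_mem_SL hQ _ _ _) (X_mem_SL hQ _ _ _)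

theorem E_q (hQ : Cfsg.Geo.IsNondegenerateQuadraticForm Q) (c c' : ι → F)
    (h : polar Q c c' = 0) (hc : Q c = 0) (hc' : Q c' = 0) (x : ι → F) :
    Q (((E hQ c c' h : GL ι F) : Matrix ι ι F) *ᵥ x) = Q x := by
  rw [E_apply hQ c c' h hc', q_sub hQ, q_add Q, hQ.smul, hQ.smul, hc, hc', pol_smul_right hQ,
    pol_smul_right hQ, pol_add_left hQ, pol_smul_left hQ, h]
  ring

theorem E_pol (hQ : Cfsg.Geo.IsNondegenerateQuadraticForm Q) (c c' : ι → F)
    (h : polar Q c c' = 0) (hc : Q c = 0) (hc' : Q c' = 0) (x y : ι → F) :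
    polar Q (((E hQ c c' h : GL ι F) : Matrix ι ι F) *ᵥ x)
      (((E hQ c c' h : GL ι F) : Matrix ι ι F) *ᵥ y) = polar Q x y := by
  unfold QuadraticMap.polar
  rw [← Matrix.mulVec_add, E_q hQ c c' h hc hc', E_q hQ c c' h hc hc', E_q hQ c c' h hc hc']

theorem E_mem (hQ : Cfsg.Geo.IsNondegenerateQuadraticForm Q) (c c' : ι → F)
    (h : polar Q c c' = 0) (hc : Q c = 0) (hc' : Q c' = 0) :
    E hQ c c' h ∈ Cfsg.Geo.quadSimilarityGroup Q ⊓ Cfsg.Geo.specialLinear ι F :=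
  ⟨⟨1, fun v => by rw [E_q hQ c c' h hc hc', Units.val_one, one_mul]⟩, E_mem_SL hQ c c' h⟩

/-- The long-root rule. -/
theorem InP.lr (hQ : Cfsg.Geo.IsNondegenerateQuadraticForm Q)
    (hHM : Cfsg.Geo.quadSimilarityGroup Q ⊓ Cfsg.Geo.specialLinear ι F ≤ M)
    (hP : InP Q M b y) (c c' : ι → F) (hc : Q c = 0) (hc' : Q c' = 0)
    (hcc' : polar Q c c' = 0) (hbc : polar Q b c = 0) (hbc' : polar Q b c' = 0)
    (hyc' : polar Q y c' = 0) (t : F) : InP Q M b ((t * polar Q y c) • c') := by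
  have htc : Q (t • c) = 0 := by rw [hQ.smul, hc, mul_zero]
  have htcc' : polar Q (t • c) c' = 0 := by rw [pol_smul_left hQ, hcc', mul_zero]
  have h1 := hP.isom hQ (E hQ (t • c) c' htcc') (hHM (E_mem hQ _ _ htcc' htc hc'))
    (E_pol hQ _ _ htcc' htc hc')
  rw [E_apply hQ _ _ htcc' hc', E_apply hQ _ _ htcc' hc', hbc', pol_smul_right hQ, hbc, hyc',
    pol_smul_right hQ] at h1
  simp only [mul_zero, zero_smul, add_zero, sub_zero] at h1
  have h2 := hP.sub hQ h1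
  have : y - (y - (t * polar Q y c) • c') = (t * polar Q y c) • c' := by abel
  rwa [this] at h2

/-! ### Pairs of reflections -/

/-- The matrix of the reflection in the non-singular vector `u`. -/
def Rm (Q : (ι → F) → F) (u : ι → F) : Matrix ι ι F :=
  tvMat (-(Q u)⁻¹ • fv (polar Q) u) u

theorem Rm_mulVec (hQ : Cfsg.Geo.IsNondegenerateQuadraticForm Q) (u x : ι → F) :
    Rm Q u *ᵥ x = x - ((Q u)⁻¹ * polar Q x u) • u := by
  unfold Rm
  rw [tvMat_mulVec, smul_dotProduct, fv_dot hQ.polar_bilinear, smul_eq_mul, neg_mul, neg_smul,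
    sub_eq_add_neg]

theorem Rm_fix (hQ : Cfsg.Geo.IsNondegenerateQuadraticForm Q) (u x : ι → F)
    (h : polar Q x u = 0) : Rm Q u *ᵥ x = x := by
  rw [Rm_mulVec hQ, h, mul_zero, zero_smul, sub_zero]

theorem Rm_sq (hQ : Cfsg.Geo.IsNondegenerateQuadraticForm Q) (u : ι → F) (hu : Q u ≠ 0) :
    Rm Q u * Rm Q u = 1 := by
  apply Matrix.mulVec_injective
  funext x
  rw [← Matrix.mulVec_mulVec, Rm_mulVec hQ, Rm_mulVec hQ, pol_sub_left hQ, pol_smul_left hQ,
    pol_self hQ, Matrix.one_mulVec]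
  have : (Q u)⁻¹ * (polar Q x u - (Q u)⁻¹ * polar Q x u * (2 * Q u))
      = - ((Q u)⁻¹ * polar Q x u) := by
    field_simp
    ring
  rw [this]
  module

theorem Rm_det (hQ : Cfsg.Geo.IsNondegenerateQuadraticForm Q) (u : ι → F) (hu : Q u ≠ 0) :
    (Rm Q u).det = -1 := by
  unfold Rm
  rw [det_tvMat, smul_dotProduct, fv_dot hQ.polar_bilinear, pol_self hQ, smul_eq_mul]
  field_simp
  ring

theorem Rm_q (hQ : Cfsg.Geo.IsNondegenerateQuadraticForm Q) (u : ι → F) (hu : Q u ≠ 0)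
    (x : ι → F) : Q (Rm Q u *ᵥ x) = Q x := by
  rw [Rm_mulVec hQ, q_sub hQ, hQ.smul, pol_smul_right hQ]
  field_simp
  ring

/-- The product of the reflections in `u` and `v`. -/
def Rho (hQ : Cfsg.Geo.IsNondegenerateQuadraticForm Q) (u v : ι → F) (hu : Q u ≠ 0)
    (hv : Q v ≠ 0) : GL ι F where
  val := Rm Q u * Rm Q v
  inv := Rm Q v * Rm Q u
  val_inv := by
    rw [Matrix.mul_assoc, ← Matrix.mul_assoc (Rm Q v), Rm_sq hQ v hv, Matrix.one_mul,
      Rm_sq hQ u hu]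
  inv_val := by
    rw [Matrix.mul_assoc, ← Matrix.mul_assoc (Rm Q u), Rm_sq hQ u hu, Matrix.one_mul,
      Rm_sq hQ v hv]

theorem Rho_apply (hQ : Cfsg.Geo.IsNondegenerateQuadraticForm Q) (u v : ι → F) (hu : Q u ≠ 0)
    (hv : Q v ≠ 0) (x : ι → F) :
    ((Rho hQ u v hu hv : GL ι F) : Matrix ι ι F) *ᵥ x = Rm Q u *ᵥ (Rm Q v *ᵥ x) := by
  rw [Matrix.mulVec_mulVec]
  rfl

theorem Rho_q (hQ : Cfsg.Geo.IsNondegenerateQuadraticForm Q) (u v : ι → F) (hu : Q u ≠ 0)
    (hv : Q v ≠ 0) (x : ι → F) :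
    Q (((Rho hQ u v hu hv : GL ι F) : Matrix ι ι F) *ᵥ x) = Q x := by
  rw [Rho_apply, Rm_q hQ u hu, Rm_q hQ v hv]

theorem Rho_pol (hQ : Cfsg.Geo.IsNondegenerateQuadraticForm Q) (u v : ι → F) (hu : Q u ≠ 0)
    (hv : Q v ≠ 0) (x y : ι → F) :
    polar Q (((Rho hQ u v hu hv : GL ι F) : Matrix ι ι F) *ᵥ x)
      (((Rho hQ u v hu hv : GL ι F) : Matrix ι ι F) *ᵥ y) = polar Q x y := by
  unfold QuadraticMap.polar
  rw [← Matrix.mulVec_add, Rho_q hQ u v hu hv, Rho_q hQ u v hu hv, Rho_q hQ u v hu hv]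

theorem Rho_mem_SL (hQ : Cfsg.Geo.IsNondegenerateQuadraticForm Q) (u v : ι → F) (hu : Q u ≠ 0)
    (hv : Q v ≠ 0) : Rho hQ u v hu hv ∈ Cfsg.Geo.specialLinear ι F := by
  unfold Cfsg.Geo.specialLinear
  rw [MonoidHom.mem_ker]
  apply Units.ext
  rw [Matrix.GeneralLinearGroup.val_det_apply]
  change (Rm Q u * Rm Q v).det = 1
  rw [Matrix.det_mul, Rm_det hQ u hu, Rm_det hQ v hv]
  norm_num

theorem Rho_mem (hQ : Cfsg.Geo.IsNondegenerateQuadraticForm Q) (u v : ι → F) (hu : Q u ≠ 0)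
    (hv : Q v ≠ 0) :
    Rho hQ u v hu hv ∈ Cfsg.Geo.quadSimilarityGroup Q ⊓ Cfsg.Geo.specialLinear ι F :=
  ⟨⟨1, fun x => by rw [Rho_q hQ u v hu hv, Units.val_one, one_mul]⟩, Rho_mem_SL hQ u v hu hv⟩

end Grp

end Cfsg.Agent.Lib.Helper11.OrthMax
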