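import Cfsg.Agent.Lib.Helper11.OrthMaxB

/-!
Specialisations of the geometric existence lemmas to one, two or three vectors.
-/

set_option autoImplicit false
set_option linter.unusedSectionVars false
set_option linter.unusedVariables false

namespace Cfsg.Agent.Lib.Helper11.OrthMax

open scoped MatrixGroups Matrix
open Cfsg.Agent.Lib.Helper95
open Cfsg.Agent.Lib.Helper61.SpMax (fv fv_dot GL_ext)
open QuadraticMap (polar)

section Spec
variable {ι : Type} [Fintype ι] [DecidableEq ι] {F : Type*} [Field F] [Fintype F]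
variable {Q : (ι → F) → F}

theorem range_one (a : ι → F) : Set.range ![a] = {a} := by
  rw [Matrix.range_cons, Matrix.range_empty, Set.union_empty]

theorem range_two (a b : ι → F) : Set.range ![a, b] = {a, b} := by
  rw [Matrix.range_cons, Matrix.range_cons, Matrix.range_empty, Set.union_empty,
    Set.singleton_union]

theorem range_three (a b c : ι → F) : Set.range ![a, b, c] = {a, b, c} := by
  rw [Matrix.range_cons, Matrix.range_cons, Matrix.range_cons, Matrix.range_empty,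
    Set.union_empty, Set.singleton_union, Set.singleton_union]

theorem iso_sep1 (hQ : Cfsg.Geo.IsNondegenerateQuadraticForm Q) (hodd : Odd (Fintype.card F))
    (h13 : 12 < Fintype.card ι) (s₁ x : ι → F) (hx : x ∉ Submodule.span F {s₁}) :
    ∃ d : ι → F, Q d = 0 ∧ polar Q s₁ d = 0 ∧ polar Q x d = 1 := by
  obtain ⟨d, hd, hds, hxd⟩ := exists_iso_sep hQ hodd ![s₁] x (by rwa [range_one])
    (by simp; omega)
  refine ⟨d, hd, ?_, hxd⟩
  simpa using hds 0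

theorem iso_sep2 (hQ : Cfsg.Geo.IsNondegenerateQuadraticForm Q) (hodd : Odd (Fintype.card F))
    (h13 : 12 < Fintype.card ι) (s₁ s₂ x : ι → F) (hx : x ∉ Submodule.span F {s₁, s₂}) :
    ∃ d : ι → F, Q d = 0 ∧ polar Q s₁ d = 0 ∧ polar Q s₂ d = 0 ∧ polar Q x d = 1 := by
  obtain ⟨d, hd, hds, hxd⟩ := exists_iso_sep hQ hodd ![s₁, s₂] x (by rwa [range_two])
    (by simp; omega)
  refine ⟨d, hd, ?_, ?_, hxd⟩
  · simpa using hds 0
  · simpa using hds 1

theorem iso_gen0 (hQ : Cfsg.Geo.IsNondegenerateQuadraticForm Q) (hodd : Odd (Fintype.card F))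
    (h13 : 12 < Fintype.card ι) : ∃ d : ι → F, Q d = 0 ∧ d ≠ 0 := by
  obtain ⟨d, hd, -, hnot⟩ := exists_iso_generic hQ hodd (fun i : Fin 0 => (i.elim0 : ι → F))
    (by simp; omega)
  refine ⟨d, hd, ?_⟩
  rintro rfl
  exact hnot (Submodule.zero_mem _)

theorem iso_gen1 (hQ : Cfsg.Geo.IsNondegenerateQuadraticForm Q) (hodd : Odd (Fintype.card F))
    (h13 : 12 < Fintype.card ι) (s₁ : ι → F) :
    ∃ d : ι → F, Q d = 0 ∧ polar Q s₁ d = 0 ∧ d ∉ Submodule.span F {s₁} := by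
  obtain ⟨d, hd, hds, hnot⟩ := exists_iso_generic hQ hodd ![s₁] (by simp; omega)
  rw [range_one] at hnot
  refine ⟨d, hd, ?_, hnot⟩
  simpa using hds 0

theorem iso_gen2 (hQ : Cfsg.Geo.IsNondegenerateQuadraticForm Q) (hodd : Odd (Fintype.card F))
    (h13 : 12 < Fintype.card ι) (s₁ s₂ : ι → F) :
    ∃ d : ι → F, Q d = 0 ∧ polar Q s₁ d = 0 ∧ polar Q s₂ d = 0 ∧
      d ∉ Submodule.span F {s₁, s₂} := by
  obtain ⟨d, hd, hds, hnot⟩ := exists_iso_generic hQ hodd ![s₁, s₂] (by simp; omega)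
  rw [range_two] at hnot
  refine ⟨d, hd, ?_, ?_, hnot⟩
  · simpa using hds 0
  · simpa using hds 1

theorem iso_gen3 (hQ : Cfsg.Geo.IsNondegenerateQuadraticForm Q) (hodd : Odd (Fintype.card F))
    (h13 : 12 < Fintype.card ι) (s₁ s₂ s₃ : ι → F) :
    ∃ d : ι → F, Q d = 0 ∧ polar Q s₁ d = 0 ∧ polar Q s₂ d = 0 ∧ polar Q s₃ d = 0 ∧
      d ∉ Submodule.span F {s₁, s₂, s₃} := by
  obtain ⟨d, hd, hds, hnot⟩ := exists_iso_generic hQ hodd ![s₁, s₂, s₃] (by simp; omega)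
  rw [range_three] at hnot
  refine ⟨d, hd, ?_, ?_, ?_, hnot⟩
  · simpa using hds 0
  · simpa using hds 1
  · simpa using hds 2

theorem anis4 (hQ : Cfsg.Geo.IsNondegenerateQuadraticForm Q)
    (h13 : 12 < Fintype.card ι) (s₁ s₂ s₃ s₄ : ι → F) :
    ∃ w : ι → F, Q w ≠ 0 ∧ polar Q s₁ w = 0 ∧ polar Q s₂ w = 0 ∧ polar Q s₃ w = 0 ∧
      polar Q s₄ w = 0 := by
  obtain ⟨w, hw, hws⟩ := exists_orth_anis hQ ![s₁, s₂, s₃, s₄] (by simp; omega)
  refine ⟨w, hw, ?_, ?_, ?_, ?_⟩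
  · simpa using hws 0
  · simpa using hws 1
  · simpa using hws 2
  · simpa using hws 3

theorem anis5 (hQ : Cfsg.Geo.IsNondegenerateQuadraticForm Q)
    (h13 : 12 < Fintype.card ι) (s₁ s₂ s₃ s₄ s₅ : ι → F) :
    ∃ w : ι → F, Q w ≠ 0 ∧ polar Q s₁ w = 0 ∧ polar Q s₂ w = 0 ∧ polar Q s₃ w = 0 ∧
      polar Q s₄ w = 0 ∧ polar Q s₅ w = 0 := by
  obtain ⟨w, hw, hws⟩ := exists_orth_anis hQ ![s₁, s₂, s₃, s₄, s₅] (by simp; omega)
  refine ⟨w, hw, ?_, ?_, ?_, ?_, ?_⟩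
  · simpa using hws 0
  · simpa using hws 1
  · simpa using hws 2
  · simpa using hws 3
  · simpa using hws 4

theorem split0 (hQ : Cfsg.Geo.IsNondegenerateQuadraticForm Q) (hodd : Odd (Fintype.card F))
    (h13 : 12 < Fintype.card ι) (x : ι → F) :
    ∃ e₁ e₂ : ι → F, x = e₁ + e₂ ∧ Q e₁ = 0 ∧ Q e₂ = 0 := by
  obtain ⟨e₁, e₂, hx, h1, h2, -⟩ := exists_split hQ hodd (fun i : Fin 0 => (i.elim0 : ι → F)) x
    (by simp; omega)
  exact ⟨e₁, e₂, hx, h1, h2⟩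

theorem split1 (hQ : Cfsg.Geo.IsNondegenerateQuadraticForm Q) (hodd : Odd (Fintype.card F))
    (h13 : 12 < Fintype.card ι) (s₁ x : ι → F) (h : polar Q s₁ x = 0) :
    ∃ e₁ e₂ : ι → F, x = e₁ + e₂ ∧ Q e₁ = 0 ∧ Q e₂ = 0 ∧ polar Q s₁ e₁ = 0 ∧
      polar Q s₁ e₂ = 0 := by
  obtain ⟨e₁, e₂, hx, h1, h2, hs⟩ := exists_split hQ hodd ![s₁] x (by simp; omega)
  have := hs 0
  simp only [Matrix.cons_val_zero] at this
  obtain ⟨h3, h4⟩ := this h
  exact ⟨e₁, e₂, hx, h1, h2, h3, h4⟩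

theorem iso_adj2 (hQ : Cfsg.Geo.IsNondegenerateQuadraticForm Q) (hodd : Odd (Fintype.card F))
    (h13 : 12 < Fintype.card ι) (s₁ s₂ z : ι → F) :
    ∃ d : ι → F, Q d = 0 ∧ polar Q s₁ d = polar Q s₁ z ∧ polar Q s₂ d = polar Q s₂ z := by
  obtain ⟨d, hd, hds⟩ := exists_iso_adjust hQ hodd ![s₁, s₂] z (by simp; omega)
  refine ⟨d, hd, ?_, ?_⟩
  · simpa using hds 0
  · simpa using hds 1

/-- if `x ∉ span {a}` and `a ≠ 0` then `a ∉ span {x}` -/
theorem not_mem_span_swap {a x : ι → F} (ha : a ≠ 0) (hx : x ∉ Submodule.span F {a}) :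
    a ∉ Submodule.span F {x} := by
  intro h'
  obtain ⟨k, hk⟩ := Submodule.mem_span_singleton.mp h'
  have hk0 : k ≠ 0 := by
    rintro rfl
    rw [zero_smul] at hk
    exact ha hk.symm
  apply hx
  rw [Submodule.mem_span_singleton]
  exact ⟨k⁻¹, by rw [← hk, smul_smul, inv_mul_cancel₀ hk0, one_smul]⟩

end Spec

end Cfsg.Agent.Lib.Helper11.OrthMax
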