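import Cfsg.Agent.Lib.Helper11.OrthMaxC

/-!
The similarity group of a non-degenerate quadratic form over a finite field of odd order,
intersected with `SL`, is a maximal subgroup of `SL` (dimension at least 13).
-/

set_option autoImplicit false
set_option linter.unusedSectionVars false
set_option linter.unusedVariables false

namespace Cfsg.Agent.Lib.Helper11.OrthMax

open scoped MatrixGroups Matrix
open Cfsg.Agent.Lib.Helper95
open Cfsg.Agent.Lib.Helper61.SpMax (fv fv_dot GL_ext)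
open QuadraticMap (polar)

section Main
variable {ι : Type} [Fintype ι] [DecidableEq ι] {F : Type*} [Field F] [Fintype F]
variable {Q : (ι → F) → F}

/-- Propagating the similarity constant between orthogonal independent singular vectors. -/
theorem orth_step (hQ : Cfsg.Geo.IsNondegenerateQuadraticForm Q) (g : GL ι F)
    (h : ∀ a : ι → F, Q a = 0 → ∃ c : F, ∀ u,
      polar Q ((g : Matrix ι ι F) *ᵥ u) ((g : Matrix ι ι F) *ᵥ a) = c * polar Q u a)
    (c₀ : F) (a a' : ι → F) (ha : Q a = 0) (ha' : Q a' = 0) (haa' : polar Q a a' = 0)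
    (ha0 : a ≠ 0) (hnot : a' ∉ Submodule.span F {a})
    (hP : ∀ u, polar Q ((g : Matrix ι ι F) *ᵥ u) ((g : Matrix ι ι F) *ᵥ a) = c₀ * polar Q u a) :
    ∀ u, polar Q ((g : Matrix ι ι F) *ᵥ u) ((g : Matrix ι ι F) *ᵥ a') = c₀ * polar Q u a' := by
  have hnot' : a ∉ Submodule.span F {a'} := not_mem_span_swap ha0 hnot
  obtain ⟨c', hc'⟩ := h a' ha'
  have hsum : Q (a + a') = 0 := by rw [q_add Q, ha, ha', haa']; ring
  obtain ⟨c2, hc2⟩ := h _ hsum
  have hrel : ∀ u, c2 * (polar Q u a + polar Q u a') = c₀ * polar Q u a + c' * polar Q u a' := by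
    intro u
    have := hc2 u
    rw [Matrix.mulVec_add, pol_add_right hQ, hP, hc', pol_add_right hQ] at this
    exact this.symm
  obtain ⟨z₁, hz₁U, hz₁⟩ := sepR hQ _ a hnot'
  obtain ⟨z₂, hz₂U, hz₂⟩ := sepR hQ _ a' hnot
  have e1 : polar Q z₁ a' = 0 := pol_swap0 (hz₁U a' (Submodule.mem_span_singleton_self a'))
  have e2 : polar Q z₁ a = 1 := by rw [pol_comm]; exact hz₁
  have e3 : polar Q z₂ a = 0 := pol_swap0 (hz₂U a (Submodule.mem_span_singleton_self a))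
  have e4 : polar Q z₂ a' = 1 := by rw [pol_comm]; exact hz₂
  have r1 := hrel z₁
  rw [e1, e2] at r1
  have r2 := hrel z₂
  rw [e3, e4] at r2
  have hc2c0 : c2 = c₀ := by linear_combination r1
  have hc'c2 : c' = c2 := by linear_combination -r2
  intro u
  rw [hc', hc'c2, hc2c0]

/-- If `g` scales the polar form against every singular vector, it is a similarity. -/
theorem mem_sim_of_iso (hQ : Cfsg.Geo.IsNondegenerateQuadraticForm Q)
    (hodd : Odd (Fintype.card F)) (h13 : 12 < Fintype.card ι) (g : GL ι F)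
    (h : ∀ a : ι → F, Q a = 0 → ∃ c : F, ∀ u,
      polar Q ((g : Matrix ι ι F) *ᵥ u) ((g : Matrix ι ι F) *ᵥ a) = c * polar Q u a) :
    g ∈ Cfsg.Geo.quadSimilarityGroup Q := by
  have h2 : (2 : F) ≠ 0 := two_ne_zero_of_odd hodd
  obtain ⟨a₀, ha₀, ha₀0⟩ := iso_gen0 hQ hodd h13
  obtain ⟨c₀, hc₀⟩ := h a₀ ha₀
  have key : ∀ a : ι → F, Q a = 0 → ∀ u,
      polar Q ((g : Matrix ι ι F) *ᵥ u) ((g : Matrix ι ι F) *ᵥ a) = c₀ * polar Q u a := by
    intro a ha
    by_cases hmem : a ∈ Submodule.span F {a₀}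
    · obtain ⟨k, rfl⟩ := Submodule.mem_span_singleton.mp hmem
      intro u
      rw [Matrix.mulVec_smul, pol_smul_right hQ, pol_smul_right hQ, hc₀]
      ring
    · by_cases horth : polar Q a₀ a = 0
      · exact orth_step hQ g h c₀ a₀ a ha₀ ha horth ha₀0 hmem hc₀
      · obtain ⟨a₂, ha₂, h02, ha2, hnot⟩ := iso_gen2 hQ hodd h13 a₀ a
        have hnot0 : a₂ ∉ Submodule.span F {a₀} := fun hm =>
          hnot (Submodule.span_mono (by simp) hm)
        have ha₂0 : a₂ ≠ 0 := by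
          rintro rfl
          exact hnot (Submodule.zero_mem _)
        have hP2 := orth_step hQ g h c₀ a₀ a₂ ha₀ ha₂ h02 ha₀0 hnot0 hc₀
        have hnota : a ∉ Submodule.span F {a₂} := by
          intro hm
          obtain ⟨k, hk⟩ := Submodule.mem_span_singleton.mp hm
          have hk0 : k ≠ 0 := by
            rintro rfl
            rw [zero_smul] at hk
            apply hmem
            rw [← hk]
            exact Submodule.zero_mem _
          apply hnot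
          have : a₂ = k⁻¹ • a := by rw [← hk, smul_smul, inv_mul_cancel₀ hk0, one_smul]
          rw [this]
          exact Submodule.smul_mem _ _ (Submodule.subset_span (by simp))
        exact orth_step hQ g h c₀ a₂ a ha₂ ha (pol_swap0 ha2) ha₂0 hnota hP2
  have hall : ∀ u v, polar Q ((g : Matrix ι ι F) *ᵥ u) ((g : Matrix ι ι F) *ᵥ v)
      = c₀ * polar Q u v := by
    intro u v
    obtain ⟨e₁, e₂, hv, he₁, he₂⟩ := split0 hQ hodd h13 v
    rw [hv, Matrix.mulVec_add, pol_add_right hQ, pol_add_right hQ, key e₁ he₁, key e₂ he₂]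
    ring
  have hc₀0 : c₀ ≠ 0 := by
    rintro rfl
    obtain ⟨⟨x, hx⟩, _⟩ := hQ.nondegenerate a₀ ha₀0
    apply hx
    have := hall (((g⁻¹ : GL ι F) : Matrix ι ι F) *ᵥ x) (((g⁻¹ : GL ι F) : Matrix ι ι F) *ᵥ a₀)
    rwa [GL_mulVec_inv_mulVec, GL_mulVec_inv_mulVec, zero_mul] at this
  refine ⟨Units.mk0 c₀ hc₀0, fun v => ?_⟩
  have := hall v v
  rw [pol_self hQ, pol_self hQ] at this
  rw [Units.val_mk0]
  have h3 : (2 : F) * (Q ((g : Matrix ι ι F) *ᵥ v) - c₀ * Q v) = 0 := by linear_combination this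
  rcases mul_eq_zero.mp h3 with h' | h'
  · exact absurd h' h2
  · exact sub_eq_zero.mp h'

/-- A non-similarity yields a totally singular pair whose transported functional is in general
position. -/
theorem exists_pair (hQ : Cfsg.Geo.IsNondegenerateQuadraticForm Q)
    (hodd : Odd (Fintype.card F)) (h13 : 12 < Fintype.card ι) (g : GL ι F)
    (hg : g ∉ Cfsg.Geo.quadSimilarityGroup Q) :
    ∃ a w y : ι → F, Q a = 0 ∧ Q w = 0 ∧ polar Q a w = 0 ∧ a ∉ Submodule.span F {w} ∧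
      (∀ x, polar Q x y = polar Q (((g⁻¹ : GL ι F) : Matrix ι ι F) *ᵥ x) w) ∧
      y ∉ Submodule.span F {(g : Matrix ι ι F) *ᵥ a, (g : Matrix ι ι F) *ᵥ w} := by
  by_contra hcon
  push Not at hcon
  apply hg
  apply mem_sim_of_iso hQ hodd h13
  intro w hw
  by_cases hw0 : w = 0
  · refine ⟨0, fun u => ?_⟩
    rw [hw0, Matrix.mulVec_zero, pol_zero_right hQ, zero_mul]
  obtain ⟨y, hy⟩ := riesz hQ ((fv (polar Q) w) ᵥ* ((g⁻¹ : GL ι F) : Matrix ι ι F))
  have hy' : ∀ x, polar Q x y = polar Q (((g⁻¹ : GL ι F) : Matrix ι ι F) *ᵥ x) w := by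
    intro x
    rw [hy, ← Matrix.dotProduct_mulVec, fv_dot hQ.polar_bilinear]
  obtain ⟨a₁, ha₁, hwa₁, hnot₁⟩ := iso_gen1 hQ hodd h13 w
  obtain ⟨a₂, ha₂, hwa₂, -, hnot₂⟩ := iso_gen2 hQ hodd h13 w a₁
  have m1 := hcon a₁ w y ha₁ hw (pol_swap0 hwa₁) hnot₁ hy'
  have m2 := hcon a₂ w y ha₂ hw (pol_swap0 hwa₂)
    (fun hm => hnot₂ (Submodule.span_mono (by simp) hm)) hy'
  obtain ⟨α₁, β₁, e1⟩ := Submodule.mem_span_pair.mp m1
  obtain ⟨α₂, β₂, e2⟩ := Submodule.mem_span_pair.mp m2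
  have hlin : α₁ • a₁ + (β₁ - β₂) • w - α₂ • a₂ = 0 := by
    apply GL_mulVec_inj g
    rw [Matrix.mulVec_zero, Matrix.mulVec_sub, Matrix.mulVec_add, Matrix.mulVec_smul,
      Matrix.mulVec_smul, Matrix.mulVec_smul, sub_smul]
    have : α₁ • (g : Matrix ι ι F) *ᵥ a₁ + β₁ • (g : Matrix ι ι F) *ᵥ w
        = α₂ • (g : Matrix ι ι F) *ᵥ a₂ + β₂ • (g : Matrix ι ι F) *ᵥ w := by rw [e1, e2]
    linear_combination (exp := 1) this
  have hα₂ : α₂ = 0 := by
    by_contra hne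
    apply hnot₂
    rw [Submodule.mem_span_pair]
    refine ⟨α₂⁻¹ * (β₁ - β₂), α₂⁻¹ * α₁, ?_⟩
    have : α₂ • a₂ = α₁ • a₁ + (β₁ - β₂) • w := by
      linear_combination (exp := 1) -hlin
    have h3 : a₂ = α₂⁻¹ • (α₂ • a₂) := by rw [smul_smul, inv_mul_cancel₀ hne, one_smul]
    rw [h3, this, smul_add, smul_smul, smul_smul, add_comm]
  have hα₁ : α₁ = 0 := by
    by_contra hne
    apply hnot₁
    rw [Submodule.mem_span_singleton]
    refine ⟨-(α₁⁻¹ * (β₁ - β₂)), ?_⟩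
    rw [hα₂, zero_smul, sub_zero] at hlin
    have : α₁ • a₁ = -((β₁ - β₂) • w) := by
      linear_combination (exp := 1) hlin
    have h3 : a₁ = α₁⁻¹ • (α₁ • a₁) := by rw [smul_smul, inv_mul_cancel₀ hne, one_smul]
    rw [h3, this, smul_neg, smul_smul, neg_smul]
  rw [hα₁, zero_smul, zero_add] at e1
  have hrel : ∀ u, β₁ * polar Q ((g : Matrix ι ι F) *ᵥ u) ((g : Matrix ι ι F) *ᵥ w)
      = polar Q u w := by
    intro u
    have := hy' ((g : Matrix ι ι F) *ᵥ u)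
    rw [GL_inv_mulVec_mulVec, ← e1, pol_smul_right hQ] at this
    exact this
  have hβ : β₁ ≠ 0 := by
    rintro rfl
    obtain ⟨⟨x, hx⟩, _⟩ := hQ.nondegenerate w hw0
    apply hx
    rw [← hrel x, zero_mul]
  refine ⟨β₁⁻¹, fun u => ?_⟩
  rw [← hrel u, ← mul_assoc, inv_mul_cancel₀ hβ, one_mul]

variable {M : Subgroup (GL ι F)}

/-- Step A: a non-similarity in `M` yields a transvection in `M` with non-singular axis vector. -/
theorem exists_inP_of_not_sim (hQ : Cfsg.Geo.IsNondegenerateQuadraticForm Q)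
    (hodd : Odd (Fintype.card F)) (h13 : 12 < Fintype.card ι)
    (hHM : Cfsg.Geo.quadSimilarityGroup Q ⊓ Cfsg.Geo.specialLinear ι F ≤ M)
    (g : GL ι F) (hgM : g ∈ M) (hg : g ∉ Cfsg.Geo.quadSimilarityGroup Q) :
    ∃ b u : ι → F, b ≠ 0 ∧ Q u ≠ 0 ∧ InP Q M b u := by
  obtain ⟨a, w, y, ha, hw, haw, hanw, hy, hynot⟩ := exists_pair hQ hodd h13 g hg
  obtain ⟨y', hy'0⟩ := riesz hQ ((fv (polar Q) a) ᵥ* ((g⁻¹ : GL ι F) : Matrix ι ι F))
  have hy' : ∀ x, polar Q x y' = polar Q (((g⁻¹ : GL ι F) : Matrix ι ι F) *ᵥ x) a := by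
    intro x
    rw [hy'0, ← Matrix.dotProduct_mulVec, fv_dot hQ.polar_bilinear]
  obtain ⟨b, hb⟩ : ∃ b, b = (g : Matrix ι ι F) *ᵥ a := ⟨_, rfl⟩
  obtain ⟨b', hb'⟩ : ∃ b', b' = (g : Matrix ι ι F) *ᵥ w := ⟨_, rfl⟩
  rw [← hb, ← hb'] at hynot
  have hby : polar Q b y = 0 := by rw [hy, hb, GL_inv_mulVec_mulVec, haw]
  have hb'y : polar Q b' y = 0 := by
    rw [hy, hb', GL_inv_mulVec_mulVec, pol_self hQ, hw, mul_zero]
  have hby' : polar Q b y' = 0 := by
    rw [hy', hb, GL_inv_mulVec_mulVec, pol_self hQ, ha, mul_zero]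
  have hb'y' : polar Q b' y' = 0 := by
    rw [hy', hb', GL_inv_mulVec_mulVec, pol_swap0 haw]
  -- the non-singular vector u
  obtain ⟨z, hzU, hyz⟩ := sepR hQ _ y hynot
  have hbz : polar Q b z = 0 := hzU b (Submodule.subset_span (by simp))
  have hb'z : polar Q b' z = 0 := hzU b' (Submodule.subset_span (by simp))
  obtain ⟨u, hu, hbu, hb'u, hyu⟩ : ∃ u, Q u ≠ 0 ∧ polar Q b u = 0 ∧ polar Q b' u = 0 ∧
      polar Q y u = 1 := by
    by_cases hz : Q z = 0
    · obtain ⟨w₀, hw₀, h1, h2, h3, h4⟩ := anis4 hQ h13 b b' y z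
      refine ⟨z + w₀, ?_, ?_, ?_, ?_⟩
      · rw [q_add Q, hz, h4, zero_add, add_zero]; exact hw₀
      · rw [pol_add_right hQ, hbz, h1, add_zero]
      · rw [pol_add_right hQ, hb'z, h2, add_zero]
      · rw [pol_add_right hQ, hyz, h3, add_zero]
    · exact ⟨z, hz, hbz, hb'z, hyz⟩
  obtain ⟨v, hv, hbv, hb'v, hyv, hy'v, huv⟩ := anis5 hQ h13 b b' y y' u
  -- the isometry ρ
  obtain ⟨ρ, hρ⟩ : ∃ ρ, ρ = Rho hQ u v hu hv := ⟨_, rfl⟩
  have hρM : ρ ∈ M := by rw [hρ]; exact hHM (Rho_mem hQ u v hu hv)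
  have hρiso : ∀ p q, polar Q ((ρ : Matrix ι ι F) *ᵥ p) ((ρ : Matrix ι ι F) *ᵥ q)
      = polar Q p q := by
    intro p q; rw [hρ]; exact Rho_pol hQ u v hu hv p q
  have hρb : (ρ : Matrix ι ι F) *ᵥ b = b := by
    rw [hρ, Rho_apply, Rm_fix hQ v b hbv, Rm_fix hQ u b hbu]
  have hρb' : (ρ : Matrix ι ι F) *ᵥ b' = b' := by
    rw [hρ, Rho_apply, Rm_fix hQ v b' hb'v, Rm_fix hQ u b' hb'u]
  obtain ⟨β, hβ⟩ : ∃ β, β = (Q u)⁻¹ * polar Q y u := ⟨_, rfl⟩
  obtain ⟨β', hβ'⟩ : ∃ β', β' = (Q u)⁻¹ * polar Q y' u := ⟨_, rfl⟩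
  have hρy : (ρ : Matrix ι ι F) *ᵥ y = y - β • u := by
    rw [hρ, Rho_apply, Rm_fix hQ v y hyv, Rm_mulVec hQ, hβ]
  have hρy' : (ρ : Matrix ι ι F) *ᵥ y' = y' - β' • u := by
    rw [hρ, Rho_apply, Rm_fix hQ v y' hy'v, Rm_mulVec hQ, hβ']
  have hβ0 : β ≠ 0 := by
    rw [hβ, hyu, mul_one]
    exact inv_ne_zero hu
  -- the conjugate Y of the long root element
  obtain ⟨Y, hY⟩ : ∃ Y, Y = g * E hQ a w haw * g⁻¹ := ⟨_, rfl⟩
  have hYM : Y ∈ M := by
    rw [hY]
    exact M.mul_mem (M.mul_mem hgM (hHM (E_mem hQ a w haw ha hw))) (M.inv_mem hgM)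
  have hYx : ∀ x, (Y : Matrix ι ι F) *ᵥ x = x + polar Q x y • b - polar Q x y' • b' := by
    intro x
    rw [hY, Units.val_mul, Units.val_mul, ← Matrix.mulVec_mulVec, ← Matrix.mulVec_mulVec,
      E_apply hQ a w haw hw, Matrix.mulVec_sub, Matrix.mulVec_add, Matrix.mulVec_smul,
      Matrix.mulVec_smul, GL_mulVec_inv_mulVec, ← hy, ← hy', ← hb, ← hb']
  obtain ⟨b₁, hb₁⟩ : ∃ b₁, b₁ = β' • b' - β • b := ⟨_, rfl⟩
  have hb₁u : polar Q b₁ u = 0 := by
    rw [hb₁, pol_sub_left hQ, pol_smul_left hQ, pol_smul_left hQ, hbu, hb'u]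
    ring
  have hb₁y : polar Q b₁ y = 0 := by
    rw [hb₁, pol_sub_left hQ, pol_smul_left hQ, pol_smul_left hQ, hby, hb'y]
    ring
  have hb₁y' : polar Q b₁ y' = 0 := by
    rw [hb₁, pol_sub_left hQ, pol_smul_left hQ, pol_smul_left hQ, hby', hb'y']
    ring
  have hb₁0 : b₁ ≠ 0 := by
    intro h0
    apply hanw
    rw [Submodule.mem_span_singleton]
    refine ⟨β⁻¹ * β', ?_⟩
    apply GL_mulVec_inj g
    rw [Matrix.mulVec_smul, ← hb, ← hb']
    have h1 : β • b = β' • b' := by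
      rw [hb₁] at h0
      exact (sub_eq_zero.mp h0).symm
    have h3 : b = β⁻¹ • (β • b) := by rw [smul_smul, inv_mul_cancel₀ hβ0, one_smul]
    rw [h3, h1, smul_smul]
  refine ⟨b₁, u, hb₁0, hu, hb₁u, fun g' hg' => ?_⟩
  have : g' = Y⁻¹ * (ρ * Y * ρ⁻¹) := by
    apply GL_ext
    intro x
    apply GL_mulVec_inj Y
    rw [Units.val_mul, ← Matrix.mulVec_mulVec, GL_mulVec_inv_mulVec, Units.val_mul,
      Units.val_mul, ← Matrix.mulVec_mulVec, ← Matrix.mulVec_mulVec, hg', hYx, hYx,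
      Matrix.mulVec_sub, Matrix.mulVec_add, Matrix.mulVec_smul, Matrix.mulVec_smul,
      GL_mulVec_inv_mulVec, hρb, hρb']
    have e1 : polar Q (((ρ⁻¹ : GL ι F) : Matrix ι ι F) *ᵥ x) y
        = polar Q x y - β * polar Q x u := by
      rw [← hρiso (((ρ⁻¹ : GL ι F) : Matrix ι ι F) *ᵥ x) y, GL_mulVec_inv_mulVec, hρy,
        pol_sub_right hQ, pol_smul_right hQ]
    have e2 : polar Q (((ρ⁻¹ : GL ι F) : Matrix ι ι F) *ᵥ x) y'
        = polar Q x y' - β' * polar Q x u := by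
      rw [← hρiso (((ρ⁻¹ : GL ι F) : Matrix ι ι F) *ᵥ x) y', GL_mulVec_inv_mulVec, hρy',
        pol_sub_right hQ, pol_smul_right hQ]
    rw [e1, e2, pol_add_left hQ, pol_add_left hQ, pol_smul_left hQ, pol_smul_left hQ, hb₁y,
      hb₁y', hb₁]
    module
  rw [this]
  exact M.mul_mem (M.inv_mem hYM) (M.mul_mem (M.mul_mem hρM hYM) (M.inv_mem hρM))

/-- Step B: a transvection with axis vector independent of the centre makes the centre full. -/
theorem full_of_inP (hQ : Cfsg.Geo.IsNondegenerateQuadraticForm Q)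
    (hodd : Odd (Fintype.card F)) (h13 : 12 < Fintype.card ι)
    (hHM : Cfsg.Geo.quadSimilarityGroup Q ⊓ Cfsg.Geo.specialLinear ι F ≤ M)
    (b y₀ : ι → F) (hy₀ : y₀ ∉ Submodule.span F {b}) (hP : InP Q M b y₀) : Full Q M b := by
  have claim1 : ∀ e : ι → F, Q e = 0 → polar Q b e = 0 → e ∉ Submodule.span F {b} →
      InP Q M b e := by
    intro e he hbe hnot
    obtain ⟨c2, hc2, hbc2, hy₀c2, hec2, hc2not⟩ := iso_gen3 hQ hodd h13 b y₀ e
    have hy₀not : y₀ ∉ Submodule.span F {b, c2} := by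
      intro hm
      obtain ⟨α, γ, hαγ⟩ := Submodule.mem_span_pair.mp hm
      by_cases hγ : γ = 0
      · apply hy₀
        rw [Submodule.mem_span_singleton]
        exact ⟨α, by rw [← hαγ, hγ, zero_smul, add_zero]⟩
      · apply hc2not
        rw [Submodule.mem_span_triple]
        refine ⟨-(γ⁻¹ * α), γ⁻¹, 0, ?_⟩
        have h3 : c2 = γ⁻¹ • (γ • c2) := by rw [smul_smul, inv_mul_cancel₀ hγ, one_smul]
        have h4 : γ • c2 = y₀ - α • b := by rw [← hαγ]; abel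
        rw [h3, h4, smul_sub, smul_smul, zero_smul, add_zero, neg_smul]
        abel
    obtain ⟨c, hc, hbc, hc2c, hy₀c⟩ := iso_sep2 hQ hodd h13 b c2 y₀ hy₀not
    have h1 := hP.lr hQ hHM c c2 hc hc2 (pol_swap0 hc2c) hbc hbc2 hy₀c2 1
    rw [hy₀c, mul_one, one_smul] at h1
    have hc2not' : c2 ∉ Submodule.span F {b, e} := fun hm =>
      hc2not (Submodule.span_mono (by
        intro t ht
        rcases ht with rfl | rfl
        · simp
        · simp) hm)
    obtain ⟨c₂, hc₂, hbc₂, hec₂, hc2c₂⟩ := iso_sep2 hQ hodd h13 b e c2 hc2not'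
    have h2 := h1.lr hQ hHM c₂ e hc₂ he (pol_swap0 hec₂) hbc₂ hbe (pol_swap0 hec2) 1
    rwa [hc2c₂, mul_one, one_smul] at h2
  have claim2 : ∀ e : ι → F, Q e = 0 → polar Q b e = 0 → InP Q M b e := by
    intro e he hbe
    by_cases hmem : e ∈ Submodule.span F {b}
    · obtain ⟨c₃, hc₃, hbc₃, hc₃not⟩ := iso_gen1 hQ hodd h13 b
      obtain ⟨k, hk⟩ := Submodule.mem_span_singleton.mp hmem
      have hec₃ : polar Q e c₃ = 0 := by rw [← hk, pol_smul_left hQ, hbc₃, mul_zero]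
      have h1 : InP Q M b (e + c₃) := by
        apply claim1
        · rw [q_add Q, he, hc₃, hec₃]; ring
        · rw [pol_add_right hQ, hbe, hbc₃, add_zero]
        · intro hm
          apply hc₃not
          have : c₃ = (e + c₃) - e := by abel
          rw [this]
          exact Submodule.sub_mem _ hm hmem
      have h2 := claim1 c₃ hc₃ hbc₃ hc₃not
      have h3 := h1.sub hQ h2
      rwa [add_sub_cancel_right] at h3
    · exact claim1 e he hbe hmem
  intro y hy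
  obtain ⟨e₁, e₂, hye, he₁, he₂, h1, h2⟩ := split1 hQ hodd h13 b y hy
  rw [hye]
  exact (claim2 e₁ he₁ h1).add hQ (claim2 e₂ he₂ h2)

/-- Step C1. -/
theorem full_c1 (hQ : Cfsg.Geo.IsNondegenerateQuadraticForm Q)
    (hodd : Odd (Fintype.card F)) (h13 : 12 < Fintype.card ι)
    (hHM : Cfsg.Geo.quadSimilarityGroup Q ⊓ Cfsg.Geo.specialLinear ι F ≤ M)
    (b c' : ι → F) (hb0 : b ≠ 0) (hc' : Q c' = 0) (hbc' : polar Q b c' = 0)
    (hnot : c' ∉ Submodule.span F {b}) (hF : Full Q M b) : Full Q M c' := by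
  have hbnot : b ∉ Submodule.span F {c'} := not_mem_span_swap hb0 hnot
  obtain ⟨c, hc, hc'c, hbc⟩ := iso_sep1 hQ hodd h13 c' b hbnot
  have hcc' : polar Q c c' = 0 := pol_swap0 hc'c
  have h1 := hF.map hQ (E hQ c c' hcc') (hHM (E_mem hQ c c' hcc' hc hc'))
  rw [E_apply hQ c c' hcc' hc', hbc', hbc, zero_smul, add_zero, one_smul] at h1
  have h2 : Full Q M (-b) := by
    have := hF.smul hQ (-1) (by norm_num)
    rwa [neg_one_smul] at this
  have hnot2 : b - c' ∉ Submodule.span F {-b} := by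
    intro hm
    obtain ⟨k, hk⟩ := Submodule.mem_span_singleton.mp hm
    apply hnot
    rw [Submodule.mem_span_singleton]
    refine ⟨1 + k, ?_⟩
    have : c' = b - k • (-b) := by rw [hk]; abel
    rw [this, add_smul, one_smul, smul_neg]
    abel
  have h3 := full_add hQ h1 h2 hnot2
  have h4 : b - c' + -b = (-1 : F) • c' := by rw [neg_one_smul]; abel
  rw [h4] at h3
  exact Full.of_smul hQ (-1) (by norm_num) h3

theorem full_iso (hQ : Cfsg.Geo.IsNondegenerateQuadraticForm Q)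
    (hodd : Odd (Fintype.card F)) (h13 : 12 < Fintype.card ι)
    (hHM : Cfsg.Geo.quadSimilarityGroup Q ⊓ Cfsg.Geo.specialLinear ι F ≤ M)
    (b : ι → F) (hb0 : b ≠ 0) (hF : Full Q M b) : ∀ e : ι → F, Q e = 0 → Full Q M e := by
  intro e he
  by_cases he0 : e = 0
  · rw [he0]; exact full_zero hQ M
  obtain ⟨c', hc', hbc', hec', hnot⟩ := iso_gen2 hQ hodd h13 b e
  have hnotb : c' ∉ Submodule.span F {b} := fun hm =>
    hnot (Submodule.span_mono (by simp) hm)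
  have hFc' := full_c1 hQ hodd h13 hHM b c' hb0 hc' hbc' hnotb hF
  have hc'0 : c' ≠ 0 := by
    rintro rfl
    exact hnot (Submodule.zero_mem _)
  have hnote : c' ∉ Submodule.span F {e} := fun hm =>
    hnot (Submodule.span_mono (by simp) hm)
  have henot : e ∉ Submodule.span F {c'} := not_mem_span_swap he0 hnote
  exact full_c1 hQ hodd h13 hHM c' e hc'0 he (pol_swap0 hec') henot hFc'

theorem full_all (hQ : Cfsg.Geo.IsNondegenerateQuadraticForm Q)
    (hodd : Odd (Fintype.card F)) (h13 : 12 < Fintype.card ι)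
    (hiso : ∀ e : ι → F, Q e = 0 → Full Q M e) (b : ι → F) : Full Q M b := by
  obtain ⟨e₁, e₂, hb, he₁, he₂⟩ := split0 hQ hodd h13 b
  by_cases hmem : e₁ ∈ Submodule.span F {e₂}
  · obtain ⟨k, hk⟩ := Submodule.mem_span_singleton.mp hmem
    apply hiso
    have : b = (k + 1) • e₂ := by rw [hb, ← hk, add_smul, one_smul]
    rw [this, hQ.smul, he₂, mul_zero]
  · rw [hb]
    exact full_add hQ (hiso e₁ he₁) (hiso e₂ he₂) hmem

/-- The key half of maximality. -/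
theorem sl_le_of_not_sim (hQ : Cfsg.Geo.IsNondegenerateQuadraticForm Q)
    (hodd : Odd (Fintype.card F)) (h13 : 12 < Fintype.card ι)
    (hHM : Cfsg.Geo.quadSimilarityGroup Q ⊓ Cfsg.Geo.specialLinear ι F ≤ M)
    (g : GL ι F) (hgM : g ∈ M) (hg : g ∉ Cfsg.Geo.quadSimilarityGroup Q) :
    Cfsg.Geo.specialLinear ι F ≤ M := by
  have h2 : (2 : F) ≠ 0 := two_ne_zero_of_odd hodd
  obtain ⟨b, u, hb0, hu, hP⟩ := exists_inP_of_not_sim hQ hodd h13 hHM g hgM hg
  have hunot : u ∉ Submodule.span F {b} := by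
    intro hm
    obtain ⟨k, hk⟩ := Submodule.mem_span_singleton.mp hm
    have h1 : polar Q u u = 0 := by
      calc polar Q u u = polar Q (k • b) u := by rw [hk]
        _ = 0 := by rw [pol_smul_left hQ, hP.1, mul_zero]
    rw [pol_self hQ] at h1
    rcases mul_eq_zero.mp h1 with h' | h'
    · exact h2 h'
    · exact hu h'
  have hFb := full_of_inP hQ hodd h13 hHM b u hunot hP
  have hFiso := full_iso hQ hodd h13 hHM b hb0 hFb
  have hFall := full_all hQ hodd h13 hFiso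
  apply Cfsg.Agent.Lib.Helper61.SpMax.specialLinear_le_of_all_tvGL
  intro φ v h
  obtain ⟨z, hz⟩ := riesz hQ φ
  have hvz : polar Q v z = 0 := by rw [hz, h]
  exact (hFall v z hvz).2 _ (fun x => by rw [tvGL_apply, hz])

/-- Properness. -/
theorem sim_lt_sl (hQ : Cfsg.Geo.IsNondegenerateQuadraticForm Q)
    (hodd : Odd (Fintype.card F)) (h13 : 12 < Fintype.card ι) :
    Cfsg.Geo.quadSimilarityGroup Q ⊓ Cfsg.Geo.specialLinear ι F
      < Cfsg.Geo.specialLinear ι F := by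
  rw [SetLike.lt_iff_le_and_exists]
  refine ⟨inf_le_right, ?_⟩
  obtain ⟨a, ha, ha0⟩ := iso_gen0 hQ hodd h13
  obtain ⟨x, hx, hax, hxnot⟩ := iso_gen1 hQ hodd h13 a
  have hx0 : x ≠ 0 := by
    rintro rfl
    exact hxnot (Submodule.zero_mem _)
  refine ⟨X hQ a x hax, X_mem_SL hQ a x hax, ?_⟩
  rintro ⟨⟨c, hc⟩, -⟩
  obtain ⟨⟨z₁, hz₁⟩, _⟩ := hQ.nondegenerate a ha0
  obtain ⟨⟨z₂, hz₂⟩, _⟩ := hQ.nondegenerate x hx0
  obtain ⟨z, hza, hzx⟩ : ∃ z, polar Q z a ≠ 0 ∧ polar Q z x ≠ 0 := by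
    by_cases h1 : polar Q z₁ x = 0
    · by_cases h2 : polar Q z₂ a = 0
      · refine ⟨z₁ + z₂, ?_, ?_⟩
        · rw [pol_add_left hQ, h2, add_zero]; exact hz₁
        · rw [pol_add_left hQ, h1, zero_add]; exact hz₂
      · exact ⟨z₂, h2, hz₂⟩
    · exact ⟨z₁, hz₁, h1⟩
  obtain ⟨v, hv, hav, hxv⟩ := iso_adj2 hQ hodd h13 a x z
  have := hc v
  rw [X_apply, q_add Q, hQ.smul, ha, hv, pol_smul_right hQ, mul_zero, mul_zero, zero_add,
    zero_add, pol_comm v x, pol_comm v a, hav, hxv, pol_comm a z, pol_comm x z] at this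
  exact (mul_ne_zero hzx hza) this

/-- The orthogonal similarity group is maximal in `SL`. -/
theorem orth_sim_isMaximalIn (hQ : Cfsg.Geo.IsNondegenerateQuadraticForm Q)
    (hodd : Odd (Fintype.card F)) (h13 : 12 < Fintype.card ι) :
    Cfsg.Geo.IsMaximalIn (Cfsg.Geo.specialLinear ι F)
      (Cfsg.Geo.quadSimilarityGroup Q ⊓ Cfsg.Geo.specialLinear ι F) := by
  refine ⟨sim_lt_sl hQ hodd h13, fun M hHM hMSL => ?_⟩
  by_cases hMH : M = Cfsg.Geo.quadSimilarityGroup Q ⊓ Cfsg.Geo.specialLinear ι F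
  · left; exact hMH
  · right
    obtain ⟨g, hgM, hgH⟩ := SetLike.exists_of_lt (lt_of_le_of_ne hHM (Ne.symm hMH))
    have hg : g ∉ Cfsg.Geo.quadSimilarityGroup Q := fun h => hgH ⟨h, hMSL hgM⟩
    exact le_antisymm hMSL (sl_le_of_not_sim hQ hodd h13 hHM g hgM hg)

end Main

end Cfsg.Agent.Lib.Helper11.OrthMax
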