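import Mathlib

/-!
# Keystone 271711 (K-S2717-V1), pure group theory

Transport of the relative index `(K ⊔ (H ⊓ C(x))).relIndex H` along a group isomorphism.
-/

set_option autoImplicit false

namespace Cfsg.Agent.Lib.Helper11.S2717K

theorem relIndex_transport {A B : Type*} [Group A] [Group B] (Ψ : A ≃* B) (H K : Subgroup A)
    (H' K' : Subgroup B) (hH : ∀ β, β ∈ H ↔ Ψ β ∈ H') (hK : ∀ β, β ∈ K ↔ Ψ β ∈ K') (x : A) :
    (K ⊔ (H ⊓ Subgroup.centralizer {x})).relIndex H =
      (K' ⊔ (H' ⊓ Subgroup.centralizer {Ψ x})).relIndex H' := by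
  have hsurj : Function.Surjective Ψ.toMonoidHom := Ψ.surjective
  have eH : H = H'.comap Ψ.toMonoidHom := by
    ext β; exact hH β
  have eK : K = K'.comap Ψ.toMonoidHom := by
    ext β; exact hK β
  have eC : Subgroup.centralizer ({x} : Set A) =
      (Subgroup.centralizer ({Ψ x} : Set B)).comap Ψ.toMonoidHom := by
    ext β
    simp only [Subgroup.mem_comap, Subgroup.mem_centralizer_iff, Set.mem_singleton_iff,
      forall_eq, MulEquiv.coe_toMonoidHom]
    constructor
    · intro h
      rw [← map_mul, ← map_mul, h]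
    · intro h
      apply Ψ.injective
      rw [map_mul, map_mul, h]
  have eX : K ⊔ (H ⊓ Subgroup.centralizer {x}) =
      (K' ⊔ (H' ⊓ Subgroup.centralizer {Ψ x})).comap Ψ.toMonoidHom := by
    rw [eH, eK, eC, ← Subgroup.comap_inf]
    exact Subgroup.comap_sup_eq Ψ.toMonoidHom K' (H' ⊓ Subgroup.centralizer {Ψ x}) hsurj
  rw [eX]
  conv_lhs => rw [eH]
  rw [Subgroup.relIndex_comap, Subgroup.map_comap_eq_self_of_surjective hsurj]

end Cfsg.Agent.Lib.Helper11.S2717K
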