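import Mathlib
import Cfsg.Agent.Lib.Helper40.NilCovDefs
import Cfsg.Agent.Lib.Helper14.NilpHall

/-!
# Keystone 389404 (K-S3894-R3): a nilpotent subgroup of `PGL_n(F)` containing the image of a
regular unipotent element is a `p`-group.
-/

set_option autoImplicit false

namespace Cfsg.Agent.Lib.Helper11.S3894R3

open Matrix Cfsg.Agent.Lib.Helper40.NilCov

variable {F : Type*} [Field F]

theorem inv_conj_pow {G : Type*} [Group G] (c y : G) (m : ℕ) :
    (c⁻¹ * y * c) ^ m = c⁻¹ * y ^ m * c := by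
  have := conj_pow (a := c⁻¹) (b := y) (i := m)
  rwa [inv_inv] at this

theorem scalar_eq_smul_one (n : ℕ) (a : F) :
    Matrix.scalar (Fin n) a = a • (1 : Matrix (Fin n) (Fin n) F) := by
  rw [Matrix.scalar_apply, ← Matrix.smul_one_eq_diagonal]

theorem regU_mulVec_e0 (n : ℕ) (hn : 0 < n) :
    (1 + shift n F) *ᵥ (Pi.single (⟨0, hn⟩ : Fin n) (1 : F)) =
      Pi.single (⟨0, hn⟩ : Fin n) (1 : F) := by
  rw [Matrix.add_mulVec, Matrix.one_mulVec]
  have : shift n F *ᵥ (Pi.single (⟨0, hn⟩ : Fin n) (1 : F)) = 0 := by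
    rw [Matrix.mulVec_single_one]
    funext i
    simp [shift]
  rw [this, add_zero]

theorem coe_inv_mul_coe (n : ℕ) (g : GL (Fin n) F) :
    ((g⁻¹ : GL (Fin n) F) : Matrix (Fin n) (Fin n) F) * (g : Matrix (Fin n) (Fin n) F) = 1 := by
  rw [← Matrix.GeneralLinearGroup.coe_mul, inv_mul_cancel]; rfl

/-- a `GL`-element whose matrix has a scalar power is torsion of that exponent in `PGL`. -/
theorem prj_pow_eq_one_of_scalar (n : ℕ) (g : GL (Fin n) F) (m : ℕ) (α : F)
    (h : (g : Matrix (Fin n) (Fin n) F) ^ m = α • (1 : Matrix (Fin n) (Fin n) F)) :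
    (prj n F g) ^ m = 1 := by
  rw [← map_pow]
  show (QuotientGroup.mk' (Subgroup.center (GL (Fin n) F))) (g ^ m) = 1
  rw [QuotientGroup.mk'_apply, QuotientGroup.eq_one_iff,
    Matrix.GeneralLinearGroup.mem_center_iff_val_mem_range_scalar]
  refine ⟨α, ?_⟩
  rw [scalar_eq_smul_one, ← h]
  simp

/-- the core computation: if `g' u' g'⁻¹ u'⁻¹` is central and `u'` is the regular unipotent
`1 + shift`, then `g'` commutes with `u'`. -/
theorem commute_of_central_comm (n : ℕ) (hn : 0 < n)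
    (hR2 : ∀ v : Fin n → F, FixesLine (1 + shift n F) v → ∀ i : Fin n, (i : ℕ) ≠ 0 → v i = 0)
    (g' u' z : GL (Fin n) F) (hu' : (u' : Matrix (Fin n) (Fin n) F) = 1 + shift n F)
    (hz : z ∈ Subgroup.center (GL (Fin n) F)) (hcomm : g' * u' = z * u' * g') :
    (g' : Matrix (Fin n) (Fin n) F) * (1 + shift n F) =
      (1 + shift n F) * (g' : Matrix (Fin n) (Fin n) F) := by
  obtain ⟨lam, hlam⟩ := Matrix.GeneralLinearGroup.mem_center_iff_val_mem_range_scalar.mp hz
  rw [scalar_eq_smul_one] at hlam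
  set U : Matrix (Fin n) (Fin n) F := 1 + shift n F with hU
  set M : Matrix (Fin n) (Fin n) F := (g' : Matrix (Fin n) (Fin n) F) with hM
  -- matrix form of the relation
  have hmat : M * U = lam • (U * M) := by
    have h1 := congrArg (fun x : GL (Fin n) F => (x : Matrix (Fin n) (Fin n) F)) hcomm
    simp only [Matrix.GeneralLinearGroup.coe_mul] at h1
    rw [hu'] at h1
    have hz' : (z : Matrix (Fin n) (Fin n) F) = lam • (1 : Matrix (Fin n) (Fin n) F) := hlam.symm
    rw [hz'] at h1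
    rw [h1, Matrix.mul_assoc, Matrix.smul_mul, Matrix.one_mul]
  set e0 : Fin n → F := Pi.single (⟨0, hn⟩ : Fin n) (1 : F) with he0
  have hUe0 : U *ᵥ e0 = e0 := regU_mulVec_e0 n hn
  set w : Fin n → F := M *ᵥ e0 with hw
  have hw1 : w = lam • (U *ᵥ w) := by
    calc w = M *ᵥ (U *ᵥ e0) := by rw [hUe0]
      _ = (M * U) *ᵥ e0 := by rw [Matrix.mulVec_mulVec]
      _ = (lam • (U * M)) *ᵥ e0 := by rw [hmat]
      _ = lam • (U *ᵥ w) := by rw [Matrix.smul_mulVec, ← Matrix.mulVec_mulVec]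
  have he0ne : e0 ≠ 0 := by
    intro h
    have := congrFun h ⟨0, hn⟩
    simp [he0] at this
  have hwne : w ≠ 0 := by
    intro h
    have h2 : ((g'⁻¹ : GL (Fin n) F) : Matrix (Fin n) (Fin n) F) *ᵥ w = e0 := by
      rw [hw, Matrix.mulVec_mulVec, hM, coe_inv_mul_coe, Matrix.one_mulVec]
    rw [h, Matrix.mulVec_zero] at h2
    exact he0ne h2.symm
  have hlam0 : lam ≠ 0 := by
    intro h
    rw [h, zero_smul] at hw1
    exact hwne hw1
  have hfix : FixesLine U w := by
    refine ⟨lam⁻¹, ?_⟩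
    calc U *ᵥ w = lam⁻¹ • (lam • (U *ᵥ w)) := by rw [smul_smul, inv_mul_cancel₀ hlam0, one_smul]
      _ = lam⁻¹ • w := by rw [← hw1]
  have hwi : ∀ i : Fin n, (i : ℕ) ≠ 0 → w i = 0 := hR2 w hfix
  have hwe : w = w ⟨0, hn⟩ • e0 := by
    funext i
    by_cases hi : (i : ℕ) = 0
    · have : i = ⟨0, hn⟩ := Fin.ext hi
      subst this
      simp [he0]
    · rw [hwi i hi]
      have : i ≠ ⟨0, hn⟩ := fun h => hi (by rw [h])
      simp [he0, this]
  have hUw : U *ᵥ w = w := by
    rw [hwe, Matrix.mulVec_smul, hUe0]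
  rw [hUw] at hw1
  have hlam1 : lam = 1 := by
    by_contra hne
    have h3 : (1 - lam) • w = 0 := by
      rw [sub_smul, one_smul, ← hw1, sub_self]
    rcases smul_eq_zero.mp h3 with h4 | h4
    · exact hne (sub_eq_zero.mp h4).symm
    · exact hwne h4
  rw [hmat, hlam1, one_smul]

/-- in the setting of R3, an element of `A` of order prime to `p` is trivial. -/
theorem eq_one_of_coprime {p : ℕ} [Fact p.Prime] [CharP F p] [Fintype F] (n : ℕ)
    (hR1 : ∀ g : Matrix (Fin n) (Fin n) F, g * (1 + shift n F) = (1 + shift n F) * g →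
      ∃ (α : F) (k : ℕ), g ^ (p ^ k) = α • (1 : Matrix (Fin n) (Fin n) F))
    (hR2 : ∀ v : Fin n → F, FixesLine (1 + shift n F) v → ∀ i : Fin n, (i : ℕ) ≠ 0 → v i = 0)
    (u h : GL (Fin n) F)
    (hu : ((h⁻¹ * u * h : GL (Fin n) F) : Matrix (Fin n) (Fin n) F) = 1 + shift n F)
    (A : Subgroup (PGL n F)) (hA : Group.IsNilpotent A) (huA : prj n F u ∈ A)
    (x : PGL n F) (hx : x ∈ A) (hcop : (orderOf x).Coprime p) : x = 1 := by
  classical
  rcases Nat.eq_zero_or_pos n with hn0 | hn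
  · subst hn0
    have : Subsingleton (GL (Fin 0) F) := ⟨fun a b => Units.ext (Subsingleton.elim _ _)⟩
    obtain ⟨g, rfl⟩ := QuotientGroup.mk'_surjective (Subgroup.center (GL (Fin 0) F)) x
    rw [Subsingleton.elim g 1]
    exact map_one _
  · set u' : GL (Fin n) F := h⁻¹ * u * h with hu'def
    -- `π u'` has `p`-power order
    obtain ⟨α₀, k₀, hk₀⟩ := hR1 (1 + shift n F) rfl
    have hupow : (prj n F u') ^ (p ^ k₀) = 1 :=
      prj_pow_eq_one_of_scalar n u' (p ^ k₀) α₀ (by rw [hu]; exact hk₀)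
    have huconj : prj n F u' = (prj n F h)⁻¹ * prj n F u * prj n F h := by
      rw [hu'def, map_mul, map_mul, map_inv]
    have hupow' : (prj n F u) ^ (p ^ k₀) = 1 := by
      have h1 : (prj n F u') ^ (p ^ k₀) = (prj n F h)⁻¹ * (prj n F u) ^ (p ^ k₀) * prj n F h := by
        rw [huconj, inv_conj_pow]
      rw [h1] at hupow
      have h2 := congrArg (fun y => prj n F h * y * (prj n F h)⁻¹) hupow
      simpa [mul_assoc] using h2
    -- `x` and `π u` commute
    have hord_u : orderOf (prj n F u) ∣ p ^ k₀ := orderOf_dvd_of_pow_eq_one hupow'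
    have := hA
    have hcomm : Commute (⟨x, hx⟩ : A) ⟨prj n F u, huA⟩ := by
      apply Cfsg.Agent.Lib.Helper14.commute_of_coprime_orderOf
      rw [Subgroup.orderOf_mk, Subgroup.orderOf_mk]
      exact Nat.Coprime.coprime_dvd_right hord_u (Nat.Coprime.pow_right k₀ hcop)
    have hcomm' : x * prj n F u = prj n F u * x := by
      have := congrArg (Subtype.val) hcomm.eq
      simpa using this
    -- lift `x`
    obtain ⟨g, rfl⟩ := QuotientGroup.mk'_surjective (Subgroup.center (GL (Fin n) F)) x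
    have hz : g * u * g⁻¹ * u⁻¹ ∈ Subgroup.center (GL (Fin n) F) := by
      rw [← QuotientGroup.eq_one_iff, ← QuotientGroup.mk'_apply]
      show prj n F (g * u * g⁻¹ * u⁻¹) = 1
      rw [map_mul, map_mul, map_mul, map_inv, map_inv]
      have : prj n F g * prj n F u = prj n F u * prj n F g := hcomm'
      rw [this]
      group
    set z : GL (Fin n) F := g * u * g⁻¹ * u⁻¹ with hzdef
    set g' : GL (Fin n) F := h⁻¹ * g * h with hg'def
    have hrel : g' * u' = z * u' * g' := by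
      have hzc : ∀ y : GL (Fin n) F, y * z = z * y := fun y => Subgroup.mem_center_iff.mp hz y
      have h1 : g' * u' = h⁻¹ * (z * u * g) * h := by
        rw [hg'def, hu'def, hzdef]; group
      have h2 : z * u' * g' = h⁻¹ * (h * z * h⁻¹ * u * g) * h := by
        rw [hg'def, hu'def]; group
      rw [h1, h2, hzc h]
      group
    have hcm := commute_of_central_comm n hn hR2 g' u' z hu hz hrel
    obtain ⟨α, k, hk⟩ := hR1 _ hcm
    have hg'pow : (prj n F g') ^ (p ^ k) = 1 := prj_pow_eq_one_of_scalar n g' (p ^ k) α hk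
    have hgconj : prj n F g' = (prj n F h)⁻¹ * prj n F g * prj n F h := by
      rw [hg'def, map_mul, map_mul, map_inv]
    have hgpow : (prj n F g) ^ (p ^ k) = 1 := by
      have h1 : (prj n F g') ^ (p ^ k) = (prj n F h)⁻¹ * (prj n F g) ^ (p ^ k) * prj n F h := by
        rw [hgconj, inv_conj_pow]
      rw [h1] at hg'pow
      have h2 := congrArg (fun y => prj n F h * y * (prj n F h)⁻¹) hg'pow
      simpa [mul_assoc] using h2
    have hord : orderOf (prj n F g) ∣ p ^ k := orderOf_dvd_of_pow_eq_one hgpow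
    have h1 : orderOf (prj n F g) = 1 :=
      Nat.Coprime.eq_one_of_dvd (Nat.Coprime.pow_right k hcop) hord
    exact orderOf_eq_one_iff.mp h1

/-- K-S3894-R3. -/
theorem isPGroup_of_regU {p : ℕ} [Fact p.Prime] [CharP F p] [Fintype F] (n : ℕ)
    (hR1 : ∀ g : Matrix (Fin n) (Fin n) F, g * (1 + shift n F) = (1 + shift n F) * g →
      ∃ (α : F) (k : ℕ), g ^ (p ^ k) = α • (1 : Matrix (Fin n) (Fin n) F))
    (hR2 : ∀ v : Fin n → F, FixesLine (1 + shift n F) v → ∀ i : Fin n, (i : ℕ) ≠ 0 → v i = 0)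
    (u h : GL (Fin n) F)
    (hu : ((h⁻¹ * u * h : GL (Fin n) F) : Matrix (Fin n) (Fin n) F) = 1 + shift n F)
    (A : Subgroup (PGL n F)) (hA : Group.IsNilpotent A) (huA : prj n F u ∈ A) : IsPGroup p A := by
  classical
  intro a
  have hpos : 0 < orderOf (a : PGL n F) := orderOf_pos _
  obtain ⟨k, m, hm, hkm⟩ := Nat.exists_eq_pow_mul_and_not_dvd hpos.ne' p (Fact.out : p.Prime).ne_one
  refine ⟨k, ?_⟩
  have hx : ((a : PGL n F) ^ p ^ k) ∈ A := A.pow_mem a.2 _
  have hxm : ((a : PGL n F) ^ p ^ k) ^ m = 1 := by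
    rw [← pow_mul, ← hkm, pow_orderOf_eq_one]
  have hcop : (orderOf ((a : PGL n F) ^ p ^ k)).Coprime p := by
    have hdvd : orderOf ((a : PGL n F) ^ p ^ k) ∣ m := orderOf_dvd_of_pow_eq_one hxm
    have hmp : m.Coprime p :=
      ((Nat.Prime.coprime_iff_not_dvd (Fact.out : p.Prime)).mpr hm).symm
    exact Nat.Coprime.coprime_dvd_left hdvd hmp
  have := eq_one_of_coprime n hR1 hR2 u h hu A hA huA _ hx hcop
  exact Subtype.ext (by simpa using this)

end Cfsg.Agent.Lib.Helper11.S3894R3
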