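import Mathlib
import Cfsg.Agent.Lib.Helper40.NilCovDefs

/-!
# Keystone 389405 (K-S3894-R4): `p`-subgroups of `PGL_n(F)` lift to `p`-subgroups of `GL_n(F)`
-/

set_option autoImplicit false

namespace Cfsg.Agent.Lib.Helper11.S3894R4

open Matrix Cfsg.Agent.Lib.Helper40.NilCov

variable {F : Type*} [Field F]

/-- general form: a `p`-subgroup of the image of a surjective homomorphism from a finite group
is the image of a `p`-subgroup. -/
theorem exists_pgroup_map_eq {G G' : Type*} [Group G] [Finite G] [Group G'] {p : ℕ} [Fact p.Prime]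
    (f : G →* G') (hf : Function.Surjective f) (A : Subgroup G') (hA : IsPGroup p A) :
    ∃ P : Subgroup G, IsPGroup p P ∧ P.map f = A := by
  classical
  set B : Subgroup G := A.comap f with hB
  have hfs : Function.Surjective (f.subgroupComap A) :=
    f.subgroupComap_surjective_of_surjective A hf
  obtain ⟨S⟩ : Nonempty (Sylow p B) := Sylow.nonempty
  set T : Sylow p A := S.mapSurjective hfs with hT
  have hTtop : (T : Subgroup A) = ⊤ := by
    have := T.is_maximal' (Q := (⊤ : Subgroup A)) ?_ le_top
    · exact this.symm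
    · exact IsPGroup.of_equiv hA Subgroup.topEquiv.symm
  refine ⟨(S : Subgroup B).map B.subtype, ?_, ?_⟩
  · exact S.isPGroup'.map B.subtype
  · have h1 : ((S : Subgroup B).map B.subtype).map f =
        ((S : Subgroup B).map (f.subgroupComap A)).map A.subtype := by
      rw [Subgroup.map_map, Subgroup.map_map]
      rfl
    have h2 : (S : Subgroup B).map (f.subgroupComap A) = (T : Subgroup A) := rfl
    rw [h1, h2, hTtop, ← MonoidHom.range_eq_map, Subgroup.range_subtype]

/-- K-S3894-R4. -/
theorem exists_pgroup_lift {p : ℕ} [Fact p.Prime] [CharP F p] [Fintype F] (n : ℕ)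
    (A : Subgroup (PGL n F)) (hA : IsPGroup p A) :
    ∃ P : Subgroup (GL (Fin n) F), IsPGroup p P ∧ P.map (prj n F) = A := by
  classical
  exact exists_pgroup_map_eq (prj n F) (QuotientGroup.mk'_surjective _) A hA

end Cfsg.Agent.Lib.Helper11.S3894R4
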