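import Mathlib

set_option autoImplicit false

namespace Cfsg.Agent.Lib.Helper11.SL25

open Matrix

abbrev Q := ZMod 5 × ZMod 5 × ZMod 5 × ZMod 5

def qmul (A B : Q) : Q :=
  (A.1*B.1 + A.2.1*B.2.2.1, A.1*B.2.1 + A.2.1*B.2.2.2,
   A.2.2.1*B.1 + A.2.2.2*B.2.2.1, A.2.2.1*B.2.1 + A.2.2.2*B.2.2.2)
def qinv (A : Q) : Q := (A.2.2.2, -A.2.1, -A.2.2.1, A.1)
def qdet (A : Q) : ZMod 5 := A.1*A.2.2.2 - A.2.1*A.2.2.1
def qone : Q := (1,0,0,1)
def qconj (g x : Q) : Q := qmul (qmul g x) (qinv g)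
def g1 : Q := (0,1,4,2)
def g2 : Q := (2,2,3,1)

set_option maxRecDepth 100000 in
theorem key : ∀ X : Q, qdet X = 1 → qmul X (qmul X X) = qone → X ≠ qone →
    qmul X (qconj g1 X) ≠ qmul (qconj g1 X) X ∧
    qmul (qconj g2 X) X ≠ qmul X (qconj g2 X) ∧
    qmul (qconj g2 X) (qconj g1 X) ≠ qmul (qconj g1 X) (qconj g2 X) ∧
    qmul (qconj g2 X) (qconj (qconj g1 X) X) ≠ qmul (qconj (qconj g1 X) X) (qconj g2 X) ∧
    qmul (qconj g2 X) (qconj (qinv (qconj g1 X)) X) ≠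
      qmul (qconj (qinv (qconj g1 X)) X) (qconj g2 X) := by
  decide


abbrev S5 := Matrix.SpecialLinearGroup (Fin 2) (ZMod 5)

def q (A : S5) : Q := (A.1 0 0, A.1 0 1, A.1 1 0, A.1 1 1)

theorem q_mul (A B : S5) : q (A * B) = qmul (q A) (q B) := by
  simp [q, qmul, Matrix.SpecialLinearGroup.coe_mul, Matrix.mul_apply, Fin.sum_univ_two]

theorem q_inv (A : S5) : q A⁻¹ = qinv (q A) := by
  simp [q, qinv, Matrix.SpecialLinearGroup.coe_inv, Matrix.adjugate_fin_two]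

theorem q_one : q 1 = qone := by
  simp [q, qone]

theorem q_det (A : S5) : qdet (q A) = 1 := by
  have h := A.2
  rw [Matrix.det_fin_two] at h
  simpa [q, qdet] using h

theorem q_injective : Function.Injective q := by
  intro A B h
  simp only [q, Prod.mk.injEq] at h
  apply Subtype.ext
  ext i j
  fin_cases i <;> fin_cases j <;> simp [h.1, h.2.1, h.2.2.1, h.2.2.2]

def G1 : S5 := ⟨!![0, 1; 4, 2], by rw [Matrix.det_fin_two]; decide⟩
def G2 : S5 := ⟨!![2, 2; 3, 1], by rw [Matrix.det_fin_two]; decide⟩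

theorem q_G1 : q G1 = g1 := by simp [q, G1, g1]
theorem q_G2 : q G2 = g2 := by simp [q, G2, g2]

theorem q_conj (g x : S5) : q (g * x * g⁻¹) = qconj (q g) (q x) := by
  rw [q_mul, q_mul, q_inv, qconj]

theorem not_commute_of {A B : S5} (h : qmul (q A) (q B) ≠ qmul (q B) (q A)) : ¬ Commute A B := by
  intro hc
  apply h
  rw [← q_mul, ← q_mul, hc.eq]

/-- In `SL₂(5)`: for `x` of order 3 the conjugates by the fixed elements `G1`, `G2` satisfy five
non-commutation relations. -/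
theorem five_S5 (x : S5) (hx3 : x ^ 3 = 1) (hx1 : x ≠ 1) :
    ¬ Commute x (G1 * x * G1⁻¹) ∧
    ¬ Commute (G2 * x * G2⁻¹) x ∧
    ¬ Commute (G2 * x * G2⁻¹) (G1 * x * G1⁻¹) ∧
    ¬ Commute (G2 * x * G2⁻¹) ((G1 * x * G1⁻¹) * x * (G1 * x * G1⁻¹)⁻¹) ∧
    ¬ Commute (G2 * x * G2⁻¹) ((G1 * x * G1⁻¹)⁻¹ * x * ((G1 * x * G1⁻¹)⁻¹)⁻¹) := by
  have h3 : qmul (q x) (qmul (q x) (q x)) = qone := by
    have h : x * (x * x) = 1 := by rw [← hx3, pow_succ, pow_succ, pow_one, mul_assoc]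
    rw [← q_mul, ← q_mul, h, q_one]
  have h1 : q x ≠ qone := by
    rw [← q_one]
    exact fun h => hx1 (q_injective h)
  obtain ⟨k1, k2, k3, k4, k5⟩ := key (q x) (q_det x) h3 h1
  refine ⟨not_commute_of ?_, not_commute_of ?_, not_commute_of ?_, not_commute_of ?_,
    not_commute_of ?_⟩
  · rw [q_conj, q_G1]; exact k1
  · rw [q_conj, q_G2]; exact k2
  · rw [q_conj, q_conj, q_G1, q_G2]; exact k3
  · rw [q_conj, q_conj, q_conj, q_G1, q_G2]; exact k4
  · rw [q_conj, q_conj, q_inv, q_conj, q_G1, q_G2]; exact k5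

section transfer
variable {K : Type*} [Field K] [Fintype K]

/-- The same in `SL₂(K)` for any field `K` with five elements. -/
theorem five (hK : Fintype.card K = 5) (x : Matrix.SpecialLinearGroup (Fin 2) K)
    (hx : orderOf x = 3) :
    ∃ g₁ g₂ : Matrix.SpecialLinearGroup (Fin 2) K,
      ¬ Commute x (g₁ * x * g₁⁻¹) ∧
      ¬ Commute (g₂ * x * g₂⁻¹) x ∧
      ¬ Commute (g₂ * x * g₂⁻¹) (g₁ * x * g₁⁻¹) ∧
      ¬ Commute (g₂ * x * g₂⁻¹) ((g₁ * x * g₁⁻¹) * x * (g₁ * x * g₁⁻¹)⁻¹) ∧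
      ¬ Commute (g₂ * x * g₂⁻¹) ((g₁ * x * g₁⁻¹)⁻¹ * x * ((g₁ * x * g₁⁻¹)⁻¹)⁻¹) := by
  have : Fact (Nat.Prime 5) := ⟨by norm_num⟩
  let e : ZMod 5 ≃+* K := ZMod.ringEquivOfPrime K (by norm_num) hK
  let ψ : Matrix.SpecialLinearGroup (Fin 2) K →* S5 :=
    Matrix.SpecialLinearGroup.map (e.symm : K →+* ZMod 5)
  let ι : S5 →* Matrix.SpecialLinearGroup (Fin 2) K :=
    Matrix.SpecialLinearGroup.map (e : ZMod 5 →+* K)
  have hψι : ∀ A : S5, ψ (ι A) = A := by
    intro A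
    apply Subtype.ext
    ext i j
    simp [ψ, ι, Matrix.SpecialLinearGroup.map_apply_coe, RingHom.mapMatrix_apply]
  have hψinj : Function.Injective ψ := by
    intro A B h
    apply Subtype.ext
    ext i j
    have h' := congrArg (fun M : S5 => M.1 i j) h
    simp only [ψ, Matrix.SpecialLinearGroup.map_apply_coe, RingHom.mapMatrix_apply,
      Matrix.map_apply] at h'
    exact e.symm.injective h'
  have hx3 : (ψ x) ^ 3 = 1 := by rw [← map_pow, ← hx, pow_orderOf_eq_one, map_one]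
  have hx1 : ψ x ≠ 1 := by
    intro h
    have : x = 1 := hψinj (by rw [h, map_one])
    rw [this, orderOf_one] at hx
    omega
  obtain ⟨k1, k2, k3, k4, k5⟩ := five_S5 (ψ x) hx3 hx1
  refine ⟨ι G1, ι G2, ?_, ?_, ?_, ?_, ?_⟩
  · intro hc; apply k1
    have := hc.map ψ
    simpa only [map_mul, map_inv, hψι] using this
  · intro hc; apply k2
    have := hc.map ψ
    simpa only [map_mul, map_inv, hψι] using this
  · intro hc; apply k3
    have := hc.map ψ
    simpa only [map_mul, map_inv, hψι] using this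
  · intro hc; apply k4
    have := hc.map ψ
    simpa only [map_mul, map_inv, hψι] using this
  · intro hc; apply k5
    have := hc.map ψ
    simpa only [map_mul, map_inv, hψι] using this

end transfer

end Cfsg.Agent.Lib.Helper11.SL25
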