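import Mathlib

set_option autoImplicit false
set_option linter.unusedSectionVars false

namespace Cfsg.Agent.Lib.Helper11

open Finset

section dc

variable {σ τ : Type*} (S : Finset σ) (T : Finset τ) (R : σ → τ → Prop) [DecidableRel R]

theorem dc_const {m k : ℕ} (hS : ∀ s ∈ S, (T.filter (R s)).card = m)
    (hT : ∀ t ∈ T, (S.filter (fun s => R s t)).card = k) : S.card * m = T.card * k := by
  have := Finset.sum_card_bipartiteAbove_eq_sum_card_bipartiteBelow (s := S) (t := T) R
  unfold Finset.bipartiteAbove Finset.bipartiteBelow at this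
  rw [Finset.sum_congr rfl hS, Finset.sum_congr rfl hT, Finset.sum_const, Finset.sum_const,
    smul_eq_mul, smul_eq_mul] at this
  exact this

theorem dc_02 {m : ℕ} (hS : ∀ s ∈ S, (T.filter (R s)).card = m)
    (hT : ∀ t ∈ T, (S.filter (fun s => R s t)).card = 0 ∨ (S.filter (fun s => R s t)).card = 2) :
    S.card * m = 2 * (T.filter (fun t => (S.filter (fun s => R s t)).card = 2)).card := by
  have := Finset.sum_card_bipartiteAbove_eq_sum_card_bipartiteBelow (s := S) (t := T) R
  unfold Finset.bipartiteAbove Finset.bipartiteBelow at this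
  rw [Finset.sum_congr rfl hS, Finset.sum_const, smul_eq_mul] at this
  rw [this, Finset.card_filter, Finset.mul_sum]
  apply Finset.sum_congr rfl
  intro t ht
  rcases hT t ht with h | h <;> simp [h]

theorem dc_le_one {m : ℕ} (hS : ∀ s ∈ S, (T.filter (R s)).card = m)
    (hT : ∀ t ∈ T, (S.filter (fun s => R s t)).card ≤ 1) (hc : S.card * m = T.card) :
    ∀ t ∈ T, (S.filter (fun s => R s t)).card = 1 := by
  have := Finset.sum_card_bipartiteAbove_eq_sum_card_bipartiteBelow (s := S) (t := T) R
  unfold Finset.bipartiteAbove Finset.bipartiteBelow at this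
  rw [Finset.sum_congr rfl hS, Finset.sum_const, smul_eq_mul, hc] at this
  have h2 : ∑ t ∈ T, (S.filter (fun s => R s t)).card = ∑ _t ∈ T, 1 := by
    rw [← this]; simp
  exact (Finset.sum_eq_sum_iff_of_le hT).mp h2

end dc

section steiner

variable {α : Type*} [Fintype α] [DecidableEq α] {Bf : Finset (Finset α)}

theorem st_eq_of_three_le (h3 : ∀ s : Finset α, s.card = 3 → ∃! b, b ∈ Bf ∧ s ⊆ b)
    {b c : Finset α} (hb : b ∈ Bf) (hc : c ∈ Bf) (h : 3 ≤ (b ∩ c).card) : b = c := by
  obtain ⟨s, hs, hs3⟩ := Finset.exists_subset_card_eq h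
  obtain ⟨d, -, hd⟩ := h3 s hs3
  rw [hd b ⟨hb, hs.trans Finset.inter_subset_left⟩, hd c ⟨hc, hs.trans Finset.inter_subset_right⟩]

theorem st_card_three (h3 : ∀ s : Finset α, s.card = 3 → ∃! b, b ∈ Bf ∧ s ⊆ b)
    (s : Finset α) (hs : s.card = 3) : (Bf.filter (fun b => s ⊆ b)).card = 1 := by
  obtain ⟨d, hd, hu⟩ := h3 s hs
  rw [Finset.card_eq_one]
  refine ⟨d, ?_⟩
  ext x
  simp only [Finset.mem_filter, Finset.mem_singleton]
  constructor
  · intro hx; exact hu x hx
  · rintro rfl; exact hd

variable (h22 : Fintype.card α = 22) (h6 : ∀ b ∈ Bf, b.card = 6)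
  (h3 : ∀ s : Finset α, s.card = 3 → ∃! b, b ∈ Bf ∧ s ⊆ b)

include h22 h6 h3

theorem st_card_two {p q : α} (hpq : p ≠ q) :
    (Bf.filter (fun b => p ∈ b ∧ q ∈ b)).card = 5 := by
  have key := dc_const ((Finset.univ : Finset α) \ {p, q}) (Bf.filter (fun b => p ∈ b ∧ q ∈ b))
    (fun s t => s ∈ t) (m := 1) (k := 4) ?_ ?_
  · have hS : ((Finset.univ : Finset α) \ {p, q}).card = 20 := by
      rw [Finset.card_sdiff_of_subset (Finset.subset_univ _), Finset.card_univ, h22,
        Finset.card_pair hpq]
    rw [hS] at key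
    omega
  · intro s hs
    simp only [Finset.mem_sdiff, Finset.mem_univ, Finset.mem_insert, Finset.mem_singleton,
      true_and, not_or] at hs
    rw [← st_card_three h3 {p, q, s} (by
      rw [Finset.card_insert_of_notMem (by simp [hpq, Ne.symm hs.1]), Finset.card_pair (Ne.symm hs.2)])]
    congr 1
    ext x
    simp only [Finset.mem_filter, Finset.insert_subset_iff, Finset.singleton_subset_iff]
    tauto
  · intro t ht
    simp only [Finset.mem_filter] at ht
    have : (((Finset.univ : Finset α) \ {p, q}).filter (fun s => s ∈ t)) = t \ {p, q} := by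
      ext x
      simp only [Finset.mem_filter, Finset.mem_sdiff, Finset.mem_univ, true_and]
      tauto
    rw [this, Finset.card_sdiff_of_subset, h6 t ht.1, Finset.card_pair hpq]
    intro x hx
    simp only [Finset.mem_insert, Finset.mem_singleton] at hx
    rcases hx with rfl | rfl
    · exact ht.2.1
    · exact ht.2.2

theorem st_card_one (p : α) : (Bf.filter (fun b => p ∈ b)).card = 21 := by
  have key := dc_const ((Finset.univ : Finset α).erase p) (Bf.filter (fun b => p ∈ b))
    (fun s t => s ∈ t) (m := 5) (k := 5) ?_ ?_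
  · rw [Finset.card_erase_of_mem (Finset.mem_univ _), Finset.card_univ, h22] at key
    omega
  · intro s hs
    simp only [Finset.mem_erase, Finset.mem_univ, and_true] at hs
    rw [← st_card_two h22 h6 h3 (Ne.symm hs), Finset.filter_filter]
  · intro t ht
    simp only [Finset.mem_filter] at ht
    have : (((Finset.univ : Finset α).erase p).filter (fun s => s ∈ t)) = t.erase p := by
      ext x
      simp only [Finset.mem_filter, Finset.mem_erase, Finset.mem_univ, and_true]
    rw [this, Finset.card_erase_of_mem ht.2, h6 t ht.1]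

theorem st_card_blocks : Bf.card = 77 := by
  have key := dc_const (Finset.univ : Finset α) Bf (fun s t => s ∈ t) (m := 21) (k := 6) ?_ ?_
  · rw [Finset.card_univ, h22] at key
    omega
  · intro s _
    exact st_card_one h22 h6 h3 s
  · intro t ht
    have : ((Finset.univ : Finset α).filter (fun s => s ∈ t)) = t := by
      ext x; simp
    rw [this, h6 t ht]

theorem st_inter_two {b c : Finset α} (hb : b ∈ Bf) (hc : c ∈ Bf) (hbc : b ≠ c) {p : α}
    (hpb : p ∈ b) (hpc : p ∈ c) : (b ∩ c).card = 2 := by
  have hle : ∀ d ∈ Bf, d ≠ b → (b ∩ d).card ≤ 2 := by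
    intro d hd hdb
    by_contra hcon
    push Not at hcon
    exact hdb (st_eq_of_three_le h3 hb hd hcon).symm
  have key := dc_le_one (b.erase p) ((Bf.filter (fun d => p ∈ d)).erase b)
    (fun s t => s ∈ t) (m := 4) ?_ ?_ ?_ c ?_
  · have : ((b.erase p).filter (fun s => s ∈ c)) = (b ∩ c).erase p := by
      ext x
      simp only [Finset.mem_filter, Finset.mem_erase, Finset.mem_inter]
      tauto
    rw [this, Finset.card_erase_of_mem (Finset.mem_inter.mpr ⟨hpb, hpc⟩)] at key
    have := hle c hc (Ne.symm hbc)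
    omega
  · intro q hq
    simp only [Finset.mem_erase] at hq
    have h5 := st_card_two h22 h6 h3 (Ne.symm hq.1)
    have : (((Bf.filter (fun d => p ∈ d)).erase b).filter (fun t => q ∈ t))
        = (Bf.filter (fun d => p ∈ d ∧ q ∈ d)).erase b := by
      ext x
      simp only [Finset.mem_filter, Finset.mem_erase]
      tauto
    rw [this, Finset.card_erase_of_mem (by simp [hb, hpb, hq.2]), h5]
  · intro d hd
    simp only [Finset.mem_erase, Finset.mem_filter] at hd
    have : ((b.erase p).filter (fun s => s ∈ d)) = (b ∩ d).erase p := by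
      ext x
      simp only [Finset.mem_filter, Finset.mem_erase, Finset.mem_inter]
      tauto
    rw [this, Finset.card_erase_of_mem (Finset.mem_inter.mpr ⟨hpb, hd.2.2⟩)]
    have := hle d hd.2.1 hd.1
    omega
  · rw [Finset.card_erase_of_mem hpb, h6 b hb,
      Finset.card_erase_of_mem (by simp [hb, hpb]), st_card_one h22 h6 h3 p]
  · simp [hc, hpc, Ne.symm hbc]

theorem st_inter_zero_or_two {b c : Finset α} (hb : b ∈ Bf) (hc : c ∈ Bf) (hbc : b ≠ c) :
    (b ∩ c).card = 0 ∨ (b ∩ c).card = 2 := by
  rcases Finset.eq_empty_or_nonempty (b ∩ c) with h | ⟨p, hp⟩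
  · left; rw [h]; rfl
  · right
    rw [Finset.mem_inter] at hp
    exact st_inter_two h22 h6 h3 hb hc hbc hp.1 hp.2

theorem st_disjoint_iff {b c : Finset α} (hb : b ∈ Bf) (hc : c ∈ Bf) (hbc : b ≠ c) :
    Disjoint b c ↔ ¬ (b ∩ c).card = 2 := by
  rw [Finset.disjoint_iff_inter_eq_empty]
  rcases st_inter_zero_or_two h22 h6 h3 hb hc hbc with h | h
  · rw [h]
    simp [Finset.card_eq_zero.mp h]
  · rw [h]
    simp only [not_true_eq_false, iff_false]
    intro h0
    rw [h0] at h
    simp at h

theorem st_ne_of_disjoint {b c : Finset α} (hb : b ∈ Bf) (h : Disjoint b c) : b ≠ c := by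
  rintro rfl
  rw [disjoint_self, Finset.bot_eq_empty] at h
  have := h6 b hb
  rw [h] at this
  simp at this

theorem st_card_disjoint {b : Finset α} (hb : b ∈ Bf) :
    (Bf.filter (fun c => Disjoint b c)).card = 16 := by
  have key := dc_02 b (Bf.erase b) (fun s t => s ∈ t) (m := 20) ?_ ?_
  · rw [h6 b hb] at key
    have hT : (Bf.erase b).card = 76 := by
      rw [Finset.card_erase_of_mem hb, st_card_blocks h22 h6 h3]
    have hsplit := Finset.card_filter_add_card_filter_not (s := Bf.erase b)
      (fun t => (b.filter (fun s => s ∈ t)).card = 2)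
    have : ((Bf.erase b).filter (fun t => ¬ (b.filter (fun s => s ∈ t)).card = 2))
        = Bf.filter (fun c => Disjoint b c) := by
      ext x
      simp only [Finset.mem_filter, Finset.mem_erase, Finset.filter_mem_eq_inter]
      constructor
      · rintro ⟨⟨hxb, hx⟩, h2⟩
        exact ⟨hx, (st_disjoint_iff h22 h6 h3 hb hx (Ne.symm hxb)).mpr h2⟩
      · rintro ⟨hx, hd⟩
        have hne := st_ne_of_disjoint h22 h6 h3 hb hd
        exact ⟨⟨Ne.symm hne, hx⟩, (st_disjoint_iff h22 h6 h3 hb hx hne).mp hd⟩
    rw [this] at hsplit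
    omega
  · intro p hp
    have : ((Bf.erase b).filter (fun t => p ∈ t)) = (Bf.filter (fun t => p ∈ t)).erase b := by
      ext x
      simp only [Finset.mem_filter, Finset.mem_erase]
      tauto
    rw [this, Finset.card_erase_of_mem (by simp [hb, hp]), st_card_one h22 h6 h3 p]
  · intro c hc
    simp only [Finset.mem_erase] at hc
    rw [Finset.filter_mem_eq_inter]
    exact st_inter_zero_or_two h22 h6 h3 hb hc.2 (Ne.symm hc.1)

theorem st_card_through_disjoint {b : Finset α} (hb : b ∈ Bf) {p : α} (hp : p ∉ b) :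
    (Bf.filter (fun c => p ∈ c ∧ Disjoint b c)).card = 6 := by
  have key := dc_02 b (Bf.filter (fun c => p ∈ c)) (fun s t => s ∈ t) (m := 5) ?_ ?_
  · rw [h6 b hb] at key
    have hT := st_card_one h22 h6 h3 p
    have hsplit := Finset.card_filter_add_card_filter_not (s := Bf.filter (fun c => p ∈ c))
      (fun t => (b.filter (fun s => s ∈ t)).card = 2)
    have : ((Bf.filter (fun c => p ∈ c)).filter (fun t => ¬ (b.filter (fun s => s ∈ t)).card = 2))
        = Bf.filter (fun c => p ∈ c ∧ Disjoint b c) := by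
      ext x
      simp only [Finset.mem_filter, Finset.filter_mem_eq_inter]
      constructor
      · rintro ⟨⟨hx, hpx⟩, h2⟩
        have hne : b ≠ x := by rintro rfl; exact hp hpx
        exact ⟨hx, hpx, (st_disjoint_iff h22 h6 h3 hb hx hne).mpr h2⟩
      · rintro ⟨hx, hpx, hd⟩
        have hne := st_ne_of_disjoint h22 h6 h3 hb hd
        exact ⟨⟨hx, hpx⟩, (st_disjoint_iff h22 h6 h3 hb hx hne).mp hd⟩
    rw [this] at hsplit
    omega
  · intro q hq
    have hpq : p ≠ q := by rintro rfl; exact hp hq
    rw [Finset.filter_filter, st_card_two h22 h6 h3 hpq]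
  · intro c hc
    simp only [Finset.mem_filter] at hc
    rw [Finset.filter_mem_eq_inter]
    have hne : b ≠ c := by rintro rfl; exact hp hc.2
    exact st_inter_zero_or_two h22 h6 h3 hb hc.1 hne

theorem st_no_common_disjoint {b c : Finset α} (hb : b ∈ Bf) (hc : c ∈ Bf) (hbc : Disjoint b c) :
    (Bf.filter (fun d => Disjoint b d ∧ Disjoint c d)).card = 0 := by
  have key := dc_02 c ((Bf.filter (fun d => Disjoint b d)).erase c) (fun s t => s ∈ t) (m := 5)
    ?_ ?_
  · rw [h6 c hc] at key
    have hT : ((Bf.filter (fun d => Disjoint b d)).erase c).card = 15 := by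
      rw [Finset.card_erase_of_mem (by simp [hc, hbc]), st_card_disjoint h22 h6 h3 hb]
    have hall : (((Bf.filter (fun d => Disjoint b d)).erase c).filter
        (fun t => (c.filter (fun s => s ∈ t)).card = 2))
        = (Bf.filter (fun d => Disjoint b d)).erase c := by
      apply Finset.eq_of_subset_of_card_le (Finset.filter_subset _ _)
      omega
    rw [Finset.card_eq_zero, Finset.eq_empty_iff_forall_notMem]
    intro d hd
    simp only [Finset.mem_filter] at hd
    have hne := st_ne_of_disjoint h22 h6 h3 hc hd.2.2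
    have hmem : d ∈ (Bf.filter (fun d => Disjoint b d)).erase c := by
      simp [hd.1, hd.2.1, Ne.symm hne]
    rw [← hall] at hmem
    simp only [Finset.mem_filter, Finset.filter_mem_eq_inter] at hmem
    exact (st_disjoint_iff h22 h6 h3 hc hd.1 hne).mp hd.2.2 hmem.2
  · intro q hq
    have hqb : q ∉ b := fun h => (Finset.disjoint_left.mp hbc h) hq
    have : (((Bf.filter (fun d => Disjoint b d)).erase c).filter (fun t => q ∈ t))
        = (Bf.filter (fun d => q ∈ d ∧ Disjoint b d)).erase c := by
      ext x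
      simp only [Finset.mem_filter, Finset.mem_erase]
      tauto
    rw [this, Finset.card_erase_of_mem (by simp [hc, hq, hbc]),
      st_card_through_disjoint h22 h6 h3 hb hqb]
  · intro d hd
    simp only [Finset.mem_erase, Finset.mem_filter] at hd
    rw [Finset.filter_mem_eq_inter]
    exact st_inter_zero_or_two h22 h6 h3 hc hd.2.1 (Ne.symm hd.1)

theorem st_common_disjoint_of_meet {b c : Finset α} (hb : b ∈ Bf) (hc : c ∈ Bf) (hne : b ≠ c)
    (hbc : ¬ Disjoint b c) :
    (Bf.filter (fun d => Disjoint b d ∧ Disjoint c d)).card = 4 := by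
  have h2 : (b ∩ c).card = 2 := by
    by_contra h
    exact hbc ((st_disjoint_iff h22 h6 h3 hb hc hne).mpr h)
  have key := dc_02 (c \ b) (Bf.filter (fun d => Disjoint b d)) (fun s t => s ∈ t) (m := 6)
    ?_ ?_
  · have hS : (c \ b).card = 4 := by
      rw [Finset.card_sdiff, h6 c hc, h2]
    rw [hS] at key
    have hT := st_card_disjoint h22 h6 h3 hb
    have hsplit := Finset.card_filter_add_card_filter_not (s := Bf.filter (fun d => Disjoint b d))
      (fun t => ((c \ b).filter (fun s => s ∈ t)).card = 2)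
    have : ((Bf.filter (fun d => Disjoint b d)).filter
        (fun t => ¬ ((c \ b).filter (fun s => s ∈ t)).card = 2))
        = Bf.filter (fun d => Disjoint b d ∧ Disjoint c d) := by
      ext x
      simp only [Finset.mem_filter]
      have hx2 : Disjoint b x → ((c \ b).filter (fun s => s ∈ x)) = c ∩ x := by
        intro hbx
        ext y
        simp only [Finset.mem_filter, Finset.mem_sdiff, Finset.mem_inter]
        constructor
        · rintro ⟨⟨h1, -⟩, h3⟩; exact ⟨h1, h3⟩
        · rintro ⟨h1, h3⟩; exact ⟨⟨h1, fun h => (Finset.disjoint_left.mp hbx h) h3⟩, h3⟩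
      constructor
      · rintro ⟨⟨hx, hbx⟩, hcard⟩
        rw [hx2 hbx] at hcard
        have hcx : c ≠ x := by rintro rfl; exact hbc hbx
        exact ⟨hx, hbx, (st_disjoint_iff h22 h6 h3 hc hx hcx).mpr hcard⟩
      · rintro ⟨hx, hbx, hcx⟩
        refine ⟨⟨hx, hbx⟩, ?_⟩
        rw [hx2 hbx]
        exact (st_disjoint_iff h22 h6 h3 hc hx (st_ne_of_disjoint h22 h6 h3 hc hcx)).mp hcx
    rw [this] at hsplit
    omega
  · intro q hq
    simp only [Finset.mem_sdiff] at hq
    have : ((Bf.filter (fun d => Disjoint b d)).filter (fun t => q ∈ t))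
        = Bf.filter (fun d => q ∈ d ∧ Disjoint b d) := by
      ext x
      simp only [Finset.mem_filter]
      tauto
    rw [this, st_card_through_disjoint h22 h6 h3 hb hq.2]
  · intro d hd
    simp only [Finset.mem_filter] at hd
    have hx2 : ((c \ b).filter (fun s => s ∈ d)) = c ∩ d := by
      ext y
      simp only [Finset.mem_filter, Finset.mem_sdiff, Finset.mem_inter]
      constructor
      · rintro ⟨⟨h1, -⟩, h3⟩; exact ⟨h1, h3⟩
      · rintro ⟨h1, h3⟩; exact ⟨⟨h1, fun h => (Finset.disjoint_left.mp hd.2 h) h3⟩, h3⟩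
    rw [hx2]
    have hcd : c ≠ d := by rintro rfl; exact hbc hd.2
    exact st_inter_zero_or_two h22 h6 h3 hc hd.1 hcd

end steiner

section conv

theorem ncard_sub {α : Type*} [DecidableEq α] {B : Set (Finset α)}
    (Bf : Finset (Finset α)) (hmem : ∀ b, b ∈ Bf ↔ b ∈ B) (S : Set B) (P : Finset α → Prop)
    [DecidablePred P] (h : ∀ d : B, d ∈ S ↔ P d.1) : Nat.card S = (Bf.filter P).card := by
  rw [Nat.card_coe_set_eq, ← Set.ncard_image_of_injective S Subtype.val_injective,
    ← Set.ncard_coe_finset]
  congr 1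
  ext x
  simp only [Set.mem_image, Finset.coe_filter, Set.mem_ofPred_eq]
  constructor
  · rintro ⟨d, hd, rfl⟩; exact ⟨(hmem _).mpr d.2, (h d).mp hd⟩
  · rintro ⟨hx, hP⟩; exact ⟨⟨x, (hmem x).mp hx⟩, (h _).mpr hP, rfl⟩

open Classical in
theorem ncard_option_sum {α β : Type*} [Finite α] [Finite β] (S : Set (Option (α ⊕ β))) :
    Nat.card S = (if none ∈ S then 1 else 0) + Nat.card {a : α | some (Sum.inl a) ∈ S}
      + Nat.card {b : β | some (Sum.inr b) ∈ S} := by
  have := Fintype.ofFinite α
  have := Fintype.ofFinite β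
  rw [Nat.card_eq_fintype_card, Nat.card_eq_fintype_card, Nat.card_eq_fintype_card]
  rw [Fintype.card_subtype, Fintype.card_subtype, Fintype.card_subtype]
  rw [Finset.card_filter, Finset.card_filter, Finset.card_filter, Fintype.sum_option,
    Fintype.sum_sum_type]
  simp [add_assoc]

theorem ncard_finset_set {α : Type*} (S : Set α) (b : Finset α) (h : ∀ a, a ∈ S ↔ a ∈ b) :
    Nat.card S = b.card := by
  rw [Nat.card_coe_set_eq, ← Set.ncard_coe_finset]
  congr 1
  ext a
  simpa using h a

theorem ncard_empty_set {α : Type*} (S : Set α) (h : ∀ a, a ∉ S) : Nat.card S = 0 := by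
  have : S = ∅ := Set.eq_empty_iff_forall_notMem.mpr h
  rw [this]
  simp

end conv

end Cfsg.Agent.Lib.Helper11
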