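import Mathlib
import Cfsg.Prelude.Def_Sporadic_a
import Cfsg.Agent.Lib.Helper11.Steiner22

set_option autoImplicit false
set_option linter.unusedSectionVars false
set_option linter.unusedSimpArgs false

/-! # A strongly regular graph (100, 22, 0, 6) is the point-block graph of an S(3, 6, 22) -/

namespace Cfsg.Agent.Lib.Helper11.SRG100

open Finset Cfsg.Agent.Lib.Helper11

section core
variable {V : Type*} [Fintype V] [DecidableEq V] (G : SimpleGraph V) [DecidableRel G.Adj]

/-- common neighbours as a finset -/
def cn (v w : V) : Finset V := univ.filter (fun x => G.Adj v x ∧ G.Adj w x)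

theorem card_cn (v w : V) : Fintype.card (G.commonNeighbors v w) = (cn G v w).card := by
  apply Fintype.card_of_subtype
  intro x
  simp [cn, SimpleGraph.mem_commonNeighbors]

variable (hG : G.IsSRGWith 100 22 0 6)
include hG

theorem no_tri {v w x : V} (h1 : G.Adj v w) (h2 : G.Adj v x) (h3 : G.Adj w x) : False := by
  have h := hG.of_adj v w h1
  rw [card_cn, Finset.card_eq_zero] at h
  have : x ∈ cn G v w := by simp [cn, h2, h3]
  rw [h] at this
  exact absurd this (Finset.notMem_empty x)

theorem cn6 {v w : V} (h1 : v ≠ w) (h2 : ¬ G.Adj v w) : (cn G v w).card = 6 := by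
  rw [← card_cn]; exact hG.of_not_adj h1 h2

theorem deg22 (v : V) : (univ.filter (fun x => G.Adj v x)).card = 22 := by
  have h := hG.regular v
  rw [SimpleGraph.degree] at h
  rw [← h]
  congr 1
  ext x
  simp

end core

section base
variable {V : Type*} [Fintype V] [DecidableEq V] (G : SimpleGraph V) [DecidableRel G.Adj] (o : V)

/-- the points: neighbours of the base vertex -/
abbrev Pt := {p : V // G.Adj o p}

/-- the block vertices: the non-neighbours of the base vertex -/
def Rset : Finset V := univ.filter (fun r => r ≠ o ∧ ¬ G.Adj o r)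

/-- the block of a vertex: its neighbours among the points -/
def blk (r : V) : Finset (Pt G o) := univ.filter (fun p => G.Adj r p.1)

theorem mem_Rset (r : V) : r ∈ Rset G o ↔ r ≠ o ∧ ¬ G.Adj o r := by simp [Rset]

theorem mem_blk (r : V) (p : Pt G o) : p ∈ blk G o r ↔ G.Adj r p.1 := by simp [blk]

variable (hG : G.IsSRGWith 100 22 0 6)
include hG

theorem card_Pt : Fintype.card (Pt G o) = 22 := by
  rw [Fintype.card_subtype]
  exact deg22 G hG o

theorem card_Rset : (Rset G o).card = 77 := by
  have h1 : (univ : Finset V) = insert o ((univ.filter (fun x => G.Adj o x)) ∪ Rset G o) := by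
    ext x
    simp only [mem_univ, mem_insert, mem_union, mem_filter, true_and, mem_Rset, true_iff]
    by_cases hx : x = o
    · left; exact hx
    · by_cases h : G.Adj o x
      · right; left; exact h
      · right; right; exact ⟨hx, h⟩
  have h2 : Disjoint (univ.filter (fun x => G.Adj o x)) (Rset G o) := by
    rw [Finset.disjoint_left]
    intro x hx hx'
    rw [mem_filter] at hx
    rw [mem_Rset] at hx'
    exact hx'.2 hx.2
  have h3 : o ∉ (univ.filter (fun x => G.Adj o x)) ∪ Rset G o := by
    intro h
    rw [mem_union, mem_filter, mem_Rset] at h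
    rcases h with h | h
    · exact G.loopless.irrefl o h.2
    · exact h.1 rfl
  have h4 := congrArg Finset.card h1
  rw [Finset.card_insert_of_notMem h3, Finset.card_union_of_disjoint h2, deg22 G hG o,
    Finset.card_univ, hG.card] at h4
  omega

theorem card_blk {r : V} (hr : r ∈ Rset G o) : (blk G o r).card = 6 := by
  rw [mem_Rset] at hr
  rw [← cn6 G hG (Ne.symm hr.1) hr.2]
  apply Finset.card_bij (fun p _ => p.1)
  · intro p hp
    rw [mem_blk] at hp
    simp [cn, p.2, hp]
  · intro p _ p' _ h
    exact Subtype.ext h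
  · intro x hx
    simp only [cn, mem_filter, mem_univ, true_and] at hx
    exact ⟨⟨x, hx.1⟩, by rw [mem_blk]; exact hx.2, rfl⟩

/-- the blocks through a point -/
theorem card_through (p : Pt G o) : ((Rset G o).filter (fun r => p ∈ blk G o r)).card = 21 := by
  have h1 : univ.filter (fun x => G.Adj p.1 x) =
      insert o ((Rset G o).filter (fun r => p ∈ blk G o r)) := by
    ext x
    simp only [mem_filter, mem_univ, true_and, mem_insert, mem_Rset, mem_blk]
    constructor
    · intro hx
      by_cases hxo : x = o
      · left; exact hxo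
      · right
        refine ⟨⟨hxo, fun h => no_tri G hG p.2 h hx⟩, hx.symm⟩
    · rintro (rfl | ⟨_, h⟩)
      · exact p.2.symm
      · exact h.symm
  have h2 : o ∉ (Rset G o).filter (fun r => p ∈ blk G o r) := by
    intro h
    rw [mem_filter, mem_Rset] at h
    exact h.1.1 rfl
  have h3 := congrArg Finset.card h1
  rw [deg22 G hG, Finset.card_insert_of_notMem h2] at h3
  omega

theorem pt_not_adj (p p' : Pt G o) : ¬ G.Adj p.1 p'.1 := fun h => no_tri G hG p.2 p'.2 h

/-- the blocks through two points -/
theorem card_through2 {p p' : Pt G o} (hpp : p ≠ p') :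
    ((Rset G o).filter (fun r => p ∈ blk G o r ∧ p' ∈ blk G o r)).card = 5 := by
  have hne : p.1 ≠ p'.1 := fun h => hpp (Subtype.ext h)
  have h1 : cn G p.1 p'.1 =
      insert o ((Rset G o).filter (fun r => p ∈ blk G o r ∧ p' ∈ blk G o r)) := by
    ext x
    simp only [cn, mem_filter, mem_univ, true_and, mem_insert, mem_Rset, mem_blk]
    constructor
    · rintro ⟨hx, hx'⟩
      by_cases hxo : x = o
      · left; exact hxo
      · right
        exact ⟨⟨hxo, fun h => no_tri G hG p.2 h hx⟩, hx.symm, hx'.symm⟩
    · rintro (rfl | ⟨_, h, h'⟩)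
      · exact ⟨p.2.symm, p'.2.symm⟩
      · exact ⟨h.symm, h'.symm⟩
  have h2 : o ∉ (Rset G o).filter (fun r => p ∈ blk G o r ∧ p' ∈ blk G o r) := by
    intro h
    rw [mem_filter, mem_Rset] at h
    exact h.1.1 rfl
  have h3 := congrArg Finset.card h1
  rw [cn6 G hG hne (pt_not_adj G o hG p p'), Finset.card_insert_of_notMem h2] at h3
  omega

/-- the block neighbours of a block vertex -/
theorem card_Radj {r : V} (hr : r ∈ Rset G o) : ((Rset G o).filter (fun r' => G.Adj r r')).card = 16 := by
  have hr' := (mem_Rset G o r).mp hr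
  have h1 : univ.filter (fun x => G.Adj r x) =
      cn G o r ∪ (Rset G o).filter (fun r' => G.Adj r r') := by
    ext x
    simp only [cn, mem_filter, mem_univ, true_and, mem_union, mem_Rset]
    constructor
    · intro hx
      by_cases hox : G.Adj o x
      · left; exact ⟨hox, hx⟩
      · right
        refine ⟨⟨?_, hox⟩, hx⟩
        rintro rfl
        exact hr'.2 hx.symm
    · rintro (⟨_, h⟩ | ⟨_, h⟩) <;> exact h
  have h2 : Disjoint (cn G o r) ((Rset G o).filter (fun r' => G.Adj r r')) := by
    rw [Finset.disjoint_left]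
    intro x hx hx'
    simp only [cn, mem_filter, mem_univ, true_and] at hx
    rw [mem_filter, mem_Rset] at hx'
    exact hx'.1.2 hx.1
  have h3 := congrArg Finset.card h1
  rw [deg22 G hG, Finset.card_union_of_disjoint h2, cn6 G hG (Ne.symm hr'.1) hr'.2] at h3
  omega

/-- the non-neighbours of a block vertex among the other block vertices -/
def Sset (r : V) : Finset V := (Rset G o).filter (fun r' => r' ≠ r ∧ ¬ G.Adj r r')

omit hG in
theorem mem_Sset (r r' : V) : r' ∈ Sset G o r ↔ r' ∈ Rset G o ∧ r' ≠ r ∧ ¬ G.Adj r r' := by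
  simp [Sset]

theorem card_Sset {r : V} (hr : r ∈ Rset G o) : (Sset G o r).card = 60 := by
  have h1 : Rset G o = insert r ((Rset G o).filter (fun r' => G.Adj r r') ∪ Sset G o r) := by
    ext x
    simp only [mem_insert, mem_union, mem_filter, mem_Sset]
    constructor
    · intro hx
      by_cases hxr : x = r
      · left; exact hxr
      · by_cases h : G.Adj r x
        · right; left; exact ⟨hx, h⟩
        · right; right; exact ⟨hx, hxr, h⟩
    · rintro (rfl | ⟨h, _⟩ | ⟨h, _⟩)
      · exact hr
      · exact h
      · exact h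
  have h2 : Disjoint ((Rset G o).filter (fun r' => G.Adj r r')) (Sset G o r) := by
    rw [Finset.disjoint_left]
    intro x hx hx'
    rw [mem_filter] at hx
    rw [mem_Sset] at hx'
    exact hx'.2.2 hx.2
  have h3 : r ∉ (Rset G o).filter (fun r' => G.Adj r r') ∪ Sset G o r := by
    intro h
    rw [mem_union, mem_filter, mem_Sset] at h
    rcases h with h | h
    · exact G.loopless.irrefl r h.2
    · exact h.2.1 rfl
  have h4 := congrArg Finset.card h1
  rw [Finset.card_insert_of_notMem h3, Finset.card_union_of_disjoint h2, card_Radj G o hG hr,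
    card_Rset G o hG] at h4
  omega

/-- first moment -/
theorem sum_one {r : V} (hr : r ∈ Rset G o) :
    ∑ r' ∈ Sset G o r, (blk G o r ∩ blk G o r').card = 120 := by
  have key := Finset.sum_card_bipartiteAbove_eq_sum_card_bipartiteBelow (s := blk G o r)
    (t := Sset G o r) (fun (p : Pt G o) (r' : V) => p ∈ blk G o r')
  unfold Finset.bipartiteAbove Finset.bipartiteBelow at key
  have hleft : ∀ p ∈ blk G o r, ((Sset G o r).filter (fun r' => p ∈ blk G o r')).card = 20 := by
    intro p hp
    have h1 : (Sset G o r).filter (fun r' => p ∈ blk G o r') =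
        ((Rset G o).filter (fun r' => p ∈ blk G o r')).erase r := by
      ext x
      simp only [mem_filter, mem_Sset, mem_erase]
      constructor
      · rintro ⟨⟨h1, h2, _⟩, h4⟩
        exact ⟨h2, h1, h4⟩
      · rintro ⟨h1, h2, h3⟩
        refine ⟨⟨h2, h1, ?_⟩, h3⟩
        intro hadj
        rw [mem_blk] at hp h3
        exact no_tri G hG hadj hp h3
    rw [h1, Finset.card_erase_of_mem (by rw [mem_filter]; exact ⟨hr, hp⟩), card_through G o hG p]
  have hright : ∀ r' ∈ Sset G o r, ((blk G o r).filter (fun p => p ∈ blk G o r')).card =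
      (blk G o r ∩ blk G o r').card := by
    intro r' _
    rw [Finset.filter_mem_eq_inter]
  rw [Finset.sum_congr rfl hleft, Finset.sum_congr rfl hright, Finset.sum_const,
    card_blk G o hG hr] at key
  rw [← key]; rfl

/-- second moment -/
theorem sum_two {r : V} (hr : r ∈ Rset G o) :
    ∑ r' ∈ Sset G o r, ((blk G o r ∩ blk G o r').card * (blk G o r ∩ blk G o r').card -
      (blk G o r ∩ blk G o r').card) = 120 := by
  have key := Finset.sum_card_bipartiteAbove_eq_sum_card_bipartiteBelow
    (s := (blk G o r).offDiag) (t := Sset G o r)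
    (fun (x : Pt G o × Pt G o) (r' : V) => x.1 ∈ blk G o r' ∧ x.2 ∈ blk G o r')
  unfold Finset.bipartiteAbove Finset.bipartiteBelow at key
  have hleft : ∀ x ∈ (blk G o r).offDiag,
      ((Sset G o r).filter (fun r' => x.1 ∈ blk G o r' ∧ x.2 ∈ blk G o r')).card = 4 := by
    intro x hx
    rw [Finset.mem_offDiag] at hx
    have h1 : (Sset G o r).filter (fun r' => x.1 ∈ blk G o r' ∧ x.2 ∈ blk G o r') =
        ((Rset G o).filter (fun r' => x.1 ∈ blk G o r' ∧ x.2 ∈ blk G o r')).erase r := by
      ext y
      simp only [mem_filter, mem_Sset, mem_erase]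
      constructor
      · rintro ⟨⟨h1, h2, _⟩, h4⟩
        exact ⟨h2, h1, h4⟩
      · rintro ⟨h1, h2, h3⟩
        refine ⟨⟨h2, h1, ?_⟩, h3⟩
        intro hadj
        have hp := hx.1
        have h3' := h3.1
        rw [mem_blk] at hp h3'
        exact no_tri G hG hadj hp h3'
    rw [h1, Finset.card_erase_of_mem (by rw [mem_filter]; exact ⟨hr, hx.1, hx.2.1⟩),
      card_through2 G o hG hx.2.2]
  have hright : ∀ r' ∈ Sset G o r, ((blk G o r).offDiag.filter
      (fun x => x.1 ∈ blk G o r' ∧ x.2 ∈ blk G o r')).card =
      (blk G o r ∩ blk G o r').card * (blk G o r ∩ blk G o r').card -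
        (blk G o r ∩ blk G o r').card := by
    intro r' _
    rw [← Finset.offDiag_card]
    congr 1
    ext x
    simp only [mem_filter, Finset.mem_offDiag, mem_inter]
    tauto
  rw [Finset.sum_congr rfl hleft, Finset.sum_congr rfl hright, Finset.sum_const,
    Finset.offDiag_card, card_blk G o hG hr] at key
  rw [← key]; rfl

/-- two non-adjacent block vertices share exactly two points -/
theorem inter_two {r r' : V} (hr : r ∈ Rset G o) (hr' : r' ∈ Sset G o r) :
    (blk G o r ∩ blk G o r').card = 2 := by
  have h1 := sum_one G o hG hr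
  have h2 := sum_two G o hG hr
  have hle : ∀ x ∈ Sset G o r, 3 * (blk G o r ∩ blk G o x).card ≤
      (blk G o r ∩ blk G o x).card * (blk G o r ∩ blk G o x).card -
        (blk G o r ∩ blk G o x).card + 4 := by
    intro x _
    have hb : (blk G o r ∩ blk G o x).card ≤ 6 := by
      rw [← card_blk G o hG hr]
      exact Finset.card_le_card Finset.inter_subset_left
    generalize (blk G o r ∩ blk G o x).card = f at hb
    interval_cases f <;> omega
  have hsum : ∑ x ∈ Sset G o r, 3 * (blk G o r ∩ blk G o x).card =
      ∑ x ∈ Sset G o r, ((blk G o r ∩ blk G o x).card * (blk G o r ∩ blk G o x).card -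
        (blk G o r ∩ blk G o x).card + 4) := by
    rw [← Finset.mul_sum, h1, Finset.sum_add_distrib, h2, Finset.sum_const,
      card_Sset G o hG hr]
    rfl
  have h3 := (Finset.sum_eq_sum_iff_of_le hle).mp hsum r' hr'
  have hb : (blk G o r ∩ blk G o r').card ≤ 6 := by
    rw [← card_blk G o hG hr]
    exact Finset.card_le_card Finset.inter_subset_left
  generalize (blk G o r ∩ blk G o r').card = f at hb h3
  interval_cases f <;> omega

omit hG in
theorem inter_zero {r r' : V} (hG : G.IsSRGWith 100 22 0 6) (hadj : G.Adj r r') :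
    blk G o r ∩ blk G o r' = ∅ := by
  rw [Finset.eq_empty_iff_forall_notMem]
  intro p hp
  rw [mem_inter, mem_blk, mem_blk] at hp
  exact no_tri G hG hadj hp.1 hp.2

theorem disjoint_iff {r r' : V} (hr : r ∈ Rset G o) (hr' : r' ∈ Rset G o) (hne : r ≠ r') :
    Disjoint (blk G o r) (blk G o r') ↔ G.Adj r r' := by
  constructor
  · intro hd
    by_contra hadj
    have h2 := inter_two G o hG hr ((mem_Sset G o r r').mpr ⟨hr', hne.symm, hadj⟩)
    rw [Finset.disjoint_iff_inter_eq_empty] at hd
    rw [hd] at h2
    simp at h2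
  · intro hadj
    rw [Finset.disjoint_iff_inter_eq_empty]
    exact inter_zero G o hG hadj

theorem inter_le_two {r r' : V} (hr : r ∈ Rset G o) (hr' : r' ∈ Rset G o) (hne : r ≠ r') :
    (blk G o r ∩ blk G o r').card ≤ 2 := by
  by_cases hadj : G.Adj r r'
  · rw [inter_zero G o hG hadj]; simp
  · exact (inter_two G o hG hr ((mem_Sset G o r r').mpr ⟨hr', hne.symm, hadj⟩)).le

theorem blk_injOn {r r' : V} (hr : r ∈ Rset G o) (hr' : r' ∈ Rset G o)
    (h : blk G o r = blk G o r') : r = r' := by
  by_contra hne
  have h1 := inter_le_two G o hG hr hr' hne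
  rw [← h, Finset.inter_self, card_blk G o hG hr] at h1
  omega

/-- every triple of points lies in exactly one block -/
theorem triple_unique (s : Finset (Pt G o)) (hs : s.card = 3) :
    ((Rset G o).filter (fun r => s ⊆ blk G o r)).card = 1 := by
  have hT : s ∈ Finset.powersetCard 3 (univ : Finset (Pt G o)) := by
    rw [Finset.mem_powersetCard]; exact ⟨Finset.subset_univ _, hs⟩
  refine dc_le_one (Rset G o) (Finset.powersetCard 3 (univ : Finset (Pt G o)))
    (fun r s => s ⊆ blk G o r) (m := 20) ?_ ?_ ?_ s hT
  · intro r hr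
    have h1 : (Finset.powersetCard 3 (univ : Finset (Pt G o))).filter (fun s => s ⊆ blk G o r) =
        Finset.powersetCard 3 (blk G o r) := by
      ext t
      simp only [mem_filter, Finset.mem_powersetCard]
      constructor
      · rintro ⟨⟨_, h2⟩, h3⟩; exact ⟨h3, h2⟩
      · rintro ⟨h3, h2⟩; exact ⟨⟨Finset.subset_univ _, h2⟩, h3⟩
    rw [h1, Finset.card_powersetCard, card_blk G o hG hr]
    rfl
  · intro t ht
    rw [Finset.mem_powersetCard] at ht
    rw [Finset.card_le_one]
    intro r hr r' hr'
    rw [mem_filter] at hr hr'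
    by_contra hne
    have h1 := inter_le_two G o hG hr.1 hr'.1 hne
    have h2 : t ⊆ blk G o r ∩ blk G o r' := Finset.subset_inter hr.2 hr'.2
    have h3 := Finset.card_le_card h2
    omega
  · rw [card_Rset G o hG, Finset.card_powersetCard, Finset.card_univ, card_Pt G o hG]
    rfl

/-- the block family -/
def blkSet : Set (Finset (Pt G o)) := {b | ∃ r ∈ Rset G o, blk G o r = b}

theorem steiner : Cfsg.IsSteinerSystem 3 6 (blkSet G o) := by
  constructor
  · rintro b ⟨r, hr, rfl⟩
    exact card_blk G o hG hr
  · intro s hs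
    have h1 := triple_unique G o hG s hs
    rw [Finset.card_eq_one] at h1
    obtain ⟨r, hr⟩ := h1
    have hrm : r ∈ (Rset G o).filter (fun r => s ⊆ blk G o r) := by rw [hr]; simp
    rw [mem_filter] at hrm
    refine ⟨blk G o r, ⟨⟨r, hrm.1, rfl⟩, hrm.2⟩, ?_⟩
    rintro b ⟨⟨r', hr', rfl⟩, hsub⟩
    have : r' ∈ (Rset G o).filter (fun r => s ⊆ blk G o r) := by
      rw [mem_filter]; exact ⟨hr', hsub⟩
    rw [hr, Finset.mem_singleton] at this
    rw [this]

end base

end Cfsg.Agent.Lib.Helper11.SRG100
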