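import Cfsg.Agent.Lib.Helper11.SRG100
import Cfsg.Agent.S0428

set_option autoImplicit false
set_option linter.unusedSectionVars false
set_option linter.unusedSimpArgs false

/-! # A strongly regular graph (100, 22, 0, 6) is isomorphic to its point-block graph -/

namespace Cfsg.Agent.Lib.Helper11.SRG100

open Finset Cfsg.Agent.S0428

section iso1
variable {V : Type*} [Fintype V] [DecidableEq V] (G : SimpleGraph V) [DecidableRel G.Adj] (o : V)

/-- the map to the point-block graph -/
noncomputable def toPB (v : V) : Option (Pt G o ⊕ blkSet G o) :=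
  if h : v = o then none
  else if h' : G.Adj o v then some (Sum.inl ⟨v, h'⟩)
  else some (Sum.inr ⟨blk G o v, ⟨v, (mem_Rset G o v).mpr ⟨h, h'⟩, rfl⟩⟩)

theorem toPB_o : toPB G o o = none := by simp [toPB]

theorem toPB_pt {v : V} (h : G.Adj o v) : toPB G o v = some (Sum.inl ⟨v, h⟩) := by
  have hne : v ≠ o := by rintro rfl; exact G.loopless.irrefl _ h
  simp [toPB, hne, h]

theorem toPB_blk {v : V} (h : v ∈ Rset G o) :
    toPB G o v = some (Sum.inr ⟨blk G o v, ⟨v, h, rfl⟩⟩) := by
  have h' := (mem_Rset G o v).mp h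
  simp [toPB, h'.1, h'.2]

theorem cases3 (v : V) : v = o ∨ G.Adj o v ∨ v ∈ Rset G o := by
  by_cases h : v = o
  · left; exact h
  · by_cases h' : G.Adj o v
    · right; left; exact h'
    · right; right; exact (mem_Rset G o v).mpr ⟨h, h'⟩

variable (hG : G.IsSRGWith 100 22 0 6)
include hG

theorem toPB_injective : Function.Injective (toPB G o) := by
  intro v w hvw
  rcases cases3 G o v with hv | hv | hv <;> rcases cases3 G o w with hw | hw | hw
  · rw [hv, hw]
  · rw [hv, toPB_o, toPB_pt G _ hw] at hvw; simp at hvw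
  · rw [hv, toPB_o, toPB_blk G _ hw] at hvw; simp at hvw
  · rw [hw, toPB_o, toPB_pt G _ hv] at hvw; simp at hvw
  · rw [toPB_pt G o hv, toPB_pt G o hw] at hvw
    exact congrArg Subtype.val (Sum.inl.inj (Option.some.inj hvw))
  · rw [toPB_pt G o hv, toPB_blk G o hw] at hvw; simp at hvw
  · rw [hw, toPB_o, toPB_blk G _ hv] at hvw; simp at hvw
  · rw [toPB_blk G o hv, toPB_pt G o hw] at hvw; simp at hvw
  · rw [toPB_blk G o hv, toPB_blk G o hw] at hvw
    exact blk_injOn G o hG hv hw (congrArg Subtype.val (Sum.inr.inj (Option.some.inj hvw)))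

omit hG in
theorem toPB_surjective : Function.Surjective (toPB G o) := by
  intro x
  rcases x with _ | (p | b)
  · exact ⟨o, toPB_o G o⟩
  · exact ⟨p.1, by rw [toPB_pt G o p.2]⟩
  · obtain ⟨b, r, hr, rfl⟩ := b
    exact ⟨r, toPB_blk G o hr⟩

theorem toPB_adj (v w : V) :
    (Cfsg.pointBlockGraph (blkSet G o)).Adj (toPB G o v) (toPB G o w) ↔ G.Adj v w := by
  have hsymm : ∀ x y, (Cfsg.pointBlockGraph (blkSet G o)).Adj x y ↔
      (Cfsg.pointBlockGraph (blkSet G o)).Adj y x := fun x y => ⟨fun h => h.symm, fun h => h.symm⟩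
  have hpb : ∀ {p r : V} (hp : G.Adj o p) (hr : r ∈ Rset G o),
      (Cfsg.pointBlockGraph (blkSet G o)).Adj (toPB G o p) (toPB G o r) ↔ G.Adj p r := by
    intro p r hp hr
    rw [toPB_pt G o hp, toPB_blk G o hr, adj_pb]
    show (⟨p, hp⟩ : Pt G o) ∈ blk G o r ↔ _
    rw [mem_blk]
    exact ⟨fun h => h.symm, fun h => h.symm⟩
  rcases cases3 G o v with hv | hv | hv <;> rcases cases3 G o w with hw | hw | hw
  · rw [hv, hw, toPB_o]
    exact ⟨fun h => absurd h (adj_nn _), fun h => absurd h (G.loopless.irrefl _)⟩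
  · rw [hv, toPB_o, toPB_pt G _ hw]
    exact ⟨fun _ => hw, fun _ => adj_np _ _⟩
  · rw [hv, toPB_o, toPB_blk G _ hw]
    have hw' := (mem_Rset G _ w).mp hw
    exact ⟨fun h => absurd h (adj_nb _ _), fun h => absurd h hw'.2⟩
  · rw [hsymm, hw, toPB_o, toPB_pt G _ hv]
    exact ⟨fun _ => hv.symm, fun _ => adj_np _ _⟩
  · rw [toPB_pt G o hv, toPB_pt G o hw]
    exact ⟨fun h => absurd h (adj_pp _ _ _),
      fun h => absurd h (pt_not_adj G o hG ⟨v, hv⟩ ⟨w, hw⟩)⟩
  · exact hpb hv hw
  · rw [hsymm, hw, toPB_o, toPB_blk G _ hv]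
    have hv' := (mem_Rset G _ v).mp hv
    exact ⟨fun h => absurd h (adj_nb _ _), fun h => absurd h.symm hv'.2⟩
  · rw [hsymm, hpb hw hv]
    exact ⟨fun h => h.symm, fun h => h.symm⟩
  · rw [toPB_blk G o hv, toPB_blk G o hw, adj_bb]
    by_cases hvw : v = w
    · subst hvw
      exact ⟨fun h => absurd rfl h.1, fun h => absurd h (G.loopless.irrefl _)⟩
    · show _ ∧ Disjoint (blk G o v) (blk G o w) ↔ _
      rw [disjoint_iff G o hG hv hw hvw]
      constructor
      · exact fun h => h.2
      · intro h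
        refine ⟨?_, h⟩
        intro heq
        have := congrArg Subtype.val heq
        exact hvw (blk_injOn G o hG hv hw this)

/-- the graph is isomorphic to its point-block graph -/
noncomputable def isoPB : G ≃g Cfsg.pointBlockGraph (blkSet G o) where
  toEquiv := Equiv.ofBijective (toPB G o) ⟨toPB_injective G o hG, toPB_surjective G o⟩
  map_rel_iff' := by
    intro v w
    exact toPB_adj G o hG v w

end iso1

section iso2
variable {α β : Type*} [DecidableEq α] [DecidableEq β] {B : Set (Finset α)} {B' : Set (Finset β)}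

/-- the induced bijection of the block families -/
noncomputable def blockEquiv (e : α ≃ β) (h : (fun b => b.image e) '' B = B') : B ≃ B' where
  toFun b := ⟨b.1.image e, by rw [← h]; exact ⟨b.1, b.2, rfl⟩⟩
  invFun c := ⟨c.1.image e.symm, by
    have hc : c.1 ∈ (fun b => b.image e) '' B := by rw [h]; exact c.2
    obtain ⟨b, hb, hbc⟩ := hc
    rw [← hbc, Finset.image_image]
    simpa using hb⟩
  left_inv b := by
    apply Subtype.ext
    simp [Finset.image_image]
  right_inv c := by
    apply Subtype.ext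
    simp [Finset.image_image]

theorem pb_iso_adj (e : α ≃ β) (h : (fun b => b.image e) '' B = B')
    (x y : Option (α ⊕ B)) :
    (Cfsg.pointBlockGraph B').Adj
      ((Equiv.optionCongr (Equiv.sumCongr e (blockEquiv e h))) x)
      ((Equiv.optionCongr (Equiv.sumCongr e (blockEquiv e h))) y) ↔
    (Cfsg.pointBlockGraph B).Adj x y := by
  have hsymm : ∀ x y, (Cfsg.pointBlockGraph B).Adj x y ↔
      (Cfsg.pointBlockGraph B).Adj y x := fun x y => ⟨fun h => h.symm, fun h => h.symm⟩
  have hsymm' : ∀ x y, (Cfsg.pointBlockGraph B').Adj x y ↔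
      (Cfsg.pointBlockGraph B').Adj y x := fun x y => ⟨fun h => h.symm, fun h => h.symm⟩
  have hmem : ∀ (a : α) (b : B), e a ∈ (blockEquiv e h b).1 ↔ a ∈ b.1 := by
    intro a b
    show e a ∈ b.1.image e ↔ _
    rw [Finset.mem_image]
    constructor
    · rintro ⟨a', ha', h'⟩
      rw [e.injective h'] at ha'; exact ha'
    · intro ha; exact ⟨a, ha, rfl⟩
  have hdisj : ∀ (b c : B), Disjoint (blockEquiv e h b).1 (blockEquiv e h c).1 ↔
      Disjoint b.1 c.1 := by
    intro b c
    show Disjoint (b.1.image e) (c.1.image e) ↔ _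
    rw [Finset.disjoint_image e.injective]
  rcases x with _ | (a | b) <;> rcases y with _ | (a' | b')
  · simp only [Equiv.optionCongr_apply, Option.map_none]
    exact ⟨fun h => absurd h (adj_nn _), fun h => absurd h (adj_nn _)⟩
  · simp only [Equiv.optionCongr_apply, Option.map_none, Option.map_some, Equiv.sumCongr_apply,
      Sum.map_inl]
    exact ⟨fun _ => adj_np _ _, fun _ => adj_np _ _⟩
  · simp only [Equiv.optionCongr_apply, Option.map_none, Option.map_some, Equiv.sumCongr_apply,
      Sum.map_inr]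
    exact ⟨fun h => absurd h (adj_nb _ _), fun h => absurd h (adj_nb _ _)⟩
  · simp only [Equiv.optionCongr_apply, Option.map_none, Option.map_some, Equiv.sumCongr_apply,
      Sum.map_inl]
    rw [hsymm, hsymm']
    exact ⟨fun _ => adj_np _ _, fun _ => adj_np _ _⟩
  · simp only [Equiv.optionCongr_apply, Option.map_some, Equiv.sumCongr_apply, Sum.map_inl]
    exact ⟨fun h => absurd h (adj_pp _ _ _), fun h => absurd h (adj_pp _ _ _)⟩
  · simp only [Equiv.optionCongr_apply, Option.map_some, Equiv.sumCongr_apply, Sum.map_inl,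
      Sum.map_inr]
    rw [adj_pb, adj_pb, hmem]
  · simp only [Equiv.optionCongr_apply, Option.map_none, Option.map_some, Equiv.sumCongr_apply,
      Sum.map_inr]
    rw [hsymm, hsymm']
    exact ⟨fun h => absurd h (adj_nb _ _), fun h => absurd h (adj_nb _ _)⟩
  · simp only [Equiv.optionCongr_apply, Option.map_some, Equiv.sumCongr_apply, Sum.map_inl,
      Sum.map_inr]
    rw [hsymm, hsymm' , adj_pb, adj_pb, hmem]
  · simp only [Equiv.optionCongr_apply, Option.map_some, Equiv.sumCongr_apply, Sum.map_inr]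
    rw [adj_bb, adj_bb, hdisj]
    constructor
    · rintro ⟨h1, h2⟩
      exact ⟨fun h' => h1 (by rw [h']), h2⟩
    · rintro ⟨h1, h2⟩
      exact ⟨fun h' => h1 ((blockEquiv e h).injective h'), h2⟩

/-- isomorphic set systems have isomorphic point-block graphs -/
noncomputable def pbIso (e : α ≃ β) (h : (fun b => b.image e) '' B = B') :
    Cfsg.pointBlockGraph B ≃g Cfsg.pointBlockGraph B' where
  toEquiv := Equiv.optionCongr (Equiv.sumCongr e (blockEquiv e h))
  map_rel_iff' := by
    intro x y
    exact pb_iso_adj e h x y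

end iso2

end Cfsg.Agent.Lib.Helper11.SRG100
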