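import Cfsg.Agent.Lib.Helper50.Siegel
import Cfsg.Agent.Lib.Helper50.PlusForm

set_option autoImplicit false
set_option linter.unusedSectionVars false
set_option linter.unusedVariables false
set_option quotPrecheck false

/-! Siegel transvection groups of singular lines of the hyperbolic quadratic space: geometry. -/

namespace Cfsg.Agent.Lib.Helper11.SiegelRoot

open Matrix Module QuadraticMap Cfsg.Agent.Lib.Helper19 Cfsg.Agent.Lib.Helper50

/-- a linear functional with prescribed values on a linearly independent family -/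
theorem exists_fun {F V : Type*} [Field F] [AddCommGroup V] [Module F V] {k : ℕ} (u : Fin k → V)
    (hu : LinearIndependent F u) (c : Fin k → F) : ∃ f : V →ₗ[F] F, ∀ i, f (u i) = c i := by
  classical
  let b := Basis.sumExtend hu
  have hb : ∀ i, b (Sum.inl i) = u i := by
    intro i
    simp [b, Basis.sumExtend]
    rfl
  refine ⟨b.constr F (Sum.elim c 0), ?_⟩
  intro i
  rw [← hb i, Basis.constr_basis]
  rfl

section
variable {F : Type*} [Field F] {N : ℕ}

local notation "V" => (Fin N ⊕ Fin N → F)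
local notation "Q" => QPlus N F
local notation "B" => QuadraticMap.polar (⇑(QPlus N F))
local notation "G" => ↥(Cfsg.isometryGroup F (⇑(QPlus N F)))

theorem B_comm (x y : V) : B x y = B y x := polar_comm _ x y

theorem B_self (x : V) (hx : Q x = 0) : B x x = 0 := by
  rw [polar_self, hx]; simp

theorem B_add_left (x x' y : V) : B (x + x') y = B x y + B x' y := polar_add_left Q x x' y
theorem B_add_right (x y y' : V) : B x (y + y') = B x y + B x y' := polar_add_right Q x y y'
theorem B_smul_left (a : F) (x y : V) : B (a • x) y = a * B x y := by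
  rw [polar_smul_left]; rfl
theorem B_smul_right (a : F) (x y : V) : B x (a • y) = a * B x y := by
  rw [polar_smul_right]; rfl
theorem B_sub_left (x x' y : V) : B (x - x') y = B x y - B x' y := polar_sub_left Q x x' y
theorem B_sub_right (x y y' : V) : B x (y - y') = B x y - B x y' := polar_sub_right Q x y y'
theorem B_neg_left (x y : V) : B (-x) y = - B x y := polar_neg_left Q x y
theorem B_neg_right (x y : V) : B x (-y) = - B x y := polar_neg_right Q x y
theorem B_zero_left (y : V) : B 0 y = 0 := polar_zero_left Q y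
theorem B_zero_right (x : V) : B x 0 = 0 := polar_zero_right Q x

theorem Q_add (x y : V) : Q (x + y) = Q x + Q y + B x y := QuadraticMap.map_add (⇑Q) x y
theorem Q_smul (a : F) (x : V) : Q (a • x) = a * a * Q x := by
  rw [QuadraticMap.map_smul]; rfl
theorem Q_neg (x : V) : Q (-x) = Q x := QuadraticMap.map_neg Q x
theorem Q_zero' : Q (0 : V) = 0 := QuadraticMap.map_zero Q

/-- non-degeneracy -/
theorem eq_zero_of_B (w : V) (h : ∀ v : V, B v w = 0) : w = 0 := by
  funext j
  rcases j with j | j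
  · have := h (Pi.single (Sum.inr j) 1)
    rw [polar_QPlus_single_inr] at this
    exact this
  · have := h (Pi.single (Sum.inl j) 1)
    rw [polar_QPlus_single_inl] at this
    exact this

/-- prescribing polar values on an independent family -/
theorem exists_polar_eq {k : ℕ} (u : Fin k → V) (hu : LinearIndependent F u) (c : Fin k → F) :
    ∃ w : V, ∀ i, B (u i) w = c i := by
  obtain ⟨f, hf⟩ := exists_fun u hu c
  have hB : (polarBilin Q).Nondegenerate := QPlus_nondegenerate
  refine ⟨(LinearMap.BilinForm.toDual (polarBilin Q) hB).symm f, ?_⟩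
  intro i
  have := @LinearMap.BilinForm.apply_toDual_symm_apply _ _ _ _ _ _ (polarBilin Q) hB f (u i)
  rw [polarBilin_apply_apply] at this
  rw [B_comm, this, hf]

/-- a singular line, given by a basis -/
structure IsLine (p r : V) : Prop where
  indep : LinearIndependent F ![p, r]
  hp : Q p = 0
  hr : Q r = 0
  hpr : B p r = 0

theorem IsLine.hrp {p r : V} (h : IsLine p r) : B r p = 0 := by rw [B_comm]; exact h.hpr
theorem IsLine.hpp {p r : V} (h : IsLine p r) : B p p = 0 := B_self p h.hp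
theorem IsLine.hrr {p r : V} (h : IsLine p r) : B r r = 0 := B_self r h.hr

theorem IsLine.indep' {p r : V} (h : IsLine p r) (s t : F) (hst : s • p + t • r = 0) :
    s = 0 ∧ t = 0 := LinearIndependent.pair_iff.1 h.indep s t hst

theorem IsLine.p_ne {p r : V} (h : IsLine p r) : p ≠ 0 := by
  intro hp
  have := h.indep' 1 0 (by rw [hp]; simp)
  exact one_ne_zero this.1

theorem IsLine.r_ne {p r : V} (h : IsLine p r) : r ≠ 0 := by
  intro hr
  have := h.indep' 0 1 (by rw [hr]; simp)
  exact one_ne_zero this.2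

theorem IsLine.swap {p r : V} (h : IsLine p r) : IsLine r p := by
  refine ⟨?_, h.hr, h.hp, h.hrp⟩
  rw [LinearIndependent.pair_iff]
  intro s t hst
  have := h.indep' t s (by rw [add_comm]; exact hst)
  exact ⟨this.2, this.1⟩

theorem isLine_of (p r : V) (hind : LinearIndependent F ![p, r]) (hp : Q p = 0) (hr : Q r = 0)
    (hpr : Q (p + r) = 0) : IsLine p r := by
  refine ⟨hind, hp, hr, ?_⟩
  have := Q_add p r
  rw [hpr, hp, hr] at this
  simpa using this.symm

/-- the quadratic form vanishes on a singular line -/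
theorem IsLine.Q_combo {p r : V} (h : IsLine p r) (a b : F) : Q (a • p + b • r) = 0 := by
  rw [Q_add, Q_smul, Q_smul, h.hp, h.hr, B_smul_left, B_smul_right, h.hpr]
  ring

/-- dual vectors for a basis of a line -/
theorem IsLine.exists_dual {p r : V} (h : IsLine p r) :
    ∃ ps rs : V, B p ps = 1 ∧ B r ps = 0 ∧ B p rs = 0 ∧ B r rs = 1 := by
  obtain ⟨ps, hps⟩ := exists_polar_eq ![p, r] h.indep ![1, 0]
  obtain ⟨rs, hrs⟩ := exists_polar_eq ![p, r] h.indep ![0, 1]
  exact ⟨ps, rs, hps 0, hps 1, hrs 0, hrs 1⟩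

/-- double perpendicular of a line -/
theorem IsLine.mem_of_perp {p r : V} (h : IsLine p r) (ps rs : V) (h1 : B p ps = 1)
    (h2 : B r ps = 0) (h3 : B p rs = 0) (h4 : B r rs = 1) (w : V)
    (hw : ∀ v : V, B v p = 0 → B v r = 0 → B v w = 0) :
    w = B ps w • p + B rs w • r := by
  have key : w - (B ps w • p + B rs w • r) = 0 := by
    apply eq_zero_of_B
    intro v
    have hv := hw (v - B p v • ps - B r v • rs) (by
      rw [B_sub_left, B_sub_left, B_smul_left, B_smul_left, B_comm ps p, B_comm rs p, h1, h3,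
        B_comm v p]
      ring) (by
      rw [B_sub_left, B_sub_left, B_smul_left, B_smul_left, B_comm ps r, B_comm rs r, h2, h4,
        B_comm v r]
      ring)
    rw [B_sub_left, B_sub_left, B_smul_left, B_smul_left] at hv
    rw [B_sub_right, B_add_right, B_smul_right, B_smul_right, B_comm v p, B_comm v r]
    linear_combination hv
  exact sub_eq_zero.1 key

/-- the Siegel element of a line -/
noncomputable def sg (p r : V) (h : IsLine p r) (c : F) : G :=
  siegelO Q p r h.hp h.hr h.hpr c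

theorem sg_mulVec (p r : V) (h : IsLine p r) (c : F) (x : V) :
    (((sg p r h c : G) : GL (Fin N ⊕ Fin N) F) : Matrix (Fin N ⊕ Fin N) (Fin N ⊕ Fin N) F) *ᵥ x =
      x + c • (B p x • r - B r x • p) := by
  unfold sg
  rw [siegelO_val, siegelMatrix_mulVec]

/-- two isometries agreeing on all vectors are equal -/
theorem G_ext (σ τ : G)
    (h : ∀ x : V, ((σ : GL (Fin N ⊕ Fin N) F) : Matrix (Fin N ⊕ Fin N) (Fin N ⊕ Fin N) F) *ᵥ x =
      ((τ : GL (Fin N ⊕ Fin N) F) : Matrix (Fin N ⊕ Fin N) (Fin N ⊕ Fin N) F) *ᵥ x) : σ = τ := by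
  apply Subtype.ext
  apply Units.ext
  apply Matrix.mulVec_injective
  funext x
  exact h x

theorem G_mul_mulVec (σ τ : G) (x : V) :
    (((σ * τ : G) : GL (Fin N ⊕ Fin N) F) : Matrix (Fin N ⊕ Fin N) (Fin N ⊕ Fin N) F) *ᵥ x =
      ((σ : GL (Fin N ⊕ Fin N) F) : Matrix (Fin N ⊕ Fin N) (Fin N ⊕ Fin N) F) *ᵥ
        (((τ : GL (Fin N ⊕ Fin N) F) : Matrix (Fin N ⊕ Fin N) (Fin N ⊕ Fin N) F) *ᵥ x) := by
  rw [Subgroup.coe_mul, Units.val_mul, Matrix.mulVec_mulVec]

theorem G_one_mulVec (x : V) :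
    (((1 : G) : GL (Fin N ⊕ Fin N) F) : Matrix (Fin N ⊕ Fin N) (Fin N ⊕ Fin N) F) *ᵥ x = x := by
  simp

theorem G_inv_mulVec (σ : G) (x : V) :
    (((σ⁻¹ : G) : GL (Fin N ⊕ Fin N) F) : Matrix (Fin N ⊕ Fin N) (Fin N ⊕ Fin N) F) *ᵥ
      (((σ : GL (Fin N ⊕ Fin N) F) : Matrix (Fin N ⊕ Fin N) (Fin N ⊕ Fin N) F) *ᵥ x) = x := by
  rw [← G_mul_mulVec, inv_mul_cancel, G_one_mulVec]

theorem G_mulVec_inv (σ : G) (x : V) :
    ((σ : GL (Fin N ⊕ Fin N) F) : Matrix (Fin N ⊕ Fin N) (Fin N ⊕ Fin N) F) *ᵥ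
      ((((σ⁻¹ : G) : GL (Fin N ⊕ Fin N) F) : Matrix (Fin N ⊕ Fin N) (Fin N ⊕ Fin N) F) *ᵥ x) = x := by
  rw [← G_mul_mulVec, mul_inv_cancel, G_one_mulVec]

theorem sg_zero (p r : V) (h : IsLine p r) : sg p r h 0 = 1 := by
  apply G_ext
  intro x
  rw [sg_mulVec, G_one_mulVec, zero_smul, add_zero]

theorem sg_add (p r : V) (h : IsLine p r) (c d : F) :
    sg p r h c * sg p r h d = sg p r h (c + d) := by
  apply G_ext
  intro x
  rw [G_mul_mulVec, sg_mulVec, sg_mulVec, sg_mulVec]
  simp only [B_add_right, B_smul_right, B_sub_right, h.hpr, h.hrp, h.hpp, h.hrr, mul_zero,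
    sub_zero, add_zero]
  module

theorem sg_inv (p r : V) (h : IsLine p r) (c : F) : (sg p r h c)⁻¹ = sg p r h (-c) := by
  rw [inv_eq_iff_mul_eq_one, sg_add, add_neg_cancel, sg_zero]

/-- polar form is preserved -/
theorem B_G (σ : G) (x y : V) :
    B (((σ : GL (Fin N ⊕ Fin N) F) : Matrix (Fin N ⊕ Fin N) (Fin N ⊕ Fin N) F) *ᵥ x)
      (((σ : GL (Fin N ⊕ Fin N) F) : Matrix (Fin N ⊕ Fin N) (Fin N ⊕ Fin N) F) *ᵥ y) = B x y :=
  polar_O Q σ x y

theorem Q_G (σ : G) (x : V) :
    Q (((σ : GL (Fin N ⊕ Fin N) F) : Matrix (Fin N ⊕ Fin N) (Fin N ⊕ Fin N) F) *ᵥ x) = Q x :=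
  O_isometry (⇑Q) σ x

/-- the set of isometries fixing the perpendicular of the line pointwise -/
def FS (p r : V) : Set G :=
  {σ | ∀ v : V, B v p = 0 → B v r = 0 →
    ((σ : GL (Fin N ⊕ Fin N) F) : Matrix (Fin N ⊕ Fin N) (Fin N ⊕ Fin N) F) *ᵥ v = v}

/-- the root subgroup of the line -/
def RS (p r : V) : Subgroup G := Subgroup.closure (FS p r)

theorem sg_mem_FS (p r : V) (h : IsLine p r) (c : F) : sg p r h c ∈ FS p r := by
  intro v hvp hvr
  rw [sg_mulVec, B_comm p v, B_comm r v, hvp, hvr]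
  simp

theorem mem_FS_iff (p r : V) (h : IsLine p r) (σ : G) : σ ∈ FS p r ↔ ∃ c : F, σ = sg p r h c := by
  constructor
  · intro hσ
    obtain ⟨ps, rs, h1, h2, h3, h4⟩ := h.exists_dual
    -- σ fixes p and r
    have hσp : ((σ : GL (Fin N ⊕ Fin N) F) : Matrix (Fin N ⊕ Fin N) (Fin N ⊕ Fin N) F) *ᵥ p = p :=
      hσ p h.hpp h.hpr
    have hσr : ((σ : GL (Fin N ⊕ Fin N) F) : Matrix (Fin N ⊕ Fin N) (Fin N ⊕ Fin N) F) *ᵥ r = r :=
      hσ r h.hrp h.hrr
    -- displacement of a vector lies in the line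
    have hdisp : ∀ y : V, ∀ v : V, B v p = 0 → B v r = 0 →
        B v (((σ : GL (Fin N ⊕ Fin N) F) : Matrix (Fin N ⊕ Fin N) (Fin N ⊕ Fin N) F) *ᵥ y - y)
          = 0 := by
      intro y v hvp hvr
      rw [B_sub_right]
      have := B_G σ v y
      rw [hσ v hvp hvr] at this
      rw [this, sub_self]
    set σps := ((σ : GL (Fin N ⊕ Fin N) F) : Matrix (Fin N ⊕ Fin N) (Fin N ⊕ Fin N) F) *ᵥ ps
      with hσps
    set σrs := ((σ : GL (Fin N ⊕ Fin N) F) : Matrix (Fin N ⊕ Fin N) (Fin N ⊕ Fin N) F) *ᵥ rs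
      with hσrs
    have e1 := h.mem_of_perp ps rs h1 h2 h3 h4 (σps - ps) (hdisp ps)
    have e2 := h.mem_of_perp ps rs h1 h2 h3 h4 (σrs - rs) (hdisp rs)
    set a₁ := B ps (σps - ps) with ha₁
    set b₁ := B rs (σps - ps) with hb₁
    set a₂ := B ps (σrs - rs) with ha₂
    set b₂ := B rs (σrs - rs) with hb₂
    have e1' : σps = ps + (a₁ • p + b₁ • r) := by rw [← e1]; abel
    have e2' : σrs = rs + (a₂ • p + b₂ • r) := by rw [← e2]; abel
    -- a₁ = 0
    have ha₁0 : a₁ = 0 := by
      have hq := Q_G σ ps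
      rw [← hσps, e1', Q_add, h.Q_combo, B_add_right, B_smul_right, B_smul_right,
        B_comm ps p, B_comm ps r, h1, h2] at hq
      linear_combination hq
    have hb₂0 : b₂ = 0 := by
      have hq := Q_G σ rs
      rw [← hσrs, e2', Q_add, h.Q_combo, B_add_right, B_smul_right, B_smul_right,
        B_comm rs p, B_comm rs r, h3, h4] at hq
      linear_combination hq
    have ha₂ : a₂ = - b₁ := by
      have hb := B_G σ ps rs
      rw [← hσps, ← hσrs, e1', e2', ha₁0, hb₂0] at hb
      simp only [zero_smul, zero_add, add_zero, B_add_left, B_add_right, B_smul_left,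
        B_smul_right, h.hrp, B_comm ps p, h1, h4, mul_zero, mul_one] at hb
      linear_combination hb
    refine ⟨b₁, ?_⟩
    apply G_ext
    intro x
    rw [sg_mulVec]
    -- decompose x
    set x' := x - B p x • ps - B r x • rs with hx'
    have hx'p : B x' p = 0 := by
      rw [hx', B_sub_left, B_sub_left, B_smul_left, B_smul_left, B_comm ps p, B_comm rs p, h1, h3,
        B_comm x p]
      ring
    have hx'r : B x' r = 0 := by
      rw [hx', B_sub_left, B_sub_left, B_smul_left, B_smul_left, B_comm ps r, B_comm rs r, h2, h4,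
        B_comm x r]
      ring
    have hx : x = x' + B p x • ps + B r x • rs := by rw [hx']; abel
    have hfix := hσ x' hx'p hx'r
    obtain ⟨s, hs⟩ : ∃ s : F, s = B p x := ⟨_, rfl⟩
    obtain ⟨t, ht⟩ : ∃ t : F, t = B r x := ⟨_, rfl⟩
    rw [← hs, ← ht] at hx ⊢
    calc ((σ : GL (Fin N ⊕ Fin N) F) : Matrix (Fin N ⊕ Fin N) (Fin N ⊕ Fin N) F) *ᵥ x
        = ((σ : GL (Fin N ⊕ Fin N) F) : Matrix (Fin N ⊕ Fin N) (Fin N ⊕ Fin N) F) *ᵥ
            (x' + s • ps + t • rs) := by rw [← hx]
      _ = x' + s • σps + t • σrs := by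
          rw [Matrix.mulVec_add, Matrix.mulVec_add, Matrix.mulVec_smul, Matrix.mulVec_smul, hfix]
      _ = (x' + s • ps + t • rs) + b₁ • (s • r - t • p) := by
          rw [e1', e2', ha₁0, hb₂0, ha₂]
          module
      _ = x + b₁ • (s • r - t • p) := by rw [← hx]
  · rintro ⟨c, rfl⟩
    exact sg_mem_FS p r h c

/-- the root subgroup consists of the Siegel elements -/
theorem mem_RS_iff (p r : V) (h : IsLine p r) (σ : G) : σ ∈ RS p r ↔ ∃ c : F, σ = sg p r h c := by
  constructor
  · intro hσ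
    unfold RS at hσ
    induction hσ using Subgroup.closure_induction with
    | mem x hx => exact (mem_FS_iff p r h x).1 hx
    | one => exact ⟨0, (sg_zero p r h).symm⟩
    | mul a b _ _ ha hb =>
      obtain ⟨c, rfl⟩ := ha
      obtain ⟨d, rfl⟩ := hb
      exact ⟨c + d, sg_add p r h c d⟩
    | inv a _ ha =>
      obtain ⟨c, rfl⟩ := ha
      exact ⟨-c, sg_inv p r h c⟩
  · rintro ⟨c, rfl⟩
    exact Subgroup.subset_closure (sg_mem_FS p r h c)

theorem sg_mem_RS (p r : V) (h : IsLine p r) (c : F) : sg p r h c ∈ RS p r :=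
  (mem_RS_iff p r h _).2 ⟨c, rfl⟩

/-- `sg c = 1` only for `c = 0` -/
theorem sg_eq_one_iff (p r : V) (h : IsLine p r) (c : F) : sg p r h c = 1 ↔ c = 0 := by
  constructor
  · intro hc
    obtain ⟨ps, rs, h1, h2, h3, h4⟩ := h.exists_dual
    have := sg_mulVec p r h c ps
    rw [hc, G_one_mulVec, h1, h2] at this
    have h5 : c • r = 0 := by
      have h6 : ps + 0 = ps + c • ((1 : F) • r - (0 : F) • p) := by rw [add_zero]; exact this
      have h7 := add_left_cancel h6
      rw [one_smul, zero_smul, sub_zero] at h7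
      exact h7.symm
    rcases smul_eq_zero.1 h5 with h8 | h8
    · exact h8
    · exact absurd h8 h.r_ne
  · rintro rfl
    exact sg_zero p r h

theorem RS_comm (p r : V) (h : IsLine p r) : IsMulCommutative (RS p r) := by
  refine ⟨⟨?_⟩⟩
  rintro ⟨x, hx⟩ ⟨y, hy⟩
  obtain ⟨c, rfl⟩ := (mem_RS_iff p r h x).1 hx
  obtain ⟨d, rfl⟩ := (mem_RS_iff p r h y).1 hy
  apply Subtype.ext
  show sg p r h c * sg p r h d = sg p r h d * sg p r h c
  rw [sg_add, sg_add, add_comm]

theorem RS_ne_bot (p r : V) (h : IsLine p r) : RS p r ≠ ⊥ := by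
  intro hbot
  have h1 : sg p r h 1 ∈ RS p r := sg_mem_RS p r h 1
  rw [hbot, Subgroup.mem_bot, sg_eq_one_iff] at h1
  exact one_ne_zero h1

end

end Cfsg.Agent.Lib.Helper11.SiegelRoot
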