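import Cfsg.Agent.Lib.Helper11.SiegelRootA
import Cfsg.Prelude.Def_RootSubgroups

set_option autoImplicit false
set_option linter.unusedSectionVars false
set_option linter.unusedVariables false
set_option quotPrecheck false

/-! Siegel transvection groups: pairs of lines of Gram rank `0` and `1`. -/

namespace Cfsg.Agent.Lib.Helper11.SiegelRoot

open Matrix Module QuadraticMap Cfsg.Agent.Lib.Helper19 Cfsg.Agent.Lib.Helper50

section
variable {F : Type*} [Field F] {N : ℕ}

local notation "V" => (Fin N ⊕ Fin N → F)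
local notation "Q" => QPlus N F
local notation "B" => QuadraticMap.polar (⇑(QPlus N F))
local notation "G" => ↥(Cfsg.isometryGroup F (⇑(QPlus N F)))

/-! ### change of basis of a line -/

theorem FS_combo (p r : V) (α β γ δ : F) (hdet : α * δ - β * γ ≠ 0) :
    FS (α • p + β • r) (γ • p + δ • r) = FS p r := by
  ext σ
  constructor
  · intro hσ v hvp hvr
    apply hσ v
    · rw [B_add_right, B_smul_right, B_smul_right, hvp, hvr]; ring
    · rw [B_add_right, B_smul_right, B_smul_right, hvp, hvr]; ring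
  · intro hσ v hv1 hv2
    rw [B_add_right, B_smul_right, B_smul_right] at hv1 hv2
    apply hσ v
    · have : (α * δ - β * γ) * B v p = 0 := by linear_combination δ * hv1 - β * hv2
      rcases mul_eq_zero.1 this with h | h
      · exact absurd h hdet
      · exact h
    · have : (α * δ - β * γ) * B v r = 0 := by linear_combination α * hv2 - γ * hv1
      rcases mul_eq_zero.1 this with h | h
      · exact absurd h hdet
      · exact h

theorem RS_combo (p r : V) (α β γ δ : F) (hdet : α * δ - β * γ ≠ 0) :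
    RS (α • p + β • r) (γ • p + δ • r) = RS p r := by
  unfold RS
  rw [FS_combo p r α β γ δ hdet]

theorem FS_swap (p r : V) : FS r p = FS p r := by
  ext σ
  constructor
  · intro hσ v hvp hvr
    exact hσ v hvr hvp
  · intro hσ v hvr hvp
    exact hσ v hvp hvr

theorem RS_swap (p r : V) : RS r p = RS p r := by
  unfold RS
  rw [FS_swap]

theorem IsLine.combo {p r : V} (h : IsLine p r) (α β γ δ : F) (hdet : α * δ - β * γ ≠ 0) :
    IsLine (α • p + β • r) (γ • p + δ • r) := by
  refine ⟨?_, h.Q_combo α β, h.Q_combo γ δ, ?_⟩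
  · rw [LinearIndependent.pair_iff]
    intro s t hst
    have h1 : (s * α + t * γ) • p + (s * β + t * δ) • r = 0 := by
      rw [← hst]; module
    obtain ⟨e1, e2⟩ := h.indep' _ _ h1
    constructor
    · have : (α * δ - β * γ) * s = 0 := by linear_combination δ * e1 - γ * e2
      rcases mul_eq_zero.1 this with h | h
      · exact absurd h hdet
      · exact h
    · have : (α * δ - β * γ) * t = 0 := by linear_combination α * e2 - β * e1
      rcases mul_eq_zero.1 this with h | h
      · exact absurd h hdet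
      · exact h
  · simp only [B_add_left, B_add_right, B_smul_left, B_smul_right, h.hpp, h.hrr, h.hpr, h.hrp]
    ring

/-! ### commuting -/

/-- elementwise commuting of two subgroups -/
def Comm (A A' : Subgroup G) : Prop := ∀ x ∈ A, ∀ y ∈ A', x * y = y * x

theorem sg_comm_of_perp (p r p' r' : V) (h : IsLine p r) (h' : IsLine p' r')
    (ha : B p p' = 0) (hb : B p r' = 0) (hc : B r p' = 0) (hd : B r r' = 0) (s t : F) :
    sg p r h s * sg p' r' h' t = sg p' r' h' t * sg p r h s := by
  apply G_ext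
  intro x
  have ha' : B p' p = 0 := by rw [B_comm]; exact ha
  have hb' : B r' p = 0 := by rw [B_comm]; exact hb
  have hc' : B p' r = 0 := by rw [B_comm]; exact hc
  have hd' : B r' r = 0 := by rw [B_comm]; exact hd
  rw [G_mul_mulVec, G_mul_mulVec, sg_mulVec, sg_mulVec, sg_mulVec, sg_mulVec]
  simp only [B_add_right, B_smul_right, B_sub_right, ha, hb, hc, hd, ha', hb', hc', hd',
    mul_zero, sub_zero, add_zero]
  module

theorem comm_of_perp (p r p' r' : V) (h : IsLine p r) (h' : IsLine p' r')
    (ha : B p p' = 0) (hb : B p r' = 0) (hc : B r p' = 0) (hd : B r r' = 0) :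
    Comm (RS p r) (RS p' r') := by
  intro x hx y hy
  obtain ⟨s, rfl⟩ := (mem_RS_iff p r h x).1 hx
  obtain ⟨t, rfl⟩ := (mem_RS_iff p' r' h' y).1 hy
  exact sg_comm_of_perp p r p' r' h h' ha hb hc hd s t

/-! ### Gram rank one, normalised -/

/-- normalised position of two lines of Gram rank one -/
structure Rk1 (p r p' r' : V) : Prop where
  l : IsLine p r
  l' : IsLine p' r'
  ha : B p p' = 0
  hb : B p r' = 0
  hc : B r p' = 0
  hd : B r r' = 1

/-- the basic commutation identity -/
theorem rk1_mulVec (p r p' r' : V) (hn : Rk1 p r p' r') (s t : F) (x : V) :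
    (((sg p r hn.l s * sg p' r' hn.l' t : G) : GL (Fin N ⊕ Fin N) F) :
      Matrix (Fin N ⊕ Fin N) (Fin N ⊕ Fin N) F) *ᵥ x =
    (((sg p' r' hn.l' t * sg p r hn.l s : G) : GL (Fin N ⊕ Fin N) F) :
      Matrix (Fin N ⊕ Fin N) (Fin N ⊕ Fin N) F) *ᵥ x + (s * t) • (B p x • p' - B p' x • p) := by
  have ha := hn.ha
  have hb := hn.hb
  have hc := hn.hc
  have hd := hn.hd
  have ha' : B p' p = 0 := by rw [B_comm]; exact ha
  have hb' : B r' p = 0 := by rw [B_comm]; exact hb
  have hc' : B p' r = 0 := by rw [B_comm]; exact hc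
  have hd' : B r' r = 1 := by rw [B_comm]; exact hd
  rw [G_mul_mulVec, G_mul_mulVec, sg_mulVec, sg_mulVec, sg_mulVec, sg_mulVec]
  simp only [B_add_right, B_smul_right, B_sub_right, ha, hb, hc, hd, ha', hb', hc', hd',
    mul_zero, sub_zero, add_zero, mul_one]
  module

theorem Rk1.line (p r p' r' : V) (hn : Rk1 p r p' r') (hind : LinearIndependent F ![p, p']) :
    IsLine p p' :=
  ⟨hind, hn.l.hp, hn.l'.hp, hn.ha⟩

/-- the commutator formula -/
theorem rk1_comm (p r p' r' : V) (hn : Rk1 p r p' r') (hind : LinearIndependent F ![p, p'])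
    (s t : F) :
    sg p r hn.l s * sg p' r' hn.l' t * (sg p r hn.l s)⁻¹ * (sg p' r' hn.l' t)⁻¹ =
      sg p p' (hn.line p r p' r' hind) (s * t) := by
  have key : sg p r hn.l s * sg p' r' hn.l' t =
      sg p p' (hn.line p r p' r' hind) (s * t) * (sg p' r' hn.l' t * sg p r hn.l s) := by
    apply G_ext
    intro x
    rw [rk1_mulVec p r p' r' hn s t x, G_mul_mulVec (sg p p' _ _), sg_mulVec p p']
    have ha := hn.ha
    have hb := hn.hb
    have hc := hn.hc
    have ha' : B p' p = 0 := by rw [B_comm]; exact ha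
    have hc' : B p' r = 0 := by rw [B_comm]; exact hc
    rw [G_mul_mulVec, sg_mulVec, sg_mulVec]
    simp only [B_add_right, B_smul_right, B_sub_right, ha, hb, ha', hc', hn.l.hpp, hn.l.hpr,
      hn.l'.hpp, hn.l'.hpr, mul_zero, sub_zero, add_zero]
  rw [key]
  group

theorem rk1_comm_dep (p r p' r' : V) (hn : Rk1 p r p' r') (lam : F) (hlam : p' = lam • p)
    (s t : F) :
    sg p r hn.l s * sg p' r' hn.l' t = sg p' r' hn.l' t * sg p r hn.l s := by
  apply G_ext
  intro x
  rw [rk1_mulVec p r p' r' hn s t x]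
  have : B p x • p' - B p' x • p = 0 := by
    rw [hlam, B_smul_left]
    module
  rw [this, smul_zero, add_zero]

/-- the family of root subgroups -/
def SS0 : Set (Subgroup G) := {A | ∃ p r : V, IsLine p r ∧ A = RS p r}

theorem RS_mem_SS0 (p r : V) (h : IsLine p r) : RS p r ∈ SS0 (F := F) (N := N) := ⟨p, r, h, rfl⟩

theorem rk1_commutator_eq (p r p' r' : V) (hn : Rk1 p r p' r')
    (hind : LinearIndependent F ![p, p']) :
    ⁅RS p r, RS p' r'⁆ = RS p p' := by
  apply le_antisymm
  · rw [Subgroup.commutator_le]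
    intro x hx y hy
    obtain ⟨s, rfl⟩ := (mem_RS_iff p r hn.l x).1 hx
    obtain ⟨t, rfl⟩ := (mem_RS_iff p' r' hn.l' y).1 hy
    rw [commutatorElement_def, rk1_comm p r p' r' hn hind]
    exact sg_mem_RS _ _ _ _
  · intro z hz
    obtain ⟨u, rfl⟩ := (mem_RS_iff p p' (hn.line p r p' r' hind) z).1 hz
    have := rk1_comm p r p' r' hn hind 1 u
    rw [one_mul] at this
    rw [← this, ← commutatorElement_def]
    exact Subgroup.commutator_mem_commutator (sg_mem_RS _ _ _ _) (sg_mem_RS _ _ _ _)

theorem rk1_case (p r p' r' : V) (hn : Rk1 p r p' r') :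
    Comm (RS p r) (RS p' r') ∨ Cfsg.RootCommutatorCase (SS0 (F := F) (N := N)) (RS p r) (RS p' r') := by
  by_cases hind : LinearIndependent F ![p, p']
  · right
    have hl := hn.line p r p' r' hind
    have hcomm := rk1_commutator_eq p r p' r' hn hind
    refine ⟨?_, ?_, ?_, ?_⟩
    · rw [hcomm]
      exact RS_mem_SS0 p p' hl
    · intro c hc x hx
      rw [hcomm] at hc
      have hcA : ∀ y ∈ RS p r, c * y = y * c := by
        intro y hy
        exact comm_of_perp p p' p r hl hn.l hn.l.hpp hn.l.hpr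
          (by rw [B_comm]; exact hn.ha) (by rw [B_comm]; exact hn.hc) c hc y hy
      have hcA' : ∀ y ∈ RS p' r', c * y = y * c := by
        intro y hy
        exact comm_of_perp p p' p' r' hl hn.l' hn.ha hn.hb hn.l'.hpp hn.l'.hpr c hc y hy
      have hle : RS p r ⊔ RS p' r' ≤ Subgroup.centralizer {c} := by
        apply sup_le
        · intro y hy
          rw [Subgroup.mem_centralizer_iff]
          intro z hz
          rw [Set.mem_singleton_iff] at hz
          rw [hz]
          exact hcA y hy
        · intro y hy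
          rw [Subgroup.mem_centralizer_iff]
          intro z hz
          rw [Set.mem_singleton_iff] at hz
          rw [hz]
          exact hcA' y hy
      have := hle hx
      rw [Subgroup.mem_centralizer_iff] at this
      exact this c rfl
    · intro a ha ha1
      rw [hcomm]
      obtain ⟨s, rfl⟩ := (mem_RS_iff p r hn.l a).1 ha
      have hs : s ≠ 0 := by
        intro h0
        exact ha1 ((sg_eq_one_iff p r hn.l s).2 h0)
      have hset : ((fun b : G => sg p r hn.l s * b * (sg p r hn.l s)⁻¹ * b⁻¹) ''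
          (RS p' r' : Set G)) = (RS p p' : Set G) := by
        ext z
        constructor
        · rintro ⟨b, hb, rfl⟩
          obtain ⟨t, rfl⟩ := (mem_RS_iff p' r' hn.l' b).1 hb
          show sg p r hn.l s * sg p' r' hn.l' t * (sg p r hn.l s)⁻¹ * (sg p' r' hn.l' t)⁻¹ ∈
            RS p p'
          rw [rk1_comm p r p' r' hn hind]
          exact sg_mem_RS _ _ _ _
        · intro hz
          obtain ⟨u, rfl⟩ := (mem_RS_iff p p' hl z).1 hz
          refine ⟨sg p' r' hn.l' (u / s), sg_mem_RS _ _ _ _, ?_⟩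
          show sg p r hn.l s * sg p' r' hn.l' (u / s) * (sg p r hn.l s)⁻¹ *
            (sg p' r' hn.l' (u / s))⁻¹ = _
          rw [rk1_comm p r p' r' hn hind, mul_div_cancel₀ u hs]
      rw [hset, Subgroup.closure_eq]
    · intro b hb hb1
      rw [hcomm]
      obtain ⟨t, rfl⟩ := (mem_RS_iff p' r' hn.l' b).1 hb
      have ht : t ≠ 0 := by
        intro h0
        exact hb1 ((sg_eq_one_iff p' r' hn.l' t).2 h0)
      have hset : ((fun a : G => a * sg p' r' hn.l' t * a⁻¹ * (sg p' r' hn.l' t)⁻¹) ''
          (RS p r : Set G)) = (RS p p' : Set G) := by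
        ext z
        constructor
        · rintro ⟨a, ha, rfl⟩
          obtain ⟨s, rfl⟩ := (mem_RS_iff p r hn.l a).1 ha
          show sg p r hn.l s * sg p' r' hn.l' t * (sg p r hn.l s)⁻¹ * (sg p' r' hn.l' t)⁻¹ ∈
            RS p p'
          rw [rk1_comm p r p' r' hn hind]
          exact sg_mem_RS _ _ _ _
        · intro hz
          obtain ⟨u, rfl⟩ := (mem_RS_iff p p' hl z).1 hz
          refine ⟨sg p r hn.l (u / t), sg_mem_RS _ _ _ _, ?_⟩
          show sg p r hn.l (u / t) * sg p' r' hn.l' t * (sg p r hn.l (u / t))⁻¹ *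
            (sg p' r' hn.l' t)⁻¹ = _
          rw [rk1_comm p r p' r' hn hind, div_mul_cancel₀ u ht]
      rw [hset, Subgroup.closure_eq]
  · left
    have hp0 : p ≠ 0 := hn.l.p_ne
    rw [LinearIndependent.pair_iff' hp0] at hind
    push Not at hind
    obtain ⟨lam, hlam⟩ := hind
    intro x hx y hy
    obtain ⟨s, rfl⟩ := (mem_RS_iff p r hn.l x).1 hx
    obtain ⟨t, rfl⟩ := (mem_RS_iff p' r' hn.l' y).1 hy
    exact rk1_comm_dep p r p' r' hn lam hlam.symm s t

/-- Gram rank one with `B r r' ≠ 0` -/
theorem rk1_of_d (p r p' r' : V) (h : IsLine p r) (h' : IsLine p' r')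
    (hdet : B p p' * B r r' - B p r' * B r p' = 0) (hd : B r r' ≠ 0) :
    Comm (RS p r) (RS p' r') ∨
      Cfsg.RootCommutatorCase (SS0 (F := F) (N := N)) (RS p r) (RS p' r') := by
  obtain ⟨a, ha⟩ : ∃ a : F, a = B p p' := ⟨_, rfl⟩
  obtain ⟨b, hb⟩ : ∃ b : F, b = B p r' := ⟨_, rfl⟩
  obtain ⟨c, hc⟩ : ∃ c : F, c = B r p' := ⟨_, rfl⟩
  obtain ⟨d, hd'⟩ : ∃ d : F, d = B r r' := ⟨_, rfl⟩
  rw [← ha, ← hb, ← hc, ← hd'] at hdet
  rw [← hd'] at hd
  -- new bases
  have e1 : RS ((1 : F) • p + (-(b / d)) • r) ((0 : F) • p + (1 : F) • r) = RS p r :=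
    RS_combo p r 1 (-(b / d)) 0 1 (by simp)
  have e2 : RS ((1 : F) • p' + (-(c / d)) • r') ((0 : F) • p' + (1 / d) • r') = RS p' r' :=
    RS_combo p' r' 1 (-(c / d)) 0 (1 / d) (by simp [hd])
  have l1 := h.combo 1 (-(b / d)) 0 1 (by simp)
  have l2 := h'.combo 1 (-(c / d)) 0 (1 / d) (by simp [hd])
  have hn : Rk1 ((1 : F) • p + (-(b / d)) • r) ((0 : F) • p + (1 : F) • r)
      ((1 : F) • p' + (-(c / d)) • r') ((0 : F) • p' + (1 / d) • r') := by
    refine ⟨l1, l2, ?_, ?_, ?_, ?_⟩
    · simp only [B_add_left, B_add_right, B_smul_left, B_smul_right, ← ha, ← hb, ← hc, ← hd']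
      field_simp
      linear_combination hdet
    · simp only [B_add_left, B_add_right, B_smul_left, B_smul_right, ← ha, ← hb, ← hc, ← hd']
      field_simp
      ring
    · simp only [B_add_left, B_add_right, B_smul_left, B_smul_right, ← ha, ← hb, ← hc, ← hd']
      field_simp
      ring
    · simp only [B_add_left, B_add_right, B_smul_left, B_smul_right, ← ha, ← hb, ← hc, ← hd']
      field_simp
      ring
  have := rk1_case _ _ _ _ hn
  rw [e1, e2] at this
  exact this

/-- Gram rank at most one: commuting or commutator case -/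
theorem rk_le_one_case (p r p' r' : V) (h : IsLine p r) (h' : IsLine p' r')
    (hdet : B p p' * B r r' - B p r' * B r p' = 0) :
    Comm (RS p r) (RS p' r') ∨
      Cfsg.RootCommutatorCase (SS0 (F := F) (N := N)) (RS p r) (RS p' r') := by
  by_cases hd : B r r' ≠ 0
  · exact rk1_of_d p r p' r' h h' hdet hd
  by_cases hc : B r p' ≠ 0
  · have := rk1_of_d p r r' p' h h'.swap (by linear_combination -hdet) hc
    rwa [RS_swap p' r'] at this
  by_cases hb : B p r' ≠ 0
  · have := rk1_of_d r p p' r' h.swap h' (by linear_combination -hdet) hb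
    rwa [RS_swap p r] at this
  by_cases ha : B p p' ≠ 0
  · have := rk1_of_d r p r' p' h.swap h'.swap (by linear_combination hdet) ha
    rwa [RS_swap p r, RS_swap p' r'] at this
  push Not at ha hb hc hd
  left
  exact comm_of_perp p r p' r' h h' ha hb hc hd

end

end Cfsg.Agent.Lib.Helper11.SiegelRoot
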