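import Cfsg.Agent.Lib.Helper11.SiegelRootB
import Cfsg.Agent.S5016

set_option autoImplicit false
set_option linter.unusedSectionVars false
set_option linter.unusedVariables false
set_option quotPrecheck false

/-! Siegel transvection groups: opposite lines give rank one groups, images of `SL₂(F)`. -/

namespace Cfsg.Agent.Lib.Helper11.SiegelRoot

open Matrix Module QuadraticMap Cfsg.Agent.Lib.Helper19 Cfsg.Agent.Lib.Helper50

/-- transport of a rank one pair along an injective homomorphism -/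
theorem rankOnePair_map {X Y : Type*} [Group X] [Group Y] (φ : X →* Y)
    (hφ : Function.Injective φ) (A A' : Subgroup X) (h : Cfsg.IsRankOnePair A A')
    (hA : Group.IsNilpotent ↥(A.map φ)) (hA' : Group.IsNilpotent ↥(A'.map φ)) :
    Cfsg.IsRankOnePair (A.map φ) (A'.map φ) := by
  have hconj : ∀ (C : Subgroup X) (g : X),
      Cfsg.conjBy (C.map φ) (φ g) = (Cfsg.conjBy C g).map φ := by
    intro C g
    unfold Cfsg.conjBy
    rw [Subgroup.map_map, Subgroup.map_map]
    congr 1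
    ext x
    simp
  have hcond : ∀ C C' : Subgroup X, Cfsg.RankOneCondition C C' →
      Cfsg.RankOneCondition (C.map φ) (C'.map φ) := by
    intro C C' hc a' ha' ha'1
    obtain ⟨a, ha, rfl⟩ := ha'
    have ha1 : a ≠ 1 := by
      rintro rfl
      exact ha'1 (map_one φ)
    obtain ⟨b, hb, hb1, hbc⟩ := hc a ha ha1
    refine ⟨φ b, ⟨b, hb, rfl⟩, ?_, ?_⟩
    · intro h1
      apply hb1
      apply hφ
      rw [h1, map_one]
    · rw [← map_inv, ← map_inv, hconj, hconj, hbc]
  refine ⟨?_, hA, hA', hcond A A' h.cond_left, hcond A' A h.cond_right⟩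
  intro heq
  exact h.ne (Subgroup.map_injective hφ heq)

section
variable {F : Type*} [Field F] {N : ℕ}

local notation "V" => (Fin N ⊕ Fin N → F)
local notation "Q" => QPlus N F
local notation "B" => QuadraticMap.polar (⇑(QPlus N F))
local notation "G" => ↥(Cfsg.isometryGroup F (⇑(QPlus N F)))

/-- two opposite lines in normalised position -/
structure Hyp (p r ph rh : V) : Prop where
  l : IsLine p r
  l' : IsLine ph rh
  h1 : B p ph = 1
  h2 : B r ph = 0
  h3 : B p rh = 0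
  h4 : B r rh = 1

/-- the action of a `2 × 2` matrix -/
def LL (p r ph rh : V) (α β γ δ : F) (x : V) : V :=
  x + B ph x • ((α - 1) • p + γ • rh) + B r x • (β • p + (δ - 1) • rh)
    + B rh x • ((α - 1) • r - γ • ph) - B p x • (β • r - (δ - 1) • ph)

theorem LL_one (p r ph rh : V) (x : V) : LL p r ph rh 1 0 0 1 x = x := by
  unfold LL
  simp

theorem LL_c1 (p r ph rh : V) (h : Hyp p r ph rh) (α β γ δ : F) (x : V) :
    B ph (LL p r ph rh α β γ δ x) = α * B ph x + β * B r x := by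
  have e1 : B ph p = 1 := by rw [B_comm]; exact h.h1
  have e2 : B ph r = 0 := by rw [B_comm]; exact h.h2
  unfold LL
  simp only [B_add_right, B_sub_right, B_smul_right, e1, e2, h.l'.hpp, h.l'.hpr]
  ring

theorem LL_c2 (p r ph rh : V) (h : Hyp p r ph rh) (α β γ δ : F) (x : V) :
    B r (LL p r ph rh α β γ δ x) = γ * B ph x + δ * B r x := by
  unfold LL
  simp only [B_add_right, B_sub_right, B_smul_right, h.l.hrp, h.l.hrr, h.h2, h.h4]
  ring

theorem LL_c3 (p r ph rh : V) (h : Hyp p r ph rh) (α β γ δ : F) (x : V) :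
    B rh (LL p r ph rh α β γ δ x) = α * B rh x - β * B p x := by
  have e3 : B rh p = 0 := by rw [B_comm]; exact h.h3
  have e4 : B rh r = 1 := by rw [B_comm]; exact h.h4
  unfold LL
  simp only [B_add_right, B_sub_right, B_smul_right, e3, e4, h.l'.hrp, h.l'.hrr]
  ring

theorem LL_c4 (p r ph rh : V) (h : Hyp p r ph rh) (α β γ δ : F) (x : V) :
    B p (LL p r ph rh α β γ δ x) = δ * B p x - γ * B rh x := by
  unfold LL
  simp only [B_add_right, B_sub_right, B_smul_right, h.l.hpp, h.l.hpr, h.h1, h.h3]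
  ring

theorem LL_comp (p r ph rh : V) (h : Hyp p r ph rh) (α β γ δ α' β' γ' δ' : F) (x : V) :
    LL p r ph rh α β γ δ (LL p r ph rh α' β' γ' δ' x) =
      LL p r ph rh (α * α' + β * γ') (α * β' + β * δ') (γ * α' + δ * γ') (γ * β' + δ * δ') x := by
  have c1 := LL_c1 p r ph rh h α' β' γ' δ' x
  have c2 := LL_c2 p r ph rh h α' β' γ' δ' x
  have c3 := LL_c3 p r ph rh h α' β' γ' δ' x
  have c4 := LL_c4 p r ph rh h α' β' γ' δ' x
  rw [LL, c1, c2, c3, c4]
  unfold LL
  module

/-- the quadratic form on the hyperbolic 4-space spanned by two opposite lines -/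
theorem Hyp.Q_combo (p r ph rh : V) (h : Hyp p r ph rh) (a₁ a₂ a₃ a₄ : F) :
    Q ((a₁ • p + a₃ • r) + (a₄ • ph + a₂ • rh)) = a₁ * a₄ + a₂ * a₃ := by
  rw [Q_add, h.l.Q_combo, h.l'.Q_combo]
  simp only [B_add_left, B_add_right, B_smul_left, B_smul_right, h.h1, h.h2, h.h3, h.h4]
  ring

theorem LL_isometry (p r ph rh : V) (h : Hyp p r ph rh) (α β γ δ : F)
    (hdet : α * δ - β * γ = 1) (x : V) : Q (LL p r ph rh α β γ δ x) = Q x := by
  have e : LL p r ph rh α β γ δ x = x +
      ((((α - 1) * B ph x + β * B r x) • p + ((α - 1) * B rh x - β * B p x) • r) +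
        ((-γ * B rh x + (δ - 1) * B p x) • ph + (γ * B ph x + (δ - 1) * B r x) • rh)) := by
    unfold LL
    module
  rw [e, Q_add, Hyp.Q_combo p r ph rh h]
  simp only [B_add_right, B_smul_right, B_comm x p, B_comm x r, B_comm x ph, B_comm x rh]
  linear_combination (B ph x * B p x + B r x * B rh x) * hdet

/-- the matrix of `LL` -/
def NM (p r ph rh : V) (α β γ δ : F) : Matrix (Fin N ⊕ Fin N) (Fin N ⊕ Fin N) F :=
  1 + Matrix.vecMulVec ((α - 1) • p + γ • rh) (Cfsg.polarVec (⇑Q) ph)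
    + Matrix.vecMulVec (β • p + (δ - 1) • rh) (Cfsg.polarVec (⇑Q) r)
    + Matrix.vecMulVec ((α - 1) • r - γ • ph) (Cfsg.polarVec (⇑Q) rh)
    - Matrix.vecMulVec (β • r - (δ - 1) • ph) (Cfsg.polarVec (⇑Q) p)

theorem NM_mulVec (p r ph rh : V) (α β γ δ : F) (x : V) :
    NM p r ph rh α β γ δ *ᵥ x = LL p r ph rh α β γ δ x := by
  unfold NM LL
  rw [Matrix.sub_mulVec, Matrix.add_mulVec, Matrix.add_mulVec, Matrix.add_mulVec,
    Matrix.one_mulVec, vecMulVec_mulVec_comm, vecMulVec_mulVec_comm, vecMulVec_mulVec_comm,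
    vecMulVec_mulVec_comm, polarVec_dotProduct, polarVec_dotProduct, polarVec_dotProduct,
    polarVec_dotProduct]

theorem mat_ext' (A A' : Matrix (Fin N ⊕ Fin N) (Fin N ⊕ Fin N) F)
    (h : ∀ x : V, A *ᵥ x = A' *ᵥ x) : A = A' := by
  apply Matrix.mulVec_injective
  funext x
  exact h x

local notation "SL2" => Matrix.SpecialLinearGroup (Fin 2) F

/-- the matrix attached to an element of `SL₂(F)` -/
def phi0 (p r ph rh : V) (M : SL2) : Matrix (Fin N ⊕ Fin N) (Fin N ⊕ Fin N) F :=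
  NM p r ph rh (M 0 0) (M 0 1) (M 1 0) (M 1 1)

theorem phi0_mulVec (p r ph rh : V) (M : SL2) (x : V) :
    phi0 p r ph rh M *ᵥ x = LL p r ph rh (M 0 0) (M 0 1) (M 1 0) (M 1 1) x :=
  NM_mulVec p r ph rh _ _ _ _ x

theorem phi0_one (p r ph rh : V) : phi0 p r ph rh (1 : SL2) = 1 := by
  apply mat_ext'
  intro x
  rw [phi0_mulVec, Matrix.one_mulVec, Cfsg.Agent.S5016.one_apply_00, Cfsg.Agent.S5016.one_apply_01,
    Cfsg.Agent.S5016.one_apply_10, Cfsg.Agent.S5016.one_apply_11, LL_one]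

theorem phi0_mul (p r ph rh : V) (h : Hyp p r ph rh) (M M' : SL2) :
    phi0 p r ph rh (M * M') = phi0 p r ph rh M * phi0 p r ph rh M' := by
  apply mat_ext'
  intro x
  rw [← Matrix.mulVec_mulVec, phi0_mulVec, phi0_mulVec, phi0_mulVec, LL_comp p r ph rh h,
    Cfsg.Agent.S5016.mul_apply', Cfsg.Agent.S5016.mul_apply', Cfsg.Agent.S5016.mul_apply',
    Cfsg.Agent.S5016.mul_apply']

theorem phi0_isometry (p r ph rh : V) (h : Hyp p r ph rh) (M : SL2) (x : V) :
    Q (phi0 p r ph rh M *ᵥ x) = Q x := by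
  rw [phi0_mulVec]
  exact LL_isometry p r ph rh h _ _ _ _ (Cfsg.Agent.S5016.sl2_det M) x

/-- the homomorphism from `SL₂(F)` -/
noncomputable def phi (p r ph rh : V) (h : Hyp p r ph rh) : SL2 →* G where
  toFun M := ⟨⟨phi0 p r ph rh M, phi0 p r ph rh M⁻¹,
      by rw [← phi0_mul p r ph rh h, mul_inv_cancel, phi0_one],
      by rw [← phi0_mul p r ph rh h, inv_mul_cancel, phi0_one]⟩,
    (mem_isometryGroup_iff (⇑Q) _).mpr (fun x => phi0_isometry p r ph rh h M x)⟩
  map_one' := by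
    apply Subtype.ext
    apply Units.ext
    exact phi0_one p r ph rh
  map_mul' := by
    intro M M'
    apply Subtype.ext
    apply Units.ext
    exact phi0_mul p r ph rh h M M'

theorem phi_mulVec (p r ph rh : V) (h : Hyp p r ph rh) (M : SL2) (x : V) :
    (((phi p r ph rh h M : G) : GL (Fin N ⊕ Fin N) F) :
      Matrix (Fin N ⊕ Fin N) (Fin N ⊕ Fin N) F) *ᵥ x =
      LL p r ph rh (M 0 0) (M 0 1) (M 1 0) (M 1 1) x :=
  phi0_mulVec p r ph rh M x

theorem phi_upper (p r ph rh : V) (h : Hyp p r ph rh) (M : SL2)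
    (h10 : M 1 0 = 0) (h00 : M 0 0 = 1) (h11 : M 1 1 = 1) :
    phi p r ph rh h M = sg p r h.l (-(M 0 1)) := by
  apply G_ext
  intro x
  rw [phi_mulVec, sg_mulVec, h10, h00, h11]
  unfold LL
  module

theorem phi_lower (p r ph rh : V) (h : Hyp p r ph rh) (M : SL2)
    (h01 : M 0 1 = 0) (h00 : M 0 0 = 1) (h11 : M 1 1 = 1) :
    phi p r ph rh h M = sg ph rh h.l' (M 1 0) := by
  apply G_ext
  intro x
  rw [phi_mulVec, sg_mulVec, h01, h00, h11]
  unfold LL
  module

theorem phi_injective (p r ph rh : V) (h : Hyp p r ph rh) :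
    Function.Injective (phi p r ph rh h) := by
  rw [injective_iff_map_eq_one]
  intro M hM
  have k1 := phi_mulVec p r ph rh h M p
  have k2 := phi_mulVec p r ph rh h M rh
  rw [hM, G_one_mulVec] at k1 k2
  unfold LL at k1 k2
  have e1 : B ph p = 1 := by rw [B_comm]; exact h.h1
  have e3 : B rh p = 0 := by rw [B_comm]; exact h.h3
  have e4 : B r rh = 1 := h.h4
  rw [e1, h.l.hrp, e3, h.l.hpp] at k1
  rw [h.l'.hpr, e4, h.l'.hrr, h.h3] at k2
  -- apply functionals
  have a1 := congrArg (fun z => B ph z) k1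
  have c1 := congrArg (fun z => B r z) k1
  have b1 := congrArg (fun z => B ph z) k2
  have d1 := congrArg (fun z => B r z) k2
  simp only [B_add_right, B_sub_right, B_smul_right, e1, h.l'.hpp, h.l'.hpr, h.l.hrp, h.l.hrr,
    h.h4, h.h2, h.h3, h.h1, B_comm ph r] at a1 c1 b1 d1
  apply Cfsg.Agent.S5016.sl2_ext
  · rw [Cfsg.Agent.S5016.one_apply_00]; linear_combination -a1
  · rw [Cfsg.Agent.S5016.one_apply_01]; linear_combination -b1
  · rw [Cfsg.Agent.S5016.one_apply_10]; linear_combination -c1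
  · rw [Cfsg.Agent.S5016.one_apply_11]; linear_combination -d1

theorem phi_map_upper (p r ph rh : V) (h : Hyp p r ph rh) :
    (Cfsg.upperUnipotentSL2 F).map (phi p r ph rh h) = RS p r := by
  rw [Cfsg.Agent.S5016.upper_eq]
  ext g
  constructor
  · rintro ⟨M, ⟨h10, h00, h11⟩, rfl⟩
    rw [phi_upper p r ph rh h M h10 h00 h11]
    exact sg_mem_RS _ _ _ _
  · intro hg
    obtain ⟨c, rfl⟩ := (mem_RS_iff p r h.l g).1 hg
    refine ⟨Cfsg.Agent.S5016.Uel (-c), Cfsg.Agent.S5016.Uel_mem _, ?_⟩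
    rw [phi_upper p r ph rh h _ rfl rfl rfl, Cfsg.Agent.S5016.Uel_01, neg_neg]

theorem phi_map_lower (p r ph rh : V) (h : Hyp p r ph rh) :
    (Cfsg.lowerUnipotentSL2 F).map (phi p r ph rh h) = RS ph rh := by
  rw [Cfsg.Agent.S5016.lower_eq]
  ext g
  constructor
  · rintro ⟨M, ⟨h01, h00, h11⟩, rfl⟩
    rw [phi_lower p r ph rh h M h01 h00 h11]
    exact sg_mem_RS _ _ _ _
  · intro hg
    obtain ⟨c, rfl⟩ := (mem_RS_iff ph rh h.l' g).1 hg
    refine ⟨Cfsg.Agent.S5016.Lel c, Cfsg.Agent.S5016.Lel_mem _, ?_⟩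
    rw [phi_lower p r ph rh h _ rfl rfl rfl, Cfsg.Agent.S5016.Lel_10]

theorem phi_range (p r ph rh : V) (h : Hyp p r ph rh) :
    (phi p r ph rh h).range = RS p r ⊔ RS ph rh := by
  rw [← phi_map_upper p r ph rh h, ← phi_map_lower p r ph rh h, ← Subgroup.map_sup,
    Cfsg.Agent.S5016.upper_eq, Cfsg.Agent.S5016.lower_eq, sup_comm, Cfsg.Agent.S5016.sl2_gen,
    MonoidHom.range_eq_map]

theorem hyp_psl2 (p r ph rh : V) (h : Hyp p r ph rh) :
    Cfsg.IsPSL2PairOver F (RS p r) (RS ph rh) := by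
  refine ⟨phi p r ph rh h, phi_range p r ph rh h, ?_, phi_map_upper p r ph rh h,
    phi_map_lower p r ph rh h⟩
  rw [(MonoidHom.ker_eq_bot_iff _).2 (phi_injective p r ph rh h)]
  exact bot_le

theorem hyp_rankOne (p r ph rh : V) (h : Hyp p r ph rh) :
    Cfsg.IsRankOnePair (RS p r) (RS ph rh) := by
  have hpair : Cfsg.IsRankOnePair (Cfsg.upperUnipotentSL2 F) (Cfsg.lowerUnipotentSL2 F) :=
    Cfsg.RankOnePair_symm (Cfsg.Agent.S5016.result F).1.2
  have := rankOnePair_map (phi p r ph rh h) (phi_injective p r ph rh h) _ _ hpair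
    (by
      rw [phi_map_upper]
      exact Cfsg.Agent.S5016.isNilpotent_of_comm
        (by
          have := RS_comm p r h.l
          exact this))
    (by
      rw [phi_map_lower]
      exact Cfsg.Agent.S5016.isNilpotent_of_comm
        (by
          have := RS_comm ph rh h.l'
          exact this))
  rwa [phi_map_upper, phi_map_lower] at this

/-- two lines with invertible Gram matrix: a rank one pair, image of `SL₂(F)` -/
theorem rk2_case (p r p' r' : V) (h : IsLine p r) (h' : IsLine p' r')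
    (hdet : B p p' * B r r' - B p r' * B r p' ≠ 0) :
    Cfsg.IsRankOnePair (RS p r) (RS p' r') ∧ Cfsg.IsPSL2PairOver F (RS p r) (RS p' r') := by
  obtain ⟨a, ha⟩ : ∃ a : F, a = B p p' := ⟨_, rfl⟩
  obtain ⟨b, hb⟩ : ∃ b : F, b = B p r' := ⟨_, rfl⟩
  obtain ⟨c, hc⟩ : ∃ c : F, c = B r p' := ⟨_, rfl⟩
  obtain ⟨d, hd⟩ : ∃ d : F, d = B r r' := ⟨_, rfl⟩
  rw [← ha, ← hb, ← hc, ← hd] at hdet
  set D := a * d - b * c with hD
  have hdet2 : (d / D) * (a / D) - (-c / D) * (-b / D) ≠ 0 := by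
    have : (d / D) * (a / D) - (-c / D) * (-b / D) = 1 / D := by
      field_simp
      rw [hD]; ring
    rw [this]
    exact one_div_ne_zero hdet
  have e2 : RS ((d / D) • p' + (-c / D) • r') ((-b / D) • p' + (a / D) • r') = RS p' r' :=
    RS_combo p' r' _ _ _ _ hdet2
  have l2 := h'.combo (d / D) (-c / D) (-b / D) (a / D) hdet2
  have hh : Hyp p r ((d / D) • p' + (-c / D) • r') ((-b / D) • p' + (a / D) • r') := by
    refine ⟨h, l2, ?_, ?_, ?_, ?_⟩
    · simp only [B_add_right, B_smul_right, ← ha, ← hb]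
      field_simp
      rw [hD]; ring
    · simp only [B_add_right, B_smul_right, ← hc, ← hd]
      field_simp
      ring
    · simp only [B_add_right, B_smul_right, ← ha, ← hb]
      field_simp
      ring
    · simp only [B_add_right, B_smul_right, ← hc, ← hd]
      field_simp
      rw [hD]; ring
  have r1 := hyp_rankOne _ _ _ _ hh
  have r2 := hyp_psl2 _ _ _ _ hh
  rw [e2] at r1 r2
  exact ⟨r1, r2⟩

end

end Cfsg.Agent.Lib.Helper11.SiegelRoot
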