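import Cfsg.Agent.Lib.Helper19.Unitary
import Cfsg.Prelude.Def_RootSubgroups

/-!
Unitary transvections as elements of `Cfsg.SU N F q` (`|F| = q ^ 2`): the element `ut q N p a`
(`x ↦ x + a h(x,p) p` for `p` isotropic and `a + a ^ q = 0`), its action, products, inverses, conjugates,
rescaling of the centre, and the transvection subgroup `TU q N p` (defined as in statement S5071).
-/

set_option autoImplicit false
open Matrix

namespace Cfsg.Agent.Lib.Helper11.UnitaryTv

open Cfsg.Agent.Lib.Helper19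

section
variable {F : Type*} [Field F] [Fintype F] (q N : ℕ)

local notation "V" => (Fin N → F)
local notation "hh" => Cfsg.hermForm N F q
local notation "G" => (Cfsg.SU N F q)

omit [Fintype F] in
theorem hf_zero_left (y : V) : hh 0 y = 0 := by simp [Cfsg.hermForm]

theorem hf_zero_right (hF : Fintype.card F = q ^ 2) (x : V) : hh x 0 = 0 := by
  have hq : q ≠ 0 := (q_pos hF).ne'
  simp [Cfsg.hermForm, hq]

omit [Fintype F] in
theorem hf_neg_left (x y : V) : hh (-x) y = - hh x y := by simp [Cfsg.hermForm]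

omit [Fintype F] in
theorem hf_sub_left (x x' y : V) : hh (x - x') y = hh x y - hh x' y := by
  rw [sub_eq_add_neg, hermForm_add_left, hf_neg_left, sub_eq_add_neg]

omit [Fintype F] in
theorem val_mul (g g' : G) : (g * g').1.1 = g.1.1 * g'.1.1 := rfl

omit [Fintype F] in
theorem val_one : (1 : G).1.1 = 1 := rfl

omit [Fintype F] in
theorem inv_mulVec_mulVec (g : G) (v : V) : (g⁻¹).1.1 *ᵥ (g.1.1 *ᵥ v) = v := by
  rw [Matrix.mulVec_mulVec, ← val_mul, inv_mul_cancel, val_one, Matrix.one_mulVec]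

omit [Fintype F] in
theorem mulVec_inv_mulVec (g : G) (v : V) : g.1.1 *ᵥ ((g⁻¹).1.1 *ᵥ v) = v := by
  rw [Matrix.mulVec_mulVec, ← val_mul, mul_inv_cancel, val_one, Matrix.one_mulVec]

omit [Fintype F] in
theorem hf_act (g : G) (x y : V) : hh (g.1.1 *ᵥ x) (g.1.1 *ᵥ y) = hh x y := g.2 x y

omit [Fintype F] in
theorem hf_act_inv (g : G) (x y : V) : hh ((g⁻¹).1.1 *ᵥ x) y = hh x (g.1.1 *ᵥ y) := by
  rw [← hf_act q N g, mulVec_inv_mulVec]

omit [Fintype F] in
theorem mat_ext (A B : Matrix (Fin N) (Fin N) F) (h : ∀ v : V, A *ᵥ v = B *ᵥ v) : A = B := by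
  classical
  ext i j
  have := congrFun (h (Pi.single j 1)) i
  simpa using this

omit [Fintype F] in
theorem su_ext (g g' : G) (h : ∀ v : V, g.1.1 *ᵥ v = g'.1.1 *ᵥ v) : g = g' :=
  Subtype.ext (Subtype.ext (mat_ext N _ _ h))

omit [Fintype F] in
theorem mulVec_ne_zero (g : G) (p : V) (hp : p ≠ 0) : g.1.1 *ᵥ p ≠ 0 := by
  intro h
  apply hp
  have := inv_mulVec_mulVec q N g p
  rw [h, Matrix.mulVec_zero] at this
  exact this.symm

omit [Fintype F] in
theorem exists_hf_ne (p : V) (hp : p ≠ 0) : ∃ y : V, hh y p ≠ 0 := by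
  classical
  obtain ⟨i, hi⟩ := Function.ne_iff.mp hp
  refine ⟨Pi.single i 1, ?_⟩
  have : hh (Pi.single i 1) p = p i ^ q := by
    simp [Cfsg.hermForm, Pi.single_apply]
  rw [this]
  exact pow_ne_zero _ hi

omit [Fintype F] in
theorem exists_hf_one (p : V) (hp : p ≠ 0) : ∃ w : V, hh w p = 1 := by
  obtain ⟨y, hy⟩ := exists_hf_ne q N p hp
  exact ⟨(hh y p)⁻¹ • y, by rw [hermForm_smul_left, inv_mul_cancel₀ hy]⟩

omit [Fintype F] in
theorem ut_det (p : V) (a : F) (hp : hh p p = 0) :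
    (Cfsg.unitaryTransvection N q p a).det = 1 := by
  unfold Cfsg.unitaryTransvection
  rw [← Matrix.vecMulVec_smul, Matrix.vecMulVec_eq Unit,
    Matrix.det_one_add_replicateCol_mul_replicateRow]
  have : (a • fun j => p j ^ q) ⬝ᵥ p = a * hh p p := by
    simp only [dotProduct, Cfsg.hermForm, Pi.smul_apply, smul_eq_mul, Finset.mul_sum]
    apply Finset.sum_congr rfl
    intro j _
    ring
  rw [this, hp, mul_zero, add_zero]

theorem ut_pres (hF : Fintype.card F = q ^ 2) (p : V) (a : F) (hp : hh p p = 0)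
    (ha : a + a ^ q = 0) (x y : V) :
    hh (Cfsg.unitaryTransvection N q p a *ᵥ x) (Cfsg.unitaryTransvection N q p a *ᵥ y) = hh x y := by
  rw [hermForm_unitaryTransvection hF p a hp, ha, zero_mul, add_zero]

/-- the unitary transvection `x ↦ x + a h(x,p) p` as an element of `SU` (the identity when the side
conditions fail) -/
noncomputable def ut (p : V) (a : F) : G :=
  @dite _ (Fintype.card F = q ^ 2 ∧ hh p p = 0 ∧ a + a ^ q = 0) (Classical.propDecidable _)
    (fun h => ⟨⟨Cfsg.unitaryTransvection N q p a, ut_det q N p a h.2.1⟩,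
      ut_pres q N h.1 p a h.2.1 h.2.2⟩)
    (fun _ => 1)

theorem ut_act (hF : Fintype.card F = q ^ 2) (p : V) (a : F) (hp : hh p p = 0)
    (ha : a + a ^ q = 0) (v : V) : (ut q N p a).1.1 *ᵥ v = v + (a * hh v p) • p := by
  unfold ut
  rw [dif_pos ⟨hF, hp, ha⟩]
  exact unitaryTransvection_mulVec p a v

omit [Fintype F] in
theorem tz_pow (a : F) (ha : a + a ^ q = 0) : a ^ q = -a := by linear_combination ha

theorem tz_zero (hF : Fintype.card F = q ^ 2) : (0 : F) + 0 ^ q = 0 := by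
  rw [zero_pow (q_pos hF).ne', add_zero]

theorem tz_add (hF : Fintype.card F = q ^ 2) (a b : F) (ha : a + a ^ q = 0) (hb : b + b ^ q = 0) :
    (a + b) + (a + b) ^ q = 0 := by
  rw [add_pow_q hF]
  linear_combination ha + hb

theorem neg_pow_q (hF : Fintype.card F = q ^ 2) (a : F) : (-a) ^ q = -(a ^ q) := by
  rw [← frobQ_apply hF, map_neg, frobQ_apply]

theorem tz_neg (hF : Fintype.card F = q ^ 2) (a : F) (ha : a + a ^ q = 0) :
    (-a) + (-a) ^ q = 0 := by
  rw [neg_pow_q q hF]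
  linear_combination (-1 : F) * ha

omit [Fintype F] in
theorem tz_mul_fixed (a c : F) (ha : a + a ^ q = 0) (hc : c ^ q = c) :
    (c * a) + (c * a) ^ q = 0 := by
  rw [mul_pow, hc]
  linear_combination c * ha

theorem nrm_fixed (hF : Fintype.card F = q ^ 2) (c : F) : (c * c ^ q) ^ q = c * c ^ q := by
  rw [mul_pow, pow_q_pow_q hF, mul_comm]

theorem tz_inv (hF : Fintype.card F = q ^ 2) (a : F) (ha : a + a ^ q = 0) :
    a⁻¹ + (a⁻¹) ^ q = 0 := by
  by_cases h : a = 0
  · subst h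
    rw [_root_.inv_zero]
    exact tz_zero q hF
  · rw [inv_pow, tz_pow q a ha]
    field_simp
    ring

theorem ut_zero (hF : Fintype.card F = q ^ 2) (p : V) (hp : hh p p = 0) : ut q N p 0 = 1 := by
  apply su_ext
  intro v
  rw [ut_act q N hF p 0 hp (tz_zero q hF), val_one, Matrix.one_mulVec, zero_mul, zero_smul,
    add_zero]

theorem ut_mul (hF : Fintype.card F = q ^ 2) (p : V) (a b : F) (hp : hh p p = 0)
    (ha : a + a ^ q = 0) (hb : b + b ^ q = 0) :
    ut q N p a * ut q N p b = ut q N p (a + b) := by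
  apply su_ext
  intro v
  rw [val_mul, ← Matrix.mulVec_mulVec, ut_act q N hF p b hp hb, ut_act q N hF p a hp ha,
    ut_act q N hF p (a + b) hp (tz_add q hF a b ha hb), hermForm_add_left, hermForm_smul_left, hp,
    mul_zero, add_zero, add_assoc, ← add_smul]
  congr 2
  ring

theorem ut_inv (hF : Fintype.card F = q ^ 2) (p : V) (a : F) (hp : hh p p = 0)
    (ha : a + a ^ q = 0) : (ut q N p a)⁻¹ = ut q N p (-a) := by
  rw [inv_eq_iff_mul_eq_one, ut_mul q N hF p a (-a) hp ha (tz_neg q hF a ha), add_neg_cancel,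
    ut_zero q N hF p hp]

theorem ut_conj (hF : Fintype.card F = q ^ 2) (g : G) (p : V) (a : F) (hp : hh p p = 0)
    (ha : a + a ^ q = 0) : g * ut q N p a * g⁻¹ = ut q N (g.1.1 *ᵥ p) a := by
  have hgp : hh (g.1.1 *ᵥ p) (g.1.1 *ᵥ p) = 0 := by rw [hf_act, hp]
  apply su_ext
  intro v
  rw [val_mul, val_mul, ← Matrix.mulVec_mulVec, ← Matrix.mulVec_mulVec, ut_act q N hF p a hp ha,
    ut_act q N hF _ a hgp ha, Matrix.mulVec_add, mulVec_inv_mulVec, Matrix.mulVec_smul, hf_act_inv]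

theorem ut_smul (hF : Fintype.card F = q ^ 2) (c : F) (p : V) (a : F) (hp : hh p p = 0)
    (ha : a + a ^ q = 0) : ut q N (c • p) a = ut q N p (c * c ^ q * a) := by
  have hcp : hh (c • p) (c • p) = 0 := by
    rw [hermForm_smul_left, hermForm_smul_right, hp, mul_zero, mul_zero]
  have hca : (c * c ^ q * a) + (c * c ^ q * a) ^ q = 0 :=
    tz_mul_fixed q a _ ha (nrm_fixed q hF c)
  apply su_ext
  intro v
  rw [ut_act q N hF _ a hcp ha, ut_act q N hF p _ hp hca, hermForm_smul_right, smul_smul]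
  congr 2
  ring

theorem ut_ne_one (hF : Fintype.card F = q ^ 2) (p : V) (hp0 : p ≠ 0) (hp : hh p p = 0) (a : F)
    (ha : a + a ^ q = 0) (ha0 : a ≠ 0) : ut q N p a ≠ 1 := by
  intro h
  obtain ⟨y, hy⟩ := exists_hf_ne q N p hp0
  have h1 := congrArg (fun g : G => g.1.1 *ᵥ y) h
  simp only [val_one, Matrix.one_mulVec] at h1
  rw [ut_act q N hF p a hp ha] at h1
  have h2 : (a * hh y p) • p = 0 := by simpa using h1
  rcases smul_eq_zero.mp h2 with h3 | h3
  · exact (mul_ne_zero ha0 hy) h3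
  · exact hp0 h3

theorem ut_comm_of_orth (hF : Fintype.card F = q ^ 2) (p p' : V) (a b : F) (hp : hh p p = 0)
    (hp' : hh p' p' = 0) (ha : a + a ^ q = 0) (hb : b + b ^ q = 0) (horth : hh p p' = 0) :
    ut q N p a * ut q N p' b = ut q N p' b * ut q N p a := by
  have horth' : hh p' p = 0 := by rw [← hermForm_conj hF, horth, zero_pow (q_pos hF).ne']
  apply su_ext
  intro v
  rw [val_mul, val_mul, ← Matrix.mulVec_mulVec, ← Matrix.mulVec_mulVec, ut_act q N hF p' b hp' hb,
    ut_act q N hF p a hp ha, ut_act q N hF p a hp ha, ut_act q N hF p' b hp' hb]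
  simp only [hermForm_add_left, hermForm_smul_left, horth, horth', mul_zero, add_zero]
  abel

/-- the generating set of the transvection group with centre `p`, as in statement S5071 -/
def gens (p : V) : Set G :=
  {g : G | (∀ v : Fin N → F, ∃ c : F, g.1.1 *ᵥ v = v + c • p) ∧
    ∀ v : Fin N → F, hh v p = 0 → g.1.1 *ᵥ v = v}

/-- the group of unitary transvections with centre `p` -/
def TU (p : V) : Subgroup G := Subgroup.closure (gens q N p)

theorem gens_eq (hF : Fintype.card F = q ^ 2) (p : V) (hp0 : p ≠ 0) (hp : hh p p = 0) :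
    gens q N p = {g | ∃ a : F, a + a ^ q = 0 ∧ g = ut q N p a} := by
  ext g
  constructor
  · rintro ⟨h1, h2⟩
    obtain ⟨w, hw⟩ := exists_hf_one q N p hp0
    obtain ⟨c0, hc0⟩ := h1 w
    have hact : ∀ v : V, g.1.1 *ᵥ v = v + (c0 * hh v p) • p := by
      intro v
      have hv : hh (v - hh v p • w) p = 0 := by
        rw [hf_sub_left, hermForm_smul_left, hw, mul_one, sub_self]
      have h3 := h2 _ hv
      rw [Matrix.mulVec_sub, Matrix.mulVec_smul, hc0] at h3
      have e : g.1.1 *ᵥ v = (v - hh v p • w) + hh v p • (w + c0 • p) := by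
        rw [← h3]; abel
      rw [e, smul_add, smul_smul, mul_comm c0]
      abel
    have hpw : hh p w = 1 := by rw [← hermForm_conj hF, hw, one_pow]
    have htz : c0 + c0 ^ q = 0 := by
      have h4 := hf_act q N g w w
      rw [hact w, hw, mul_one, hermForm_add_left, hermForm_add_right hF, hermForm_add_right hF,
        hermForm_smul_left, hermForm_smul_left, hermForm_smul_right, hermForm_smul_right, hp, hw,
        hpw] at h4
      linear_combination h4
    exact ⟨c0, htz, su_ext q N _ _ (fun v => by rw [hact v, ut_act q N hF p c0 hp htz])⟩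
  · rintro ⟨a, ha, rfl⟩
    exact ⟨fun v => ⟨a * hh v p, ut_act q N hF p a hp ha v⟩, fun v hv => by
      rw [ut_act q N hF p a hp ha, hv, mul_zero, zero_smul, add_zero]⟩

theorem mem_TU (hF : Fintype.card F = q ^ 2) (p : V) (hp0 : p ≠ 0) (hp : hh p p = 0) (g : G) :
    g ∈ TU q N p ↔ ∃ a : F, a + a ^ q = 0 ∧ g = ut q N p a := by
  unfold TU
  rw [gens_eq q N hF p hp0 hp]
  constructor
  · intro h
    induction h using Subgroup.closure_induction with
    | mem x hx => exact hx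
    | one => exact ⟨0, tz_zero q hF, (ut_zero q N hF p hp).symm⟩
    | mul x y _ _ hx hy =>
      obtain ⟨a, ha, rfl⟩ := hx
      obtain ⟨b, hb, rfl⟩ := hy
      exact ⟨a + b, tz_add q hF a b ha hb, ut_mul q N hF p a b hp ha hb⟩
    | inv x _ hx =>
      obtain ⟨a, ha, rfl⟩ := hx
      exact ⟨-a, tz_neg q hF a ha, ut_inv q N hF p a hp ha⟩
  · intro h
    exact Subgroup.subset_closure h

theorem ut_mem_TU (hF : Fintype.card F = q ^ 2) (p : V) (hp0 : p ≠ 0) (hp : hh p p = 0) (a : F)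
    (ha : a + a ^ q = 0) : ut q N p a ∈ TU q N p :=
  (mem_TU q N hF p hp0 hp _).mpr ⟨a, ha, rfl⟩

theorem TU_conj (hF : Fintype.card F = q ^ 2) (p : V) (hp0 : p ≠ 0) (hp : hh p p = 0) (g : G) :
    Cfsg.conjBy (TU q N p) g = TU q N (g.1.1 *ᵥ p) := by
  have hgp0 : g.1.1 *ᵥ p ≠ 0 := mulVec_ne_zero q N g p hp0
  have hgp : hh (g.1.1 *ᵥ p) (g.1.1 *ᵥ p) = 0 := by rw [hf_act, hp]
  ext x
  unfold Cfsg.conjBy
  rw [Subgroup.mem_map, mem_TU q N hF _ hgp0 hgp]
  constructor
  · rintro ⟨y, hy, rfl⟩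
    obtain ⟨a, ha, rfl⟩ := (mem_TU q N hF p hp0 hp y).mp hy
    exact ⟨a, ha, ut_conj q N hF g p a hp ha⟩
  · rintro ⟨a, ha, rfl⟩
    exact ⟨ut q N p a, ut_mem_TU q N hF p hp0 hp a ha, ut_conj q N hF g p a hp ha⟩

theorem TU_smul (hF : Fintype.card F = q ^ 2) (c : F) (hc : c ≠ 0) (p : V) (hp0 : p ≠ 0)
    (hp : hh p p = 0) : TU q N (c • p) = TU q N p := by
  have hcp0 : c • p ≠ 0 := smul_ne_zero hc hp0
  have hcp : hh (c • p) (c • p) = 0 := by
    rw [hermForm_smul_left, hermForm_smul_right, hp, mul_zero, mul_zero]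
  have hn0 : c * c ^ q ≠ 0 := mul_ne_zero hc (pow_ne_zero _ hc)
  ext x
  rw [mem_TU q N hF _ hcp0 hcp, mem_TU q N hF p hp0 hp]
  constructor
  · rintro ⟨a, ha, rfl⟩
    exact ⟨c * c ^ q * a, tz_mul_fixed q a _ ha (nrm_fixed q hF c), ut_smul q N hF c p a hp ha⟩
  · rintro ⟨a, ha, rfl⟩
    have hfix : ((c * c ^ q)⁻¹) ^ q = (c * c ^ q)⁻¹ := by rw [inv_pow, nrm_fixed q hF c]
    refine ⟨(c * c ^ q)⁻¹ * a, tz_mul_fixed q a _ ha hfix, ?_⟩
    rw [ut_smul q N hF c p _ hp (tz_mul_fixed q a _ ha hfix), ← mul_assoc, mul_inv_cancel₀ hn0,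
      one_mul]

end

end Cfsg.Agent.Lib.Helper11.UnitaryTv
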