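import Cfsg.Agent.Lib.Helper11.SiegelRootC
import Cfsg.Agent.S5071

set_option autoImplicit false
set_option linter.unusedSectionVars false
set_option linter.unusedVariables false
set_option linter.unusedSimpArgs false
set_option quotPrecheck false

/-! Siegel transvection groups: conjugation, connectedness of the graph of opposite lines. -/

namespace Cfsg.Agent.Lib.Helper11.SiegelRoot

open Matrix Module QuadraticMap Cfsg.Agent.Lib.Helper19 Cfsg.Agent.Lib.Helper50

open scoped commutatorElement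

section abstract
variable {H : Type*} [Group H]

open Cfsg.Agent.S5071 in
/-- the commutator case excludes the rank one case -/
theorem not_rankOne_of_commCase (A A' : Subgroup H) (hAc : IsMulCommutative A)
    (hne : ⁅A, A'⁆ ≠ ⊥) (hcentral : ∀ c ∈ ⁅A, A'⁆, ∀ x ∈ A ⊔ A', c * x = x * c) :
    ¬ Cfsg.IsRankOnePair A A' := by
  intro hpair
  apply hne
  rw [Subgroup.commutator_eq_bot_iff_le_centralizer]
  have hAne : A ≠ ⊥ := by
    rintro rfl
    apply hne
    rw [Subgroup.commutator_eq_bot_iff_le_centralizer]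
    exact bot_le
  obtain ⟨⟨a, ha⟩, ha1'⟩ := (Subgroup.ne_bot_iff_exists_ne_one).mp hAne
  have ha1 : a ≠ 1 := fun h => ha1' (Subtype.ext h)
  obtain ⟨b, hb, -, hconj⟩ := hpair.cond_left a ha ha1
  have hcommA : ∀ u ∈ A, ∀ v ∈ A, u * v = v * u := by
    intro u hu v hv
    have := hAc.is_comm.comm ⟨u, hu⟩ ⟨v, hv⟩
    exact congrArg Subtype.val this
  intro a' ha'
  rw [Subgroup.mem_centralizer_iff]
  intro y hy
  -- y ∈ A'
  have h1 : a⁻¹ * y * a ∈ Cfsg.conjBy A' a⁻¹ := by
    rw [mem_conjBy]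
    have : (a⁻¹)⁻¹ * (a⁻¹ * y * a) * a⁻¹ = y := by group
    rw [this]
    exact hy
  rw [← hconj, mem_conjBy] at h1
  set x := (b⁻¹)⁻¹ * (a⁻¹ * y * a) * b⁻¹ with hx
  have hxA : x ∈ A := h1
  set c₁ := ⁅x⁻¹, b⁻¹⁆ with hc₁
  have hc₁mem : c₁ ∈ ⁅A, A'⁆ :=
    Subgroup.commutator_mem_commutator (Subgroup.inv_mem _ hxA) (Subgroup.inv_mem _ hb)
  have hy_eq : y = a * (x * c₁) * a⁻¹ := by
    rw [hc₁, commutatorElement_def, hx]
    group
  have hac : c₁ * a = a * c₁ := hcentral c₁ hc₁mem a (Subgroup.mem_sup_left ha)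
  have hy2 : y = x * c₁ := by
    rw [hy_eq]
    have e1 : a * x = x * a := hcommA a ha x hxA
    calc a * (x * c₁) * a⁻¹ = (a * x) * c₁ * a⁻¹ := by group
      _ = (x * a) * c₁ * a⁻¹ := by rw [e1]
      _ = x * (a * c₁) * a⁻¹ := by group
      _ = x * (c₁ * a) * a⁻¹ := by rw [hac]
      _ = x * c₁ := by group
  have hca' : c₁ * a' = a' * c₁ := hcentral c₁ hc₁mem a' (Subgroup.mem_sup_left ha')
  show y * a' = a' * y
  rw [hy2]
  calc x * c₁ * a' = x * (c₁ * a') := by group
    _ = x * (a' * c₁) := by rw [hca']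
    _ = (x * a') * c₁ := by group
    _ = (a' * x) * c₁ := by rw [hcommA x hxA a' ha']
    _ = a' * (x * c₁) := by group

open Cfsg.Agent.S5071 in
/-- the commutator case passes to the subgroup generated -/
theorem commCase_subgroupOf (K A A' : Subgroup H) (S0 : Set (Subgroup H)) (hA : A ≤ K)
    (hA' : A' ≤ K) (h : Cfsg.RootCommutatorCase S0 A A') :
    Cfsg.RootCommutatorCase ((fun X : Subgroup H => X.subgroupOf K) '' S0) (A.subgroupOf K)
      (A'.subgroupOf K) := by
  obtain ⟨h1, h2, h3, h4⟩ := h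
  have hcomm := commutator_subgroupOf K A A' hA hA'
  refine ⟨?_, ?_, ?_, ?_⟩
  · rw [hcomm]
    exact ⟨_, h1, rfl⟩
  · intro c hc x hx
    rw [hcomm] at hc
    apply Subtype.ext
    show c.1 * x.1 = x.1 * c.1
    apply h2 c.1 hc x.1
    have : (A.subgroupOf K ⊔ A'.subgroupOf K).map K.subtype = A ⊔ A' := by
      rw [Subgroup.map_sup, Subgroup.map_subgroupOf_eq_of_le hA,
        Subgroup.map_subgroupOf_eq_of_le hA']
    rw [← this]
    exact ⟨x, hx, rfl⟩
  · intro a ha ha1
    rw [hcomm]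
    apply Subgroup.map_injective K.subtype_injective
    rw [Subgroup.map_subgroupOf_eq_of_le (commutator_le_of_le K A A' hA hA'),
      MonoidHom.map_closure, ← h3 a.1 ha (fun e => ha1 (Subtype.ext e))]
    congr 1
    ext z
    constructor
    · rintro ⟨_, ⟨b, hb, rfl⟩, rfl⟩
      exact ⟨b.1, hb, rfl⟩
    · rintro ⟨b, hb, rfl⟩
      exact ⟨_, ⟨⟨b, hA' hb⟩, hb, rfl⟩, rfl⟩
  · intro b hb hb1
    rw [hcomm]
    apply Subgroup.map_injective K.subtype_injective
    rw [Subgroup.map_subgroupOf_eq_of_le (commutator_le_of_le K A A' hA hA'),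
      MonoidHom.map_closure, ← h4 b.1 hb (fun e => hb1 (Subtype.ext e))]
    congr 1
    ext z
    constructor
    · rintro ⟨_, ⟨a, ha, rfl⟩, rfl⟩
      exact ⟨a.1, ha, rfl⟩
    · rintro ⟨a, ha, rfl⟩
      exact ⟨_, ⟨⟨a, hA ha⟩, ha, rfl⟩, rfl⟩

end abstract

section
variable {F : Type*} [Field F] {N : ℕ}

local notation "V" => (Fin N ⊕ Fin N → F)
local notation "Q" => QPlus N F
local notation "B" => QuadraticMap.polar (⇑(QPlus N F))
local notation "G" => ↥(Cfsg.isometryGroup F (⇑(QPlus N F)))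
local notation "act" σ:max => (((σ : ↥(Cfsg.isometryGroup F (⇑(QPlus N F)))) : GL (Fin N ⊕ Fin N) F) : Matrix (Fin N ⊕ Fin N) (Fin N ⊕ Fin N) F)

/-! ### conjugation -/

theorem IsLine.map {p r : V} (h : IsLine p r) (σ : G) :
    IsLine ((act σ) *ᵥ p) ((act σ) *ᵥ r) := by
  refine ⟨?_, by rw [Q_G]; exact h.hp, by rw [Q_G]; exact h.hr, by rw [B_G]; exact h.hpr⟩
  rw [LinearIndependent.pair_iff]
  intro s t hst
  apply h.indep' s t
  have := congrArg (fun z => (act (σ⁻¹)) *ᵥ z) hst
  simp only [Matrix.mulVec_add, Matrix.mulVec_smul, G_inv_mulVec, Matrix.mulVec_zero] at this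
  exact this

theorem FS_conj_mem (p r : V) (σ τ : G) (hτ : τ ∈ FS p r) :
    σ * τ * σ⁻¹ ∈ FS ((act σ) *ᵥ p) ((act σ) *ᵥ r) := by
  intro v hvp hvr
  have e1 : B ((act (σ⁻¹)) *ᵥ v) p = 0 := by
    have := B_G σ ((act (σ⁻¹)) *ᵥ v) p
    rw [G_mulVec_inv] at this
    rw [← this]; exact hvp
  have e2 : B ((act (σ⁻¹)) *ᵥ v) r = 0 := by
    have := B_G σ ((act (σ⁻¹)) *ᵥ v) r
    rw [G_mulVec_inv] at this
    rw [← this]; exact hvr
  rw [G_mul_mulVec, G_mul_mulVec, hτ _ e1 e2, G_mulVec_inv]

theorem RS_conj (p r : V) (σ : G) :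
    Cfsg.conjBy (RS p r) σ = RS ((act σ) *ᵥ p) ((act σ) *ᵥ r) := by
  unfold Cfsg.conjBy RS
  rw [MonoidHom.map_closure]
  congr 1
  ext z
  constructor
  · rintro ⟨τ, hτ, rfl⟩
    exact FS_conj_mem p r σ τ hτ
  · intro hz
    refine ⟨σ⁻¹ * z * σ, ?_, ?_⟩
    · have := FS_conj_mem _ _ σ⁻¹ z hz
      rw [G_inv_mulVec, G_inv_mulVec, inv_inv] at this
      exact this
    · show σ * (σ⁻¹ * z * σ) * σ⁻¹ = z
      group

/-! ### coordinate vectors -/

/-- standard basis vector -/
def ee (j : Fin N ⊕ Fin N) : V := Pi.single j 1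

theorem ee_apply (j k : Fin N ⊕ Fin N) : (ee j : V) k = if k = j then 1 else 0 := by
  unfold ee
  rw [Pi.single_apply]

theorem B_ee (j : Fin N ⊕ Fin N) (x : V) : B (ee j) x = x (Sum.swap j) := by
  rcases j with j | j
  · exact polar_QPlus_single_inl j x
  · exact polar_QPlus_single_inr j x

theorem B_ee_ee (j k : Fin N ⊕ Fin N) :
    B (ee j) (ee k : V) = if Sum.swap j = k then 1 else 0 := by
  rw [B_ee, ee_apply]

theorem Q_ee (j : Fin N ⊕ Fin N) : Q (ee j : V) = 0 := by
  rw [QPlus_apply]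
  apply Finset.sum_eq_zero
  intro i _
  rw [ee_apply, ee_apply]
  rcases j with j | j
  · simp
  · simp

theorem swap_inj' (a b : Fin N ⊕ Fin N) : Sum.swap a = Sum.swap b ↔ a = b := by
  constructor
  · intro h
    have := congrArg Sum.swap h
    rwa [Sum.swap_swap, Sum.swap_swap] at this
  · rintro rfl; rfl

theorem swap_eq_iff (a b : Fin N ⊕ Fin N) : Sum.swap a = b ↔ a = Sum.swap b := by
  constructor
  · rintro rfl; rw [Sum.swap_swap]
  · rintro rfl; rw [Sum.swap_swap]

theorem isLine_ee (a b : Fin N ⊕ Fin N) (hab : b ≠ a) (hab' : b ≠ Sum.swap a) :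
    IsLine (ee a : V) (ee b) := by
  refine ⟨?_, Q_ee a, Q_ee b, ?_⟩
  · rw [LinearIndependent.pair_iff]
    intro s t hst
    have h1 := congrFun hst a
    have h2 := congrFun hst b
    simp only [Pi.add_apply, Pi.smul_apply, ee_apply, smul_eq_mul, Pi.zero_apply, if_true,
      if_neg hab, if_neg hab.symm, mul_one, mul_zero, add_zero, zero_add] at h1 h2
    exact ⟨h1, h2⟩
  · rw [B_ee_ee, if_neg]
    exact fun h => hab' h.symm

/-! ### the graph of opposite lines -/

theorem adj_of_det (p r p' r' : V) (h : IsLine p r) (h' : IsLine p' r')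
    (hdet : B p p' * B r r' - B p r' * B r p' ≠ 0) :
    Cfsg.FAdj (SS0 (F := F) (N := N)) (RS p r) (RS p' r') :=
  ⟨RS_mem_SS0 p r h, RS_mem_SS0 p' r' h', (rk2_case p r p' r' h h' hdet).1⟩

theorem adj_symm (A A' : Subgroup G) (h : Cfsg.FAdj (SS0 (F := F) (N := N)) A A') :
    Cfsg.FAdj (SS0 (F := F) (N := N)) A' A :=
  ⟨h.2.1, h.1, Cfsg.RankOnePair_symm h.2.2⟩

theorem conn_of_common (A A' M : Subgroup G) (h : Cfsg.FAdj (SS0 (F := F) (N := N)) A M)
    (h' : Cfsg.FAdj (SS0 (F := F) (N := N)) A' M) :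
    Relation.ReflTransGen (Cfsg.FAdj (SS0 (F := F) (N := N))) A A' :=
  Relation.ReflTransGen.tail (Relation.ReflTransGen.single h) (adj_symm _ _ h')

/-- a singular line has a non-zero minor at a pair of columns which is not a hyperbolic pair -/
theorem exists_minor (p r : V) (h : IsLine p r) :
    ∃ j k : Fin N ⊕ Fin N, k ≠ j ∧ k ≠ Sum.swap j ∧ p j * r k - p k * r j ≠ 0 := by
  -- step 1: some minor is non-zero
  have step1 : ∃ j k : Fin N ⊕ Fin N, p j * r k - p k * r j ≠ 0 := by
    by_contra hcon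
    push Not at hcon
    have hp0 := h.p_ne
    have : ∃ j, p j ≠ 0 := by
      by_contra hall
      push Not at hall
      exact hp0 (funext hall)
    obtain ⟨j, hj⟩ := this
    have hr : (-(r j / p j)) • p + (1 : F) • r = 0 := by
      funext k
      simp only [Pi.add_apply, Pi.smul_apply, smul_eq_mul, Pi.zero_apply]
      have := hcon j k
      field_simp
      linear_combination this
    have := (h.indep' _ _ hr).2
    exact one_ne_zero this
  obtain ⟨j, k, hjk⟩ := step1
  have hkj : k ≠ j := by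
    rintro rfl
    apply hjk
    ring
  by_cases hk : k = Sum.swap j
  · subst hk
    by_contra hcon
    push Not at hcon
    -- all other coordinates vanish
    have hvan : ∀ l : Fin N ⊕ Fin N, l ≠ j → l ≠ Sum.swap j → p l = 0 ∧ r l = 0 := by
      intro l hl hl'
      have m1 := hcon j l hl hl'
      have m2 := hcon (Sum.swap j) l hl' (by rw [Sum.swap_swap]; exact hl)
      constructor
      · have : (p j * r (Sum.swap j) - p (Sum.swap j) * r j) * p l = 0 := by
          linear_combination p (Sum.swap j) * m1 - p j * m2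
        rcases mul_eq_zero.1 this with h1 | h1
        · exact absurd h1 hjk
        · exact h1
      · have : (p j * r (Sum.swap j) - p (Sum.swap j) * r j) * r l = 0 := by
          linear_combination r (Sum.swap j) * m1 - r j * m2
        rcases mul_eq_zero.1 this with h1 | h1
        · exact absurd h1 hjk
        · exact h1
    -- reduce to j = inl i
    have key : ∀ i : Fin N, (∀ l : Fin N ⊕ Fin N, l ≠ Sum.inl i → l ≠ Sum.inr i →
        p l = 0 ∧ r l = 0) →
        p (Sum.inl i) * r (Sum.inr i) - p (Sum.inr i) * r (Sum.inl i) = 0 := by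
      intro i hv
      have hQp : Q p = p (Sum.inl i) * p (Sum.inr i) := by
        rw [QPlus_apply, Finset.sum_eq_single i]
        · intro i' _ hi'
          rw [(hv (Sum.inl i') (by simpa using hi') (by simp)).1, zero_mul]
        · intro hi; exact absurd (Finset.mem_univ i) hi
      have hQr : Q r = r (Sum.inl i) * r (Sum.inr i) := by
        rw [QPlus_apply, Finset.sum_eq_single i]
        · intro i' _ hi'
          rw [(hv (Sum.inl i') (by simpa using hi') (by simp)).2, zero_mul]
        · intro hi; exact absurd (Finset.mem_univ i) hi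
      have hBpr : B p r = p (Sum.inl i) * r (Sum.inr i) + p (Sum.inr i) * r (Sum.inl i) := by
        rw [polar_QPlus, Finset.sum_eq_single i]
        · intro i' _ hi'
          rw [(hv (Sum.inl i') (by simpa using hi') (by simp)).1,
            (hv (Sum.inr i') (by simp) (by simpa using hi')).1, zero_mul, zero_mul, add_zero]
        · intro hi; exact absurd (Finset.mem_univ i) hi
      have e1 := h.hp
      have e2 := h.hr
      have e3 := h.hpr
      rw [hQp] at e1
      rw [hQr] at e2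
      rw [hBpr] at e3
      have hsq : (p (Sum.inl i) * r (Sum.inr i) - p (Sum.inr i) * r (Sum.inl i)) ^ 2 = 0 := by
        linear_combination (p (Sum.inl i) * r (Sum.inr i) + p (Sum.inr i) * r (Sum.inl i)) * e3
          - 4 * r (Sum.inl i) * r (Sum.inr i) * e1
      exact pow_eq_zero_iff (two_ne_zero) |>.1 hsq
    rcases j with i | i
    · apply hjk
      exact key i (fun l h1 h2 => hvan l h1 h2)
    · apply hjk
      have := key i (fun l h1 h2 => hvan l h2 h1)
      simp only [Sum.swap_inr]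
      linear_combination -this
  · exact ⟨j, k, hkj, hk, hjk⟩

/-- every line is opposite to a coordinate line -/
theorem exists_coord_opp (p r : V) (h : IsLine p r) :
    ∃ a b : Fin N ⊕ Fin N, b ≠ a ∧ b ≠ Sum.swap a ∧
      Cfsg.FAdj (SS0 (F := F) (N := N)) (RS p r) (RS (ee a) (ee b)) := by
  obtain ⟨j, k, hkj, hkj', hm⟩ := exists_minor p r h
  refine ⟨Sum.swap j, Sum.swap k, ?_, ?_, ?_⟩
  · intro e
    exact hkj ((swap_inj' _ _).1 e)
  · rw [Sum.swap_swap]
    intro e
    apply hkj'
    rw [← e, Sum.swap_swap]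
  · apply adj_of_det p r _ _ h (isLine_ee _ _ (by
      intro e
      exact hkj ((swap_inj' _ _).1 e)) (by
      rw [Sum.swap_swap]
      intro e
      apply hkj'
      rw [← e, Sum.swap_swap]))
    rw [B_comm p, B_comm r, B_comm p, B_comm r, B_ee, B_ee, B_ee, B_ee, Sum.swap_swap,
      Sum.swap_swap]
    exact hm

/-- coordinate lines through a common point, generic case -/
theorem conn_coord_aux (a b c : Fin N ⊕ Fin N) (hab : b ≠ a) (hab' : b ≠ Sum.swap a)
    (hac : c ≠ a) (hac' : c ≠ Sum.swap a) (hbc : c ≠ b) (hbc' : c ≠ Sum.swap b) :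
    Relation.ReflTransGen (Cfsg.FAdj (SS0 (F := F) (N := N)))
      (RS (ee a) (ee b)) (RS (ee a) (ee c)) := by
  have n1 : Sum.swap a ≠ Sum.swap b := fun e => hab ((swap_inj' _ _).1 e).symm
  have n2 : Sum.swap a ≠ Sum.swap c := fun e => hac ((swap_inj' _ _).1 e).symm
  have n3 : Sum.swap b ≠ Sum.swap c := fun e => hbc ((swap_inj' _ _).1 e).symm
  have n4 : Sum.swap b ≠ a := fun e => hab' ((swap_eq_iff _ _).1 e)
  have n5 : Sum.swap c ≠ a := fun e => hac' ((swap_eq_iff _ _).1 e)
  have n6 : Sum.swap c ≠ b := fun e => hbc' ((swap_eq_iff _ _).1 e)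
  have n7 : Sum.swap b ≠ c := fun e => hbc' e.symm
  have hM : IsLine (ee (Sum.swap a) : V) (ee (Sum.swap b) + ee (Sum.swap c)) := by
    refine ⟨?_, Q_ee _, ?_, ?_⟩
    · rw [LinearIndependent.pair_iff]
      intro s t hst
      have h1 := congrFun hst (Sum.swap a)
      have h2 := congrFun hst (Sum.swap b)
      simp only [Pi.add_apply, Pi.smul_apply, ee_apply, smul_eq_mul, Pi.zero_apply, if_true,
        if_neg n1, if_neg n2, if_neg n1.symm, if_neg n3, mul_one, mul_zero, add_zero,
        zero_add] at h1 h2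
      exact ⟨h1, h2⟩
    · rw [Q_add, Q_ee, Q_ee, B_ee_ee, Sum.swap_swap, if_neg (Ne.symm n6)]
      ring
    · rw [B_add_right, B_ee_ee, B_ee_ee, Sum.swap_swap, if_neg (Ne.symm n4), if_neg (Ne.symm n5)]
      ring
  apply conn_of_common _ _ (RS (ee (Sum.swap a)) (ee (Sum.swap b) + ee (Sum.swap c)))
  · apply adj_of_det _ _ _ _ (isLine_ee a b hab hab') hM
    simp only [B_add_right, B_ee_ee, if_true, if_neg n1, if_neg n2, if_neg n1.symm, if_neg n3]
    simp
  · apply adj_of_det _ _ _ _ (isLine_ee a c hac hac') hM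
    simp only [B_add_right, B_ee_ee, if_true, if_neg n1, if_neg n2, if_neg n2.symm,
      if_neg n3.symm]
    simp

end

end Cfsg.Agent.Lib.Helper11.SiegelRoot
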