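import Cfsg.Agent.Lib.Helper11.SiegelRootD

set_option autoImplicit false
set_option linter.unusedSectionVars false
set_option linter.unusedVariables false
set_option linter.unusedSimpArgs false
set_option quotPrecheck false

/-! Siegel transvection groups: connectedness and the root subgroup axioms. -/

namespace Cfsg.Agent.Lib.Helper11.SiegelRoot

open Matrix Module QuadraticMap Cfsg.Agent.Lib.Helper19 Cfsg.Agent.Lib.Helper50

section
variable {F : Type*} [Field F] {N : ℕ}

local notation "V" => (Fin N ⊕ Fin N → F)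
local notation "Q" => QPlus N F
local notation "B" => QuadraticMap.polar (⇑(QPlus N F))
local notation "G" => ↥(Cfsg.isometryGroup F (⇑(QPlus N F)))
local notation "Conn" => Relation.ReflTransGen (Cfsg.FAdj (SS0 (F := F) (N := N)))

/-- the underlying index -/
def idx (j : Fin N ⊕ Fin N) : Fin N := Sum.elim id id j

theorem idx_swap (j : Fin N ⊕ Fin N) : idx (Sum.swap j) = idx j := by
  rcases j with j | j <;> rfl

theorem exists_third (hN : 3 ≤ N) (a b : Fin N ⊕ Fin N) :
    ∃ x : Fin N ⊕ Fin N, x ≠ a ∧ x ≠ Sum.swap a ∧ x ≠ b ∧ x ≠ Sum.swap b := by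
  classical
  have hcard : ({idx a, idx b} : Finset (Fin N)).card < (Finset.univ : Finset (Fin N)).card := by
    rw [Finset.card_univ, Fintype.card_fin]
    exact lt_of_le_of_lt Finset.card_le_two (by omega)
  obtain ⟨i, -, hi⟩ := Finset.exists_mem_notMem_of_card_lt_card hcard
  rw [Finset.mem_insert, Finset.mem_singleton] at hi
  push Not at hi
  refine ⟨Sum.inl i, ?_, ?_, ?_, ?_⟩
  · intro e
    apply hi.1
    rw [← e]; rfl
  · intro e
    apply hi.1
    rw [← idx_swap a, ← e]; rfl
  · intro e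
    apply hi.2
    rw [← e]; rfl
  · intro e
    apply hi.2
    rw [← idx_swap b, ← e]; rfl

theorem conn_coord_second (hN : 3 ≤ N) (a b c : Fin N ⊕ Fin N) (hab : b ≠ a)
    (hab' : b ≠ Sum.swap a) (hac : c ≠ a) (hac' : c ≠ Sum.swap a) :
    Conn (RS (ee a) (ee b)) (RS (ee a) (ee c)) := by
  by_cases hcb : c = b
  · rw [hcb]
  by_cases hcb' : c = Sum.swap b
  · obtain ⟨x, hx1, hx2, hx3, hx4⟩ := exists_third hN a b
    have s1 := conn_coord_aux (F := F) a b x hab hab' hx1 hx2 hx3 hx4
    have s2 := conn_coord_aux (F := F) a x c hx1 hx2 hac hac' (by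
      rw [hcb']; exact fun e => hx4 e.symm) (by
      rw [hcb']
      intro e
      exact hx3 ((swap_inj' _ _).1 e).symm)
    exact s1.trans s2
  · exact conn_coord_aux a b c hab hab' hac hac' hcb hcb'

theorem conn_coord (hN : 3 ≤ N) (a b c d : Fin N ⊕ Fin N) (hab : b ≠ a)
    (hab' : b ≠ Sum.swap a) (hcd : d ≠ c) (hcd' : d ≠ Sum.swap c) :
    Conn (RS (ee a) (ee b)) (RS (ee c) (ee d)) := by
  have hdc' : c ≠ Sum.swap d := by
    intro e
    apply hcd'
    rw [e, Sum.swap_swap]
  by_cases hd : d ≠ a ∧ d ≠ Sum.swap a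
  · have s1 := conn_coord_second (F := F) hN a b d hab hab' hd.1 hd.2
    have s2 := conn_coord_second (F := F) hN d a c (Ne.symm hd.1) (by
      intro e
      apply hd.2
      rw [e, Sum.swap_swap]) (Ne.symm hcd) hdc'
    rw [RS_swap (ee d) (ee a)] at s1
    rw [← RS_swap (ee d) (ee c)] at s2
    exact s1.trans s2
  · have hca : c ≠ a ∧ c ≠ Sum.swap a := by
      rw [not_and_or] at hd
      push Not at hd
      rcases hd with hd | hd
      · rw [← hd]
        exact ⟨Ne.symm hcd, hdc'⟩
      · constructor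
        · intro e
          apply hcd'
          rw [hd, e]
        · rw [← hd]
          exact Ne.symm hcd
    have s1 := conn_coord_second (F := F) hN a b c hab hab' hca.1 hca.2
    have s2 := conn_coord_second (F := F) hN c a d (Ne.symm hca.1) (by
      intro e
      apply hca.2
      rw [e, Sum.swap_swap]) hcd hcd'
    rw [RS_swap (ee c) (ee a)] at s1
    exact s1.trans s2

/-- the graph of opposite lines is connected -/
theorem connected (hN : 3 ≤ N) :
    Cfsg.IsConnectedFamily (Cfsg.FAdj (SS0 (F := F) (N := N))) (SS0 (F := F) (N := N)) := by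
  rintro A ⟨p, r, h, rfl⟩ A' ⟨p', r', h', rfl⟩
  obtain ⟨a, b, hab, hab', hadj⟩ := exists_coord_opp p r h
  obtain ⟨c, d, hcd, hcd', hadj'⟩ := exists_coord_opp p' r' h'
  exact ((Relation.ReflTransGen.single hadj).trans (conn_coord hN a b c d hab hab' hcd hcd')).trans
    (Relation.ReflTransGen.single (adj_symm _ _ hadj'))

/-! ### the three cases -/

theorem pair_cases (p r p' r' : V) (h : IsLine p r) (h' : IsLine p' r') :
    Comm (RS p r) (RS p' r') ∨
      (Cfsg.IsRankOnePair (RS p r) (RS p' r') ∧ Cfsg.IsPSL2PairOver F (RS p r) (RS p' r')) ∨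
      Cfsg.RootCommutatorCase (SS0 (F := F) (N := N)) (RS p r) (RS p' r') := by
  by_cases hdet : B p p' * B r r' - B p r' * B r p' = 0
  · rcases rk_le_one_case p r p' r' h h' hdet with h1 | h1
    · exact Or.inl h1
    · exact Or.inr (Or.inr h1)
  · exact Or.inr (Or.inl (rk2_case p r p' r' h h' hdet))

/-- the subgroup generated by the family -/
def KK : Subgroup G := ⨆ A ∈ SS0 (F := F) (N := N), A

theorem RS_le (p r : V) (h : IsLine p r) : RS p r ≤ KK (F := F) (N := N) :=
  le_iSup₂ (f := fun (A : Subgroup G) (_ : A ∈ SS0 (F := F) (N := N)) => A) (RS p r)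
    (RS_mem_SS0 p r h)

/-- the family inside the subgroup it generates -/
def SSK : Set (Subgroup (KK (F := F) (N := N))) :=
  (fun A : Subgroup G => A.subgroupOf (KK (F := F) (N := N))) '' SS0 (F := F) (N := N)

theorem mem_SSK (X : Subgroup (KK (F := F) (N := N))) :
    X ∈ SSK (F := F) (N := N) ↔
      ∃ p r : V, IsLine p r ∧ X = (RS p r).subgroupOf (KK (F := F) (N := N)) := by
  constructor
  · rintro ⟨A, ⟨p, r, h, rfl⟩, rfl⟩
    exact ⟨p, r, h, rfl⟩
  · rintro ⟨p, r, h, rfl⟩
    exact ⟨RS p r, RS_mem_SS0 p r h, rfl⟩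

open Cfsg.Agent.S5071 in
theorem comm_sub (p r p' r' : V) (h : IsLine p r) (h' : IsLine p' r')
    (hc : Comm (RS p r) (RS p' r')) :
    ∀ x ∈ (RS p r).subgroupOf (KK (F := F) (N := N)),
      ∀ y ∈ (RS p' r').subgroupOf (KK (F := F) (N := N)), x * y = y * x := by
  intro x hx y hy
  apply Subtype.ext
  exact hc x.1 hx y.1 hy

open Cfsg.Agent.S5071 in
theorem isRootSubgroupSet : Cfsg.IsRootSubgroupSet (SSK (F := F) (N := N)) where
  commutative := by
    intro X hX
    obtain ⟨p, r, h, rfl⟩ := (mem_SSK X).1 hX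
    exact subgroupOf_comm _ _ (RS_comm p r h)
  ne_bot := by
    intro X hX
    obtain ⟨p, r, h, rfl⟩ := (mem_SSK X).1 hX
    exact subgroupOf_ne_bot _ _ (RS_le p r h) (RS_ne_bot p r h)
  generates := iSup_subgroupOf_eq_top (SS0 (F := F) (N := N))
  conj_mem := by
    intro X hX g
    obtain ⟨p, r, h, rfl⟩ := (mem_SSK X).1 hX
    have := conjBy_subgroupOf (KK (F := F) (N := N)) (RS p r) g
    rw [RS_conj] at this
    rw [this]
    exact (mem_SSK _).2 ⟨_, _, h.map g.1, rfl⟩
  pair := by
    intro X hX Y hY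
    obtain ⟨p, r, h, rfl⟩ := (mem_SSK X).1 hX
    obtain ⟨p', r', h', rfl⟩ := (mem_SSK Y).1 hY
    rcases pair_cases p r p' r' h h' with hc | hc | hc
    · left
      rw [Subgroup.commutator_eq_bot_iff_le_centralizer]
      intro x hx
      rw [Subgroup.mem_centralizer_iff]
      intro y hy
      exact (comm_sub p r p' r' h h' hc x hx y hy).symm
    · right; left
      exact rankOne_subgroupOf _ _ _ (RS_le p r h) (RS_le p' r' h') (RS_comm p r h)
        (RS_comm p' r' h') hc.1
    · right; right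
      exact commCase_subgroupOf _ _ _ _ (RS_le p r h) (RS_le p' r' h') hc

open Cfsg.Agent.S5071 in
theorem isKRoot : Cfsg.IsKRootSubgroupSet F (SSK (F := F) (N := N)) := by
  refine ⟨isRootSubgroupSet, ?_⟩
  intro X hX Y hY hXY
  obtain ⟨p, r, h, rfl⟩ := (mem_SSK X).1 hX
  obtain ⟨p', r', h', rfl⟩ := (mem_SSK Y).1 hY
  rcases pair_cases p r p' r' h h' with hc | hc | hc
  · exfalso
    exact not_rank_one_of_comm _ _ (subgroupOf_ne_bot _ _ (RS_le p r h) (RS_ne_bot p r h))
      (comm_sub p r p' r' h h' hc) hXY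
  · exact psl2_subgroupOf F _ _ _ (RS_le p r h) (RS_le p' r' h') hc.2
  · exfalso
    have hK := commCase_subgroupOf (KK (F := F) (N := N)) _ _ _ (RS_le p r h) (RS_le p' r' h') hc
    obtain ⟨k1, k2, -, -⟩ := hK
    refine not_rankOne_of_commCase _ _ (subgroupOf_comm _ _ (RS_comm p r h)) ?_ k2 hXY
    obtain ⟨p'', r'', h'', e⟩ := (mem_SSK _).1 k1
    rw [e]
    exact subgroupOf_ne_bot _ _ (RS_le p'' r'' h'') (RS_ne_bot p'' r'' h'')

end

/-! ### the statement's literal family -/

section literal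
variable (F : Type*) [Field F] (N : ℕ)

/-- the family of the statement, literally -/
def SSt : Set (Subgroup ↥(Cfsg.isometryGroup F (Cfsg.quadFormPlus N F))) :=
  {A : Subgroup ↥(Cfsg.isometryGroup F (Cfsg.quadFormPlus N F)) | ∃ p r : Fin N ⊕ Fin N → F, LinearIndependent F ![p, r] ∧
          Cfsg.quadFormPlus N F p = 0 ∧ Cfsg.quadFormPlus N F r = 0 ∧
          Cfsg.quadFormPlus N F (p + r) = 0 ∧
          A = Subgroup.closure {σ : ↥(Cfsg.isometryGroup F (Cfsg.quadFormPlus N F)) | ∀ v : Fin N ⊕ Fin N → F,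
            Cfsg.quadFormPlus N F (v + p) - Cfsg.quadFormPlus N F v - Cfsg.quadFormPlus N F p = 0 →
            Cfsg.quadFormPlus N F (v + r) - Cfsg.quadFormPlus N F v - Cfsg.quadFormPlus N F r = 0 →
              ((σ : Matrix.GeneralLinearGroup (Fin N ⊕ Fin N) F) : Matrix (Fin N ⊕ Fin N) (Fin N ⊕ Fin N) F) *ᵥ v = v}}

theorem SSt_eq : SSt F N = SS0 (F := F) (N := N) := by
  ext A
  constructor
  · rintro ⟨p, r, hind, hp, hr, hpr, rfl⟩
    exact ⟨p, r, isLine_of p r hind hp hr hpr, rfl⟩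
  · rintro ⟨p, r, h, rfl⟩
    refine ⟨p, r, h.indep, h.hp, h.hr, ?_, rfl⟩
    have e : (QPlus N F) (p + r) = 0 := by
      rw [Q_add, h.hp, h.hr, h.hpr]; ring
    exact e

theorem main_kroot :
    Cfsg.IsKRootSubgroupSet F
      ((fun A : Subgroup ↥(Cfsg.isometryGroup F (Cfsg.quadFormPlus N F)) =>
        A.subgroupOf (⨆ B ∈ SSt F N, B)) '' SSt F N) := by
  rw [SSt_eq]
  exact isKRoot

theorem main_connected (hN : 3 ≤ N) :
    Cfsg.IsConnectedFamily (Cfsg.FAdj (SSt F N)) (SSt F N) := by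
  rw [SSt_eq]
  exact connected hN

end literal

end Cfsg.Agent.Lib.Helper11.SiegelRoot
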