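import Mathlib

set_option autoImplicit false
set_option linter.unusedSectionVars false

namespace Cfsg.Agent.Lib.Helper11.Sp2

open Matrix

variable {l : Type*} [Fintype l] [DecidableEq l]

/-- The symplectic form on `(l ⊕ l → ZMod 2)`. -/
def B (x y : l ⊕ l → ZMod 2) : ZMod 2 := x ⬝ᵥ (Matrix.J l (ZMod 2) *ᵥ y)

theorem z2_cases (a : ZMod 2) : a = 0 ∨ a = 1 := by
  revert a; decide

theorem z2_add_self (a : ZMod 2) : a + a = 0 := by
  revert a; decide

theorem z2_neg (a : ZMod 2) : -a = a := by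
  revert a; decide

theorem z2_ne_zero {a : ZMod 2} (h : a ≠ 0) : a = 1 := by
  rcases z2_cases a with h' | h'
  · exact absurd h' h
  · exact h'

theorem vec_add_self (x : l ⊕ l → ZMod 2) : x + x = 0 := by
  ext i; simp [z2_add_self]

theorem B_add_left (x y z : l ⊕ l → ZMod 2) : B (x + y) z = B x z + B y z := by
  unfold B; rw [add_dotProduct]

theorem B_add_right (x y z : l ⊕ l → ZMod 2) : B x (y + z) = B x y + B x z := by
  unfold B; rw [mulVec_add, dotProduct_add]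

theorem B_smul_left (c : ZMod 2) (x y : l ⊕ l → ZMod 2) : B (c • x) y = c * B x y := by
  unfold B; rw [smul_dotProduct, smul_eq_mul]

theorem B_smul_right (c : ZMod 2) (x y : l ⊕ l → ZMod 2) : B x (c • y) = c * B x y := by
  unfold B; rw [mulVec_smul, dotProduct_smul, smul_eq_mul]

@[simp] theorem B_zero_left (y : l ⊕ l → ZMod 2) : B 0 y = 0 := by
  unfold B; simp

@[simp] theorem B_zero_right (x : l ⊕ l → ZMod 2) : B x 0 = 0 := by
  unfold B; simp

theorem B_comm (x y : l ⊕ l → ZMod 2) : B x y = B y x := by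
  unfold B
  rw [dotProduct_mulVec, ← mulVec_transpose, J_transpose, neg_mulVec, neg_dotProduct, z2_neg,
    dotProduct_comm]

@[simp] theorem B_self (x : l ⊕ l → ZMod 2) : B x x = 0 := by
  unfold B J
  rw [fromBlocks_mulVec]
  simp only [dotProduct, Fintype.sum_sum_type, Sum.elim_inl, Sum.elim_inr, zero_mulVec,
    neg_mulVec, one_mulVec, Pi.neg_apply, zero_add, add_zero,
    Function.comp_apply, z2_neg]
  rw [← Finset.sum_add_distrib]
  apply Finset.sum_eq_zero
  intro i _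
  rw [mul_comm]
  exact z2_add_self _

theorem B_nondeg {x : l ⊕ l → ZMod 2} (hx : x ≠ 0) : ∃ y, B x y = 1 := by
  have : ∃ i, x i ≠ 0 := by
    by_contra h
    push Not at h
    exact hx (funext h)
  obtain ⟨i, hi⟩ := this
  refine ⟨J l (ZMod 2) *ᵥ Pi.single i 1, ?_⟩
  unfold B
  rw [mulVec_mulVec, J_squared, neg_mulVec, one_mulVec, dotProduct_neg, z2_neg,
    dotProduct_single_one]
  exact z2_ne_zero hi

theorem B_mulVec {A : Matrix (l ⊕ l) (l ⊕ l) (ZMod 2)} (hA : A ∈ symplecticGroup l (ZMod 2))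
    (x y : l ⊕ l → ZMod 2) : B (A *ᵥ x) (A *ᵥ y) = B x y := by
  unfold B
  rw [← vecMul_transpose, ← dotProduct_mulVec, mulVec_mulVec, mulVec_mulVec,
    SymplecticGroup.mem_iff'.mp hA]

theorem mem_of_B {A : Matrix (l ⊕ l) (l ⊕ l) (ZMod 2)}
    (h : ∀ x y, B (A *ᵥ x) (A *ᵥ y) = B x y) : A ∈ symplecticGroup l (ZMod 2) := by
  rw [SymplecticGroup.mem_iff']
  ext i j
  have := h (Pi.single i 1) (Pi.single j 1)
  unfold B at this
  rw [← vecMul_transpose, ← dotProduct_mulVec, mulVec_mulVec, mulVec_mulVec,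
    mulVec_single_one, mulVec_single_one, single_one_dotProduct, single_one_dotProduct] at this
  exact this

/-- The transvection matrix with centre `w`. -/
def tvM (w : l ⊕ l → ZMod 2) : Matrix (l ⊕ l) (l ⊕ l) (ZMod 2) :=
  1 + vecMulVec w (J l (ZMod 2) *ᵥ w)

theorem tvM_mulVec (w x : l ⊕ l → ZMod 2) : tvM w *ᵥ x = x + B x w • w := by
  unfold tvM B
  rw [add_mulVec, one_mulVec, vecMulVec_mulVec, op_smul_eq_smul, dotProduct_comm]

theorem tvM_mem (w : l ⊕ l → ZMod 2) : tvM w ∈ symplecticGroup l (ZMod 2) := by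
  apply mem_of_B
  intro x y
  rw [tvM_mulVec, tvM_mulVec]
  simp only [B_add_left, B_add_right, B_smul_left, B_smul_right, B_self, mul_zero, add_zero]
  rw [B_comm w y, add_assoc, mul_comm, z2_add_self, add_zero]

abbrev Sp (l : Type*) [Fintype l] [DecidableEq l] := ↥(symplecticGroup l (ZMod 2))

/-- The transvection with centre `w` as an element of the symplectic group. -/
def tv (w : l ⊕ l → ZMod 2) : Sp l := ⟨tvM w, tvM_mem w⟩

theorem act_tv (w x : l ⊕ l → ZMod 2) : (tv w).1 *ᵥ x = x + B x w • w := tvM_mulVec w x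

theorem act_mul (g h : Sp l) (x : l ⊕ l → ZMod 2) : (g * h).1 *ᵥ x = g.1 *ᵥ (h.1 *ᵥ x) := by
  rw [Submonoid.coe_mul, mulVec_mulVec]

theorem act_one (x : l ⊕ l → ZMod 2) : (1 : Sp l).1 *ᵥ x = x := by
  rw [Submonoid.coe_one, one_mulVec]

theorem ext_act {g h : Sp l} (H : ∀ x, g.1 *ᵥ x = h.1 *ᵥ x) : g = h :=
  Subtype.ext (ext_iff_mulVec.mpr H)

theorem B_act (g : Sp l) (x y : l ⊕ l → ZMod 2) : B (g.1 *ᵥ x) (g.1 *ᵥ y) = B x y :=
  B_mulVec g.2 x y

theorem act_inv_act (g : Sp l) (x : l ⊕ l → ZMod 2) : (g⁻¹).1 *ᵥ (g.1 *ᵥ x) = x := by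
  rw [← act_mul, inv_mul_cancel, act_one]

theorem act_act_inv (g : Sp l) (x : l ⊕ l → ZMod 2) : g.1 *ᵥ ((g⁻¹).1 *ᵥ x) = x := by
  rw [← act_mul, mul_inv_cancel, act_one]

theorem act_add (g : Sp l) (x y : l ⊕ l → ZMod 2) : g.1 *ᵥ (x + y) = g.1 *ᵥ x + g.1 *ᵥ y :=
  mulVec_add _ _ _

theorem act_smul (g : Sp l) (c : ZMod 2) (x : l ⊕ l → ZMod 2) :
    g.1 *ᵥ (c • x) = c • (g.1 *ᵥ x) :=
  mulVec_smul _ _ _

theorem act_zero (g : Sp l) : g.1 *ᵥ (0 : l ⊕ l → ZMod 2) = 0 := mulVec_zero _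

theorem tv_mul_self (w : l ⊕ l → ZMod 2) : tv w * tv w = 1 := by
  apply ext_act
  intro x
  rw [act_mul, act_tv, act_tv, act_one]
  simp only [B_add_left, B_smul_left, B_self, mul_zero, add_zero]
  rw [add_assoc, ← add_smul, z2_add_self, zero_smul, add_zero]

theorem tv_inv (w : l ⊕ l → ZMod 2) : (tv w)⁻¹ = tv w :=
  inv_eq_of_mul_eq_one_left (tv_mul_self w)

theorem tv_zero : tv (0 : l ⊕ l → ZMod 2) = 1 := by
  apply ext_act
  intro x
  rw [act_tv, act_one]
  simp

theorem conj_tv (g : Sp l) (w : l ⊕ l → ZMod 2) : g * tv w * g⁻¹ = tv (g.1 *ᵥ w) := by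
  apply ext_act
  intro x
  rw [act_mul, act_mul, act_tv, act_tv, act_add, act_smul, act_act_inv]
  congr 2
  rw [← B_act g, act_act_inv]

theorem tv_ne_one {w : l ⊕ l → ZMod 2} (hw : w ≠ 0) : tv w ≠ 1 := by
  intro h
  obtain ⟨y, hy⟩ := B_nondeg hw
  have := congrArg (fun g : Sp l => g.1 *ᵥ y) h
  simp only [act_tv, act_one] at this
  rw [B_comm, hy, one_smul] at this
  exact hw (by simpa using this)

theorem orderOf_tv {w : l ⊕ l → ZMod 2} (hw : w ≠ 0) : orderOf (tv w) = 2 := by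
  apply orderOf_eq_prime
  · rw [pow_two]; exact tv_mul_self w
  · exact tv_ne_one hw

theorem tv_comm_of_B_zero {w v : l ⊕ l → ZMod 2} (h : B w v = 0) :
    tv w * tv v = tv v * tv w := by
  have h1 := conj_tv (tv w) v
  rw [act_tv, B_comm, h, zero_smul, add_zero, tv_inv] at h1
  calc tv w * tv v = tv w * tv v * (tv w * tv w) := by rw [tv_mul_self, mul_one]
    _ = (tv w * tv v * tv w) * tv w := by group
    _ = tv v * tv w := by rw [h1]

theorem tv_braid_of_B_one {w v : l ⊕ l → ZMod 2} (h : B w v = 1) :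
    tv w * tv v * tv w = tv v * tv w * tv v := by
  have h1 := conj_tv (tv w) v
  rw [act_tv, B_comm, h, one_smul, tv_inv] at h1
  have h2 := conj_tv (tv v) w
  rw [act_tv, h, one_smul, tv_inv, add_comm] at h2
  rw [h1, h2]

theorem tv_three {w v : l ⊕ l → ZMod 2} :
    (tv w * tv v) ^ 2 = 1 ∨ (tv w * tv v) ^ 3 = 1 := by
  rcases z2_cases (B w v) with h | h
  · left
    rw [pow_two]
    calc tv w * tv v * (tv w * tv v) = tv w * tv v * (tv v * tv w) := by
          rw [tv_comm_of_B_zero h]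
      _ = tv w * (tv v * tv v) * tv w := by group
      _ = 1 := by rw [tv_mul_self, mul_one, tv_mul_self]
  · right
    rw [pow_succ, pow_two]
    calc tv w * tv v * (tv w * tv v) * (tv w * tv v)
        = tv w * (tv v * tv w * tv v) * tv w * tv v := by group
      _ = tv w * (tv w * tv v * tv w) * tv w * tv v := by rw [tv_braid_of_B_one h]
      _ = (tv w * tv w) * tv v * (tv w * tv w) * tv v := by group
      _ = 1 := by rw [tv_mul_self, one_mul, mul_one, tv_mul_self]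

theorem J_mulVec_ne_zero {w : l ⊕ l → ZMod 2} (hw : w ≠ 0) : J l (ZMod 2) *ᵥ w ≠ 0 := by
  intro h
  have := congrArg (fun v => J l (ZMod 2) *ᵥ v) h
  simp only [mulVec_mulVec, J_squared, neg_mulVec, one_mulVec, mulVec_zero, neg_eq_zero] at this
  exact hw this

theorem tv_sub_one (w : l ⊕ l → ZMod 2) :
    (tv w).1 - 1 = vecMulVec w (J l (ZMod 2) *ᵥ w) := by
  show tvM w - 1 = _
  unfold tvM
  simp

theorem rank_tv {w : l ⊕ l → ZMod 2} (hw : w ≠ 0) : ((tv w).1 - 1).rank = 1 := by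
  rw [tv_sub_one]
  apply le_antisymm (rank_vecMulVec_le _ _)
  rw [Nat.one_le_iff_ne_zero]
  intro h0
  unfold Matrix.rank at h0
  rw [Submodule.finrank_eq_zero, LinearMap.range_eq_bot] at h0
  have hne : vecMulVec w (J l (ZMod 2) *ᵥ w) ≠ 0 := vecMulVec_ne_zero hw (J_mulVec_ne_zero hw)
  apply hne
  rw [ext_iff_mulVec]
  intro v
  have := LinearMap.congr_fun h0 v
  simpa using this

theorem exists_tv_of_rank (g : Sp l) (h : (g.1 - 1).rank = 1) : ∃ w, w ≠ 0 ∧ g = tv w := by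
  unfold Matrix.rank at h
  rw [finrank_eq_one_iff'] at h
  obtain ⟨⟨w0, hw0r⟩, hw0, hall⟩ := h
  have hw0' : w0 ≠ 0 := fun h' => hw0 (Subtype.ext h')
  have hc : ∀ x, ∃ c : ZMod 2, g.1 *ᵥ x = x + c • w0 := by
    intro x
    obtain ⟨c, hc⟩ := hall ⟨(g.1 - 1).mulVecLin x, LinearMap.mem_range_self _ x⟩
    refine ⟨c, ?_⟩
    have h2 := congrArg Subtype.val hc
    simp only [Submodule.coe_smul, mulVecLin_apply, sub_mulVec, one_mulVec] at h2
    rw [h2]
    abel
  obtain ⟨y0, hy0⟩ : ∃ y0, g.1 *ᵥ y0 = y0 + w0 := by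
    obtain ⟨y0, hy0⟩ := hw0r
    refine ⟨y0, ?_⟩
    simp only [mulVecLin_apply, sub_mulVec, one_mulVec] at hy0
    rw [← hy0]
    abel
  choose c hc using hc
  have key : ∀ x y, c y * B x w0 = c x * B y w0 := by
    intro x y
    have h1 := B_act g x y
    rw [hc x, hc y] at h1
    simp only [B_add_left, B_add_right, B_smul_left, B_smul_right, B_self, mul_zero,
      add_zero] at h1
    rw [B_comm w0 y] at h1
    have h2 : c y * B x w0 + c x * B y w0 = 0 := by
      have h3 : B x y + (c y * B x w0 + c x * B y w0) = B x y + 0 := by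
        rw [add_zero, add_comm (c y * B x w0), ← add_assoc]; exact h1
      exact add_left_cancel h3
    calc c y * B x w0 = c y * B x w0 + (c x * B y w0 + c x * B y w0) := by
          rw [z2_add_self, add_zero]
      _ = (c y * B x w0 + c x * B y w0) + c x * B y w0 := by ring
      _ = c x * B y w0 := by rw [h2, zero_add]
  have hcy0 : c y0 = 1 := by
    have h1 := hc y0
    rw [hy0] at h1
    have h2 : w0 = c y0 • w0 := add_left_cancel h1
    rcases z2_cases (c y0) with h3 | h3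
    · rw [h3, zero_smul] at h2
      exact absurd h2 hw0'
    · exact h3
  obtain ⟨x1, hx1⟩ := B_nondeg hw0'
  have hB : B y0 w0 = 1 := by
    have h1 := key x1 y0
    rw [hcy0, one_mul, B_comm, hx1] at h1
    rcases z2_cases (B y0 w0) with h3 | h3
    · rw [h3, mul_zero] at h1
      exact absurd h1 one_ne_zero
    · exact h3
  refine ⟨w0, hw0', ?_⟩
  apply ext_act
  intro x
  rw [act_tv, hc x]
  have h1 := key x y0
  rw [hcy0, one_mul, hB, mul_one] at h1
  rw [h1]

theorem rank_iff (g : Sp l) : (g.1 - 1).rank = 1 ↔ ∃ w, w ≠ 0 ∧ g = tv w := by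
  constructor
  · exact exists_tv_of_rank g
  · rintro ⟨w, hw, rfl⟩
    exact rank_tv hw

/-- The subgroup generated by the transvections. -/
def TV (l : Type*) [Fintype l] [DecidableEq l] : Subgroup (Sp l) :=
  Subgroup.closure {g | ∃ w : l ⊕ l → ZMod 2, w ≠ 0 ∧ g = tv w}

theorem tv_mem_TV (w : l ⊕ l → ZMod 2) : tv w ∈ TV l := by
  by_cases hw : w = 0
  · rw [hw, tv_zero]; exact one_mem _
  · exact Subgroup.subset_closure ⟨w, hw, rfl⟩

theorem exists_common {u v : l ⊕ l → ZMod 2} (hu : u ≠ 0) (hv : v ≠ 0) :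
    ∃ w, B u w = 1 ∧ B v w = 1 := by
  obtain ⟨x, hx⟩ := B_nondeg hu
  obtain ⟨y, hy⟩ := B_nondeg hv
  rcases z2_cases (B v x) with h1 | h1
  · rcases z2_cases (B u y) with h2 | h2
    · exact ⟨x + y, by rw [B_add_right, hx, h2, add_zero], by rw [B_add_right, h1, hy, zero_add]⟩
    · exact ⟨y, h2, hy⟩
  · exact ⟨x, hx, h1⟩

theorem tv_swap {u v : l ⊕ l → ZMod 2} (h : B u v = 1) : (tv (u + v)).1 *ᵥ u = v := by
  rw [act_tv, B_add_right, B_self, zero_add, h, one_smul, ← add_assoc, vec_add_self, zero_add]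

theorem trans_TV {u v : l ⊕ l → ZMod 2} (hu : u ≠ 0) (hv : v ≠ 0) :
    ∃ g ∈ TV l, g.1 *ᵥ u = v := by
  rcases z2_cases (B u v) with h | h
  · obtain ⟨w, hw1, hw2⟩ := exists_common hu hv
    refine ⟨tv (w + v) * tv (u + w), mul_mem (tv_mem_TV _) (tv_mem_TV _), ?_⟩
    rw [act_mul, tv_swap hw1, tv_swap (by rw [B_comm]; exact hw2)]
  · exact ⟨tv (u + v), tv_mem_TV _, tv_swap h⟩

theorem D_eq_conj {e : l ⊕ l → ZMod 2} (he : e ≠ 0) :
    {g : Sp l | (g.1 - 1).rank = 1} = conjugatesOf (tv e) := by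
  ext g
  rw [Set.mem_ofPred_eq, rank_iff]
  show _ ↔ IsConj (tv e) g
  rw [isConj_iff]
  constructor
  · rintro ⟨w, hw, rfl⟩
    obtain ⟨h, -, hh⟩ := trans_TV he hw
    exact ⟨h, by rw [conj_tv, hh]⟩
  · rintro ⟨c, rfl⟩
    refine ⟨c.1 *ᵥ e, ?_, conj_tv c e⟩
    intro h0
    apply he
    have h1 : (c⁻¹).1 *ᵥ (c.1 *ᵥ e) = (c⁻¹).1 *ᵥ 0 := by rw [h0]
    rw [act_inv_act, act_zero] at h1
    exact h1

/-- The set of vectors not fixed by `g`. -/
def nonfix (g : Sp l) : Finset (l ⊕ l → ZMod 2) :=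
  Finset.univ.filter (fun x => g.1 *ᵥ x ≠ x)

theorem stepA (g : Sp l) {x : l ⊕ l → ZMod 2} (hx : B x (g.1 *ᵥ x) = 1) :
    ∃ w, nonfix (tv w * g) ⊂ nonfix g := by
  refine ⟨g.1 *ᵥ x + x, ?_⟩
  have hfix : ∀ y, g.1 *ᵥ y = y → (tv (g.1 *ᵥ x + x) * g).1 *ᵥ y = y := by
    intro y hy
    rw [act_mul, hy, act_tv, B_add_right]
    have : B y (g.1 *ᵥ x) = B y x := by
      conv_lhs => rw [← hy]
      exact B_act g y x
    rw [this, z2_add_self, zero_smul, add_zero]
  have hxfix : (tv (g.1 *ᵥ x + x) * g).1 *ᵥ x = x := by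
    rw [act_mul, act_tv, B_add_right, B_self, zero_add, B_comm, hx, one_smul, ← add_assoc,
      vec_add_self, zero_add]
  have hxn : g.1 *ᵥ x ≠ x := by
    intro h
    rw [h, B_self] at hx
    exact zero_ne_one hx
  rw [Finset.ssubset_iff_of_subset]
  · refine ⟨x, ?_, ?_⟩
    · simp only [nonfix, Finset.mem_filter, Finset.mem_univ, true_and]
      exact hxn
    · simp only [nonfix, Finset.mem_filter, Finset.mem_univ, true_and, not_not]
      exact hxfix
  · intro y hy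
    simp only [nonfix, Finset.mem_filter, Finset.mem_univ, true_and] at hy ⊢
    exact fun h => hy (hfix y h)

theorem stepB (g : Sp l) (hg : g ≠ 1) (h0 : ∀ x, B x (g.1 *ᵥ x) = 0) :
    ∃ z, nonfix (tv z * g) ⊆ nonfix g ∧ ∃ x, B x ((tv z * g).1 *ᵥ x) = 1 := by
  obtain ⟨x, hx⟩ : ∃ x, g.1 *ᵥ x ≠ x := by
    by_contra h
    push Not at h
    apply hg
    apply ext_act
    intro x
    rw [h x, act_one]
  have hne : g.1 *ᵥ x + x ≠ 0 := by
    intro h
    apply hx
    have h2 : g.1 *ᵥ x + x + x = 0 + x := by rw [h]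
    rw [add_assoc, vec_add_self, add_zero, zero_add] at h2
    exact h2
  obtain ⟨y, hy⟩ := B_nondeg hne
  have hpol : ∀ a b, B a (g.1 *ᵥ b) = B b (g.1 *ᵥ a) := by
    intro a b
    have h1 := h0 (a + b)
    rw [act_add, B_add_left, B_add_right, B_add_right, h0 a, h0 b, zero_add, add_zero] at h1
    calc B a (g.1 *ᵥ b) = B a (g.1 *ᵥ b) + (B b (g.1 *ᵥ a) + B b (g.1 *ᵥ a)) := by
          rw [z2_add_self, add_zero]
      _ = (B a (g.1 *ᵥ b) + B b (g.1 *ᵥ a)) + B b (g.1 *ᵥ a) := by ring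
      _ = B b (g.1 *ᵥ a) := by rw [h1, zero_add]
  refine ⟨g.1 *ᵥ y + y, ?_, x, ?_⟩
  · intro y' hy'
    simp only [nonfix, Finset.mem_filter, Finset.mem_univ, true_and] at hy' ⊢
    intro h
    apply hy'
    rw [act_mul, h, act_tv, B_add_right]
    have : B y' (g.1 *ᵥ y) = B y' y := by
      conv_lhs => rw [← h]
      exact B_act g y' y
    rw [this, z2_add_self, zero_smul, add_zero]
  · have hxz : B x (g.1 *ᵥ y + y) = 1 := by
      rw [B_add_right, hpol x y, B_comm y (g.1 *ᵥ x), ← B_add_left]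
      exact hy
    have hgxz : B (g.1 *ᵥ x) (g.1 *ᵥ y + y) = 1 := by
      rw [B_add_right, B_act, add_comm, ← B_add_left]
      exact hy
    rw [act_mul, act_tv, B_add_right, h0 x, zero_add, B_smul_right, hgxz, hxz, mul_one]

theorem mem_TV (g : Sp l) : g ∈ TV l := by
  induction' hk : (nonfix g).card using Nat.strong_induction_on with k ih generalizing g
  by_cases hg : g = 1
  · rw [hg]; exact one_mem _
  by_cases hA : ∃ x, B x (g.1 *ᵥ x) = 1
  · obtain ⟨x, hx⟩ := hA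
    obtain ⟨w, hw⟩ := stepA g hx
    have h1 := ih _ (by rw [← hk]; exact Finset.card_lt_card hw) (tv w * g) rfl
    have h2 : g = tv w * (tv w * g) := by rw [← mul_assoc, tv_mul_self, one_mul]
    rw [h2]
    exact mul_mem (tv_mem_TV w) h1
  · push Not at hA
    have h0 : ∀ x, B x (g.1 *ᵥ x) = 0 := fun x => by
      rcases z2_cases (B x (g.1 *ᵥ x)) with h | h
      · exact h
      · exact absurd h (hA x)
    obtain ⟨z, hz1, x, hx⟩ := stepB g hg h0
    obtain ⟨w, hw⟩ := stepA (tv z * g) hx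
    have hlt : (nonfix (tv w * (tv z * g))).card < k := by
      rw [← hk]
      exact lt_of_lt_of_le (Finset.card_lt_card hw) (Finset.card_le_card hz1)
    have h1 := ih _ hlt (tv w * (tv z * g)) rfl
    have h2 : g = tv z * (tv w * (tv w * (tv z * g))) := by
      rw [← mul_assoc (tv w), tv_mul_self, one_mul, ← mul_assoc, tv_mul_self, one_mul]
    rw [h2]
    exact mul_mem (tv_mem_TV z) (mul_mem (tv_mem_TV w) h1)

theorem TV_eq_top : TV l = ⊤ := by
  rw [eq_top_iff]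
  intro g _
  exact mem_TV g

theorem closure_D_eq_top :
    Subgroup.closure {g : Sp l | (g.1 - 1).rank = 1} = ⊤ := by
  have : {g : Sp l | (g.1 - 1).rank = 1} = {g | ∃ w : l ⊕ l → ZMod 2, w ≠ 0 ∧ g = tv w} := by
    ext g
    rw [Set.mem_ofPred_eq, rank_iff]
    rfl
  rw [this]
  exact TV_eq_top

end Cfsg.Agent.Lib.Helper11.Sp2
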