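import Mathlib
import Cfsg.Agent.Lib.Helper11.SpPerfect

set_option autoImplicit false

namespace Cfsg.Agent.Lib.Helper11.Sp43

open Cfsg.Agent.Lib.Helper18 Cfsg.Agent.Lib.Helper11.SpPerfect Matrix Module

theorem finrank_ker_comp_le {F W : Type*} [Field F] [AddCommGroup W] [Module F W]
    [FiniteDimensional F W] (g h : W →ₗ[F] W) :
    finrank F (LinearMap.ker (g ∘ₗ h)) ≤
      finrank F (LinearMap.ker g) + finrank F (LinearMap.ker h) := by
  set K := LinearMap.ker (g ∘ₗ h) with hK
  let h' : K →ₗ[F] W := h ∘ₗ K.subtype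
  have h1 := LinearMap.finrank_range_add_finrank_ker h'
  have h2 : finrank F (LinearMap.range h') ≤ finrank F (LinearMap.ker g) := by
    apply Submodule.finrank_mono
    rintro _ ⟨y, rfl⟩
    have : (g ∘ₗ h) y.1 = 0 := LinearMap.mem_ker.1 y.2
    rw [LinearMap.mem_ker]
    exact this
  have h3 : finrank F (LinearMap.ker h') ≤ finrank F (LinearMap.ker h) := by
    rw [← Submodule.finrank_map_subtype_eq K (LinearMap.ker h')]
    apply Submodule.finrank_mono
    rintro _ ⟨y, hy, rfl⟩
    rw [SetLike.mem_coe, LinearMap.mem_ker] at hy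
    rw [LinearMap.mem_ker]
    exact hy
  omega

section
variable {F : Type*} [Field F]

local notation "V" => (Fin 2 ⊕ Fin 2 → F)
local notation "f" => Cfsg.sympForm 2 F
local notation "G" => Matrix.symplecticGroup (Fin 2) F

/-- the nilpotent part `A - 1` as a linear map (in the shape used by the statement). -/
noncomputable def NN (A : G) : V →ₗ[F] V := Matrix.toLin' A.1 - LinearMap.id

theorem NN_apply (A : G) (v : V) : NN A v = A.1 *ᵥ v - v := by
  simp [NN]

theorem mem_ker_NN (A : G) (v : V) : v ∈ LinearMap.ker (NN A) ↔ A.1 *ᵥ v = v := by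
  rw [LinearMap.mem_ker, NN_apply, sub_eq_zero]

theorem finrank_V : finrank F V = 4 := by
  rw [Module.finrank_fintype_fun_eq_card]
  simp

theorem sf_act (A : G) (x y : V) : f (A.1 *ᵥ x) (A.1 *ᵥ y) = f x y :=
  sf_mulVec_of_mem 2 A.1 A.2 x y

/-- the range of `A - 1` is orthogonal to its kernel. -/
theorem range_perp_ker (A : G) (z k : V) (hk : A.1 *ᵥ k = k) : f (NN A z) k = 0 := by
  rw [NN_apply, sf_sub_left]
  conv_lhs => rw [← hk]
  rw [sf_act, hk, sub_self]

theorem NN_cube (A : G) (h3 : (3 : F) = 0) (hA : A ^ 3 = 1) (v : V) :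
    NN A (NN A (NN A v)) = 0 := by
  have hA' : A.1 *ᵥ (A.1 *ᵥ (A.1 *ᵥ v)) = v := by
    have : A * A * A = 1 := by rw [← hA, pow_succ, pow_succ, pow_one]
    rw [Matrix.mulVec_mulVec, Matrix.mulVec_mulVec, ← val_mul, ← val_mul, this, val_one,
      Matrix.one_mulVec]
  simp only [NN_apply, Matrix.mulVec_sub, hA']
  have : ∀ a b : V, v - a - (a - b) - (a - b - (b - v)) = (3 : F) • (b - a) := by
    intro a b
    ext i
    simp only [Pi.sub_apply, Pi.smul_apply, smul_eq_mul]
    ring
  rw [this, h3, zero_smul]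

theorem two_le_finrank_ker (A : G) (h3 : (3 : F) = 0) (hA : A ^ 3 = 1) :
    2 ≤ finrank F (LinearMap.ker (NN A)) := by
  have htop : LinearMap.ker (NN A ∘ₗ (NN A ∘ₗ NN A)) = ⊤ := by
    rw [eq_top_iff]
    intro v _
    rw [LinearMap.mem_ker]
    exact NN_cube A h3 hA v
  have h1 := finrank_ker_comp_le (NN A) (NN A ∘ₗ NN A)
  have h2 := finrank_ker_comp_le (NN A) (NN A)
  rw [htop, finrank_top, finrank_V] at h1
  omega

theorem eq_one_of_finrank_ker (A : G) (h : finrank F (LinearMap.ker (NN A)) = 4) : A = 1 := by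
  have htop : LinearMap.ker (NN A) = ⊤ := by
    apply Submodule.eq_top_of_finrank_eq
    rw [h, finrank_V]
  apply sp_ext
  intro x
  have : x ∈ LinearMap.ker (NN A) := by rw [htop]; trivial
  rw [mem_ker_NN] at this
  rw [this, val_one, Matrix.one_mulVec]

/-- if the fixed space of a unipotent symplectic `A` (with `(A-1)^3 = 0`) is 2-dimensional,
it is totally isotropic. -/
theorem isotropic_of_finrank_two (A : G) (h3 : (3 : F) = 0) (hA : A ^ 3 = 1)
    (h2 : finrank F (LinearMap.ker (NN A)) = 2) (v w : V) (hv : A.1 *ᵥ v = v)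
    (hw : A.1 *ᵥ w = w) : f v w = 0 := by
  by_contra hvw
  have hvK : v ∈ LinearMap.ker (NN A) := (mem_ker_NN A v).2 hv
  have hwK : w ∈ LinearMap.ker (NN A) := (mem_ker_NN A w).2 hw
  -- v, w independent
  have hli : LinearIndependent F ![v, w] := by
    rw [LinearIndependent.pair_iff]
    intro s t hst
    have e1 : f (s • v + t • w) w = 0 := by rw [hst, sf_zero_left]
    have e2 : f v (s • v + t • w) = 0 := by rw [hst, sf_zero_right]
    rw [sf_add_left, sf_smul_left, sf_smul_left, sf_self, mul_zero, add_zero] at e1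
    rw [sf_add_right, sf_smul_right, sf_smul_right, sf_self, mul_zero, zero_add] at e2
    exact ⟨(mul_eq_zero.1 e1).resolve_right hvw, (mul_eq_zero.1 e2).resolve_right hvw⟩
  have hspan : Submodule.span F {v, w} = LinearMap.ker (NN A) := by
    apply Submodule.eq_of_le_of_finrank_eq
    · rw [Submodule.span_le]
      intro z hz
      rcases hz with rfl | rfl
      · exact hvK
      · exact hwK
    · have := finrank_span_eq_card hli
      rw [Fintype.card_fin] at this
      have hr : Set.range ![v, w] = {v, w} := by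
        ext z
        simp [eq_comm, or_comm]
      rw [hr] at this
      rw [this, h2]
  -- ker ∩ range = 0
  have hint : ∀ z : V, NN A (NN A z) = 0 → NN A z = 0 := by
    intro z hz
    have hy : NN A z ∈ Submodule.span F {v, w} := by
      rw [hspan, LinearMap.mem_ker]; exact hz
    rw [Submodule.mem_span_pair] at hy
    obtain ⟨s, t, hst⟩ := hy
    have e1 : f (NN A z) w = 0 := range_perp_ker A z w hw
    have e2 : f (NN A z) v = 0 := range_perp_ker A z v hv
    rw [← hst, sf_add_left, sf_smul_left, sf_smul_left, sf_self, mul_zero, add_zero] at e1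
    rw [← hst, sf_add_left, sf_smul_left, sf_smul_left, sf_self, mul_zero, zero_add,
      sf_swap, mul_neg, neg_eq_zero] at e2
    have hs : s = 0 := (mul_eq_zero.1 e1).resolve_right hvw
    have ht : t = 0 := (mul_eq_zero.1 e2).resolve_right hvw
    rw [← hst, hs, ht, zero_smul, zero_smul, add_zero]
  have hzero : ∀ z : V, NN A z = 0 := by
    intro z
    apply hint
    apply hint
    exact NN_cube A h3 hA z
  have htop : LinearMap.ker (NN A) = ⊤ := by
    rw [eq_top_iff]
    intro z _
    rw [LinearMap.mem_ker]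
    exact hzero z
  rw [htop, finrank_top, finrank_V] at h2
  omega

/-- if the fixed space is 3-dimensional, `A` is a symplectic transvection. -/
theorem eq_tv_of_finrank_three (A : G) (h : finrank F (LinearMap.ker (NN A)) = 3) :
    ∃ (a : V) (c : F), A = tv 2 a c := by
  have hr : finrank F (LinearMap.range (NN A)) = 1 := by
    have := LinearMap.finrank_range_add_finrank_ker (NN A)
    rw [finrank_V] at this
    omega
  rw [finrank_eq_one_iff'] at hr
  obtain ⟨a', ha', hgen⟩ := hr
  set a : V := a'.1 with ha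
  have ha0 : a ≠ 0 := by
    intro h0
    apply ha'
    exact Subtype.ext h0
  have hl : ∀ v : V, ∃ c : F, NN A v = c • a := by
    intro v
    obtain ⟨c, hc⟩ := hgen ⟨NN A v, LinearMap.mem_range_self _ v⟩
    refine ⟨c, ?_⟩
    have := congrArg Subtype.val hc
    simpa using this.symm
  choose l hl using hl
  have hact : ∀ v : V, A.1 *ᵥ v = v + l v • a := by
    intro v
    have := hl v
    rw [NN_apply, sub_eq_iff_eq_add] at this
    rw [this, add_comm]
  have hrel : ∀ v w : V, l w * f v a = l v * f w a := by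
    intro v w
    have := sf_act A v w
    rw [hact, hact, sf_add_left, sf_add_right, sf_add_right, sf_smul_left, sf_smul_left,
      sf_smul_right, sf_smul_right, sf_self, sf_swap 2 a w] at this
    linear_combination this
  obtain ⟨w0, hw0⟩ := sf_nondeg_top 2 a ha0
  have hw0' : f w0 a ≠ 0 := by
    rw [sf_swap]; exact neg_ne_zero.2 hw0
  refine ⟨a, l w0 / f w0 a, ?_⟩
  apply sp_ext
  intro x
  rw [tv_act, hact]
  congr 2
  have := hrel x w0
  field_simp
  linear_combination (-1 : F) * this

theorem tv_comm_of_perp (w w' : V) (c c' : F) (h : f w w' = 0) :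
    Commute (tv 2 w c) (tv 2 w' c') := by
  have h' : f w' w = 0 := by rw [sf_swap, h, neg_zero]
  apply sp_ext
  intro x
  rw [val_mul, val_mul, ← Matrix.mulVec_mulVec, ← Matrix.mulVec_mulVec, tv_act, tv_act, tv_act,
    tv_act, sf_add_left, sf_add_left, sf_smul_left, sf_smul_left, h, h']
  simp only [mul_zero, add_zero]
  abel

end

end Cfsg.Agent.Lib.Helper11.Sp43
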