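import Mathlib
import Cfsg.Agent.Lib.Helper11.Sharp

set_option autoImplicit false

namespace Cfsg.Agent.Lib.Helper11

open MulAction

variable {α : Type*}

/-- the permutation representation of a point stabiliser on the remaining points -/
def stabHom (G : Subgroup (Equiv.Perm α)) (a : α) :
    stabilizer G a →* Equiv.Perm (SubMulAction.ofStabilizer G a) :=
  MulAction.toPermHom (stabilizer G a) (SubMulAction.ofStabilizer G a)

theorem stabHom_apply (G : Subgroup (Equiv.Perm α)) (a : α) (s : stabilizer G a)
    (b : SubMulAction.ofStabilizer G a) : ((stabHom G a s) b : α) = s.1.1 b.1 := rfl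

theorem stabHom_injective (G : Subgroup (Equiv.Perm α)) (a : α) :
    Function.Injective (stabHom G a) := by
  rw [injective_iff_map_eq_one]
  intro s hs
  apply Subtype.ext
  apply Subtype.ext
  ext b
  by_cases hb : b = a
  · subst hb
    exact s.2
  · have := congrArg (fun f : Equiv.Perm (SubMulAction.ofStabilizer G a) => (f ⟨b, hb⟩ : α)) hs
    simpa [stabHom_apply] using this

/-- the point stabiliser as a permutation group on the remaining points -/
def stabImage (G : Subgroup (Equiv.Perm α)) (a : α) :
    Subgroup (Equiv.Perm (SubMulAction.ofStabilizer G a)) :=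
  (stabHom G a).range

/-- the point stabiliser is isomorphic to its image -/
noncomputable def stabEquiv (G : Subgroup (Equiv.Perm α)) (a : α) :
    stabilizer G a ≃* stabImage G a :=
  MonoidHom.ofInjective (stabHom_injective G a)

theorem stabEquiv_apply (G : Subgroup (Equiv.Perm α)) (a : α) (s : stabilizer G a) :
    ((stabEquiv G a s : stabImage G a) : Equiv.Perm (SubMulAction.ofStabilizer G a)) =
      stabHom G a s := rfl

theorem stabImage_card (G : Subgroup (Equiv.Perm α)) (a : α) :
    Nat.card (stabImage G a) = Nat.card (stabilizer G a) :=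
  (Nat.card_congr (stabEquiv G a).toEquiv).symm

theorem stabImage_pretransitive (G : Subgroup (Equiv.Perm α)) (a : α) (n : ℕ)
    [h : IsMultiplyPretransitive (stabilizer G a) (SubMulAction.ofStabilizer G a) n] :
    IsMultiplyPretransitive (stabImage G a) (SubMulAction.ofStabilizer G a) n := by
  refine ⟨fun x y => ?_⟩
  obtain ⟨s, hs⟩ := h.exists_smul_eq x y
  refine ⟨stabEquiv G a s, ?_⟩
  ext i
  have := DFunLike.congr_fun hs i
  rw [← this]
  rfl

/-- sharpness passes to the point stabiliser -/
theorem stabImage_sharp [Fintype α] [DecidableEq α] (G : Subgroup (Equiv.Perm α)) (a : α)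
    (n : ℕ) (hsharp : ∀ x : Fin (n + 1) ↪ α, stabilizer G x = ⊥)
    (y : Fin n ↪ SubMulAction.ofStabilizer G a) : stabilizer (stabImage G a) y = ⊥ := by
  rw [eq_bot_iff]
  intro h hh
  rw [Subgroup.mem_bot]
  obtain ⟨s, hs⟩ := h.2
  have hfix : ∀ i, h.1 (y i) = y i := by
    intro i
    have := mem_stabilizer_iff.mp hh
    exact DFunLike.congr_fun this i
  have hs1 : s.1 = 1 := by
    apply sharp_elem G (n + 1) hsharp s.1 (SubMulAction.ofStabilizer.snoc y)
    intro i
    rcases Fin.eq_castSucc_or_eq_last i with ⟨j, rfl⟩ | rfl
    · rw [SubMulAction.ofStabilizer.snoc_castSucc]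
      have := hfix j
      rw [← hs] at this
      exact congrArg Subtype.val this
    · rw [SubMulAction.ofStabilizer.snoc_last]
      exact s.2
  have hs' : s = 1 := Subtype.ext hs1
  apply Subtype.ext
  rw [← hs, hs', map_one]
  rfl

end Cfsg.Agent.Lib.Helper11
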