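import Mathlib

/-!
# S4346 pack (no finite group has exactly 22 Sylow 3-subgroups): shared definitions

Everything is about the conjugation action of `G` on `Sylow 3 G` (Mathlib's
`Sylow.pointwiseMulAction`, `g • P`).
-/

set_option autoImplicit false

namespace Cfsg.Agent.Lib.Helper11.Syl22

/-- Two Sylow 3-subgroups meeting in a subgroup of index 3. -/
def Adj {G : Type*} [Group G] (P R : Sylow 3 G) : Prop :=
  3 * Nat.card ↥((P : Subgroup G) ⊓ (R : Subgroup G)) = Nat.card ↥(P : Subgroup G)

/-- Number of Sylow 3-subgroups normalised by `g` (fixed points of `g` on `Sylow 3 G`). -/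
noncomputable def fixN {G : Type*} [Group G] (g : G) : ℕ :=
  Nat.card ↥(MulAction.fixedBy (Sylow 3 G) g)

/-- The running hypothesis of Step 2: a finite simple group with 22 Sylow 3-subgroups, each of
order 3. (The pack shows this is contradictory.) -/
structure Ctx (G : Type*) [Group G] : Prop where
  fin : Finite G
  simple : IsSimpleGroup G
  h22 : Nat.card (Sylow 3 G) = 22
  h3 : ∀ P : Sylow 3 G, Nat.card ↥(P : Subgroup G) = 3

/-- `G` acts faithfully on its Sylow 3-subgroups. -/
def Faithful (G : Type*) [Group G] : Prop :=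
  ∀ g : G, (∀ Q : Sylow 3 G, g • Q = Q) → g = 1

/-- Every involution (or 1) has `22 ≡ fixN t (mod 4)` : it acts as an even permutation. -/
def InvFix (G : Type*) [Group G] : Prop :=
  ∀ t : G, t ^ 2 = 1 → 22 ≡ fixN t [MOD 4]

/-- Conclusion of the fixed-point lemma K-B4. -/
def FixLemma (G : Type*) [Group G] : Prop :=
  ∀ (g : G) (r : ℕ), r.Prime → 5 ≤ r → orderOf g = r →
    fixN g ≡ 22 [MOD r] ∧
      (fixN g = 0 ∨ (fixN g % 3 = 1 ∧ fixN g ∣ Nat.card ↥(Subgroup.centralizer ({g} : Set G))))

end Cfsg.Agent.Lib.Helper11.Syl22
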