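import Cfsg.Agent.Lib.Helper11.Syl22Defs
import Cfsg.Agent.Lib.Helper51.Syl22_AdjBasic
import Cfsg.Agent.Lib.Helper18.Syl22_InfEq

/-! K-S4346-A6 (fallback copy by the architect): the fixed set of `P ⊓ R` is a block. -/

set_option autoImplicit false

open scoped Pointwise

namespace Cfsg.Agent.Lib.Helper11.Syl22A6

open Cfsg.Agent.Lib.Helper11.Syl22

theorem fixed_card_dvd {G : Type*} [Group G] [Finite G] {P R : Sylow 3 G} (h : Adj P R) (a : ℕ)
    (ha : ∀ T : Sylow 3 G, Nat.card {S : Sylow 3 G // Adj T S} = a)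
    (hs : Nat.card {T : Sylow 3 G // (P : Subgroup G) ⊓ (R : Subgroup G) ≤ (T : Subgroup G)}
      = a + 1) :
    (a + 1) ∣ Nat.card (Sylow 3 G) := by
  classical
  set F : Set (Sylow 3 G) :=
    {T | (P : Subgroup G) ⊓ (R : Subgroup G) ≤ (T : Subgroup G)} with hF
  have hFcard : F.ncard = a + 1 := by
    rw [← Nat.card_coe_set_eq]; exact hs
  have claim1 : ∀ T ∈ F, ∀ S : Sylow 3 G, Adj T S → S ∈ F := by
    intro T hT S hTS
    have hsub : F \ {T} ⊆ {S : Sylow 3 G | Adj T S} := fun T' hT' =>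
      (Cfsg.Agent.Lib.Helper18.Syl22.inf_eq_of_le h hT hT'.1 (Ne.symm hT'.2)).2
    have hcard1 : (F \ {T}).ncard = a := by
      rw [Set.ncard_sdiff_singleton_of_mem hT, hFcard]; rfl
    have hcard2 : ({S : Sylow 3 G | Adj T S} : Set (Sylow 3 G)).ncard = a := by
      rw [← Nat.card_coe_set_eq]; exact ha T
    have heq := Set.eq_of_subset_of_ncard_le hsub (by rw [hcard1, hcard2]) (Set.toFinite _)
    have hmem : S ∈ ({S : Sylow 3 G | Adj T S} : Set (Sylow 3 G)) := hTS
    rw [← heq] at hmem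
    exact hmem.1
  have hblock : MulAction.IsBlock G F := by
    rw [MulAction.isBlock_iff_smul_eq_of_nonempty]
    rintro g ⟨U, hU1, hU2⟩
    obtain ⟨T, hT, rfl⟩ := hU1
    have hsub : g • F ⊆ F := by
      rintro _ ⟨T', hT', rfl⟩
      by_cases hTT' : T = T'
      · subst hTT'; exact hU2
      · have hadj := (Cfsg.Agent.Lib.Helper18.Syl22.inf_eq_of_le h hT hT' hTT').2
        have h2 : Adj (g • T) (g • T') :=
          (Cfsg.Agent.Lib.Helper51.Syl22.adj_smul_iff g T T').2 hadj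
        exact claim1 _ hU2 _ h2
    exact Set.eq_of_subset_of_ncard_le hsub (by rw [Set.ncard_smul_set]) (Set.toFinite _)
  have hne : F.Nonempty :=
    ⟨P, show (P : Subgroup G) ⊓ (R : Subgroup G) ≤ (P : Subgroup G) from inf_le_left⟩
  have := hblock.ncard_dvd_card hne
  rwa [hFcard] at this

end Cfsg.Agent.Lib.Helper11.Syl22A6
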