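import Cfsg.Agent.Lib.Helper11.Syl22Leaves

set_option autoImplicit false

namespace Cfsg.Agent.Lib.Helper11.Syl22

/-- Step 1: in a finite simple group with 22 Sylow 3-subgroups they have order 3. -/
theorem card_eq_three {G : Type*} [Group G] [Finite G] [IsSimpleGroup G]
    (h22 : Nat.card (Sylow 3 G) = 22) (P : Sylow 3 G) : Nat.card ↥(P : Subgroup G) = 3 := by
  classical
  obtain ⟨hsymm, hne, hcard⟩ := Stub.adj_basic (G := G)
  have ha9 : Nat.card {R : Sylow 3 G // Adj P R} % 9 = 3 := Stub.card_adj_mod_nine h22 P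
  have hale : Nat.card {R : Sylow 3 G // Adj P R} ≤ 22 := by
    rw [← h22]; exact Finite.card_subtype_le _
  generalize ha : Nat.card {R : Sylow 3 G // Adj P R} = a at ha9 hale
  have hne' : Nonempty {R : Sylow 3 G // Adj P R} := by
    by_contra hcon
    rw [not_nonempty_iff] at hcon
    have := Nat.card_of_isEmpty (α := {R : Sylow 3 G // Adj P R})
    omega
  obtain ⟨⟨R, hPR⟩⟩ := hne'
  have haT : ∀ T : Sylow 3 G, Nat.card {S : Sylow 3 G // Adj T S} = a := fun T => by
    rw [hcard P T, ha]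
  obtain ⟨hs3, hs2⟩ := Stub.card_fixed h22 hPR
  have hcount := Stub.count_ineq (Ω := Sylow 3 G) Adj
    {T : Sylow 3 G | (P : Subgroup G) ⊓ (R : Subgroup G) ≤ (T : Subgroup G)} a hsymm
    (fun x hx => hne x x hx rfl) (fun x _ => haT x)
    (fun x hx y hy hxy => (Stub.inf_eq_of_le hPR hx hy hxy).2)
    (fun y hy x hx x' hx' h1 h2 => Stub.adj_unique_of_not_le hPR hy hx hx' h1 h2)
  have hdvd := Stub.fixed_card_dvd hPR a haT
  have hcoe : Nat.card ↥{T : Sylow 3 G | (P : Subgroup G) ⊓ (R : Subgroup G) ≤ (T : Subgroup G)}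
      = Nat.card {T : Sylow 3 G // (P : Subgroup G) ⊓ (R : Subgroup G) ≤ (T : Subgroup G)} := rfl
  rw [hcoe, h22] at hcount
  rw [h22] at hdvd
  generalize hs : Nat.card {T : Sylow 3 G // (P : Subgroup G) ⊓ (R : Subgroup G) ≤ (T : Subgroup G)}
    = s at hs3 hs2 hcount hdvd
  obtain ⟨hc1, hc2⟩ := hcount
  have hne2 : ({T : Sylow 3 G | (P : Subgroup G) ⊓ (R : Subgroup G) ≤ (T : Subgroup G)}).Nonempty :=
    ⟨P, show (P : Subgroup G) ⊓ (R : Subgroup G) ≤ (P : Subgroup G) from inf_le_left⟩
  have hc2 := hc2 hne2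
  have hs22 : s = 22 := by
    have ha3 : a = 3 ∨ a = 12 ∨ a = 21 := by omega
    rcases ha3 with rfl | rfl | rfl
    · have : s = 4 := by omega
      subst this
      have := hdvd rfl
      omega
    · have hs' : s = 4 ∨ s = 7 ∨ s = 10 ∨ s = 13 := by omega
      rcases hs' with rfl | rfl | rfl | rfl
      · omega
      · omega
      · omega
      · have := hdvd rfl
        omega
    · have hs' : s = 4 ∨ s = 7 ∨ s = 10 ∨ s = 13 ∨ s = 16 ∨ s = 19 ∨ s = 22 := by omega
      rcases hs' with rfl | rfl | rfl | rfl | rfl | rfl | rfl <;> omega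
  have hall : ∀ T : Sylow 3 G, (P : Subgroup G) ⊓ (R : Subgroup G) ≤ (T : Subgroup G) := by
    have huniv : {T : Sylow 3 G | (P : Subgroup G) ⊓ (R : Subgroup G) ≤ (T : Subgroup G)}
        = Set.univ := by
      rw [Set.eq_univ_iff_ncard, h22, ← Nat.card_coe_set_eq, hcoe, hs, hs22]
    intro T
    have : T ∈ {T : Sylow 3 G | (P : Subgroup G) ⊓ (R : Subgroup G) ≤ (T : Subgroup G)} := by
      rw [huniv]; trivial
    exact this
  exact Stub.card_eq_three_of_forall_le (by omega) hPR hall

/-- involutions act evenly on any finite `G`-set: fixed points mod 4 -/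
theorem inv_fix_aux {G : Type*} [Group G] (c : Ctx G) {α : Type*} [Finite α] [MulAction G α]
    (t : G) (ht : t ^ 2 = 1) :
    Nat.card α ≡ Nat.card ↥(MulAction.fixedBy α t) [MOD 4] := by
  classical
  have : Fintype α := Fintype.ofFinite α
  have hs := Stub.sign_eq_one c (α := α) t
  have h2 : (MulAction.toPerm t : Equiv.Perm α) ^ 2 = 1 := by
    rw [← MulAction.toPermHom_apply G α t, ← map_pow, ht, map_one]
  have := Stub.perm_fix_mod_four _ h2 hs
  rw [← Nat.card_eq_fintype_card] at this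
  exact this

/-- Step 2 -/
theorem ctx_false {G : Type*} [Group G] (c : Ctx G) : False := by
  classical
  have := c.fin
  have hf := Stub.faithful c
  have hinv : InvFix G := by
    intro t ht
    have := inv_fix_aux c (α := Sylow 3 G) t ht
    rw [c.h22] at this
    exact this
  have hB := Stub.fix_lemma c
  obtain ⟨h5, h7, h11, h13⟩ := Stub.fix_numerics c hf hB
  have hno5 := Stub.no_order_five h5 h7
  obtain ⟨P⟩ : Nonempty (Sylow 3 G) := inferInstance
  have hNdvd := Stub.card_normalizer_dvd c P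
    (fun n hn h => Stub.mem_of_preserves_orbits c hf hinv P n hn h)
  have hG : Nat.card G = 22 * Nat.card ↥(Subgroup.normalizer ((P : Subgroup G) : Set G)) := by
    rw [← c.h22, Sylow.card_eq_index_normalizer P]
    exact (Subgroup.index_mul_card _).symm
  -- `3 ∣ |N(P)|`
  have h3N : 3 ∣ Nat.card ↥(Subgroup.normalizer ((P : Subgroup G) : Set G)) := by
    have := Subgroup.card_dvd_of_le (Subgroup.le_normalizer (H := (P : Subgroup G)))
    rwa [c.h3 P] at this
  -- `9 ∤ |G|`
  have h9 : ¬ 9 ∣ Nat.card G := by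
    intro h
    have hm := Sylow.card_eq_multiplicity P
    rw [c.h3 P] at hm
    have hpos : Nat.card G ≠ 0 := Nat.card_pos.ne'
    have h2 : 2 ≤ (Nat.card G).factorization 3 :=
      (Nat.Prime.pow_dvd_iff_le_factorization Nat.prime_three hpos).1 (by simpa using h)
    have : 3 ^ 2 ≤ 3 ^ (Nat.card G).factorization 3 := Nat.pow_le_pow_right (by norm_num) h2
    omega
  -- `5 ∤ |G|`
  have h5G : ¬ 5 ∣ Nat.card G := by
    intro h
    have : Fact (Nat.Prime 5) := ⟨by norm_num⟩
    obtain ⟨z, hz⟩ := exists_prime_orderOf_dvd_card' 5 h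
    exact hno5 z hz
  generalize hNdef : Nat.card ↥(Subgroup.normalizer ((P : Subgroup G) : Set G)) = N at *
  obtain ⟨M, rfl⟩ := h3N
  have hM5040 : M ∣ 5040 := by
    have : 3 * M ∣ 3 * 5040 := hNdvd
    exact (Nat.mul_dvd_mul_iff_left (by norm_num)).1 this
  have hM3 : ¬ 3 ∣ M := by
    intro h
    apply h9
    rw [hG]
    obtain ⟨k, rfl⟩ := h
    exact ⟨22 * k, by ring⟩
  have hM5 : ¬ 5 ∣ M := by
    intro h
    apply h5G
    rw [hG]
    obtain ⟨k, rfl⟩ := h
    exact ⟨22 * 3 * k, by ring⟩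
  have hM112 : M ∣ 112 := by
    have hc3 : Nat.Coprime M 3 :=
      ((Nat.Prime.coprime_iff_not_dvd Nat.prime_three).2 hM3).symm
    have hc5 : Nat.Coprime M 5 :=
      ((Nat.Prime.coprime_iff_not_dvd (by norm_num : Nat.Prime 5)).2 hM5).symm
    have hc45 : Nat.Coprime M 45 := by
      have : (45 : ℕ) = 3 * 3 * 5 := by norm_num
      rw [this]
      exact Nat.Coprime.mul_right (Nat.Coprime.mul_right hc3 hc3) hc5
    have : M ∣ 112 * 45 := by norm_num; exact hM5040
    exact Nat.Coprime.dvd_of_dvd_mul_right hc45 this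
  have hMmem : M ∈ Nat.divisors 112 := Nat.mem_divisors.2 ⟨hM112, by norm_num⟩
  have hdiv : Nat.divisors 112 = {1, 2, 4, 7, 8, 14, 16, 28, 56, 112} := by decide
  rw [hdiv] at hMmem
  simp only [Finset.mem_insert, Finset.mem_singleton] at hMmem
  -- `121 ∤ |G|`
  have h121 : ¬ 121 ∣ Nat.card G := by
    rw [hG]
    rcases hMmem with rfl | rfl | rfl | rfl | rfl | rfl | rfl | rfl | rfl | rfl <;> norm_num
  -- an element of order 11
  have : Fact (Nat.Prime 11) := ⟨by norm_num⟩
  have h11G : 11 ∣ Nat.card G := by rw [hG]; exact ⟨2 * (3 * M), by ring⟩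
  obtain ⟨x, hx⟩ := exists_prime_orderOf_dvd_card' 11 h11G
  have hC := Stub.card_centralizer_eleven c hf hinv hno5 h7 h11 h13 h121 x hx
  have hN := Stub.card_normalizer_eleven c hno5 h121 x hx hC
  -- the Sylow 11-subgroup `⟨x⟩`
  have hfac : (Nat.card G).factorization 11 = 1 := by
    have hpos : Nat.card G ≠ 0 := Nat.card_pos.ne'
    have h1 : 1 ≤ (Nat.card G).factorization 11 :=
      (Nat.Prime.pow_dvd_iff_le_factorization (by norm_num) hpos).1 (by simpa using h11G)
    have h2 : ¬ 2 ≤ (Nat.card G).factorization 11 := fun h =>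
      h121 (by
        have := (Nat.Prime.pow_dvd_iff_le_factorization (p := 11) (by norm_num) hpos).2 h
        simpa using this)
    omega
  have hcardx : Nat.card ↥(Subgroup.zpowers x) = 11 ^ (Nat.card G).factorization 11 := by
    rw [hfac, Nat.card_zpowers, hx, pow_one]
  have hn11 := card_sylow_modEq_one 11 G
  have hidx := Sylow.card_eq_index_normalizer (Sylow.ofCard (Subgroup.zpowers x) hcardx)
  have hcoe2 : ((Sylow.ofCard (Subgroup.zpowers x) hcardx : Sylow 11 G) : Set G)
      = ((Subgroup.zpowers x : Subgroup G) : Set G) := rfl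
  rw [hcoe2] at hidx
  have hmul := Subgroup.index_mul_card
    (Subgroup.normalizer ((Subgroup.zpowers x : Subgroup G) : Set G))
  rw [hN, ← hidx, hG] at hmul
  have hn11' : Nat.card (Sylow 11 G) = 3 * M := by omega
  rw [hn11'] at hn11
  have hM4 : M = 4 := by
    have := hn11
    unfold Nat.ModEq at this
    rcases hMmem with rfl | rfl | rfl | rfl | rfl | rfl | rfl | rfl | rfl | rfl <;> omega
  subst hM4
  have hinv11 : ∀ t : G, t ^ 2 = 1 →
      Nat.card (Sylow 11 G) ≡ Nat.card ↥(MulAction.fixedBy (Sylow 11 G) t) [MOD 4] :=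
    fun t ht => inv_fix_aux c (α := Sylow 11 G) t ht
  exact Stub.false_of_card_264 c hinv11 x hx hC hN (by rw [hG])

/-- No finite simple group has exactly 22 Sylow 3-subgroups. -/
theorem simple_ne_22 {S : Type*} [Group S] [Finite S] [IsSimpleGroup S] :
    Nat.card (Sylow 3 S) ≠ 22 := fun h22 =>
  ctx_false ⟨inferInstance, inferInstance, h22, fun P => card_eq_three h22 P⟩

end Cfsg.Agent.Lib.Helper11.Syl22
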