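import Cfsg.Agent.Lib.Helper11.Syl22Defs
import Cfsg.Agent.Lib.Helper03.Syl22_FixNumerics
import Cfsg.Agent.Lib.Helper08.Syl22_CardEqThree
import Cfsg.Agent.Lib.Helper11.Syl22A6
import Cfsg.Agent.Lib.Helper14.Syl22_CountIneq
import Cfsg.Agent.Lib.Helper16.Syl22_CardNormalizerDvd
import Cfsg.Agent.Lib.Helper18.Syl22_InfEq
import Cfsg.Agent.Lib.Helper26.Syl22_CardFixed
import Cfsg.Agent.Lib.Helper28.Syl22_FixLemma
import Cfsg.Agent.Lib.Helper39.Syl22_CardCentralizerEleven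
import Cfsg.Agent.Lib.Helper42.Syl22_A1
import Cfsg.Agent.Lib.Helper51.Syl22_AdjBasic
import Cfsg.Agent.Lib.Helper57.Syl22_SignEqOne
import Cfsg.Agent.Lib.Helper61.Syl22_B10
import Cfsg.Agent.Lib.Helper62.Syl22_A3
import Cfsg.Agent.Lib.Helper67.Syl22_B6
import Cfsg.Agent.Lib.Helper69.Syl22_CardNormalizerEleven
import Cfsg.Agent.Lib.Helper85.Syl22_NoOrderFive
import Cfsg.Agent.Lib.Helper91.Syl22_Faithful
import Cfsg.Agent.Lib.Helper97.Syl22_PermFix

set_option autoImplicit false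

namespace Cfsg.Agent.Lib.Helper11.Syl22.Stub

-- (wiring of the 19 delivered leaves of the S4346 pack at their exact spec statements)

open Cfsg.Agent.Lib.Helper11.Syl22

/-! ## Step 1 : two Sylow 3-subgroups meet in index 3, and then `|P| = 3` -/

/-- K-A0 -/
theorem adj_basic {G : Type*} [Group G] [Finite G] :
    (∀ P R : Sylow 3 G, Adj P R → Adj R P) ∧ (∀ P R : Sylow 3 G, Adj P R → P ≠ R) ∧
    (∀ P T : Sylow 3 G, Nat.card {S : Sylow 3 G // Adj T S} = Nat.card {S : Sylow 3 G // Adj P S}) := by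
  exact Cfsg.Agent.Lib.Helper51.Syl22.adj_basic

/-- K-A1 -/
theorem card_adj_mod_nine {G : Type*} [Group G] [Finite G] (h22 : Nat.card (Sylow 3 G) = 22)
    (P : Sylow 3 G) : Nat.card {R : Sylow 3 G // Adj P R} % 9 = 3 := by
  exact Cfsg.Agent.Lib.Helper42.Syl22.card_adj_mod_nine h22 P

/-- K-A2 -/
theorem inf_eq_of_le {G : Type*} [Group G] [Finite G] {P R T T' : Sylow 3 G} (h : Adj P R)
    (hT : (P : Subgroup G) ⊓ (R : Subgroup G) ≤ (T : Subgroup G))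
    (hT' : (P : Subgroup G) ⊓ (R : Subgroup G) ≤ (T' : Subgroup G)) (hne : T ≠ T') :
    (T : Subgroup G) ⊓ (T' : Subgroup G) = (P : Subgroup G) ⊓ (R : Subgroup G) ∧ Adj T T' := by
  exact Cfsg.Agent.Lib.Helper18.Syl22.inf_eq_of_le h hT hT' hne

/-- K-A3 -/
theorem adj_unique_of_not_le {G : Type*} [Group G] [Finite G] {P R S T T' : Sylow 3 G}
    (h : Adj P R)
    (hS : ¬ ((P : Subgroup G) ⊓ (R : Subgroup G) ≤ (S : Subgroup G)))
    (hT : (P : Subgroup G) ⊓ (R : Subgroup G) ≤ (T : Subgroup G))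
    (hT' : (P : Subgroup G) ⊓ (R : Subgroup G) ≤ (T' : Subgroup G))
    (hST : Adj S T) (hST' : Adj S T') : T = T' := by
  exact Cfsg.Agent.Lib.Helper62.Syl22.adj_unique_of_not_le h hS hT hT' hST hST'

/-- K-A4 -/
theorem card_fixed {G : Type*} [Group G] [Finite G] (h22 : Nat.card (Sylow 3 G) = 22)
    {P R : Sylow 3 G} (h : Adj P R) :
    Nat.card {T : Sylow 3 G // (P : Subgroup G) ⊓ (R : Subgroup G) ≤ (T : Subgroup G)} % 3 = 1 ∧
    2 ≤ Nat.card {T : Sylow 3 G // (P : Subgroup G) ⊓ (R : Subgroup G) ≤ (T : Subgroup G)} := by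
  exact Cfsg.Agent.Lib.Helper26.Syl22A4.card_fixed h22 h

/-- K-A5 (pure combinatorics) -/
theorem count_ineq {Ω : Type*} [Finite Ω] (adj : Ω → Ω → Prop) (F : Set Ω) (a : ℕ)
    (hsymm : ∀ x y, adj x y → adj y x) (hirr : ∀ x, ¬ adj x x)
    (ha : ∀ x ∈ F, Nat.card {y : Ω // adj x y} = a)
    (hF : ∀ x ∈ F, ∀ y ∈ F, x ≠ y → adj x y)
    (huniq : ∀ y, y ∉ F → ∀ x ∈ F, ∀ x' ∈ F, adj y x → adj y x' → x = x') :
    Nat.card ↥F * (a + 1 - Nat.card ↥F) ≤ Nat.card Ω - Nat.card ↥F ∧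
      (F.Nonempty → Nat.card ↥F ≤ a + 1) := by
  exact Cfsg.Agent.Lib.Helper14.Syl22.count_ineq adj F a hsymm hirr ha hF huniq

/-- K-A6 -/
theorem fixed_card_dvd {G : Type*} [Group G] [Finite G] {P R : Sylow 3 G} (h : Adj P R) (a : ℕ)
    (ha : ∀ T : Sylow 3 G, Nat.card {S : Sylow 3 G // Adj T S} = a)
    (hs : Nat.card {T : Sylow 3 G // (P : Subgroup G) ⊓ (R : Subgroup G) ≤ (T : Subgroup G)}
      = a + 1) :
    (a + 1) ∣ Nat.card (Sylow 3 G) := by
  exact Cfsg.Agent.Lib.Helper11.Syl22A6.fixed_card_dvd h a ha hs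

/-- K-A7 -/
theorem card_eq_three_of_forall_le {G : Type*} [Group G] [Finite G] [IsSimpleGroup G]
    (hn : Nat.card (Sylow 3 G) ≠ 1) {P R : Sylow 3 G} (h : Adj P R)
    (hall : ∀ T : Sylow 3 G, (P : Subgroup G) ⊓ (R : Subgroup G) ≤ (T : Subgroup G)) :
    Nat.card ↥(P : Subgroup G) = 3 := by
  exact Cfsg.Agent.Lib.Helper08.Syl22.card_eq_three_of_forall_le hn h hall

/-! ## Step 2 : `Ctx G` is contradictory -/

/-- K-B0 -/
theorem faithful {G : Type*} [Group G] (c : Ctx G) : Faithful G := by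
  exact Cfsg.Agent.Lib.Helper91.Syl22Faithful.faithful c

/-- K-B1 -/
theorem sign_eq_one {G : Type*} [Group G] (c : Ctx G) {α : Type*} [Fintype α] [DecidableEq α]
    [MulAction G α] (g : G) : Equiv.Perm.sign (MulAction.toPerm g : Equiv.Perm α) = 1 := by
  exact Cfsg.Agent.Lib.Helper57.Syl22.sign_eq_one c g

/-- K-B2 (pure permutation lemma) -/
theorem perm_fix_mod_four {α : Type*} [Fintype α] [DecidableEq α] (σ : Equiv.Perm α)
    (h2 : σ ^ 2 = 1) (hs : Equiv.Perm.sign σ = 1) :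
    Fintype.card α ≡ Nat.card ↥(Function.fixedPoints σ) [MOD 4] := by
  exact Cfsg.Agent.Lib.Helper97.Syl22.perm_fix_mod_four σ h2 hs

/-- K-B3 -/
theorem fix_lemma {G : Type*} [Group G] (c : Ctx G) : FixLemma G := by
  exact Cfsg.Agent.Lib.Helper28.Syl22.fix_lemma c

/-- K-B4 (numerics) -/
theorem fix_numerics {G : Type*} [Group G] (c : Ctx G) (hf : Faithful G) (hB : FixLemma G) :
    (∀ g : G, orderOf g = 5 →
      fixN g = 7 ∧ 7 ∣ Nat.card ↥(Subgroup.centralizer ({g} : Set G))) ∧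
    (∀ g : G, orderOf g = 7 → fixN g = 1) ∧
    (∀ g : G, orderOf g = 11 → fixN g = 0) ∧
    (∀ (g : G) (r : ℕ), r.Prime → 13 ≤ r → orderOf g ≠ r) := by
  exact Cfsg.Agent.Lib.Helper03.Syl22.fix_numerics c hf hB

/-- K-B5 -/
theorem no_order_five {G : Type*} [Group G] [Finite G]
    (h5 : ∀ g : G, orderOf g = 5 →
      fixN g = 7 ∧ 7 ∣ Nat.card ↥(Subgroup.centralizer ({g} : Set G)))
    (h7 : ∀ g : G, orderOf g = 7 → fixN g = 1) (z : G) : orderOf z ≠ 5 := by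
  exact Cfsg.Agent.Lib.Helper85.Syl22.no_order_five h5 h7 z

/-- K-B6 -/
theorem mem_of_preserves_orbits {G : Type*} [Group G] (c : Ctx G) (hf : Faithful G)
    (hinv : InvFix G) (P : Sylow 3 G) (n : G) 
    (hn : n ∈ Subgroup.normalizer ((P : Subgroup G) : Set G))
    (h : ∀ Q : Sylow 3 G, ∃ y ∈ (P : Subgroup G), n • Q = y • Q) : n ∈ (P : Subgroup G) := by
  exact Cfsg.Agent.Lib.Helper67.Syl22.mem_of_preserves_orbits c hf hinv P n hn h

/-- K-B7 -/
theorem card_normalizer_dvd {G : Type*} [Group G] (c : Ctx G) (P : Sylow 3 G)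
    (hker : ∀ n ∈ Subgroup.normalizer ((P : Subgroup G) : Set G),
      (∀ Q : Sylow 3 G, ∃ y ∈ (P : Subgroup G), n • Q = y • Q) → n ∈ (P : Subgroup G)) :
    Nat.card ↥(Subgroup.normalizer ((P : Subgroup G) : Set G)) ∣ 3 * 5040 := by
  exact Cfsg.Agent.Lib.Helper16.Syl22.card_normalizer_dvd c P hker

/-- K-B8 -/
theorem card_centralizer_eleven {G : Type*} [Group G] (c : Ctx G) (hf : Faithful G)
    (hinv : InvFix G)
    (hno5 : ∀ g : G, orderOf g ≠ 5)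
    (h7 : ∀ g : G, orderOf g = 7 → fixN g = 1)
    (h11 : ∀ g : G, orderOf g = 11 → fixN g = 0)
    (h13 : ∀ (g : G) (r : ℕ), r.Prime → 13 ≤ r → orderOf g ≠ r)
    (h121 : ¬ 121 ∣ Nat.card G) (x : G) (hx : orderOf x = 11) :
    Nat.card ↥(Subgroup.centralizer ({x} : Set G)) = 11 := by
  exact Cfsg.Agent.Lib.Helper39.Syl22.card_centralizer_eleven c hf hinv hno5 h7 h11 h13 h121 x hx

/-- K-B9 -/
theorem card_normalizer_eleven {G : Type*} [Group G] (c : Ctx G)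
    (hno5 : ∀ g : G, orderOf g ≠ 5) (h121 : ¬ 121 ∣ Nat.card G) (x : G) (hx : orderOf x = 11)
    (hC : Nat.card ↥(Subgroup.centralizer ({x} : Set G)) = 11) :
    Nat.card ↥(Subgroup.normalizer ((Subgroup.zpowers x : Subgroup G) : Set G)) = 22 := by
  exact Cfsg.Agent.Lib.Helper69.Syl22.card_normalizer_eleven c hno5 h121 x hx hC

/-- K-B10 -/
theorem false_of_card_264 {G : Type*} [Group G] (c : Ctx G)
    (hinv11 : ∀ t : G, t ^ 2 = 1 →
      Nat.card (Sylow 11 G) ≡ Nat.card ↥(MulAction.fixedBy (Sylow 11 G) t) [MOD 4])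
    (x : G) (hx : orderOf x = 11)
    (hC : Nat.card ↥(Subgroup.centralizer ({x} : Set G)) = 11)
    (hN : Nat.card ↥(Subgroup.normalizer ((Subgroup.zpowers x : Subgroup G) : Set G)) = 22)
    (hG : Nat.card G = 264) : False := by
  exact Cfsg.Agent.Lib.Helper61.Syl22.false_of_card_264 c hinv11 x hx hC hN hG

end Cfsg.Agent.Lib.Helper11.Syl22.Stub
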