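import Mathlib
import Cfsg.Agent.Lib.Helper16.SL2Dickson2

set_option autoImplicit false

/-!
# Definitions for S0690 (Zassenhaus: a perfect fixed-point-free group is `SL(2,5)`), architect helper11

* `IsFpf ρ`   : the representation `ρ : G →* Module.End K V` is fixed-point-free.
* `Planar K H`: the subgroup `H` embeds in `SL₂(K)`.
* `Pt G`      : the subgroups of order three of `G` ("points").
-/

namespace Cfsg.Agent.Lib.Helper11.Zass

/-- the representation `ρ` is fixed-point-free: non-identity elements have no non-zero fixed vector -/
def IsFpf {K V G : Type*} [Field K] [AddCommGroup V] [Module K V] [Group G]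
    (ρ : G →* Module.End K V) : Prop :=
  ∀ g : G, g ≠ 1 → ∀ v : V, ρ g v = v → v = 0

/-- the subgroup `H` embeds in `SL₂(K)` -/
def Planar (K : Type*) [Field K] {G : Type*} [Group G] (H : Subgroup G) : Prop :=
  ∃ ψ : H →* Matrix.SpecialLinearGroup (Fin 2) K, Function.Injective ψ

/-- the subgroups of order three -/
abbrev Pt (G : Type*) [Group G] := {A : Subgroup G // Nat.card A = 3}

end Cfsg.Agent.Lib.Helper11.Zass
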