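import Mathlib
import Cfsg.Agent.Lib.Helper11.ZassDefs
import Cfsg.Agent.Lib.Helper16.ClassEq2
import Cfsg.Agent.Lib.Helper97.ZassPlane
import Cfsg.Agent.Lib.Helper67.ZassFrame
import Cfsg.Agent.Lib.Helper60.ZassK3
import Cfsg.Agent.Lib.Helper30.ZassClass
import Cfsg.Agent.Lib.Helper74.ZassKlein2
import Cfsg.Agent.Lib.Helper57.ZassNo48
import Cfsg.Agent.Lib.Helper23.ZassIcosa
import Cfsg.Agent.Lib.Helper76.ZassSrg
import Cfsg.Agent.Lib.Helper20.ZassSolv
import Cfsg.Agent.Lib.Helper22.ZassEnd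
import Cfsg.Agent.Lib.Helper19.ZassPlaneSRG
import Cfsg.Agent.Lib.Helper26.ZassLine
import Cfsg.Agent.Lib.Helper26.ZassFew
import Cfsg.Agent.Lib.Helper26.ZassPairs

set_option autoImplicit false

/-!
# S0690: the leaves (delivered by helper97, 67, 60, 30, 74, 57, 23, 76, 20, 22, 19, 26), re-exported
-/

universe u

namespace Cfsg.Agent.Lib.Helper11.Zass

open Cfsg.Agent.Lib.Helper16
open Classical

/-! ## Part A: linear algebra -/

section LinAlg
variable {K : Type*} [Field K] [IsAlgClosed K]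
variable {V : Type*} [AddCommGroup V] [Module K V] [FiniteDimensional K V]

/-- K-S0690-1 (id 69001).  ~100 lines, pure linear algebra.  S := X*Y + Y*X + X + Y + 1 commutes with X (ring identity from
 hX: X*S - S*X = X*X*Y - Y*X*X + X*Y - Y*X and X*X = -X-1).  S has an eigenvalue s (Module.End.exists_eigenvalue), its
 eigenspace E is X-invariant, X restricted to E has an eigenvector w (X w = l w, S w = s w).  Then from S w = s w:
 X (Y w) = (s - l - 1) w - (l + 1) Y w. -/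
theorem exists_plane [Nontrivial V] (X Y : Module.End K V)
    (hX : X * X + X + 1 = 0) (hY : Y * Y + Y + 1 = 0) :
    ∃ w : V, w ≠ 0 ∧ ∃ l a b : K, X w = l • w ∧ X (Y w) = a • w + b • Y w := by
  exact Cfsg.Agent.Lib.Helper97.Zass.exists_plane X Y hX hY

/-- K-S0690-3 (id 69003).  ~250 lines, pure linear algebra ("Principle").  Let o be a root of t^2+t+1 (IsAlgClosed), o ≠ o^2
 (char 0), E := ker(X - o), E' := ker(X - o^2), V = E ⊕ E' (projections (X - o^2)/(o - o^2), (X - o)/(o^2 - o)).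
 WLOG E ≠ 0 (else swap o, o^2; if X is scalar any eigenvector of Y₁ contradicts hne₁).  For w ∈ E, hS_i gives
 (X - o^2)(Y_i w) = (σ_i - o - 1) w, i.e. Y_i w = c_i w + b_i w with c_i := (σ_i - o - 1)/(o - o^2) a SCALAR and
 b_i w := Y_i w - c_i w ∈ E'.  Let b_i' : E' → E be the E-component of Y_i.  Y_i(b_i w) = -(c_i^2+c_i+1) w - (1+c_i) b_i w,
 so b_1'(b_1 w) = k_1 w with k_1 = -(c_1^2+c_1+1); k_1 ≠ 0 (else b_1 w or w is a common eigenvector of X, Y₁: hne₁).
 b_1' is injective on E' (if b_1' v = 0 then Y₁ v ∈ E' ... v is a common eigenvector: from hS₁ for v ∈ E',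
 (X - o)(Y₁ v) = (σ₁ - o^2 - 1) v so the E'-component of Y₁ v is a scalar multiple of v).  Take an eigenvector w ∈ E of
 b_1' ∘ b_2 : E → E, b_1'(b_2 w) = m w; then b_1'(b_2 w - (m/k_1) b_1 w) = 0 so b_2 w = (m/k_1) b_1 w =: d • b_1 w, d ≠ 0 by hne₂.
 Hence Y₂ w = (c_2 - d c_1) w + d Y₁ w; X(Y₁ w) from K-1's computation; Y₂(Y₁ w) = (Y₂(Y₂ w) - (c_2 - d c_1) Y₂ w)/d with
 Y₂ (Y₂ w) = - Y₂ w - w. -/
theorem exists_common_plane [CharZero K] [Nontrivial V] (X Y₁ Y₂ : Module.End K V)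
    (hX : X * X + X + 1 = 0) (hY₁ : Y₁ * Y₁ + Y₁ + 1 = 0) (hY₂ : Y₂ * Y₂ + Y₂ + 1 = 0)
    (σ₁ σ₂ : K) (hS₁ : X * Y₁ + Y₁ * X + X + Y₁ + 1 = σ₁ • (1 : Module.End K V))
    (hS₂ : X * Y₂ + Y₂ * X + X + Y₂ + 1 = σ₂ • (1 : Module.End K V))
    (hne₁ : ∀ w : V, w ≠ 0 → ∀ a b : K, X w = a • w → Y₁ w = b • w → False)
    (hne₂ : ∀ w : V, w ≠ 0 → ∀ a b : K, X w = a • w → Y₂ w = b • w → False) :
    ∃ w : V, w ≠ 0 ∧ (∃ l : K, X w = l • w) ∧ (∃ a b : K, X (Y₁ w) = a • w + b • Y₁ w) ∧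
      (∃ c d : K, Y₂ w = c • w + d • Y₁ w) ∧ (∃ e f : K, Y₂ (Y₁ w) = e • w + f • Y₁ w) := by
  exact Cfsg.Agent.Lib.Helper60.Zass.exists_common_plane X Y₁ Y₂ hX hY₁ hY₂ σ₁ σ₂ hS₁ hS₂ hne₁ hne₂

end LinAlg

section Frame
variable {K : Type*} [Field K]
variable {V : Type*} [AddCommGroup V] [Module K V]
variable {G : Type*} [Group G]

/-- K-S0690-2 (id 69002).  ~200 lines.  ι : (Fin 2 → K) →ₗ V, (a,b) ↦ a w₁ + b w₂, injective (hli).
 Stab := {g : G | ∃ M : Matrix (Fin 2) (Fin 2) K, M.det = 1 ∧ ρ g ∘ ι = ι ∘ M.toLin'} is a subgroup (inverse: M⁻¹; or use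
 s⁻¹ = s^2).  It contains S: for s ∈ S let M be the matrix of hinv; ρ s satisfies (ρ s)^2 + ρ s + 1 = 0 (since
 (ρ s - 1)((ρ s)^2 + ρ s + 1) = ρ (s^3) - 1 = 0 and ρ s - 1 is injective by hρ), so M*M + M + 1 = 0 (ι injective);
 M is not scalar (else M commutes with the matrix of t, so ρ (s*t) and ρ (t*s) agree on w₁, so s*t = t*s by hρ applied to
 (s*t)*(t*s)⁻¹, contradicting hSnc); Cayley-Hamilton M*M - tr M • M + det M • 1 = 0 minus the relation gives
 (1 + tr M) • M + (1 - det M) • 1 = 0, M not scalar => det M = 1.   ψ g := the (unique) matrix; multiplicative by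
 uniqueness; injective by hρ (ψ g = 1 => ρ g w₁ = w₁, w₁ ≠ 0). -/
theorem planar_of_frame (ρ : G →* Module.End K V) (hρ : IsFpf ρ) (S : Set G)
    (hS3 : ∀ s ∈ S, orderOf s = 3) (hSnc : ∀ s ∈ S, ∃ t ∈ S, s * t ≠ t * s)
    (w₁ w₂ : V) (hli : LinearIndependent K ![w₁, w₂])
    (hinv : ∀ s ∈ S, (∃ a c : K, ρ s w₁ = a • w₁ + c • w₂) ∧ (∃ b d : K, ρ s w₂ = b • w₁ + d • w₂)) :
    Planar K (Subgroup.closure S) := by
  exact Cfsg.Agent.Lib.Helper67.Zass.planar_of_frame ρ hρ S hS3 hSnc w₁ w₂ hli hinv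

end Frame

/-! ## Part B: finite subgroups of `SL₂(K)`, char 0 -/

section Klein
variable {K : Type*} [Field K] [CharZero K]

local notation "SL2" => Matrix.SpecialLinearGroup (Fin 2) K

/-- K-S0690-4 (id 69004) = 4a + 4b + 4c, ~200 lines total: the char-0 versions of helper16's SL2Dickson8.eq_neg_one_of_sq_eq_one,
 SL2Dickson8.card_ZL_of_even, SL2Dickson7.class_data / SL2Dickson3.{conj_eq_or_inv_of_mem_Nm, card_Nm_semisimple}: COPY those
 proofs, replacing `two_ne_zero_of_char hp` by `two_ne_zero` (CharZero) and the hypothesis tr g ^ 2 ≠ 4 by the fact that it is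
 automatic: g ∈ L has finite order; tr g = 2 => (g-1)^2 = 0 (Cayley-Hamilton) => g^m = 1 + m (g-1) => g = 1 (char 0);
 tr g = -2 => same for -g => g = -1; both are in ZL L. -/
theorem eq_neg_one_of_sq_eq_one0 {g : SL2} (h2 : g ^ 2 = 1) (h1 : g ≠ 1) : g = -1 := by
  exact Cfsg.Agent.Lib.Helper30.Zass.eq_neg_one_of_sq_eq_one0 h2 h1

/-- K-S0690-4b (part of id 69004) -/
theorem card_ZL_of_even0 (L : Subgroup SL2) [Finite L] (h : Even (Nat.card L)) :
    Nat.card (SL2Q.ZL L) = 2 := by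
  exact Cfsg.Agent.Lib.Helper30.Zass.card_ZL_of_even0 L h

/-- K-S0690-4c (part of id 69004) -/
theorem class_data0 (L : Subgroup SL2) [Fintype L] (g : L) (hgZ : g ∉ SL2Q.ZL L) :
    ∃ a c : ℕ, 2 ≤ a ∧
      Nat.card (Subgroup.centralizer ({g} : Set L)) = Nat.card (SL2Q.ZL L) * a ∧
      c + Nat.card (SL2Q.ZL L) = Nat.card (SL2Q.ZL L) * a ∧
      (Nat.card (ClassEq.Nm g) = Nat.card (SL2Q.ZL L) * a ∨
        Nat.card (ClassEq.Nm g) = 2 * (Nat.card (SL2Q.ZL L) * a)) ∧
      (ClassEq.sat (SL2Q.ZL L) g).card * Nat.card (ClassEq.Nm g) = Nat.card L * c ∧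
      (∀ l : L, l ∈ ClassEq.Nm g → l * g * l⁻¹ = g ∨ l * g * l⁻¹ = g⁻¹) := by
  exact Cfsg.Agent.Lib.Helper30.Zass.class_data0 L g hgZ

/-- the class data of the binary octahedral (`m = 4`) and binary icosahedral (`m = 5`) groups -/
def KleinData (L : Subgroup SL2) [Fintype L] (m : ℕ) : Prop :=
  ∀ h : L, h ∉ SL2Q.ZL L →
    (Nat.card (Subgroup.centralizer ({h} : Set L)) = 4 ∨
      Nat.card (Subgroup.centralizer ({h} : Set L)) = 6 ∨
      Nat.card (Subgroup.centralizer ({h} : Set L)) = 2 * m) ∧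
    Nat.card (ClassEq.Nm h) = 2 * Nat.card (Subgroup.centralizer ({h} : Set L)) ∧
    (∀ l : L, l ∈ ClassEq.Nm h → l * h * l⁻¹ = h ∨ l * h * l⁻¹ = h⁻¹) ∧
    ∀ h' : L, h' ∉ SL2Q.ZL L →
      Nat.card (Subgroup.centralizer ({h'} : Set L)) = Nat.card (Subgroup.centralizer ({h} : Set L)) →
      h' ∈ ClassEq.sat (SL2Q.ZL L) h

/-- K-S0690-5 (id 69005).  THE BIG ONE, ~500 lines (may be split by the deliverer; ask helper11).  You may assume K-4
 (class_data0, card_ZL_of_even0) as hypotheses/imports.  Z := ZL L, ζ := |Z| ∈ {1,2}, n := |L|/ζ.  For g ∉ Z class_data0 gives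
 a ≥ 2 with |C(g)| = ζ a, |Nm g| = ε ζ a (ε ∈ {1,2}), |sat g| = ζ u (a - 1) where u := |L|/|Nm g|, n = ε a u.
 The sets sat g are equal or disjoint (ClassEq.sat_eq_of_mem / disjoint_sat) and cover L \ Z (self_mem_sat); each has
 ≥ |L|/4 elements, so there are t ≤ 3 classes (ClassEq2: rest, card_total, two_sat_le, rest_eq_sat) and
 n = 1 + Σ_i u_i (a_i - 1).   t = 1: n = a, L = C(g) abelian, contradiction with hna.   Only ε = 2: impossible for t ≤ 2,
 t = 3: u1+u2+u3 = 1 + n/2, n = 2 a_i u_i => {a_i} = {2,2,m} (the class with a = m has u = 1, i.e. Nm g = L: alternative 1),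
 {2,3,3} (n = 12), {2,3,4} (n = 24), {2,3,5} (n = 60).   One ε = 1 (t = 2, the other ε = 2): a1 = 2 (then u2 = 1: alternative 1
 with g := g2) or (a1, a2) = (3, 2), n = 12.  Two ε = 1 or (1,2,2): impossible by size.
 |L| even in all surviving cases with n ∈ {12,24,60} => ζ = 2 (card_ZL_of_even0).   In alternative 1: Nm g = L means C(g) is
 normal, so h ∈ sat g => h ∈ C(g).  "Same |C| => same class" because the a_i are pairwise distinct in cases 3, 4. -/
theorem klein_cases (L : Subgroup SL2) [Fintype L] (hna : ∃ a b : L, a * b ≠ b * a) :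
    (∃ g : L, g ∉ SL2Q.ZL L ∧ 2 * Nat.card (Subgroup.centralizer ({g} : Set L)) = Nat.card L ∧
      ∀ h : L, h ∉ SL2Q.ZL L → h ∈ Subgroup.centralizer ({g} : Set L) ∨
        Nat.card (Subgroup.centralizer ({h} : Set L)) = 2 * Nat.card (SL2Q.ZL L)) ∨
    (Nat.card L = 24 ∧ ∀ h : L, h ∉ SL2Q.ZL L →
      Nat.card (Subgroup.centralizer ({h} : Set L)) = 4 ∨
      Nat.card (Subgroup.centralizer ({h} : Set L)) = 6) ∨
    (Nat.card L = 48 ∧ Nat.card (SL2Q.ZL L) = 2 ∧ KleinData L 4) ∨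
    (Nat.card L = 120 ∧ Nat.card (SL2Q.ZL L) = 2 ∧ KleinData L 5) := by
  exact Cfsg.Agent.Lib.Helper74.Zass.klein_cases L hna

/-- K-S0690-6 (id 69006).  ~200 lines.  x of order 3 (exists by hgen, L ≠ 1): x ∉ Z, 3 ∣ |C(x)| ∈ {4,6,8} so |C(x)| = 6, |Nm x| = 12,
 index 4.  φ : L → Perm (L ⧸ Nm x) (MulAction.toPermHom), |Perm| = 24.  Every y of order 3 has sign (φ y) = 1 (sign has order
 dividing 2 and 3), so by hgen φ L ≤ alternating, |φ L| ≤ 12, |ker φ| ≥ 4.  ker φ = core of Nm x: k ∈ ker normalizes C(x') for all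
 conjugates x' of x, so k x' k⁻¹ = x' or x'⁻¹ (KleinData).  All y of order 3 are conjugate to x or x⁻¹ (same |C| = 6 => y ∈ sat x
 => l y l⁻¹ ∈ C(x), abelian of order 6, unique subgroup of order 3).  L is nonabelian so two conjugates x1, x2 of x do not
 commute.  k ∈ ker \ Z cannot centralize both (CT: ct_L.trans) so inverts one, say x1; then x1 k x1⁻¹ = x1^2 k ∈ ker, so x1 ∈ ker,
 so x1 x2 x1⁻¹ = x2^{±1}, an element of order 3 cannot invert, so x1 x2 = x2 x1: contradiction.  Hence ker ≤ Z, |ker| ≤ 2 < 4. -/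
theorem no_48 (L : Subgroup SL2) [Fintype L] (hcard : Nat.card L = 48)
    (hZ : Nat.card (SL2Q.ZL L) = 2) (hD : KleinData L 4)
    (hgen : Subgroup.closure {h : L | orderOf h = 3} = ⊤) : False := by
  exact Cfsg.Agent.Lib.Helper57.Zass.no_48 L hcard hZ hD hgen

/-- K-S0690-7 (id 69007) = 7a + 7b, ~300 lines.  7a: x of order 3 (Cauchy): |C(x)| = 6, |Nm x| = 12; N_L(zpowers x) = Nm x
 (⊆: n normalizes <x> => normalizes C(x); ⊇: KleinData's last clause); subgroups of order 3 = Sylow 3-subgroups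
 (120 = 3 * 40), all conjugate, number = index of the normalizer = 10. -/
theorem icosa_points (L : Subgroup SL2) [Fintype L] (hcard : Nat.card L = 120)
    (hZ : Nat.card (SL2Q.ZL L) = 2) (hD : KleinData L 5) :
    Nat.card {A : Subgroup L // Nat.card A = 3} = 10 := by
  exact Cfsg.Agent.Lib.Helper23.Zass.icosa_points L hcard hZ hD

/-- K-S0690-7b (part of id 69007).  R a Sylow 2-subgroup (order 8), Z ≤ R.  r ∈ R \ Z has order 4 and |C(r)| = 4 (its order divides 8
 and |C(r)| ∈ {4,6,10}, and is ≥ 3 since elements of order ≤ 2 of SL2 are ±1 (K-4a)).  E4 := {h ∉ Z | |C(h)| = 4} = sat u for any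
 such u, |E4| = 120 * 2 / 8 = 30 (ClassEq.card_sat_mul, card_cls_add).  Each h ∈ E4 has order 4 and lies in exactly one Sylow
 2-subgroup, namely Nm h (a Sylow R ∋ h normalizes <h> = C(h), index 2; |Nm h| = 8).  So 6 n_2 = 30, n_2 = 5, |N_L(R)| = 24.
 x ∈ N_L(R) of order 3 (Cauchy); R ⊄ N_L(<x>) = Nm x (order 12), so y := r x r⁻¹ ∉ <x> for some r ∈ R; x, y do not commute
 (else y ∈ C(x), abelian of order 6); closure {x,y} ≤ N_L(R) has order dividing 24, so by hK it is 24. -/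
theorem icosa_line (L : Subgroup SL2) [Fintype L] (hcard : Nat.card L = 120)
    (hZ : Nat.card (SL2Q.ZL L) = 2) (hD : KleinData L 5)
    (hK : ∀ x y : L, orderOf x = 3 → orderOf y = 3 → x * y ≠ y * x →
      Nat.card (Subgroup.closure {x, y}) = 24 ∨ Nat.card (Subgroup.closure {x, y}) = 120) :
    ∃ x y : L, orderOf x = 3 ∧ orderOf y = 3 ∧ x * y ≠ y * x ∧
      Nat.card (Subgroup.closure {x, y}) = 24 := by
  exact Cfsg.Agent.Lib.Helper23.Zass.icosa_line L hcard hZ hD hK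

end Klein

/-! ## Part C: combinatorics and group theory -/

/-- K-S0690-8 (id 69008).  ~250 lines, pure Mathlib (spectral theorem).  A := adjacency matrix over ℝ (symmetric), J := all ones.
 A*A = 3q • 1 + (q+1) • A + 4 • (J - 1 - A), A*J = 3q • J.  N := 2 • A - (q-3) • 1: N*N = Δ • 1 + 16 • J with
 Δ = (q-3)^2 + 4(3q-4) = (q+7)(q-1), N*J = c • J, c = 5q+3 > 0, so (N - c)(N*N - Δ) = 0 and every eigenvalue of N
 (Matrix.IsHermitian.eigenvalues, mulVec_eigenvectorBasis) is c or ±√Δ.  Let a, f, g be the multiplicities of c, √Δ, -√Δ.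
 a ≥ 1 (else N*N = Δ • 1 on an eigenbasis, so 16 • J = 0).  trace N = -m(q-3) ≤ 0 and trace N = a c + (f - g) √Δ.
 If √Δ is irrational then f = g, so a c ≤ 0: contradiction.  So Δ is a perfect square (irrational_sqrt_natCast_iff /
 Nat.sqrt); but
 Δ = (q+3)^2 - 16 lies strictly between (q+2)^2 and (q+3)^2 for q ≥ 6, and Δ = 20, 33, 48 for q = 3, 4, 5. -/
theorem no_srg (q : ℕ) (hq : 3 ≤ q) {P : Type*} [Fintype P] [DecidableEq P] [Nonempty P]
    (adj : P → P → Prop) [DecidableRel adj] (hsymm : ∀ a b, adj a b → adj b a)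
    (hirr : ∀ a, ¬ adj a a)
    (hdeg : ∀ a, (Finset.univ.filter (fun b => adj a b)).card = 3 * q)
    (hlam : ∀ a b, adj a b → (Finset.univ.filter (fun c => adj a c ∧ adj b c)).card = q + 1)
    (hmu : ∀ a b, a ≠ b → ¬ adj a b →
      (Finset.univ.filter (fun c => adj a c ∧ adj b c)).card = 4) : False := by
  exact Cfsg.Agent.Lib.Helper76.Zass.no_srg q hq adj hsymm hirr hdeg hlam hmu

/-- K-S0690-9 (id 69009).  ~200 lines.  If |Y| is odd: all Sylow subgroups cyclic => IsZGroup => solvable (Mathlib instance).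
 Else show Helper41.Frobenius.FrobCond 2 Y (import Cfsg.Agent.Lib.Helper41.Frobenius): Q a 2-subgroup, g ∈ N(Q) of odd
 order: H := Q ⊔ zpowers g is solvable (Q normal 2-group, cyclic quotient), inherits hodd, hinv, so
 Helper01.fc_structure (import Cfsg.Agent.Lib.Helper01.FCStructB) gives G₀ ⊴ H, H/G₀ ↪ S4, all Sylow subgroups of G₀ cyclic.
 3 ∤ |H| so H/G₀ is a 2-group and g ∈ G₀.  G₀ is a Z-group of even order (or odd: then G₀ ∩ Q = 1...): its cyclic Sylow
 2-subgroup has a normal complement O (IsCyclic.normalizer_le_centralizer with minFac = 2, ker_transferSylow_isComplement'),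
 O char in G₀ so normal in H, g ∈ O (Helper41.mem_of_coprime_of_isComplement'), [Q, g] ≤ Q ∩ O = 1.  Then
 hasNormalPComplement_of_frobCond: Y = N ⋊ P, N of odd order (Z-group, solvable), P a 2-group: Y solvable. -/
theorem solvable_of_three_not_dvd {Y : Type u} [Group Y] [Finite Y]
    (hodd : ∀ p : ℕ, p.Prime → p ≠ 2 → ∀ Q : Subgroup Y, IsPGroup p Q → IsCyclic Q)
    (hinv : ∀ s t : Y, orderOf s = 2 → orderOf t = 2 → s = t)
    (h3 : ¬ 3 ∣ Nat.card Y) : Group.IsSolvable Y := by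
  exact Cfsg.Agent.Lib.Helper20.Zass.solvable_of_three_not_dvd hodd hinv h3

/-- K-S0690-10 (id 69010).  ~300 lines.  (hsolv is K-9.)  1. D = closure of all elements of order 3, so D is normal.
 2. G acts by conjugation on 𝒫 := the set in hpairs; the stabilizer of (x,y) is C := centralizer D; so |G : C| ≤ 120.
 3. Z(D) = D ⊓ C has order ≤ 2: c ∈ Z(D), x as in hgen: (c x)^4 = c^4 x, (c x)^10 = c^10 x are ≠ 1 (else x ∈ Z(D), D abelian
 generated by two elements of order 3, |D| ∣ 9), so c^6 = 1; if c^2 ≠ 1 it has order 3 and commutes with x, so by hodd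
 (closure {c^2, x} is a cyclic 3-group) x ∈ zpowers (c^2) ≤ Z(D), contradiction; so c^2 = 1, c ∈ {1, the involution}.
 4. |D C : C| = |D : D ⊓ C| ≥ 60, so |G : D C| ≤ 2, and G perfect has no subgroup of index 2: G = D C.
 5. 3 ∤ |C| (an element of order 3 of C lies in D ⊓ C), so C is solvable, G/D ≅ C/(C ⊓ D) solvable and perfect: G = D.
 6. |G| = 120, not solvable; a Sylow 2-subgroup P has order 8, one involution z, and r^4 = 1 for r ∈ P by hDord, so all squares
 lie in {1,z}: Helper48.U32.Abstract.quat_of_small gives P ≃* QuaternionGroup 2; conclude with Cfsg.Agent.S3378.result.1. -/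
theorem endgame {G : Type u} [Group G] [Finite G] (hperf : commutator G = ⊤)
    (hodd : ∀ p : ℕ, p.Prime → p ≠ 2 → ∀ Q : Subgroup G, IsPGroup p Q → IsCyclic Q)
    (hinv : ∀ s t : G, orderOf s = 2 → orderOf t = 2 → s = t)
    (hsolv : ∀ Y : Subgroup G, ¬ 3 ∣ Nat.card Y → Group.IsSolvable Y)
    (D : Subgroup G) (hD120 : Nat.card D = 120) (hDT : ∀ g : G, orderOf g = 3 → g ∈ D)
    (hDord : ∀ g ∈ D, g ^ 4 = 1 ∨ g ^ 6 = 1 ∨ g ^ 10 = 1)
    (hgen : ∃ x y : G, orderOf x = 3 ∧ orderOf y = 3 ∧ Subgroup.closure {x, y} = D)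
    (hpairs : Nat.card {p : G × G // orderOf p.1 = 3 ∧ orderOf p.2 = 3 ∧
      Subgroup.closure {p.1, p.2} = D} ≤ 120) :
    Nonempty (G ≃* Matrix.SpecialLinearGroup (Fin 2) (ZMod 5)) := by
  exact Cfsg.Agent.Lib.Helper22.Zass.endgame hperf hodd hinv hsolv D hD120 hDT hDord hgen hpairs

/-! ## Part D (added 00:35Z): more group theory / combinatorics leaves -/

/-- K-S0690-11 (id 69011).  ~350 lines, Sylow + counting ("the point graph of a plane is the triangular graph T(5)").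
 Points of D := `A : Pt G` with `A.1 ≤ D`; a LINE of D := a subgroup `A.1 ⊔ B.1` of order 24 (A, B points of D).
 (a) a line M has exactly 4 points (they are the Sylow 3-subgroups of M: n_3 ≡ 1 mod 3, n_3 ∣ 8, n_3 ≥ 2), and any two distinct
 points C, C' of M have C ⊔ C' = M (by h2, order 24 or 120 inside M).  So two points lie on at most one line.
 (b) the points of D are its Sylow 3-subgroups (120 = 3 * 40), hence conjugate under D; conjugation by d ∈ D permutes points and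
 lines of D, so the number r of lines through a point is constant.  Neighbours of A in D: 3 r ≤ 9.  Incidences: 10 r = 4 b
 (b := number of lines), so r is even; r ≥ 1 by hline: r = 2, b = 5: conclusion 1 (6 neighbours).
 (c) point ↦ the pair of lines through it is injective (a), 10 points, C(5,2) = 10 pairs: every two distinct lines meet in
 exactly one point.  (d) mu: A ⊔ B = D-type (order 120): lines L1, L2 through A, M1, M2 through B, all four distinct; the common
 neighbours are the four points Li ∩ Mj (distinct since each point is on exactly 2 lines).  (e) lambda: A, B on the line L;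
 other lines L2 ∋ A, M2 ∋ B, L2 ≠ M2; common neighbours: the 2 other points of L and the point L2 ∩ M2. -/
theorem plane_srg {G : Type*} [Group G] [Finite G] (D : Subgroup G) (hcard : Nat.card D = 120)
    (hpts : Nat.card {A : Pt G // A.1 ≤ D} = 10)
    (h2 : ∀ A B : Pt G, A.1 ≤ D → B.1 ≤ D → A ≠ B →
      Nat.card (A.1 ⊔ B.1 : Subgroup G) = 24 ∨ Nat.card (A.1 ⊔ B.1 : Subgroup G) = 120)
    (hline : ∃ A B : Pt G, A.1 ≤ D ∧ B.1 ≤ D ∧ Nat.card (A.1 ⊔ B.1 : Subgroup G) = 24) :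
    (∀ A : Pt G, A.1 ≤ D →
      Nat.card {B : Pt G // B.1 ≤ D ∧ Nat.card (A.1 ⊔ B.1 : Subgroup G) = 24} = 6) ∧
    (∀ A B : Pt G, A.1 ≤ D → B.1 ≤ D → Nat.card (A.1 ⊔ B.1 : Subgroup G) = 24 →
      Nat.card {C : Pt G // C.1 ≤ D ∧ Nat.card (A.1 ⊔ C.1 : Subgroup G) = 24 ∧
        Nat.card (B.1 ⊔ C.1 : Subgroup G) = 24} = 3) ∧
    (∀ A B : Pt G, A.1 ≤ D → B.1 ≤ D → Nat.card (A.1 ⊔ B.1 : Subgroup G) = 120 →
      Nat.card {C : Pt G // C.1 ≤ D ∧ Nat.card (A.1 ⊔ C.1 : Subgroup G) = 24 ∧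
        Nat.card (B.1 ⊔ C.1 : Subgroup G) = 24} = 4) := by
  exact Cfsg.Agent.Lib.Helper19.Zass.plane_srg D hcard hpts h2 hline

/-- K-S0690-12 (id 69012).  ~100 lines.  M := A ⊔ B of order 24 = 3 * 8; the subgroups of order 3 of M are its Sylow 3-subgroups;
 n_3 ≡ 1 mod 3 (card_sylow_modEq_one), n_3 ∣ 8 (Sylow.card_dvd_index), n_3 ≥ 2 (A ≠ B as |A ⊔ A| = 3) so n_3 = 4.  Transport
 between `Sylow 3 ↥M` and `{C : Pt G // C.1 ≤ M}` (Subgroup.map M.subtype / subgroupOf). -/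
theorem line_points {G : Type*} [Group G] [Finite G] (A B : Pt G)
    (h : Nat.card (A.1 ⊔ B.1 : Subgroup G) = 24) :
    Nat.card {C : Pt G // C.1 ≤ A.1 ⊔ B.1} = 4 := by
  exact Cfsg.Agent.Lib.Helper26.Zass.line_points A B h

/-- K-S0690-13 (id 69013).  ~200 lines.  G acts on `Pt G` by conjugation (A ↦ A.map (MulAut.conj g)); Perm of a type with ≤ 4
 elements is solvable (embed in Perm (Fin 4); IsSolvable (Perm (Fin 4)): search Mathlib/team libs, e.g. S3358 uses
 f : G →* Perm (Fin 4); else derived series by decide), so the perfect G acts trivially: every point A is normal.  G → MulAut A,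
 MulAut of a group of order 3 is abelian, so G centralizes A: x ∈ A of order 3 is central.  P a Sylow 3-subgroup containing x,
 cyclic by hodd, so abelian; MonoidHom.transfer (to P) is trivial on the perfect G but transfer_eq_pow (hypothesis trivially true
 for central x) gives transfer x = x ^ index P ≠ 1 since 3 ∤ index P.  Contradiction. -/
theorem no_few_points {G : Type u} [Group G] [Finite G] (hperf : commutator G = ⊤)
    (hodd : ∀ p : ℕ, p.Prime → p ≠ 2 → ∀ Q : Subgroup G, IsPGroup p Q → IsCyclic Q)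
    (hne : Nonempty (Pt G)) (hcard : Nat.card (Pt G) ≤ 4) : False := by
  exact Cfsg.Agent.Lib.Helper26.Zass.no_few_points hperf hodd hne hcard

/-- K-S0690-14 (id 69014).  ~120 lines.  p ↦ (zpowers p.1, zpowers p.2) maps the set into {(A,B) | A ⊔ B = D}
 (closure {x,y} = zpowers x ⊔ zpowers y), which has ≤ 10 * 3 elements; each fiber has ≤ 2 * 2 elements (a group of order 3 has 2
 elements of order 3). -/
theorem pairs_le {G : Type*} [Group G] [Finite G] (D : Subgroup G)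
    (hpts : Nat.card (Pt G) = 10)
    (hnon : ∀ A : Pt G, Nat.card {B : Pt G // (A.1 ⊔ B.1 : Subgroup G) = D} ≤ 3) :
    Nat.card {p : G × G // orderOf p.1 = 3 ∧ orderOf p.2 = 3 ∧
      Subgroup.closure {p.1, p.2} = D} ≤ 120 := by
  exact Cfsg.Agent.Lib.Helper26.Zass.pairs_le D hpts hnon

end Cfsg.Agent.Lib.Helper11.Zass
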