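import Mathlib
import Cfsg.Agent.Lib.Helper11.ZassLeaves

set_option autoImplicit false

/-!
# S0690 glue, part 1: consequences of a fixed-point-free representation; planar subgroups
-/

namespace Cfsg.Agent.Lib.Helper11.Zass

section Basic
variable {K : Type*} [Field K]
variable {V : Type*} [AddCommGroup V] [Module K V]
variable {G : Type*} [Group G]

theorem rho_pow (ρ : G →* Module.End K V) (g : G) (k : ℕ) : ρ (g ^ k) = ρ g ^ k := map_pow ρ g k

theorem rho_mul_inv (ρ : G →* Module.End K V) (g : G) : ρ g * ρ g⁻¹ = 1 := by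
  rw [← map_mul, mul_inv_cancel, map_one]

theorem rho_inv_mul (ρ : G →* Module.End K V) (g : G) : ρ g⁻¹ * ρ g = 1 := by
  rw [← map_mul, inv_mul_cancel, map_one]

/-- `(ρ g - 1) v = 0 → v = 0` -/
theorem eq_zero_of_sub_one (ρ : G →* Module.End K V) (hρ : IsFpf ρ) {g : G} (hg : g ≠ 1) {v : V}
    (h : (ρ g - 1) v = 0) : v = 0 := by
  apply hρ g hg v
  have : ρ g v - v = 0 := by simpa using h
  exact sub_eq_zero.mp this

theorem quad_of_order_three (ρ : G →* Module.End K V) (hρ : IsFpf ρ) {x : G} (hx : orderOf x = 3) :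
    ρ x * ρ x + ρ x + 1 = 0 := by
  have hx1 : x ≠ 1 := by
    intro h; rw [h, orderOf_one] at hx; norm_num at hx
  have h3 : ρ x ^ 3 = 1 := by
    rw [← rho_pow, ← hx, pow_orderOf_eq_one, map_one]
  have hfac : (ρ x - 1) * (ρ x * ρ x + ρ x + 1) = 0 := by
    have : (ρ x - 1) * (ρ x * ρ x + ρ x + 1) = ρ x ^ 3 - 1 := by noncomm_ring
    rw [this, h3, sub_self]
  apply LinearMap.ext
  intro v
  have := congrArg (fun f : Module.End K V => f v) hfac
  simp only [LinearMap.zero_apply] at this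
  exact eq_zero_of_sub_one ρ hρ hx1 this

theorem rho_inv_order_three (ρ : G →* Module.End K V) (hρ : IsFpf ρ) {x : G} (hx : orderOf x = 3) :
    ρ x⁻¹ = -ρ x - 1 := by
  have hq := quad_of_order_three ρ hρ hx
  have h1 : ρ x * (-ρ x - 1) = 1 := by
    have : ρ x * (-ρ x - 1) = 1 - (ρ x * ρ x + ρ x + 1) := by noncomm_ring
    rw [this, hq, sub_zero]
  calc ρ x⁻¹ = ρ x⁻¹ * (ρ x * (-ρ x - 1)) := by rw [h1, mul_one]
    _ = (ρ x⁻¹ * ρ x) * (-ρ x - 1) := by rw [mul_assoc]
    _ = -ρ x - 1 := by rw [rho_inv_mul, one_mul]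

theorem rho_involution (ρ : G →* Module.End K V) (hρ : IsFpf ρ) {t : G} (ht : orderOf t = 2) :
    ρ t = -1 := by
  have ht1 : t ≠ 1 := by
    intro h; rw [h, orderOf_one] at ht; norm_num at ht
  have h2 : ρ t ^ 2 = 1 := by
    rw [← rho_pow, ← ht, pow_orderOf_eq_one, map_one]
  have hfac : (ρ t - 1) * (ρ t + 1) = 0 := by
    have : (ρ t - 1) * (ρ t + 1) = ρ t ^ 2 - 1 := by noncomm_ring
    rw [this, h2, sub_self]
  have h0 : ρ t + 1 = 0 := by
    apply LinearMap.ext
    intro v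
    have := congrArg (fun f : Module.End K V => f v) hfac
    simp only [LinearMap.zero_apply] at this
    exact eq_zero_of_sub_one ρ hρ ht1 this
  exact eq_neg_of_add_eq_zero_left h0

theorem no_common_eigvec (ρ : G →* Module.End K V) (hρ : IsFpf ρ) {x y : G} (hxy : x * y ≠ y * x)
    (w : V) (hw : w ≠ 0) (a b : K) (hx : ρ x w = a • w) (hy : ρ y w = b • w) : False := by
  have h1 : ρ (x * y) w = (a * b) • w := by
    rw [map_mul, Module.End.mul_apply, hy, map_smul, hx, smul_smul, mul_comm]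
  have h2 : ρ (y * x) w = (a * b) • w := by
    rw [map_mul, Module.End.mul_apply, hx, map_smul, hy, smul_smul]
  have hg : (y * x)⁻¹ * (x * y) ≠ 1 := by
    intro h
    exact hxy (inv_mul_eq_one.mp h).symm
  apply hw
  apply hρ _ hg w
  rw [map_mul, Module.End.mul_apply, h1, ← h2, ← Module.End.mul_apply, rho_inv_mul, Module.End.one_apply]

end Basic

section Scalar
variable {K : Type*} [Field K]
variable {V : Type*} [AddCommGroup V] [Module K V]
variable {G : Type*} [Group G]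

theorem orderOf_eq_two_of_sq {t : G} (h : t ^ 2 = 1) (h1 : t ≠ 1) : orderOf t = 2 :=
  orderOf_eq_prime h h1

theorem orderOf_eq_three_of_cube {t : G} (h : t ^ 3 = 1) (h1 : t ≠ 1) : orderOf t = 3 := by
  have : Fact (Nat.Prime 3) := ⟨by norm_num⟩
  exact orderOf_eq_prime h h1

/-- elements of order dividing 4 or 6 have `ρ g + ρ g⁻¹` scalar -/
theorem scalar_sum (ρ : G →* Module.End K V) (hρ : IsFpf ρ) (g : G) (h : g ^ 4 = 1 ∨ g ^ 6 = 1) :
    ∃ σ : K, ρ g + ρ g⁻¹ = σ • (1 : Module.End K V) := by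
  rcases h with h | h
  · -- g^4 = 1
    by_cases ht : g ^ 2 = 1
    · by_cases hg1 : g = 1
      · refine ⟨2, ?_⟩
        rw [hg1, inv_one, map_one, two_smul]
      · have ho := orderOf_eq_two_of_sq ht hg1
        have hinv : g⁻¹ = g := by
          rw [inv_eq_iff_mul_eq_one, ← sq, ht]
        refine ⟨-2, ?_⟩
        rw [hinv, rho_involution ρ hρ ho]
        rw [neg_smul, two_smul]; abel
    · have h2 : (g ^ 2) ^ 2 = 1 := by rw [← pow_mul]; exact h
      have ho := orderOf_eq_two_of_sq h2 ht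
      have hr := rho_involution ρ hρ ho
      rw [rho_pow] at hr
      -- ρ g ^ 2 = -1, so ρ g⁻¹ = - ρ g
      have hinv : ρ g⁻¹ = -ρ g := by
        have h1 : ρ g * (-ρ g) = 1 := by
          have : ρ g * (-ρ g) = -(ρ g ^ 2) := by noncomm_ring
          rw [this, hr, neg_neg]
        calc ρ g⁻¹ = ρ g⁻¹ * (ρ g * (-ρ g)) := by rw [h1, mul_one]
          _ = (ρ g⁻¹ * ρ g) * (-ρ g) := by rw [mul_assoc]
          _ = -ρ g := by rw [rho_inv_mul, one_mul]
      refine ⟨0, ?_⟩
      rw [hinv, zero_smul]; abel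
  · -- g^6 = 1
    by_cases ht : g ^ 3 = 1
    · by_cases hg1 : g = 1
      · refine ⟨2, ?_⟩
        rw [hg1, inv_one, map_one, two_smul]
      · have ho := orderOf_eq_three_of_cube ht hg1
        refine ⟨-1, ?_⟩
        rw [rho_inv_order_three ρ hρ ho, neg_smul, one_smul]; abel
    · have h2 : (g ^ 3) ^ 2 = 1 := by rw [← pow_mul]; exact h
      have ho := orderOf_eq_two_of_sq h2 ht
      have hr := rho_involution ρ hρ ho
      -- h := g^4 has h^3 = 1 and ρ h = - ρ g
      have hh3 : (g ^ 4) ^ 3 = 1 := by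
        rw [← pow_mul]
        have : g ^ (4 * 3) = (g ^ 6) ^ 2 := by rw [← pow_mul]
        rw [this, h, one_pow]
      have hρh : ρ (g ^ 4) = -ρ g := by
        have : g ^ 4 = g ^ 3 * g := by rw [← pow_succ]
        rw [this, map_mul, hr]; simp
      have hρhinv : ρ (g ^ 4)⁻¹ = -ρ g⁻¹ := by
        have : (g ^ 4)⁻¹ = g ^ 3 * g⁻¹ := by
          rw [inv_eq_iff_mul_eq_one]
          have : g ^ 4 * (g ^ 3 * g⁻¹) = g ^ 6 := by
            rw [← mul_assoc, ← pow_add]
            rw [show 4 + 3 = 6 + 1 from rfl, pow_succ, mul_assoc, mul_inv_cancel, mul_one]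
          rw [this, h]
        rw [this, map_mul, hr]; simp
      by_cases hh1 : g ^ 4 = 1
      · -- then g = (g^3)⁻¹... ρ g = -1
        have hg : ρ g = -1 := by
          have : ρ (g ^ 4) = 1 := by rw [hh1, map_one]
          rw [hρh] at this
          exact neg_eq_iff_eq_neg.mp this
        have hginv : ρ g⁻¹ = -1 := by
          have : ρ (g ^ 4)⁻¹ = 1 := by rw [hh1, inv_one, map_one]
          rw [hρhinv] at this
          exact neg_eq_iff_eq_neg.mp this
        refine ⟨-2, ?_⟩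
        rw [hg, hginv, neg_smul, two_smul]; abel
      · have ho3 := orderOf_eq_three_of_cube hh3 hh1
        have hq := rho_inv_order_three ρ hρ ho3
        rw [hρhinv, hρh] at hq
        -- -ρ g⁻¹ = ρ g - 1
        refine ⟨1, ?_⟩
        rw [one_smul]
        have : ρ g⁻¹ = -(-ρ g⁻¹) := by rw [neg_neg]
        rw [this, hq]; abel

end Scalar

section Planar
variable {K : Type*} [Field K] [IsAlgClosed K]
variable {V : Type*} [AddCommGroup V] [Module K V] [FiniteDimensional K V] [Nontrivial V]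
variable {G : Type*} [Group G]

omit [IsAlgClosed K] [FiniteDimensional K V] [Nontrivial V] in
theorem linIndep_frame (ρ : G →* Module.End K V) (hρ : IsFpf ρ) {x y : G} (hxy : x * y ≠ y * x)
    {w : V} (hw : w ≠ 0) {l : K} (hl : ρ x w = l • w) : LinearIndependent K ![w, ρ y w] := by
  rw [LinearIndependent.pair_iff]
  intro s t hst
  have ht : t = 0 := by
    by_contra ht
    have : ρ y w = (-(s / t)) • w := by
      have h1 : t • ρ y w = -(s • w) := by
        rw [eq_neg_iff_add_eq_zero, add_comm]; exact hst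
      have h2 : ρ y w = t⁻¹ • (t • ρ y w) := by rw [smul_smul, inv_mul_cancel₀ ht, one_smul]
      rw [h2, h1, smul_neg, smul_smul, neg_smul, div_eq_inv_mul, mul_comm]
    exact no_common_eigvec ρ hρ hxy w hw l _ hl this
  subst ht
  rw [zero_smul, add_zero] at hst
  exact ⟨(smul_eq_zero.mp hst).resolve_right hw, rfl⟩

omit [IsAlgClosed K] [FiniteDimensional K V] [Nontrivial V] in
theorem quad_apply (ρ : G →* Module.End K V) (hρ : IsFpf ρ) {y : G} (hy : orderOf y = 3) (w : V) :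
    ρ y (ρ y w) = (-1 : K) • w + (-1 : K) • ρ y w := by
  have hq := quad_of_order_three ρ hρ hy
  have := congrArg (fun f : Module.End K V => f w) hq
  simp only [LinearMap.add_apply, Module.End.mul_apply, Module.End.one_apply,
    LinearMap.zero_apply] at this
  rw [neg_one_smul, neg_one_smul]
  have h2 : ρ y (ρ y w) = -(ρ y w + w) := eq_neg_of_add_eq_zero_left (by rw [← add_assoc]; exact this)
  rw [h2]; abel

theorem planar_pair (ρ : G →* Module.End K V) (hρ : IsFpf ρ) {x y : G} (hx : orderOf x = 3)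
    (hy : orderOf y = 3) (hxy : x * y ≠ y * x) : Planar K (Subgroup.closure {x, y}) := by
  obtain ⟨w, hw, l, a, b, hl, hab⟩ := exists_plane (ρ x) (ρ y) (quad_of_order_three ρ hρ hx)
    (quad_of_order_three ρ hρ hy)
  have hli := linIndep_frame ρ hρ hxy hw hl
  apply planar_of_frame ρ hρ {x, y} _ _ w (ρ y w) hli
  · intro s hs
    rcases hs with rfl | hs
    · exact ⟨⟨l, 0, by rw [hl, zero_smul, add_zero]⟩, ⟨a, b, hab⟩⟩
    · rw [Set.mem_singleton_iff] at hs
      subst hs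
      exact ⟨⟨0, 1, by rw [zero_smul, zero_add, one_smul]⟩, ⟨-1, -1, quad_apply ρ hρ hy w⟩⟩
  · intro s hs
    rcases hs with rfl | hs
    · exact hx
    · rw [Set.mem_singleton_iff] at hs; rw [hs]; exact hy
  · intro s hs
    rcases hs with rfl | hs
    · exact ⟨y, by simp, hxy⟩
    · rw [Set.mem_singleton_iff] at hs
      subst hs
      exact ⟨x, by simp, fun h => hxy h.symm⟩

omit [IsAlgClosed K] [FiniteDimensional K V] [Nontrivial V] in
/-- `S = XY + YX + X + Y + 1 = ρ(xy) + ρ((xy)⁻¹)` -/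
theorem S_eq (ρ : G →* Module.End K V) (hρ : IsFpf ρ) {x y : G} (hx : orderOf x = 3)
    (hy : orderOf y = 3) :
    ρ x * ρ y + ρ y * ρ x + ρ x + ρ y + 1 = ρ (x * y) + ρ (x * y)⁻¹ := by
  rw [mul_inv_rev, map_mul, map_mul, rho_inv_order_three ρ hρ hx, rho_inv_order_three ρ hρ hy]
  noncomm_ring

theorem planar_triple [CharZero K] (ρ : G →* Module.End K V) (hρ : IsFpf ρ) {x y₁ y₂ : G}
    (hx : orderOf x = 3) (hy₁ : orderOf y₁ = 3) (hy₂ : orderOf y₂ = 3)
    (hxy₁ : x * y₁ ≠ y₁ * x) (hxy₂ : x * y₂ ≠ y₂ * x)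
    (h1 : ∀ g ∈ Subgroup.closure {x, y₁}, g ^ 4 = 1 ∨ g ^ 6 = 1)
    (h2 : ∀ g ∈ Subgroup.closure {x, y₂}, g ^ 4 = 1 ∨ g ^ 6 = 1) :
    Planar K (Subgroup.closure {x, y₁, y₂}) := by
  have hm1 : x * y₁ ∈ Subgroup.closure {x, y₁} :=
    Subgroup.mul_mem _ (Subgroup.subset_closure (by simp)) (Subgroup.subset_closure (by simp))
  have hm2 : x * y₂ ∈ Subgroup.closure {x, y₂} :=
    Subgroup.mul_mem _ (Subgroup.subset_closure (by simp)) (Subgroup.subset_closure (by simp))
  obtain ⟨σ₁, hσ₁⟩ := scalar_sum ρ hρ (x * y₁) (h1 _ hm1)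
  obtain ⟨σ₂, hσ₂⟩ := scalar_sum ρ hρ (x * y₂) (h2 _ hm2)
  rw [← S_eq ρ hρ hx hy₁] at hσ₁
  rw [← S_eq ρ hρ hx hy₂] at hσ₂
  obtain ⟨w, hw, ⟨l, hl⟩, ⟨a, b, hab⟩, ⟨c, d, hcd⟩, ⟨e, f, hef⟩⟩ :=
    exists_common_plane (ρ x) (ρ y₁) (ρ y₂) (quad_of_order_three ρ hρ hx)
      (quad_of_order_three ρ hρ hy₁) (quad_of_order_three ρ hρ hy₂) σ₁ σ₂ hσ₁ hσ₂
      (fun w hw a b => no_common_eigvec ρ hρ hxy₁ w hw a b)
      (fun w hw a b => no_common_eigvec ρ hρ hxy₂ w hw a b)
  have hli := linIndep_frame ρ hρ hxy₁ hw hl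
  apply planar_of_frame ρ hρ {x, y₁, y₂} _ _ w (ρ y₁ w) hli
  · intro s hs
    rcases hs with rfl | rfl | hs
    · exact ⟨⟨l, 0, by rw [hl, zero_smul, add_zero]⟩, ⟨a, b, hab⟩⟩
    · exact ⟨⟨0, 1, by rw [zero_smul, zero_add, one_smul]⟩, ⟨-1, -1, quad_apply ρ hρ hy₁ w⟩⟩
    · rw [Set.mem_singleton_iff] at hs
      subst hs
      exact ⟨⟨c, d, hcd⟩, ⟨e, f, hef⟩⟩
  · intro s hs
    rcases hs with rfl | rfl | hs
    · exact hx
    · exact hy₁
    · rw [Set.mem_singleton_iff] at hs; rw [hs]; exact hy₂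
  · intro s hs
    rcases hs with rfl | rfl | hs
    · exact ⟨y₁, by simp, hxy₁⟩
    · exact ⟨x, by simp, fun h => hxy₁ h.symm⟩
    · rw [Set.mem_singleton_iff] at hs
      subst hs
      exact ⟨x, by simp, fun h => hxy₂ h.symm⟩

end Planar

end Cfsg.Agent.Lib.Helper11.Zass
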