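import Mathlib
import Cfsg.Agent.Lib.Helper11.ZassGlue1

set_option autoImplicit false

/-!
# S0690 glue, part 2: Klein's classification for planar subgroups generated by elements of order 3
-/

namespace Cfsg.Agent.Lib.Helper11.Zass

open Cfsg.Agent.Lib.Helper16
open Classical

section SLTwo
variable {K : Type*} [Field K] [CharZero K]

local notation "SL2" => Matrix.SpecialLinearGroup (Fin 2) K

omit [CharZero K] in
theorem sq_eq_one_of_mem_ZL (L : Subgroup SL2) {g : L} (hg : g ∈ SL2Q.ZL L) : g ^ 2 = 1 := by
  rcases (SL2Q.mem_ZL L).mp hg with h | h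
  · apply Subtype.ext
    rw [Subgroup.coe_pow, h, one_pow, Subgroup.coe_one]
  · apply Subtype.ext
    rw [Subgroup.coe_pow, h, Subgroup.coe_one]
    simp

theorem not_mem_ZL_of_order_three (L : Subgroup SL2) {g : L} (hg : orderOf g = 3) :
    g ∉ SL2Q.ZL L := by
  intro h
  have h2 := sq_eq_one_of_mem_ZL L h
  have := orderOf_dvd_of_pow_eq_one h2
  rw [hg] at this
  norm_num at this

omit [CharZero K] in
theorem card_ZL_le_two (L : Subgroup SL2) [Finite L] : Nat.card (SL2Q.ZL L) ≤ 2 := by
  have : Fintype L := Fintype.ofFinite L
  -- inject ZL L into Bool via "is one"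
  have hinj : Function.Injective (fun z : SL2Q.ZL L => decide ((z : L) = 1)) := by
    intro a b hab
    have ha := (SL2Q.mem_ZL L).mp a.2
    have hb := (SL2Q.mem_ZL L).mp b.2
    by_cases h1 : ((a : L) = 1)
    · have h2 : ((b : L) = 1) := by
        have : decide ((a : L) = 1) = decide ((b : L) = 1) := hab
        simpa [h1] using this
      exact Subtype.ext (h1.trans h2.symm)
    · have h2 : ¬ ((b : L) = 1) := by
        have : decide ((a : L) = 1) = decide ((b : L) = 1) := hab
        intro hb1
        simp [h1, hb1] at this
      have ha' : ((a : L) : SL2) = -1 := by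
        rcases ha with h | h
        · exact absurd (Subtype.ext (by rw [h]; rfl)) h1
        · exact h
      have hb' : ((b : L) : SL2) = -1 := by
        rcases hb with h | h
        · exact absurd (Subtype.ext (by rw [h]; rfl)) h2
        · exact h
      exact Subtype.ext (Subtype.ext (ha'.trans hb'.symm))
  have := Nat.card_le_card_of_injective _ hinj
  simpa using this

theorem pow_card_centralizer (L : Subgroup SL2) [Finite L] (g : L) :
    g ^ Nat.card (Subgroup.centralizer ({g} : Set L)) = 1 := by
  have hmem : g ∈ Subgroup.centralizer ({g} : Set L) := Subgroup.mem_centralizer_singleton_iff.mpr rfl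
  have h1 := pow_card_eq_one' (G := Subgroup.centralizer ({g} : Set L)) (x := ⟨g, hmem⟩)
  have h2 := congrArg Subtype.val h1
  rw [Subgroup.coe_pow, Subgroup.coe_one] at h2
  exact h2

theorem three_dvd_card_centralizer (L : Subgroup SL2) [Finite L] {g : L} (hg : orderOf g = 3) :
    3 ∣ Nat.card (Subgroup.centralizer ({g} : Set L)) := by
  rw [← hg]
  exact orderOf_dvd_of_pow_eq_one (pow_card_centralizer L g)

/-- a group generated by elements of order three, seen as a group -/
theorem closure_order_three_eq_top {G : Type*} [Group G] (S : Set G) (hS : ∀ s ∈ S, orderOf s = 3) :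
    Subgroup.closure {h : Subgroup.closure S | orderOf h = 3} = ⊤ := by
  have hle : Subgroup.closure S ≤
      (Subgroup.closure {h : Subgroup.closure S | orderOf h = 3}).map (Subgroup.closure S).subtype := by
    rw [Subgroup.closure_le]
    intro s hs
    have hsH : s ∈ Subgroup.closure S := Subgroup.subset_closure hs
    refine ⟨⟨s, hsH⟩, ?_, rfl⟩
    apply Subgroup.subset_closure
    show orderOf (⟨s, hsH⟩ : Subgroup.closure S) = 3
    rw [← hS s hs]
    exact Subgroup.orderOf_mk s hsH
  rw [eq_top_iff]
  intro h _
  obtain ⟨t, ht, hth⟩ := hle h.2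
  have : t = h := Subtype.ext hth
  rw [← this]; exact ht

/-- the order of a finite nonabelian subgroup of `SL₂(K)` generated by elements of order three,
with its centralizer data -/
theorem klein_card (L : Subgroup SL2) [Fintype L]
    (hgen : Subgroup.closure {h : L | orderOf h = 3} = ⊤) (hna : ∃ a b : L, a * b ≠ b * a) :
    (Nat.card L = 24 ∧ ∀ h : L, h ∉ SL2Q.ZL L →
      Nat.card (Subgroup.centralizer ({h} : Set L)) = 4 ∨
      Nat.card (Subgroup.centralizer ({h} : Set L)) = 6) ∨
    (Nat.card L = 120 ∧ Nat.card (SL2Q.ZL L) = 2 ∧ KleinData L 5) := by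
  rcases klein_cases L hna with h1 | h2 | h3 | h4
  · exfalso
    obtain ⟨g, hgZ, hcard, hall⟩ := h1
    have hsub : ∀ h : L, orderOf h = 3 → h ∈ Subgroup.centralizer ({g} : Set L) := by
      intro h hh
      rcases hall h (not_mem_ZL_of_order_three L hh) with h' | h'
      · exact h'
      · exfalso
        have h3 := three_dvd_card_centralizer L hh
        rw [h'] at h3
        have hz := card_ZL_le_two L
        have hz1 : 0 < Nat.card (SL2Q.ZL L) := Nat.card_pos
        interval_cases (Nat.card (SL2Q.ZL L)) <;> omega
    have htop : Subgroup.centralizer ({g} : Set L) = ⊤ := by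
      rw [eq_top_iff, ← hgen, Subgroup.closure_le]
      intro h hh
      exact hsub h hh
    rw [htop, Subgroup.card_top] at hcard
    have : 0 < Nat.card L := Nat.card_pos
    omega
  · exact Or.inl h2
  · exact absurd hgen (fun hg => no_48 L h3.1 h3.2.1 h3.2.2 hg)
  · exact Or.inr h4

/-- the package at the level of `SL₂(K)` -/
theorem klein_sl2 (L : Subgroup SL2) [Finite L]
    (hgen : Subgroup.closure {h : L | orderOf h = 3} = ⊤) (hna : ∃ a b : L, a * b ≠ b * a) :
    (Nat.card L = 24 ∨ Nat.card L = 120) ∧ (∀ g : L, g ^ 4 = 1 ∨ g ^ 6 = 1 ∨ g ^ 10 = 1) ∧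
    (Nat.card L = 24 → ∀ g : L, g ^ 4 = 1 ∨ g ^ 6 = 1) ∧
    (Nat.card L = 120 → Nat.card {A : Subgroup L // Nat.card A = 3} = 10 ∧
      ∃ x y : L, orderOf x = 3 ∧ orderOf y = 3 ∧ x * y ≠ y * x ∧
        Nat.card (Subgroup.closure {x, y}) = 24) := by
  have : Fintype L := Fintype.ofFinite L
  have hZ4 : ∀ g : L, g ∈ SL2Q.ZL L → g ^ 4 = 1 := by
    intro g hg
    have := sq_eq_one_of_mem_ZL L hg
    rw [show 4 = 2 * 2 from rfl, pow_mul, this, one_pow]
  rcases klein_card L hgen hna with ⟨h24, hdata⟩ | ⟨h120, hZ, hD⟩
  · refine ⟨Or.inl h24, ?_, ?_, ?_⟩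
    · intro g
      by_cases hg : g ∈ SL2Q.ZL L
      · exact Or.inl (hZ4 g hg)
      · have := pow_card_centralizer L g
        rcases hdata g hg with h | h
        · rw [h] at this; exact Or.inl this
        · rw [h] at this; exact Or.inr (Or.inl this)
    · intro _ g
      by_cases hg : g ∈ SL2Q.ZL L
      · exact Or.inl (hZ4 g hg)
      · have := pow_card_centralizer L g
        rcases hdata g hg with h | h
        · rw [h] at this; exact Or.inl this
        · rw [h] at this; exact Or.inr this
    · intro h; rw [h24] at h; norm_num at h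
  · refine ⟨Or.inr h120, ?_, ?_, ?_⟩
    · intro g
      by_cases hg : g ∈ SL2Q.ZL L
      · exact Or.inl (hZ4 g hg)
      · have := pow_card_centralizer L g
        rcases (hD g hg).1 with h | h | h
        · rw [h] at this; exact Or.inl this
        · rw [h] at this; exact Or.inr (Or.inl this)
        · rw [h] at this; exact Or.inr (Or.inr this)
    · intro h; rw [h120] at h; norm_num at h
    · intro _
      refine ⟨icosa_points L h120 hZ hD, ?_⟩
      apply icosa_line L h120 hZ hD
      intro x y hx hy hxy
      -- the subgroup generated by x, y, inside SL2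
      set M : Subgroup L := Subgroup.closure {x, y} with hM
      set M' : Subgroup SL2 := M.map L.subtype with hM'
      have e : M ≃* M' := M.equivMapOfInjective L.subtype L.subtype_injective
      have : Finite M' := Finite.of_equiv _ e.toEquiv
      have : Fintype M' := Fintype.ofFinite M'
      have hgenM : Subgroup.closure {h : M | orderOf h = 3} = ⊤ := by
        apply closure_order_three_eq_top
        intro s hs
        rcases hs with rfl | hs
        · exact hx
        · rw [Set.mem_singleton_iff] at hs; rw [hs]; exact hy
      have hgenM' : Subgroup.closure {h : M' | orderOf h = 3} = ⊤ := by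
        have himg : (Subgroup.closure {h : M | orderOf h = 3}).map e.toMonoidHom = ⊤ := by
          rw [hgenM]
          exact Subgroup.map_top_of_surjective _ e.surjective
        rw [MonoidHom.map_closure] at himg
        rw [eq_top_iff, ← himg]
        apply Subgroup.closure_mono
        rintro _ ⟨h, hh, rfl⟩
        show orderOf (e h) = 3
        rw [MulEquiv.orderOf_eq]; exact hh
      have hnaM' : ∃ a b : M', a * b ≠ b * a := by
        have hxM : x ∈ M := Subgroup.subset_closure (by simp)
        have hyM : y ∈ M := Subgroup.subset_closure (by simp)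
        refine ⟨e ⟨x, hxM⟩, e ⟨y, hyM⟩, ?_⟩
        intro h
        rw [← map_mul, ← map_mul] at h
        have := e.injective h
        apply hxy
        exact congrArg Subtype.val this
      have hc := klein_card M' hgenM' hnaM'
      have hcard : Nat.card M = Nat.card M' := Nat.card_congr e.toEquiv
      rcases hc with ⟨h, -⟩ | ⟨h, -⟩
      · left; rw [hcard]; exact h
      · right; rw [hcard]; exact h

end SLTwo

end Cfsg.Agent.Lib.Helper11.Zass
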