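import Mathlib
import Cfsg.Agent.Lib.Helper11.ZassGlue2

set_option autoImplicit false

/-!
# S0690 glue, part 3: the Klein package for planar subgroups of an abstract group
-/

namespace Cfsg.Agent.Lib.Helper11.Zass

open Classical

/-- the Klein package for a subgroup `H` of `G` -/
structure KF {G : Type*} [Group G] (H : Subgroup G) : Prop where
  card : Nat.card H = 24 ∨ Nat.card H = 120
  ord : ∀ h ∈ H, h ^ 4 = 1 ∨ h ^ 6 = 1 ∨ h ^ 10 = 1
  ord24 : Nat.card H = 24 → ∀ h ∈ H, h ^ 4 = 1 ∨ h ^ 6 = 1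
  pts : Nat.card H = 120 → Nat.card {A : Pt G // A.1 ≤ H} = 10
  line : Nat.card H = 120 → ∃ x y : G, x ∈ H ∧ y ∈ H ∧ orderOf x = 3 ∧ orderOf y = 3 ∧
    x * y ≠ y * x ∧ Nat.card (Subgroup.closure {x, y}) = 24

section Transport
variable {L G : Type*} [Group L] [Group G]

/-- points of `G` inside the range of an injective hom correspond to subgroups of order three -/
noncomputable def ptEquiv (θ : L →* G) (hθ : Function.Injective θ) :
    {X : Subgroup L // Nat.card X = 3} ≃ {A : Pt G // A.1 ≤ θ.range} where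
  toFun X := ⟨⟨X.1.map θ, by rw [Subgroup.card_map_of_injective hθ]; exact X.2⟩, by
    show X.1.map θ ≤ θ.range
    rintro _ ⟨l, -, rfl⟩
    exact ⟨l, rfl⟩⟩
  invFun A := ⟨A.1.1.comap θ, by
    have h1 : (A.1.1.comap θ).map θ = A.1.1 := by
      rw [Subgroup.map_comap_eq, inf_eq_right]
      exact A.2
    rw [← Subgroup.card_map_of_injective hθ, h1]
    exact A.1.2⟩
  left_inv X := by
    apply Subtype.ext
    exact Subgroup.comap_map_eq_self_of_injective hθ X.1
  right_inv A := by
    apply Subtype.ext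
    apply Subtype.ext
    show (A.1.1.comap θ).map θ = A.1.1
    rw [Subgroup.map_comap_eq, inf_eq_right]
    exact A.2

theorem kf_of_embedding [Finite L] (θ : L →* G) (hθ : Function.Injective θ)
    (h : (Nat.card L = 24 ∨ Nat.card L = 120) ∧ (∀ g : L, g ^ 4 = 1 ∨ g ^ 6 = 1 ∨ g ^ 10 = 1) ∧
      (Nat.card L = 24 → ∀ g : L, g ^ 4 = 1 ∨ g ^ 6 = 1) ∧
      (Nat.card L = 120 → Nat.card {A : Subgroup L // Nat.card A = 3} = 10 ∧
        ∃ x y : L, orderOf x = 3 ∧ orderOf y = 3 ∧ x * y ≠ y * x ∧
          Nat.card (Subgroup.closure {x, y}) = 24)) :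
    KF θ.range := by
  obtain ⟨hc, ho, ho24, h120⟩ := h
  have hcard : Nat.card θ.range = Nat.card L := by
    rw [← Subgroup.card_top (G := L), ← Subgroup.card_map_of_injective hθ, MonoidHom.range_eq_map]
  have hpow : ∀ (l : L) (k : ℕ), l ^ k = 1 → θ l ^ k = 1 := by
    intro l k hl
    rw [← map_pow, hl, map_one]
  refine ⟨by rw [hcard]; exact hc, ?_, ?_, ?_, ?_⟩
  · rintro _ ⟨l, rfl⟩
    rcases ho l with h | h | h
    · exact Or.inl (hpow l 4 h)
    · exact Or.inr (Or.inl (hpow l 6 h))
    · exact Or.inr (Or.inr (hpow l 10 h))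
  · intro h24
    rw [hcard] at h24
    rintro _ ⟨l, rfl⟩
    rcases ho24 h24 l with h | h
    · exact Or.inl (hpow l 4 h)
    · exact Or.inr (hpow l 6 h)
  · intro h
    rw [hcard] at h
    rw [← (h120 h).1]
    exact (Nat.card_congr (ptEquiv θ hθ)).symm
  · intro h
    rw [hcard] at h
    obtain ⟨x, y, hx, hy, hxy, hcl⟩ := (h120 h).2
    refine ⟨θ x, θ y, ⟨x, rfl⟩, ⟨y, rfl⟩, ?_, ?_, ?_, ?_⟩
    · rw [orderOf_injective θ hθ]; exact hx
    · rw [orderOf_injective θ hθ]; exact hy
    · intro hc
      apply hxy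
      apply hθ
      rw [map_mul, map_mul]; exact hc
    · have : Subgroup.closure {θ x, θ y} = (Subgroup.closure {x, y}).map θ := by
        rw [MonoidHom.map_closure]
        congr 1
        ext g
        simp [Set.image_pair]
      rw [this, Subgroup.card_map_of_injective hθ]
      exact hcl

end Transport

section Main
variable {K : Type*} [Field K] [CharZero K]
variable {G : Type*} [Group G] [Finite G]

theorem gen_transport {A B : Type*} [Group A] [Group B] (e : A ≃* B)
    (h : Subgroup.closure {a : A | orderOf a = 3} = ⊤) :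
    Subgroup.closure {b : B | orderOf b = 3} = ⊤ := by
  have himg : (Subgroup.closure {a : A | orderOf a = 3}).map e.toMonoidHom = ⊤ := by
    rw [h]
    exact Subgroup.map_top_of_surjective _ e.surjective
  rw [MonoidHom.map_closure] at himg
  rw [eq_top_iff, ← himg]
  apply Subgroup.closure_mono
  rintro _ ⟨a, ha, rfl⟩
  show orderOf (e a) = 3
  rw [MulEquiv.orderOf_eq]; exact ha

/-- a planar nonabelian subgroup generated by elements of order three has the Klein package -/
theorem kf_of_planar' (H : Subgroup G) (hgenH : Subgroup.closure {h : H | orderOf h = 3} = ⊤)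
    (hnaH : ∃ a b : H, a * b ≠ b * a) (hpl : Planar K H) : KF H := by
  obtain ⟨ψ, hψ⟩ := hpl
  let e : H ≃* ψ.range := MonoidHom.ofInjective hψ
  have hfin : Finite ψ.range := Finite.of_equiv _ e.toEquiv
  let θ : ψ.range →* G := H.subtype.comp e.symm.toMonoidHom
  have hθ : Function.Injective θ := by
    intro a b hab
    apply e.symm.injective
    apply H.subtype_injective
    exact hab
  have hrange : θ.range = H := by
    ext g
    constructor
    · rintro ⟨l, rfl⟩
      exact (e.symm l).2
    · intro hg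
      refine ⟨e ⟨g, hg⟩, ?_⟩
      show ((e.symm (e ⟨g, hg⟩) : H) : G) = g
      rw [MulEquiv.symm_apply_apply]
  have hgenL : Subgroup.closure {l : ψ.range | orderOf l = 3} = ⊤ := gen_transport e hgenH
  have hnaL : ∃ a b : ψ.range, a * b ≠ b * a := by
    obtain ⟨a, b, hab⟩ := hnaH
    refine ⟨e a, e b, ?_⟩
    intro h
    rw [← map_mul, ← map_mul] at h
    exact hab (e.injective h)
  have := kf_of_embedding θ hθ (klein_sl2 ψ.range hgenL hnaL)
  rw [hrange] at this
  exact this

theorem kf_of_planar (S : Set G) (hS : ∀ s ∈ S, orderOf s = 3)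
    (hna : ∃ a ∈ S, ∃ b ∈ S, a * b ≠ b * a) (hpl : Planar K (Subgroup.closure S)) :
    KF (Subgroup.closure S) := by
  apply kf_of_planar' (K := K) _ (closure_order_three_eq_top S hS) _ hpl
  obtain ⟨a, ha, b, hb, hab⟩ := hna
  refine ⟨⟨a, Subgroup.subset_closure ha⟩, ⟨b, Subgroup.subset_closure hb⟩, ?_⟩
  intro h
  exact hab (congrArg Subtype.val h)

end Main

end Cfsg.Agent.Lib.Helper11.Zass
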