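import Mathlib
import Cfsg.Agent.Lib.Helper11.ZassGlue3

set_option autoImplicit false

/-!
# S0690 geometry, part 1: points, lines, adjacency
-/

namespace Cfsg.Agent.Lib.Helper11.Zass

open Classical

variable {G : Type*} [Group G] [Finite G]

/-- the hypotheses of the geometric part -/
structure Geo (G : Type*) [Group G] : Prop where
  pair : ∀ x y : G, orderOf x = 3 → orderOf y = 3 → x * y ≠ y * x → KF (Subgroup.closure {x, y})
  triple : ∀ x y₁ y₂ : G, orderOf x = 3 → orderOf y₁ = 3 → orderOf y₂ = 3 → x * y₁ ≠ y₁ * x →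
    x * y₂ ≠ y₂ * x → Nat.card (Subgroup.closure {x, y₁}) = 24 →
    Nat.card (Subgroup.closure {x, y₂}) = 24 → KF (Subgroup.closure {x, y₁, y₂})
  comm : ∀ x y : G, orderOf x = 3 → orderOf y = 3 → x * y = y * x → y ∈ Subgroup.zpowers x

omit [Finite G] in
theorem exists_gen (A : Pt G) : ∃ x : G, orderOf x = 3 ∧ Subgroup.zpowers x = A.1 := by
  have hA : Nat.card A.1 = 3 := A.2
  have : Fact (Nat.Prime 3) := ⟨by norm_num⟩
  have hfin : Finite A.1 := Nat.finite_of_card_ne_zero (by rw [hA]; norm_num)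
  have hnt : Nontrivial A.1 := by
    rw [← Finite.one_lt_card_iff_nontrivial, hA]; norm_num
  obtain ⟨a, ha⟩ := exists_ne (1 : A.1)
  have ho : orderOf a = 3 := by
    have hd : orderOf a ∣ 3 := by
      have := orderOf_dvd_natCard a
      rwa [hA] at this
    rcases (Nat.dvd_prime (by norm_num : Nat.Prime 3)).mp hd with h | h
    · exact absurd (orderOf_eq_one_iff.mp h) ha
    · exact h
  refine ⟨(a : G), by rw [Subgroup.orderOf_coe]; exact ho, ?_⟩
  have hle : Subgroup.zpowers (a : G) ≤ A.1 := by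
    rw [Subgroup.zpowers_le]; exact a.2
  apply Subgroup.eq_of_le_of_card_ge hle
  rw [Nat.card_zpowers, Subgroup.orderOf_coe, ho, hA]

omit [Finite G] in
theorem sup_eq_closure_pair {A B : Pt G} {x y : G} (hx : Subgroup.zpowers x = A.1)
    (hy : Subgroup.zpowers y = B.1) : (A.1 ⊔ B.1 : Subgroup G) = Subgroup.closure {x, y} := by
  rw [← hx, ← hy, Subgroup.zpowers_eq_closure, Subgroup.zpowers_eq_closure, ← Subgroup.closure_union]
  rfl

omit [Finite G] in
theorem sup_eq_closure_triple {A B C : Pt G} {x y z : G} (hx : Subgroup.zpowers x = A.1)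
    (hy : Subgroup.zpowers y = B.1) (hz : Subgroup.zpowers z = C.1) :
    (A.1 ⊔ B.1 ⊔ C.1 : Subgroup G) = Subgroup.closure {x, y, z} := by
  rw [sup_assoc, sup_eq_closure_pair hy hz, ← hx, Subgroup.zpowers_eq_closure,
    ← Subgroup.closure_union]
  rfl

omit [Finite G] in
theorem pt_eq_of_le {A B : Pt G} (h : A.1 ≤ B.1) : A = B := by
  apply Subtype.ext
  have hfin : Finite B.1 := Nat.finite_of_card_ne_zero (by rw [B.2]; norm_num)
  apply Subgroup.eq_of_le_of_card_ge h
  rw [A.2, B.2]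

/-- adjacency: the two points generate a subgroup of order 24 -/
def adj (A B : Pt G) : Prop := Nat.card (A.1 ⊔ B.1 : Subgroup G) = 24

omit [Finite G] in
theorem adj_symm {A B : Pt G} (h : adj A B) : adj B A := by
  unfold adj at *
  rw [sup_comm]; exact h

omit [Finite G] in
theorem adj_irrefl (A : Pt G) : ¬ adj A A := by
  unfold adj
  rw [sup_idem, A.2]; norm_num

omit [Finite G] in
theorem ne_of_adj {A B : Pt G} (h : adj A B) : A ≠ B := by
  rintro rfl
  exact adj_irrefl A h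

omit [Finite G] in
/-- generators of distinct points do not commute -/
theorem not_commute_gens (hG : Geo G) {A B : Pt G} (hAB : A ≠ B) {x y : G} (hx3 : orderOf x = 3)
    (hy3 : orderOf y = 3) (hx : Subgroup.zpowers x = A.1) (hy : Subgroup.zpowers y = B.1) :
    x * y ≠ y * x := by
  intro h
  have hmem := hG.comm x y hx3 hy3 h
  apply hAB
  apply (pt_eq_of_le _).symm
  rw [← hx, ← hy, Subgroup.zpowers_le]
  exact hmem

omit [Finite G] in
theorem kf_sup (hG : Geo G) {A B : Pt G} (hAB : A ≠ B) : KF (A.1 ⊔ B.1 : Subgroup G) := by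
  obtain ⟨x, hx3, hx⟩ := exists_gen A
  obtain ⟨y, hy3, hy⟩ := exists_gen B
  rw [sup_eq_closure_pair hx hy]
  exact hG.pair x y hx3 hy3 (not_commute_gens hG hAB hx3 hy3 hx hy)

omit [Finite G] in
theorem card_sup (hG : Geo G) {A B : Pt G} (hAB : A ≠ B) :
    adj A B ∨ Nat.card (A.1 ⊔ B.1 : Subgroup G) = 120 := (kf_sup hG hAB).card

/-- a line is determined by any two of its points -/
theorem sup_eq_of_le (hG : Geo G) {A B C : Pt G} (hAB : adj A B) (hC : C.1 ≤ A.1 ⊔ B.1)
    (hCA : C ≠ A) : (A.1 ⊔ C.1 : Subgroup G) = A.1 ⊔ B.1 := by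
  have hle : (A.1 ⊔ C.1 : Subgroup G) ≤ A.1 ⊔ B.1 := sup_le le_sup_left hC
  apply Subgroup.eq_of_le_of_card_ge hle
  have hcle := Subgroup.card_le_of_le hle
  rcases card_sup hG (Ne.symm hCA) with h | h
  · unfold adj at h hAB; rw [h, hAB]
  · unfold adj at hAB; rw [hAB, h] at hcle; omega

theorem adj_of_le (hG : Geo G) {A B C : Pt G} (hAB : adj A B) (hC : C.1 ≤ A.1 ⊔ B.1)
    (hCA : C ≠ A) : adj A C := by
  unfold adj
  rw [sup_eq_of_le hG hAB hC hCA]; exact hAB

omit [Finite G] in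
/-- triple version of the Klein package -/
theorem kf_triple (hG : Geo G) {A B C : Pt G} (hAB : adj A B) (hAC : adj A C) :
    KF (A.1 ⊔ B.1 ⊔ C.1 : Subgroup G) := by
  obtain ⟨x, hx3, hx⟩ := exists_gen A
  obtain ⟨y, hy3, hy⟩ := exists_gen B
  obtain ⟨z, hz3, hz⟩ := exists_gen C
  rw [sup_eq_closure_triple hx hy hz]
  apply hG.triple x y z hx3 hy3 hz3 (not_commute_gens hG (ne_of_adj hAB) hx3 hy3 hx hy)
    (not_commute_gens hG (ne_of_adj hAC) hx3 hz3 hx hz)
  · rw [← sup_eq_closure_pair hx hy]; exact hAB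
  · rw [← sup_eq_closure_pair hx hz]; exact hAC

/-- two distinct lines through `A` generate a plane -/
theorem card_triple (hG : Geo G) {A B C : Pt G} (hAB : adj A B) (hAC : adj A C)
    (hC : ¬ C.1 ≤ A.1 ⊔ B.1) : Nat.card (A.1 ⊔ B.1 ⊔ C.1 : Subgroup G) = 120 := by
  rcases (kf_triple hG hAB hAC).card with h | h
  · exfalso
    apply hC
    have hle : (A.1 ⊔ B.1 : Subgroup G) ≤ A.1 ⊔ B.1 ⊔ C.1 := le_sup_left
    have : (A.1 ⊔ B.1 : Subgroup G) = A.1 ⊔ B.1 ⊔ C.1 := by
      apply Subgroup.eq_of_le_of_card_ge hle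
      unfold adj at hAB; rw [h, hAB]
    rw [this]; exact le_sup_right
  · exact h

end Cfsg.Agent.Lib.Helper11.Zass
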