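import Mathlib
import Cfsg.Agent.Lib.Helper11.ZassGeom1

set_option autoImplicit false

/-!
# S0690 geometry, part 2: the point graph is strongly regular
-/

namespace Cfsg.Agent.Lib.Helper11.Zass

open Classical

variable {G : Type*} [Group G] [Finite G]

noncomputable instance instFintypePt : Fintype (Pt G) := Fintype.ofFinite _

theorem card_filter_eq (p : Pt G → Prop) :
    (Finset.univ.filter p).card = Nat.card {x : Pt G // p x} := by
  rw [Nat.card_eq_fintype_card, Fintype.card_subtype]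

/-- neighbours of `A` -/
noncomputable def nbrs (A : Pt G) : Finset (Pt G) := Finset.univ.filter (fun B => adj A B)

/-- lines through `A` -/
noncomputable def lines (A : Pt G) : Finset (Subgroup G) :=
  (nbrs A).image (fun B => (A.1 ⊔ B.1 : Subgroup G))

/-- number of lines through `A` -/
noncomputable def qq (A : Pt G) : ℕ := (lines A).card

theorem mem_nbrs {A B : Pt G} : B ∈ nbrs A ↔ adj A B := by
  simp [nbrs]

theorem mem_lines {A : Pt G} {L : Subgroup G} :
    L ∈ lines A ↔ ∃ B : Pt G, adj A B ∧ (A.1 ⊔ B.1 : Subgroup G) = L := by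
  simp [lines, mem_nbrs]

/-- the points on a subgroup -/
noncomputable def ptsOn (L : Subgroup G) : Finset (Pt G) := Finset.univ.filter (fun C => C.1 ≤ L)

theorem mem_ptsOn {L : Subgroup G} {C : Pt G} : C ∈ ptsOn L ↔ C.1 ≤ L := by simp [ptsOn]

theorem card_ptsOn_line {A B : Pt G} (h : adj A B) : (ptsOn (A.1 ⊔ B.1 : Subgroup G)).card = 4 := by
  unfold ptsOn
  rw [card_filter_eq]
  exact line_points A B h

theorem line_fiber (hG : Geo G) {A B₀ : Pt G} (h : adj A B₀) :
    (nbrs A).filter (fun B => (A.1 ⊔ B.1 : Subgroup G) = A.1 ⊔ B₀.1) =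
      (ptsOn (A.1 ⊔ B₀.1 : Subgroup G)).erase A := by
  ext C
  simp only [Finset.mem_filter, mem_nbrs, Finset.mem_erase, mem_ptsOn]
  constructor
  · rintro ⟨hC, hL⟩
    exact ⟨(ne_of_adj hC).symm, by rw [← hL]; exact le_sup_right⟩
  · rintro ⟨hCA, hC⟩
    exact ⟨adj_of_le hG h hC hCA, sup_eq_of_le hG h hC hCA⟩

theorem card_line_fiber (hG : Geo G) {A B₀ : Pt G} (h : adj A B₀) :
    ((nbrs A).filter (fun B => (A.1 ⊔ B.1 : Subgroup G) = A.1 ⊔ B₀.1)).card = 3 := by
  rw [line_fiber hG h, Finset.card_erase_of_mem (mem_ptsOn.mpr le_sup_left), card_ptsOn_line h]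

theorem card_nbrs (hG : Geo G) (A : Pt G) : (nbrs A).card = 3 * qq A := by
  rw [Finset.card_eq_sum_card_image (fun B : Pt G => (A.1 ⊔ B.1 : Subgroup G)) (nbrs A)]
  have : ∀ L ∈ (nbrs A).image (fun B : Pt G => (A.1 ⊔ B.1 : Subgroup G)),
      ((nbrs A).filter (fun B => (A.1 ⊔ B.1 : Subgroup G) = L)).card = 3 := by
    intro L hL
    obtain ⟨B₀, hB₀, rfl⟩ := Finset.mem_image.mp hL
    exact card_line_fiber hG (mem_nbrs.mp hB₀)
  rw [Finset.sum_congr rfl this, Finset.sum_const, smul_eq_mul, mul_comm]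
  rfl

/-- the data of a plane -/
theorem plane_data (hG : Geo G) (D : Subgroup G) (hKF : KF D) (hD : Nat.card D = 120) :
    (∀ A : Pt G, A.1 ≤ D → ((ptsOn D).filter (fun B => adj A B)).card = 6) ∧
    (∀ A B : Pt G, A.1 ≤ D → B.1 ≤ D → adj A B →
      ((ptsOn D).filter (fun C => adj A C ∧ adj B C)).card = 3) ∧
    (∀ A B : Pt G, A.1 ≤ D → B.1 ≤ D → Nat.card (A.1 ⊔ B.1 : Subgroup G) = 120 →
      ((ptsOn D).filter (fun C => adj A C ∧ adj B C)).card = 4) := by
  have hline : ∃ A B : Pt G, A.1 ≤ D ∧ B.1 ≤ D ∧ Nat.card (A.1 ⊔ B.1 : Subgroup G) = 24 := by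
    obtain ⟨x, y, hxD, hyD, hx3, hy3, -, hcl⟩ := hKF.line hD
    refine ⟨⟨Subgroup.zpowers x, by rw [Nat.card_zpowers, hx3]⟩,
      ⟨Subgroup.zpowers y, by rw [Nat.card_zpowers, hy3]⟩, ?_, ?_, ?_⟩
    · show Subgroup.zpowers x ≤ D
      rw [Subgroup.zpowers_le]; exact hxD
    · show Subgroup.zpowers y ≤ D
      rw [Subgroup.zpowers_le]; exact hyD
    · rw [sup_eq_closure_pair (A := ⟨Subgroup.zpowers x, by rw [Nat.card_zpowers, hx3]⟩)
        (B := ⟨Subgroup.zpowers y, by rw [Nat.card_zpowers, hy3]⟩) rfl rfl]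
      exact hcl
  obtain ⟨h1, h2, h3⟩ := plane_srg D hD (hKF.pts hD)
    (fun A B _ _ hAB => card_sup hG hAB) hline
  refine ⟨?_, ?_, ?_⟩
  · intro A hA
    rw [← h1 A hA, ← card_filter_eq]
    unfold ptsOn
    rw [Finset.filter_filter]
    apply congrArg
    ext C
    simp only [Finset.mem_filter, Finset.mem_univ, true_and]
    exact Iff.rfl
  · intro A B hA hB hAB
    rw [← h2 A B hA hB hAB, ← card_filter_eq]
    unfold ptsOn
    rw [Finset.filter_filter]
    apply congrArg
    ext C
    simp only [Finset.mem_filter, Finset.mem_univ, true_and]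
    exact Iff.rfl
  · intro A B hA hB hAB
    rw [← h3 A B hA hB hAB, ← card_filter_eq]
    unfold ptsOn
    rw [Finset.filter_filter]
    apply congrArg
    ext C
    simp only [Finset.mem_filter, Finset.mem_univ, true_and]
    exact Iff.rfl

/-- common neighbours -/
noncomputable def common (A B : Pt G) : Finset (Pt G) :=
  Finset.univ.filter (fun C => adj A C ∧ adj B C)

theorem mem_common {A B C : Pt G} : C ∈ common A B ↔ adj A C ∧ adj B C := by simp [common]

theorem common_comm (A B : Pt G) : common A B = common B A := by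
  ext C; simp [mem_common, and_comm]

/-- `μ = 4` -/
theorem card_common_nonadj (hG : Geo G) {A B : Pt G} (hAB : A ≠ B) (hn : ¬ adj A B) :
    (common A B).card = 4 := by
  have hD : Nat.card (A.1 ⊔ B.1 : Subgroup G) = 120 := (card_sup hG hAB).resolve_left hn
  have hKF := kf_sup hG hAB
  have hsub : common A B = (ptsOn (A.1 ⊔ B.1 : Subgroup G)).filter (fun C => adj A C ∧ adj B C) := by
    ext C
    simp only [mem_common, Finset.mem_filter, mem_ptsOn]
    constructor
    · rintro ⟨hAC, hBC⟩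
      refine ⟨?_, hAC, hBC⟩
      have hCA := adj_symm hAC
      have hCB := adj_symm hBC
      have hnB : ¬ B.1 ≤ C.1 ⊔ A.1 := by
        intro hB
        have hle : (A.1 ⊔ B.1 : Subgroup G) ≤ C.1 ⊔ A.1 := sup_le le_sup_right hB
        have := Subgroup.card_le_of_le hle
        unfold adj at hCA
        rw [hD, hCA] at this
        omega
      have h120 := card_triple hG hCA hCB hnB
      have hle : (A.1 ⊔ B.1 : Subgroup G) ≤ C.1 ⊔ A.1 ⊔ B.1 :=
        sup_le (le_sup_right.trans le_sup_left) le_sup_right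
      have heq : (A.1 ⊔ B.1 : Subgroup G) = C.1 ⊔ A.1 ⊔ B.1 := by
        apply Subgroup.eq_of_le_of_card_ge hle
        rw [h120, hD]
      rw [heq]
      exact le_sup_left.trans le_sup_left
    · rintro ⟨-, h⟩; exact h
  rw [hsub]
  exact (plane_data hG _ hKF hD).2.2 A B le_sup_left le_sup_right hD

end Cfsg.Agent.Lib.Helper11.Zass
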