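import Mathlib
import Cfsg.Agent.Lib.Helper11.ZassGeom2

set_option autoImplicit false

/-!
# S0690 geometry, part 3: `λ = q + 1`, and the conclusion
-/

namespace Cfsg.Agent.Lib.Helper11.Zass

open Classical

variable {G : Type*} [Group G] [Finite G]

/-- the common neighbours of adjacent `A`, `B` lying on the line `A ⊔ B` -/
theorem common_on_line (hG : Geo G) {A B : Pt G} (hAB : adj A B) :
    (common A B).filter (fun C => C.1 ≤ (A.1 ⊔ B.1 : Subgroup G)) =
      ((ptsOn (A.1 ⊔ B.1 : Subgroup G)).erase A).erase B := by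
  ext C
  simp only [Finset.mem_filter, mem_common, Finset.mem_erase, mem_ptsOn]
  constructor
  · rintro ⟨⟨hAC, hBC⟩, hC⟩
    exact ⟨(ne_of_adj hBC).symm, (ne_of_adj hAC).symm, hC⟩
  · rintro ⟨hCB, hCA, hC⟩
    refine ⟨⟨adj_of_le hG hAB hC hCA, ?_⟩, hC⟩
    have hC' : C.1 ≤ B.1 ⊔ A.1 := by rw [sup_comm]; exact hC
    exact adj_of_le hG (adj_symm hAB) hC' hCB

theorem card_common_on_line (hG : Geo G) {A B : Pt G} (hAB : adj A B) :
    ((common A B).filter (fun C => C.1 ≤ (A.1 ⊔ B.1 : Subgroup G))).card = 2 := by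
  rw [common_on_line hG hAB, Finset.card_erase_of_mem, Finset.card_erase_of_mem,
    card_ptsOn_line hAB]
  · exact mem_ptsOn.mpr le_sup_left
  · rw [Finset.mem_erase]
    exact ⟨(ne_of_adj hAB).symm, mem_ptsOn.mpr le_sup_right⟩

/-- the plane spanned by the line `A ⊔ B` and a further neighbour `C` of `A` off the line -/
theorem plane_of_off (hG : Geo G) {A B C : Pt G} (hAB : adj A B) (hAC : adj A C)
    (hC : ¬ C.1 ≤ (A.1 ⊔ B.1 : Subgroup G)) :
    ((ptsOn (A.1 ⊔ B.1 ⊔ C.1 : Subgroup G)).filter (fun X => adj A X ∧ adj B X)).card = 3 ∧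
    ((ptsOn (A.1 ⊔ B.1 ⊔ C.1 : Subgroup G)).filter (fun X => adj A X)).card = 6 := by
  have hKF := kf_triple hG hAB hAC
  have h120 := card_triple hG hAB hAC hC
  have hpd := plane_data hG _ hKF h120
  exact ⟨hpd.2.1 A B (le_sup_left.trans le_sup_left) (le_sup_right.trans le_sup_left) hAB,
    hpd.1 A (le_sup_left.trans le_sup_left)⟩

theorem on_line_subset (A B C : Pt G) :
    (common A B).filter (fun X => X.1 ≤ (A.1 ⊔ B.1 : Subgroup G)) ⊆
      (ptsOn (A.1 ⊔ B.1 ⊔ C.1 : Subgroup G)).filter (fun X => adj A X ∧ adj B X) := by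
  intro X hX
  simp only [Finset.mem_filter, mem_common, mem_ptsOn] at hX ⊢
  exact ⟨hX.2.trans le_sup_left, hX.1⟩

/-- `λ = q + 1` -/
theorem card_common_adj (hG : Geo G) {A B : Pt G} (hAB : adj A B) :
    (common A B).card = qq A + 1 := by
  have hLmem : (A.1 ⊔ B.1 : Subgroup G) ∈ lines A := mem_lines.mpr ⟨B, hAB, rfl⟩
  have hsplit := Finset.card_filter_add_card_filter_not (s := common A B)
    (fun C : Pt G => C.1 ≤ (A.1 ⊔ B.1 : Subgroup G))
  have hon_card := card_common_on_line hG hAB
  have hoff_card : ((common A B).filter (fun C => ¬ C.1 ≤ (A.1 ⊔ B.1 : Subgroup G))).card =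
      ((lines A).erase (A.1 ⊔ B.1 : Subgroup G)).card := by
    apply Finset.card_bij (fun C _ => (A.1 ⊔ C.1 : Subgroup G))
    · intro C hC
      simp only [Finset.mem_filter, mem_common] at hC
      rw [Finset.mem_erase]
      refine ⟨?_, mem_lines.mpr ⟨C, hC.1.1, rfl⟩⟩
      intro h
      apply hC.2
      rw [← h]; exact le_sup_right
    · intro C hC C' hC' hCC'
      simp only [Finset.mem_filter, mem_common] at hC hC'
      by_contra hne
      have hpd := (plane_of_off hG hAB hC.1.1 hC.2).1
      have hC'le : C'.1 ≤ (A.1 ⊔ B.1 ⊔ C.1 : Subgroup G) := by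
        have h1 : C'.1 ≤ (A.1 ⊔ C'.1 : Subgroup G) := le_sup_right
        have h2 : (A.1 ⊔ C'.1 : Subgroup G) = A.1 ⊔ C.1 := hCC'.symm
        rw [h2] at h1
        exact h1.trans (sup_le (le_sup_left.trans le_sup_left) le_sup_right)
      have hsub : insert C (insert C'
          ((common A B).filter (fun X => X.1 ≤ (A.1 ⊔ B.1 : Subgroup G)))) ⊆
          (ptsOn (A.1 ⊔ B.1 ⊔ C.1 : Subgroup G)).filter (fun X => adj A X ∧ adj B X) := by
        intro X hX
        rw [Finset.mem_insert, Finset.mem_insert] at hX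
        rcases hX with hX | hX | hX
        · rw [hX]
          simp only [Finset.mem_filter, mem_ptsOn]
          exact ⟨le_sup_right, hC.1⟩
        · rw [hX]
          simp only [Finset.mem_filter, mem_ptsOn]
          exact ⟨hC'le, hC'.1⟩
        · exact on_line_subset A B C hX
      have hcard := Finset.card_le_card hsub
      have hn1 : C' ∉ (common A B).filter (fun X => X.1 ≤ (A.1 ⊔ B.1 : Subgroup G)) := by
        simp only [Finset.mem_filter, mem_common]
        intro h; exact hC'.2 h.2
      have hn2 : C ∉ insert C' ((common A B).filter (fun X => X.1 ≤ (A.1 ⊔ B.1 : Subgroup G))) := by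
        simp only [Finset.mem_insert, Finset.mem_filter, mem_common]
        rintro (h | h)
        · exact hne h
        · exact hC.2 h.2
      rw [hpd, Finset.card_insert_of_notMem hn2, Finset.card_insert_of_notMem hn1, hon_card] at hcard
      omega
    · intro L1 hL1
      rw [Finset.mem_erase] at hL1
      obtain ⟨C₀, hAC₀, hL1eq⟩ := mem_lines.mp hL1.2
      have hC₀L : ¬ C₀.1 ≤ (A.1 ⊔ B.1 : Subgroup G) := by
        intro h
        apply hL1.1
        rw [← hL1eq]
        exact sup_eq_of_le hG hAB h (ne_of_adj hAC₀).symm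
      obtain ⟨hpd3, hpd6⟩ := plane_of_off hG hAB hAC₀ hC₀L
      have hlt : ((common A B).filter (fun X => X.1 ≤ (A.1 ⊔ B.1 : Subgroup G))).card <
          ((ptsOn (A.1 ⊔ B.1 ⊔ C₀.1 : Subgroup G)).filter (fun X => adj A X ∧ adj B X)).card := by
        rw [hon_card, hpd3]; norm_num
      obtain ⟨C, hCT, hCn⟩ := Finset.exists_mem_notMem_of_card_lt_card hlt
      simp only [Finset.mem_filter, mem_ptsOn] at hCT
      have hCoff : ¬ C.1 ≤ (A.1 ⊔ B.1 : Subgroup G) := by
        intro h
        apply hCn
        simp only [Finset.mem_filter, mem_common]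
        exact ⟨hCT.2, h⟩
      refine ⟨C, ?_, ?_⟩
      · simp only [Finset.mem_filter, mem_common]
        exact ⟨hCT.2, hCoff⟩
      · -- A ⊔ C = A ⊔ C₀
        show (A.1 ⊔ C.1 : Subgroup G) = L1
        rw [← hL1eq]
        -- the six neighbours of A in the plane
        set F1 := (nbrs A).filter (fun X => (A.1 ⊔ X.1 : Subgroup G) = A.1 ⊔ B.1) with hF1
        set F2 := (nbrs A).filter (fun X => (A.1 ⊔ X.1 : Subgroup G) = A.1 ⊔ C₀.1) with hF2
        have hdisj : Disjoint F1 F2 := by
          rw [Finset.disjoint_left]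
          intro X h1 h2
          simp only [hF1, hF2, Finset.mem_filter] at h1 h2
          apply hL1.1
          rw [← hL1eq, ← h1.2, h2.2]
        have hsubN : F1 ∪ F2 ⊆
            (ptsOn (A.1 ⊔ B.1 ⊔ C₀.1 : Subgroup G)).filter (fun X => adj A X) := by
          intro X hX
          simp only [Finset.mem_filter, mem_ptsOn]
          rcases Finset.mem_union.mp hX with h | h
          · simp only [hF1, Finset.mem_filter, mem_nbrs] at h
            refine ⟨?_, h.1⟩
            have : X.1 ≤ (A.1 ⊔ X.1 : Subgroup G) := le_sup_right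
            rw [h.2] at this
            exact this.trans le_sup_left
          · simp only [hF2, Finset.mem_filter, mem_nbrs] at h
            refine ⟨?_, h.1⟩
            have : X.1 ≤ (A.1 ⊔ X.1 : Subgroup G) := le_sup_right
            rw [h.2] at this
            exact this.trans (sup_le (le_sup_left.trans le_sup_left) le_sup_right)
        have hcardU : (F1 ∪ F2).card = 6 := by
          rw [Finset.card_union_of_disjoint hdisj, hF1, hF2, card_line_fiber hG hAB,
            card_line_fiber hG hAC₀]
        have heq := Finset.eq_of_subset_of_card_le hsubN (by rw [hcardU, hpd6])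
        have hCN : C ∈ (ptsOn (A.1 ⊔ B.1 ⊔ C₀.1 : Subgroup G)).filter (fun X => adj A X) := by
          simp only [Finset.mem_filter, mem_ptsOn]
          exact ⟨hCT.1, hCT.2.1⟩
        rw [← heq] at hCN
        rcases Finset.mem_union.mp hCN with h | h
        · exfalso
          simp only [hF1, Finset.mem_filter] at h
          apply hCoff
          rw [← h.2]; exact le_sup_right
        · simp only [hF2, Finset.mem_filter] at h
          exact h.2
  have herase : ((lines A).erase (A.1 ⊔ B.1 : Subgroup G)).card = qq A - 1 :=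
    Finset.card_erase_of_mem hLmem
  have hq1 : 1 ≤ qq A := Finset.card_pos.mpr ⟨_, hLmem⟩
  rw [hon_card, hoff_card, herase] at hsplit
  omega

end Cfsg.Agent.Lib.Helper11.Zass
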