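import Mathlib
import Cfsg.Agent.Lib.Helper11.ZassGeom3

set_option autoImplicit false

/-!
# S0690 geometry, part 4: at most two lines through a point; the conclusion
-/

namespace Cfsg.Agent.Lib.Helper11.Zass

open Classical

variable {G : Type*} [Group G] [Finite G]

theorem qq_eq_of_adj (hG : Geo G) {A B : Pt G} (h : adj A B) : qq A = qq B := by
  have h1 := card_common_adj hG h
  have h2 := card_common_adj hG (adj_symm h)
  rw [common_comm] at h2
  omega

theorem qq_eq (hG : Geo G) (A B : Pt G) : qq A = qq B := by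
  by_cases hAB : A = B
  · rw [hAB]
  · by_cases h : adj A B
    · exact qq_eq_of_adj hG h
    · have h4 := card_common_nonadj hG hAB h
      have hne : (common A B).Nonempty := Finset.card_pos.mp (by rw [h4]; norm_num)
      obtain ⟨C, hC⟩ := hne
      rw [mem_common] at hC
      rw [qq_eq_of_adj hG hC.1, ← qq_eq_of_adj hG hC.2]

theorem qq_le_two (hG : Geo G) (A₀ : Pt G) : qq A₀ ≤ 2 := by
  by_contra hlt
  push Not at hlt
  have hne : Nonempty (Pt G) := ⟨A₀⟩
  apply no_srg (qq A₀) (by omega) (adj (G := G)) (fun a b h => adj_symm h) adj_irrefl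
  · intro a
    have := card_nbrs hG a
    rw [qq_eq hG a A₀] at this
    exact this
  · intro a b hab
    have := card_common_adj hG hab
    rw [qq_eq hG a A₀] at this
    exact this
  · intro a b hab hn
    exact card_common_nonadj hG hab hn

theorem nbrs_in_plane_subset (A : Pt G) (D : Subgroup G) :
    (ptsOn D).filter (fun X => adj A X) ⊆ nbrs A := by
  intro X hX
  simp only [Finset.mem_filter] at hX
  exact mem_nbrs.mpr hX.2

/-- the conclusion of the geometric part -/
theorem points_dichotomy (hG : Geo G) :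
    Nat.card (Pt G) ≤ 4 ∨ ∃ D : Subgroup G, KF D ∧ Nat.card D = 120 ∧ (∀ A : Pt G, A.1 ≤ D) ∧
      Nat.card (Pt G) = 10 ∧ (∃ A B : Pt G, (A.1 ⊔ B.1 : Subgroup G) = D) ∧
      ∀ A : Pt G, Nat.card {B : Pt G // (A.1 ⊔ B.1 : Subgroup G) = D} ≤ 3 := by
  by_cases hne : Nonempty (Pt G)
  swap
  · left
    rw [not_nonempty_iff] at hne
    rw [Nat.card_of_isEmpty]; norm_num
  obtain ⟨A₀⟩ := hne
  have hq2 := qq_le_two hG A₀
  have hnb := card_nbrs hG A₀
  have hcardU : Nat.card (Pt G) = (Finset.univ : Finset (Pt G)).card := by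
    rw [Nat.card_eq_fintype_card, Finset.card_univ]
  -- a non-neighbour gives a plane in which `A₀` has six neighbours
  have hplane : ∀ B : Pt G, B ≠ A₀ → ¬ adj A₀ B →
      KF (A₀.1 ⊔ B.1 : Subgroup G) ∧ Nat.card (A₀.1 ⊔ B.1 : Subgroup G) = 120 ∧
      ((ptsOn (A₀.1 ⊔ B.1 : Subgroup G)).filter (fun X => adj A₀ X)).card = 6 := by
    intro B hB hn
    have hKF := kf_sup hG (Ne.symm hB)
    have h120 := (card_sup hG (Ne.symm hB)).resolve_left hn
    exact ⟨hKF, h120, (plane_data hG _ hKF h120).1 A₀ le_sup_left⟩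
  have hq : qq A₀ = 0 ∨ qq A₀ = 1 ∨ qq A₀ = 2 := by omega
  rcases hq with hq | hq | hq
  · -- no lines: a single point
    left
    rw [hq, mul_zero] at hnb
    have hall : ∀ B : Pt G, B = A₀ := by
      intro B
      by_contra hB
      have hn : ¬ adj A₀ B := by
        intro h
        have := mem_nbrs.mpr h
        rw [Finset.card_eq_zero.mp hnb] at this
        exact absurd this (Finset.notMem_empty _)
      have h6 := (hplane B hB hn).2.2
      have := Finset.card_le_card (nbrs_in_plane_subset A₀ (A₀.1 ⊔ B.1 : Subgroup G))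
      rw [h6, hnb] at this
      omega
    have : Subsingleton (Pt G) := ⟨fun a b => (hall a).trans (hall b).symm⟩
    have := Finite.card_le_one_iff_subsingleton.mpr this
    omega
  · -- one line: four points
    left
    rw [hq, mul_one] at hnb
    have hall : ∀ B : Pt G, B ∈ insert A₀ (nbrs A₀) := by
      intro B
      rw [Finset.mem_insert]
      by_cases hB : B = A₀
      · exact Or.inl hB
      · right
        by_contra hn
        rw [mem_nbrs] at hn
        have h6 := (hplane B hB hn).2.2
        have := Finset.card_le_card (nbrs_in_plane_subset A₀ (A₀.1 ⊔ B.1 : Subgroup G))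
        rw [h6, hnb] at this
        omega
    have hsub : (Finset.univ : Finset (Pt G)) ⊆ insert A₀ (nbrs A₀) := fun B _ => hall B
    have h1 := Finset.card_le_card hsub
    have h2 := Finset.card_insert_le A₀ (nbrs A₀)
    rw [hcardU]
    omega
  · -- two lines: the plane
    right
    rw [hq] at hnb
    have hl2 : (lines A₀).card = 2 := hq
    obtain ⟨L1, L2, hL12, hlines⟩ := Finset.card_eq_two.mp hl2
    have hL1 : L1 ∈ lines A₀ := by rw [hlines]; simp
    have hL2 : L2 ∈ lines A₀ := by rw [hlines]; simp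
    obtain ⟨B₁, hB₁, hB₁L⟩ := mem_lines.mp hL1
    obtain ⟨B₂, hB₂, hB₂L⟩ := mem_lines.mp hL2
    have hB₂off : ¬ B₂.1 ≤ (A₀.1 ⊔ B₁.1 : Subgroup G) := by
      intro h
      apply hL12
      rw [← hB₁L, ← hB₂L]
      exact (sup_eq_of_le hG hB₁ h (ne_of_adj hB₂).symm).symm
    have hKF := kf_triple hG hB₁ hB₂
    have h120 := card_triple hG hB₁ hB₂ hB₂off
    have hpd := plane_data hG _ hKF h120
    have hallD : ∀ B : Pt G, B.1 ≤ (A₀.1 ⊔ B₁.1 ⊔ B₂.1 : Subgroup G) := by
      intro B
      by_cases hB : B = A₀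
      · rw [hB]; exact le_sup_left.trans le_sup_left
      · by_cases hadj : adj A₀ B
        · have hmem : (A₀.1 ⊔ B.1 : Subgroup G) ∈ lines A₀ := mem_lines.mpr ⟨B, hadj, rfl⟩
          rw [hlines, Finset.mem_insert, Finset.mem_singleton] at hmem
          have hle : B.1 ≤ (A₀.1 ⊔ B.1 : Subgroup G) := le_sup_right
          rcases hmem with h | h
          · rw [h, ← hB₁L] at hle
            exact hle.trans le_sup_left
          · rw [h, ← hB₂L] at hle
            exact hle.trans (sup_le (le_sup_left.trans le_sup_left) le_sup_right)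
        · obtain ⟨hKF', h120', h6⟩ := hplane B hB hadj
          have heq := Finset.eq_of_subset_of_card_le
            (nbrs_in_plane_subset A₀ (A₀.1 ⊔ B.1 : Subgroup G)) (by rw [h6, hnb])
          have hB₁' : B₁.1 ≤ (A₀.1 ⊔ B.1 : Subgroup G) := by
            have := mem_nbrs.mpr hB₁
            rw [← heq, Finset.mem_filter, mem_ptsOn] at this
            exact this.1
          have hB₂' : B₂.1 ≤ (A₀.1 ⊔ B.1 : Subgroup G) := by
            have := mem_nbrs.mpr hB₂
            rw [← heq, Finset.mem_filter, mem_ptsOn] at this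
            exact this.1
          have hle : (A₀.1 ⊔ B₁.1 ⊔ B₂.1 : Subgroup G) ≤ A₀.1 ⊔ B.1 :=
            sup_le (sup_le le_sup_left hB₁') hB₂'
          have hDD : (A₀.1 ⊔ B₁.1 ⊔ B₂.1 : Subgroup G) = A₀.1 ⊔ B.1 := by
            apply Subgroup.eq_of_le_of_card_ge hle
            rw [h120, h120']
          rw [hDD]; exact le_sup_right
    have hcard10 : Nat.card (Pt G) = 10 := by
      rw [← hKF.pts h120]
      exact (Nat.card_congr (Equiv.subtypeUnivEquiv hallD)).symm
    have hex : ∃ A B : Pt G, (A.1 ⊔ B.1 : Subgroup G) = A₀.1 ⊔ B₁.1 ⊔ B₂.1 := by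
      have hlt : (insert A₀ (nbrs A₀)).card < (Finset.univ : Finset (Pt G)).card := by
        have h2 := Finset.card_insert_le A₀ (nbrs A₀)
        rw [← hcardU, hcard10]
        omega
      obtain ⟨B, -, hB⟩ := Finset.exists_mem_notMem_of_card_lt_card hlt
      rw [Finset.mem_insert, mem_nbrs, not_or] at hB
      obtain ⟨hKF', h120', -⟩ := hplane B hB.1 hB.2
      refine ⟨A₀, B, ?_⟩
      apply Subgroup.eq_of_le_of_card_ge (sup_le (le_sup_left.trans le_sup_left) (hallD B))
      rw [h120, h120']
    refine ⟨_, hKF, h120, hallD, hcard10, hex, ?_⟩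
    intro A
    rw [← card_filter_eq]
    have h6 := hpd.1 A (hallD A)
    set S := Finset.univ.filter (fun B : Pt G => (A.1 ⊔ B.1 : Subgroup G) = A₀.1 ⊔ B₁.1 ⊔ B₂.1) with hS
    set N := (ptsOn (A₀.1 ⊔ B₁.1 ⊔ B₂.1 : Subgroup G)).filter (fun X => adj A X) with hN
    have hAN : A ∉ N := by
      rw [hN, Finset.mem_filter]
      intro h; exact adj_irrefl A h.2
    have hdisj : Disjoint S (insert A N) := by
      rw [Finset.disjoint_left]
      intro B hBS hBN
      rw [hS, Finset.mem_filter] at hBS
      rw [Finset.mem_insert] at hBN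
      rcases hBN with h | h
      · rw [h, sup_idem] at hBS
        have := A.2
        rw [hBS.2, h120] at this
        norm_num at this
      · rw [hN, Finset.mem_filter] at h
        have hadj : Nat.card (A.1 ⊔ B.1 : Subgroup G) = 24 := h.2
        rw [hBS.2, h120] at hadj
        norm_num at hadj
    have hle := Finset.card_le_univ (S ∪ insert A N)
    rw [Finset.card_union_of_disjoint hdisj, Finset.card_insert_of_notMem hAN, h6,
      ← Nat.card_eq_fintype_card, hcard10] at hle
    omega

end Cfsg.Agent.Lib.Helper11.Zass
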