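import Mathlib
import Cfsg.Agent.Lib.Helper11.ZassGeom4

set_option autoImplicit false

/-!
# S0690: the main theorem in abstract form
-/

universe u

namespace Cfsg.Agent.Lib.Helper11.Zass

open Classical

section Core
variable {K : Type*} [Field K] [IsAlgClosed K] [CharZero K]
variable {V : Type*} [AddCommGroup V] [Module K V] [FiniteDimensional K V] [Nontrivial V]

theorem geo_of_rep {G : Type*} [Group G] [Finite G] (ρ : G →* Module.End K V) (hρ : IsFpf ρ)
    (hcomm : ∀ x y : G, orderOf x = 3 → orderOf y = 3 → x * y = y * x → y ∈ Subgroup.zpowers x) :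
    Geo G where
  pair := by
    intro x y hx hy hxy
    apply kf_of_planar (K := K) {x, y}
    · intro s hs
      rcases hs with rfl | hs
      · exact hx
      · rw [Set.mem_singleton_iff] at hs; rw [hs]; exact hy
    · exact ⟨x, by simp, y, by simp, hxy⟩
    · exact planar_pair ρ hρ hx hy hxy
  triple := by
    intro x y₁ y₂ hx hy₁ hy₂ hxy₁ hxy₂ h1 h2
    have hS : ∀ s ∈ ({x, y₁, y₂} : Set G), orderOf s = 3 := by
      intro s hs
      rcases hs with rfl | rfl | hs
      · exact hx
      · exact hy₁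
      · rw [Set.mem_singleton_iff] at hs; rw [hs]; exact hy₂
    apply kf_of_planar (K := K) {x, y₁, y₂} hS
    · exact ⟨x, by simp, y₁, by simp, hxy₁⟩
    · have hk1 : KF (Subgroup.closure {x, y₁}) := by
        apply kf_of_planar (K := K) {x, y₁}
        · intro s hs
          rcases hs with rfl | hs
          · exact hx
          · rw [Set.mem_singleton_iff] at hs; rw [hs]; exact hy₁
        · exact ⟨x, by simp, y₁, by simp, hxy₁⟩
        · exact planar_pair ρ hρ hx hy₁ hxy₁
      have hk2 : KF (Subgroup.closure {x, y₂}) := by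
        apply kf_of_planar (K := K) {x, y₂}
        · intro s hs
          rcases hs with rfl | hs
          · exact hx
          · rw [Set.mem_singleton_iff] at hs; rw [hs]; exact hy₂
        · exact ⟨x, by simp, y₂, by simp, hxy₂⟩
        · exact planar_pair ρ hρ hx hy₂ hxy₂
      exact planar_triple ρ hρ hx hy₁ hy₂ hxy₁ hxy₂ (hk1.ord24 h1) (hk2.ord24 h2)
  comm := hcomm

theorem derivedSeries_eq_top {G : Type*} [Group G] (hperf : commutator G = ⊤) (n : ℕ) :
    derivedSeries G n = ⊤ := by
  induction n with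
  | zero => rfl
  | succ n ih =>
    rw [derivedSeries_succ, ih]
    exact hperf

theorem not_solvable_of_perfect {G : Type*} [Group G] [Nontrivial G] (hperf : commutator G = ⊤) :
    ¬ Group.IsSolvable G := by
  intro h
  obtain ⟨n, hn⟩ := h.solvable
  rw [derivedSeries_eq_top hperf] at hn
  exact top_ne_bot hn

theorem hodd_subgroup {G : Type*} [Group G]
    (hodd : ∀ p : ℕ, p.Prime → p ≠ 2 → ∀ Q : Subgroup G, IsPGroup p Q → IsCyclic Q)
    (Y : Subgroup G) : ∀ p : ℕ, p.Prime → p ≠ 2 → ∀ Q : Subgroup Y, IsPGroup p Q → IsCyclic Q := by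
  intro p hp hp2 Q hQ
  have hQ' : IsPGroup p (Q.map Y.subtype) := hQ.map _
  have hc := hodd p hp hp2 _ hQ'
  let e := Q.equivMapOfInjective Y.subtype Y.subtype_injective
  exact isCyclic_of_surjective e.symm e.symm.surjective

theorem hinv_subgroup {G : Type*} [Group G]
    (hinv : ∀ s t : G, orderOf s = 2 → orderOf t = 2 → s = t) (Y : Subgroup G) :
    ∀ s t : Y, orderOf s = 2 → orderOf t = 2 → s = t := by
  intro s t hs ht
  apply Subtype.ext
  apply hinv
  · rw [Subgroup.orderOf_coe]; exact hs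
  · rw [Subgroup.orderOf_coe]; exact ht

/-- **Zassenhaus**, abstract form -/
theorem zass_core {G : Type u} [Group G] [Finite G] [Nontrivial G] (ρ : G →* Module.End K V)
    (hρ : IsFpf ρ)
    (hodd : ∀ p : ℕ, p.Prime → p ≠ 2 → ∀ Q : Subgroup G, IsPGroup p Q → IsCyclic Q)
    (hinv : ∀ s t : G, orderOf s = 2 → orderOf t = 2 → s = t)
    (hcomm : ∀ x y : G, orderOf x = 3 → orderOf y = 3 → x * y = y * x → y ∈ Subgroup.zpowers x)
    (hperf : commutator G = ⊤) :
    Nonempty (G ≃* Matrix.SpecialLinearGroup (Fin 2) (ZMod 5)) := by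
  have hG := geo_of_rep ρ hρ hcomm
  have hns := not_solvable_of_perfect hperf
  -- 3 divides the order
  have h3 : 3 ∣ Nat.card G := by
    by_contra h3
    exact hns (solvable_of_three_not_dvd hodd hinv h3)
  have : Fact (Nat.Prime 3) := ⟨by norm_num⟩
  obtain ⟨x₀, hx₀⟩ := exists_prime_orderOf_dvd_card' 3 h3
  have hne : Nonempty (Pt G) := ⟨⟨Subgroup.zpowers x₀, by rw [Nat.card_zpowers, hx₀]⟩⟩
  rcases points_dichotomy hG with h4 | ⟨D, hKF, h120, hall, h10, ⟨A, B, hAB⟩, hnon⟩
  · exact (no_few_points hperf hodd hne h4).elim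
  · have hsolv : ∀ Y : Subgroup G, ¬ 3 ∣ Nat.card Y → Group.IsSolvable Y := by
      intro Y hY
      exact solvable_of_three_not_dvd (hodd_subgroup hodd Y) (hinv_subgroup hinv Y) hY
    have hDT : ∀ g : G, orderOf g = 3 → g ∈ D := by
      intro g hg
      have := hall ⟨Subgroup.zpowers g, by rw [Nat.card_zpowers, hg]⟩
      exact this (Subgroup.mem_zpowers g)
    have hgen : ∃ x y : G, orderOf x = 3 ∧ orderOf y = 3 ∧ Subgroup.closure {x, y} = D := by
      obtain ⟨x, hx3, hx⟩ := exists_gen A
      obtain ⟨y, hy3, hy⟩ := exists_gen B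
      exact ⟨x, y, hx3, hy3, by rw [← sup_eq_closure_pair hx hy]; exact hAB⟩
    exact endgame hperf hodd hinv hsolv D h120 hDT hKF.ord hgen (pairs_le D h10 hnon)

end Core

end Cfsg.Agent.Lib.Helper11.Zass
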