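import Mathlib
import Cfsg.Agent.Lib.Helper74.FCHub
import Cfsg.Agent.Lib.Helper79.FpfLiftJ
import Cfsg.Agent.S0690
import Cfsg.Agent.Lib.Helper19.MinSimple

set_option autoImplicit false

/-!
# S4118 glue, part 1 (helper11): consequences of a fixed-point-free action

From an abstract fixed-point-free action of a finite group `A` on a nontrivial finite group we get
`IsFC A` (helper79's lift), and from `IsFC` (helper74's hub + S0690): cyclic odd `p`-subgroups, a unique
involution, and solvability in the absence of `SL(2,5)`.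
-/

universe u v

namespace Cfsg.Agent.Lib.Helper11.TIHallGlue

open Cfsg.Agent.Lib.Helper74.FC Cfsg.Agent.Lib.Helper74.FCHub

/-- the statement of S0690 in helper74's packaging. -/
theorem z690 : Z690 := fun K _ _ G hfpf hperf hne => Cfsg.Agent.S0690.result G hfpf hperf hne

/-- an abstract fixed-point-free action makes `A` a Frobenius complement. -/
theorem isFC_of_fpf {A : Type u} [Group A] [Finite A] [Nontrivial A] {K : Type v} [Group K]
    [Finite K] [Nontrivial K] (φ : A →* MulAut K)
    (hfpf : ∀ a : A, a ≠ 1 → ∀ k : K, φ a k = k → k = 1) : IsFC A := by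
  have hinj : Function.Injective φ := by
    rw [injective_iff_map_eq_one]
    intro a ha
    by_contra ha1
    obtain ⟨k, hk⟩ := exists_ne (1 : K)
    exact hk (hfpf a ha1 k (by rw [ha]; rfl))
  have hfpf' : ∀ ψ ∈ φ.range, ψ ≠ 1 → ∀ k : K, ψ k = k → k = 1 := by
    rintro ψ ⟨a, rfl⟩ hψ k hk
    refine hfpf a ?_ k hk
    rintro rfl
    exact hψ (map_one φ)
  have hne : φ.range ≠ ⊥ := by
    obtain ⟨a, ha⟩ := exists_ne (1 : A)
    intro hbot
    have : φ a ∈ φ.range := ⟨a, rfl⟩
    rw [hbot, Subgroup.mem_bot] at this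
    exact ha (hinj (this.trans (map_one φ).symm))
  obtain ⟨L, iL, fL, C, hC, ⟨e⟩⟩ :=
    Cfsg.Agent.Lib.Helper79.FpfLift.exists_frobenius_of_fpf_aut φ.range hfpf' hne
  exact ⟨L, iL, fL, C, hC, ⟨(MonoidHom.ofInjective hinj).trans e⟩⟩

/-- In a Frobenius complement, `p`-subgroups are cyclic for odd `p`. -/
theorem isCyclic_of_isFC {A : Type u} [Group A] [Finite A] (hA : IsFC A) (p : ℕ) [Fact p.Prime]
    (hp2 : p ≠ 2) (P : Subgroup A) (hP : IsPGroup p P) : IsCyclic P := by
  have hsub : ∀ D : Subgroup A, D ≠ ⊥ → IsFC D := fun D hD => isFC_subgroup hA D hD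
  obtain ⟨S⟩ : Nonempty (Sylow p P) := inferInstance
  have hS : IsCyclic S := sylow_cyclic_of_ne_two hsub P p hp2 S
  have htop : (S : Subgroup P) = ⊤ := by
    have h1 : Nat.card (S : Subgroup P) = p ^ (Nat.card P).factorization p := S.card_eq_multiplicity
    obtain ⟨n, hn⟩ := IsPGroup.iff_card.mp hP
    have h2 : Nat.card (S : Subgroup P) = Nat.card P := by
      rw [h1, hn, Nat.Prime.factorization_pow (Fact.out : p.Prime)]
      simp
    exact Subgroup.eq_top_of_card_eq _ h2
  have e : (S : Subgroup P) ≃* P := (MulEquiv.subgroupCongr htop).trans Subgroup.topEquiv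
  exact isCyclic_of_surjective e e.surjective

/-- In a Frobenius complement there is at most one involution. -/
theorem unique_involution_of_isFC {A : Type u} [Group A] [Finite A] (hA : IsFC A) (s t : A)
    (hs : orderOf s = 2) (ht : orderOf t = 2) : s = t := by
  have hact := exists_fpf_action hA
  have h1 : ∀ x : A, orderOf x = 2 → x * x = 1 ∧ x ≠ 1 := by
    intro x hx
    refine ⟨?_, ?_⟩
    · have := pow_orderOf_eq_one x
      rw [hx, pow_two] at this
      exact this
    · rintro rfl
      simp at hx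
  exact Cfsg.Agent.Lib.Helper74.FCHub.unique_involution hact s t (h1 s hs).1 (h1 s hs).2 (h1 t ht).1 (h1 t ht).2

/-- A Frobenius complement without a subgroup `SL(2,5)` is solvable (Zassenhaus, S0690). -/
theorem isSolvable_of_isFC {A : Type u} [Group A] [Finite A] (hA : IsFC A)
    (hno : ∀ S : Subgroup A, ¬ Nonempty (S ≃* SL25)) : Group.IsSolvable A := by
  by_contra hns
  obtain ⟨S, _, hS1, hperf⟩ := exists_perfect_normal hns
  have hFS : IsFC S := isFC_subgroup hA S hS1
  have : Nontrivial S := (Subgroup.nontrivial_iff_ne_bot S).mpr hS1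
  exact hno S (sl25_of_perfect z690 (exists_fpf_action hFS) hperf)

/-- `SL(2,5)` is not solvable. -/
theorem not_isSolvable_sl25 : ¬ Group.IsSolvable SL25 := by
  intro h
  haveI : Fact (Nat.Prime 5) := ⟨by norm_num⟩
  have h5 : Nat.card (ZMod 5) = 5 := by simp
  have hns := Cfsg.Agent.Lib.Helper19.MinSimple.not_solvable_psl2 (F := ZMod 5) (by rw [h5]; norm_num)
  have hq : Group.IsSolvable (SL25 ⧸ Subgroup.center SL25) := inferInstance
  exact hns hq

end Cfsg.Agent.Lib.Helper11.TIHallGlue
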