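import Mathlib
import Cfsg.Prelude.Def_OddOrderLocal
import Cfsg.Prelude.Def_Solvable
import Cfsg.Agent.Lib.Helper48.TIHallK1
import Cfsg.Agent.Lib.Helper45.TIHallK2
import Cfsg.Agent.Lib.Helper63.TIHallK3
import Cfsg.Agent.Lib.Helper22.TIHallK4
import Cfsg.Agent.Lib.Helper81.TIHallK5
import Cfsg.Agent.Lib.Helper93.TIHallK6
import Cfsg.Agent.Lib.Helper90.TIHallK7
import Cfsg.Agent.Lib.Helper86.TIHallK8
import Cfsg.Agent.Lib.Helper62.TIHallK9

set_option autoImplicit false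

/-!
# S4118 keystones (architect helper11), hub file

TI subgroup `H`, Hall in its normalizer, `G` pi-separable, `O = O_{pi'}(G)`.
Paper proof (FT-free):
 1. (K1) `H` is a Hall subgroup of `G` (Sylow + normalizers grow + TI).
 2. (K2) pi-separability gives `R ⊴ G`, `O < R`, `R/O` a pi-group.
 3. (K3) `R ≤ O ⊔ H` (order count), (K4) `G = R N_G(H)` (Frattini + TI)  ⟹  `G = O N_G(H)`, `OH ⊴ G`.
 4. `C_O(x) = C_O(H)` for `1 ≠ x ∈ H`; (K6) an `H`-invariant section `M/Q₀` of a Sylow subgroup of `O`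
    with `C_M(x) ≤ Q₀`; (K5) `H` acts fixed-point-freely on `M/Q₀`  ⟹  `H` is a Frobenius complement
    ⟹ (S0690 + helper74 hub) `H` solvable iff no `SL(2,5)`, Sylows cyclic / unique involution.
 5. (K7,K8,K9) a complement `T` of `H` in `N_G(H)` has `[T,T] ≤ C_G(H)`, then `[T,T] ≤ O`, so `G/O` solvable.

The leaves were proved by helper48 (K1), helper45 (K2), helper63 (K3), helper22 (K4), helper81 (K5),
helper93 (K6), helper90 (K7), helper86 (K8), helper62 (K9); this file re-exports them.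
-/

namespace Cfsg.Agent.Lib.Helper11.TIHall

/-- K1 (helper48). A TI-subgroup which is a Hall subgroup of its normalizer is a Hall subgroup of `G`. -/
theorem hall_of_ti {G : Type*} [Group G] [Finite G] (H : Subgroup G)
    (hTI : Cfsg.IsTISubset (H : Set G))
    (hHall : (Nat.card H).Coprime (H.subgroupOf (Subgroup.normalizer (H : Set G))).index) :
    (Nat.card H).Coprime H.index :=
  Cfsg.Agent.Lib.Helper48.TIHall.hall_of_ti H hTI hHall

/-- K2 (helper45). From the pi-separable series: if `O = O_{h'}(G) ≠ ⊤` there is `R ⊴ G` strictly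
above `O` with every prime divisor of `|R : O|` dividing `h`. -/
theorem exists_pi_layer {G : Type*} [Group G] [Finite G] (h : ℕ)
    (hsep : ∃ (n : ℕ) (M : Fin (n + 1) → Subgroup G), M 0 = ⊥ ∧ M (Fin.last n) = ⊤ ∧ Monotone M ∧
      (∀ i, (M i).Normal) ∧
      ∀ i : Fin n, (∀ q : ℕ, q.Prime → q ∣ (M i.castSucc).relIndex (M i.succ) → q ∣ h) ∨
        ((M i.castSucc).relIndex (M i.succ)).Coprime h)
    (hOtop : Cfsg.pPrimeCore h G ≠ ⊤) :
    ∃ R : Subgroup G, R.Normal ∧ Cfsg.pPrimeCore h G ≤ R ∧ Cfsg.pPrimeCore h G ≠ R ∧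
      ∀ q : ℕ, q.Prime → q ∣ (Cfsg.pPrimeCore h G).relIndex R → q ∣ h :=
  Cfsg.Agent.Lib.Helper45.TIHall.exists_pi_layer h hsep hOtop

/-- K3 (helper63). Order count: `R = O (R ⊓ H)`, in particular `R ≤ O ⊔ H`. -/
theorem le_sup_of_hall {G : Type*} [Group G] [Finite G] (H O R : Subgroup G) [O.Normal] [R.Normal]
    (hHallG : (Nat.card H).Coprime H.index) (hOc : (Nat.card O).Coprime (Nat.card H)) (hOR : O ≤ R)
    (hpi : ∀ q : ℕ, q.Prime → q ∣ O.relIndex R → q ∣ Nat.card H) : R ≤ O ⊔ H :=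
  Cfsg.Agent.Lib.Helper63.TIHall.le_sup_of_hall H O R hHallG hOc hOR hpi

/-- K4 (helper22). Frattini argument with TI: `G = R N_G(H)`. -/
theorem sup_normalizer_eq_top_of_ti {G : Type*} [Group G] [Finite G] (H R : Subgroup G) [R.Normal]
    (hTI : Cfsg.IsTISubset (H : Set G)) (hHallG : (Nat.card H).Coprime H.index)
    (p : ℕ) (hp : p.Prime) (hpH : p ∣ Nat.card H) (hpR : p ∣ Nat.card R) :
    R ⊔ Subgroup.normalizer (H : Set G) = ⊤ :=
  Cfsg.Agent.Lib.Helper22.TIHall.sup_normalizer_eq_top_of_ti H R hTI hHallG p hp hpH hpR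

/-- K5 (helper81). Fixed-point-free action on a section `M / Q₀`. -/
theorem fpf_section.{u} {Γ : Type u} [Group Γ] [Finite Γ] (A M Q₀ : Subgroup Γ)
    (hQM : Q₀ ≤ M) (hne : Q₀ ≠ M)
    (hAM : A ≤ Subgroup.normalizer (M : Set Γ)) (hAQ : A ≤ Subgroup.normalizer (Q₀ : Set Γ))
    (hMQ : M ≤ Subgroup.normalizer (Q₀ : Set Γ))
    (hcop : (Nat.card A).Coprime (Nat.card Q₀))
    (hfix : ∀ a ∈ A, a ≠ 1 → ∀ m ∈ M, a * m = m * a → m ∈ Q₀) :
    ∃ (K : Type u) (_ : Group K) (_ : Finite K) (φ : A →* MulAut K), Nontrivial K ∧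
      ∀ a : A, a ≠ 1 → ∀ k : K, φ a k = k → k = 1 :=
  Cfsg.Agent.Lib.Helper81.TIHall.fpf_section A M Q₀ hQM hne hAM hAQ hMQ hcop hfix

/-- K6 (helper93). Existence of the section inside an `H`-invariant Sylow subgroup of `O`. -/
theorem exists_q_section {G : Type*} [Group G] [Finite G] (H O : Subgroup G) [O.Normal]
    (hcop : (Nat.card H).Coprime (Nat.card O)) (hsolv : Group.IsSolvable O)
    (hfix : ∀ x ∈ H, x ≠ 1 → ∀ m ∈ O, x * m = m * x → ∀ y ∈ H, y * m = m * y)
    (hne : ¬ O ≤ Subgroup.centralizer (H : Set G)) :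
    ∃ M Q₀ : Subgroup G, Q₀ ≤ M ∧ Q₀ ≠ M ∧ M ≤ O ∧
      H ≤ Subgroup.normalizer (M : Set G) ∧ H ≤ Subgroup.normalizer (Q₀ : Set G) ∧
      M ≤ Subgroup.normalizer (Q₀ : Set G) ∧
      ∀ x ∈ H, x ≠ 1 → ∀ m ∈ M, x * m = m * x → m ∈ Q₀ :=
  Cfsg.Agent.Lib.Helper93.TIHall.exists_q_section H O hcop hsolv hfix hne

/-- K7 (helper90). Two elements normalizing a cyclic subgroup: their commutator centralizes it. -/
theorem commutatorElement_mem_centralizer_of_isCyclic {G : Type*} [Group G] (P : Subgroup G)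
    [IsCyclic P] (s t : G) (hs : s ∈ Subgroup.normalizer (P : Set G))
    (ht : t ∈ Subgroup.normalizer (P : Set G)) :
    s * t * s⁻¹ * t⁻¹ ∈ Subgroup.centralizer (P : Set G) :=
  Cfsg.Agent.Lib.Helper90.TIHall.commutatorElement_mem_centralizer_of_isCyclic P s t hs ht

/-- K8 (helper86). An odd-order group `T` normalizing a `2`-group `P` with at most one involution:
`[T,T]` centralizes `P`. -/
theorem commutator_le_centralizer_of_two_group {G : Type*} [Group G] [Finite G] (P T : Subgroup G)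
    (hP : IsPGroup 2 P)
    (hinv : ∀ s ∈ P, ∀ t ∈ P, orderOf s = 2 → orderOf t = 2 → s = t)
    (hT : T ≤ Subgroup.normalizer (P : Set G)) (hodd : Odd (Nat.card T)) :
    ⁅T, T⁆ ≤ Subgroup.centralizer (P : Set G) :=
  Cfsg.Agent.Lib.Helper86.TIHall.commutator_le_centralizer_of_two_group P T hP hinv hT hodd

/-- K9 (helper62). Local-to-global for coprime action on a solvable group. -/
theorem commutator_le_centralizer_of_coprime {G : Type*} [Group G] [Finite G] (H T : Subgroup G)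
    (hTH : T ≤ Subgroup.normalizer (H : Set G)) (hcop : (Nat.card T).Coprime (Nat.card H))
    (hsolv : Group.IsSolvable H)
    (hloc : ∀ (p : ℕ) [Fact p.Prime] (P : Subgroup G), P ≤ H → IsPGroup p P →
      T ≤ Subgroup.normalizer (P : Set G) → ⁅T, T⁆ ≤ Subgroup.centralizer (P : Set G)) :
    ⁅T, T⁆ ≤ Subgroup.centralizer (H : Set G) :=
  Cfsg.Agent.Lib.Helper62.TIHall.commutator_le_centralizer_of_coprime H T hTH hcop hsolv hloc

end Cfsg.Agent.Lib.Helper11.TIHall
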