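import Mathlib
import Cfsg.Agent.Lib.Helper11.TIHallLeaves
import Cfsg.Agent.Lib.Helper11.TIHallGlue1
import Cfsg.Agent.Lib.Helper01.PPrimeCore
import Cfsg.Agent.Lib.Helper01.Basic

set_option autoImplicit false

/-!
# S4118 glue, part 2 (helper11): `G = O N_G(H)` and `O H ⊴ G`
-/

namespace Cfsg.Agent.Lib.Helper11.TIHallGlue

open Cfsg.Agent.Lib.Helper11.TIHall

variable {G : Type*} [Group G]

/-- elements of `N ⊔ K` with `N` normal. -/
theorem mem_sup_normal_left {N K : Subgroup G} [N.Normal] {x : G} :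
    x ∈ N ⊔ K ↔ ∃ u ∈ N, ∃ y ∈ K, x = u * y := by
  rw [← SetLike.mem_coe, Subgroup.normal_mul, Set.mem_mul]
  constructor
  · rintro ⟨u, hu, y, hy, rfl⟩
    exact ⟨u, hu, y, hy, rfl⟩
  · rintro ⟨u, hu, y, hy, rfl⟩
    exact ⟨u, hu, y, hy, rfl⟩

/-- an element normalizing `A` and `B` normalizes `A ⊔ B`. -/
theorem mem_normalizer_sup {A B : Subgroup G} {g : G} (hA : g ∈ Subgroup.normalizer (A : Set G))
    (hB : g ∈ Subgroup.normalizer (B : Set G)) : g ∈ Subgroup.normalizer ((A ⊔ B : Subgroup G) : Set G) := by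
  have key : ∀ g : G, g ∈ Subgroup.normalizer (A : Set G) → g ∈ Subgroup.normalizer (B : Set G) →
      ∀ x ∈ A ⊔ B, g * x * g⁻¹ ∈ A ⊔ B := by
    intro g hA hB x hx
    have h1 : (A ⊔ B).map (MulAut.conj g).toMonoidHom ≤ A ⊔ B := by
      rw [Subgroup.map_sup]
      refine sup_le (le_trans ?_ le_sup_left) (le_trans ?_ le_sup_right)
      · rintro _ ⟨a, ha, rfl⟩
        exact (Subgroup.mem_normalizer_iff.mp hA a).mp ha
      · rintro _ ⟨b, hb, rfl⟩
        exact (Subgroup.mem_normalizer_iff.mp hB b).mp hb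
    exact h1 ⟨x, hx, rfl⟩
  rw [Subgroup.mem_normalizer_iff]
  intro x
  refine ⟨key g hA hB x, fun hx => ?_⟩
  have := key g⁻¹ (inv_mem hA) (inv_mem hB) _ hx
  simpa [mul_assoc] using this

variable [Finite G]

/-- Steps 1-6 of the paper proof: `G = O N_G(H)` and `O H ⊴ G`. -/
theorem sup_normalizer_and_normal (H : Subgroup G)
    (hTI : Cfsg.IsTISubset (H : Set G)) (hnn : ¬ H.Normal)
    (hHall : (Nat.card H).Coprime (H.subgroupOf (Subgroup.normalizer (H : Set G))).index)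
    (hsep : ∃ (n : ℕ) (M : Fin (n + 1) → Subgroup G), M 0 = ⊥ ∧ M (Fin.last n) = ⊤ ∧ Monotone M ∧
      (∀ i, (M i).Normal) ∧
      ∀ i : Fin n, (∀ q : ℕ, q.Prime → q ∣ (M i.castSucc).relIndex (M i.succ) → q ∣ Nat.card H) ∨
        ((M i.castSucc).relIndex (M i.succ)).Coprime (Nat.card H))
    (O : Subgroup G) (hO : O = Cfsg.pPrimeCore (Nat.card H) G) :
    O ⊔ Subgroup.normalizer (H : Set G) = ⊤ ∧ (O ⊔ H).Normal := by
  subst hO
  set O := Cfsg.pPrimeCore (Nat.card H) G with hOdef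
  haveI hOn : O.Normal := Cfsg.Agent.Lib.Helper01.pPrimeCore_normal _
  have hOc : (Nat.card O).Coprime (Nat.card H) :=
    Cfsg.Agent.Lib.Helper01.pPrimeCore_card_coprime _
  have hH1 : H ≠ ⊥ := by
    rintro rfl
    exact hnn inferInstance
  have hHO : H ⊓ O = ⊥ := Subgroup.inf_eq_bot_of_coprime hOc.symm
  have hOtop : O ≠ ⊤ := by
    intro h
    apply hH1
    rw [← hHO, h, inf_top_eq]
  have hHallG := hall_of_ti H hTI hHall
  obtain ⟨R, hRn, hOR, hne, hpi⟩ := exists_pi_layer (Nat.card H) hsep hOtop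
  haveI := hRn
  -- a prime dividing |R : O|
  have hrel : O.relIndex R ≠ 1 := by
    intro h
    exact hne (le_antisymm hOR (Subgroup.relIndex_eq_one.mp h))
  obtain ⟨p, hp, hpd⟩ := Nat.exists_prime_and_dvd hrel
  have hpH : p ∣ Nat.card H := hpi p hp hpd
  have hpR : p ∣ Nat.card R := hpd.trans (Subgroup.relIndex_dvd_card O R)
  have hRN := sup_normalizer_eq_top_of_ti H R hTI hHallG p hp hpH hpR
  have hRle : R ≤ O ⊔ H := le_sup_of_hall H O R hHallG hOc hOR hpi
  have hHN : H ≤ Subgroup.normalizer (H : Set G) := Subgroup.le_normalizer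
  have h1 : O ⊔ Subgroup.normalizer (H : Set G) = ⊤ := by
    rw [eq_top_iff, ← hRN]
    exact sup_le (hRle.trans (sup_le_sup_left hHN O)) le_sup_right
  refine ⟨h1, ?_⟩
  rw [← Subgroup.normalizer_eq_top_iff, eq_top_iff, ← h1]
  refine sup_le (le_sup_left.trans Subgroup.le_normalizer) ?_
  intro n hn
  exact mem_normalizer_sup (Subgroup.le_normalizer_of_normal (H := O) (Subgroup.mem_top n) |> fun _ => by
    rw [Subgroup.mem_normalizer_iff]
    intro x
    exact ⟨fun hx => hOn.conj_mem x hx n, fun hx => by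
      have := hOn.conj_mem _ hx n⁻¹
      simpa [mul_assoc] using this⟩) hn

end Cfsg.Agent.Lib.Helper11.TIHallGlue
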