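import Mathlib
import Cfsg.Agent.Lib.Helper11.TIHallLeaves
import Cfsg.Agent.Lib.Helper11.TIHallGlue1
import Cfsg.Agent.Lib.Helper11.TIHallGlue2
import Cfsg.Agent.Lib.Helper01.PPrimeCore
import Cfsg.Agent.Lib.Helper01.Basic

set_option autoImplicit false

/-!
# S4118 glue, part 3 (helper11): solvability
-/

namespace Cfsg.Agent.Lib.Helper11.TIHallGlue

open Cfsg.Agent.Lib.Helper11.TIHall Cfsg.Agent.Lib.Helper74.FC

variable {G : Type*} [Group G] [Finite G]

/-- `H` is a Frobenius complement (acts fixed-point-freely on a section of `O`). -/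
theorem isFC_of_ti (H O : Subgroup G) [O.Normal]
    (hTI : Cfsg.IsTISubset (H : Set G)) (hnn : ¬ H.Normal)
    (hOc : (Nat.card O).Coprime (Nat.card H))
    (hON : O ⊔ Subgroup.normalizer (H : Set G) = ⊤)
    (hOs : Group.IsSolvable O) : IsFC H := by
  have hH1 : H ≠ ⊥ := by
    rintro rfl
    exact hnn inferInstance
  have hHO : H ⊓ O = ⊥ := (Subgroup.disjoint_of_coprime_natCard hOc.symm).eq_bot
  -- all nonidentity elements of `H` have the same centralizer in `O`
  have hfix : ∀ x ∈ H, x ≠ 1 → ∀ m ∈ O, x * m = m * x → ∀ y ∈ H, y * m = m * y := by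
    intro x hx hx1 m hm hxm y hy
    have hmN : m ∈ Subgroup.normalizer (H : Set G) := by
      by_contra hmN
      refine hx1 (hTI m hmN x hx ?_)
      have : m * x * m⁻¹ = x := by rw [← hxm, mul_inv_cancel_right]
      rw [this]; exact hx
    have h1 : m * y * m⁻¹ * y⁻¹ ∈ H :=
      H.mul_mem ((Subgroup.mem_normalizer_iff.mp hmN y).mp hy) (H.inv_mem hy)
    have h2 : m * y * m⁻¹ * y⁻¹ ∈ O := by
      have : m * y * m⁻¹ * y⁻¹ = m * (y * m⁻¹ * y⁻¹) := by group
      rw [this]
      exact O.mul_mem hm (‹O.Normal›.conj_mem _ (O.inv_mem hm) y)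
    have h3 : m * y * m⁻¹ * y⁻¹ ∈ H ⊓ O := ⟨h1, h2⟩
    rw [hHO, Subgroup.mem_bot] at h3
    have : m * y = y * m := by
      have h4 := congrArg (fun z => z * y * m) h3
      simpa [mul_assoc] using h4
    exact this.symm
  have hne : ¬ O ≤ Subgroup.centralizer (H : Set G) := by
    intro hle
    apply hnn
    rw [← Subgroup.normalizer_eq_top_iff, eq_top_iff, ← hON]
    exact sup_le (hle.trans (Subgroup.centralizer_le_normalizer _)) le_rfl
  obtain ⟨M, Q₀, hQM, hQne, hMO, hHM, hHQ, hMQ, hfixM⟩ :=
    exists_q_section H O hOc.symm hOs hfix hne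
  have hcop : (Nat.card H).Coprime (Nat.card Q₀) :=
    Nat.Coprime.coprime_dvd_right (Subgroup.card_dvd_of_le (hQM.trans hMO)) hOc.symm
  obtain ⟨K, iK, fK, φ, hK, hφ⟩ := fpf_section H M Q₀ hQM hQne hHM hHQ hMQ hcop hfixM
  have : Nontrivial H := (Subgroup.nontrivial_iff_ne_bot H).mpr hH1
  refine isFC_of_fpf φ ?_
  intro a ha k hk
  exact hφ a ha k hk


/-- the coprime complement `T` of `H` in `N_G(H)` has `[T,T] ≤ C_G(H)`. -/
theorem commutator_le_centralizer_of_isFC (H T : Subgroup G) (hFC : IsFC H)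
    (hHs : Group.IsSolvable H)
    (hTH : T ≤ Subgroup.normalizer (H : Set G)) (hcop : (Nat.card T).Coprime (Nat.card H)) :
    ⁅T, T⁆ ≤ Subgroup.centralizer (H : Set G) := by
  refine commutator_le_centralizer_of_coprime H T hTH hcop hHs ?_
  intro p _ P hPH hP hTP
  by_cases hp2 : p = 2
  · subst hp2
    by_cases h2 : 2 ∣ Nat.card H
    · have hodd : Odd (Nat.card T) := by
        rw [← Nat.not_even_iff_odd, even_iff_two_dvd]
        intro h
        have := Nat.Coprime.eq_one_of_dvd (Nat.Coprime.coprime_dvd_left h hcop) h2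
        norm_num at this
      refine commutator_le_centralizer_of_two_group P T hP ?_ hTP hodd
      intro s hs t ht hs2 ht2
      have := unique_involution_of_isFC hFC ⟨s, hPH hs⟩ ⟨t, hPH ht⟩
        (by rw [Subgroup.orderOf_mk]; exact hs2) (by rw [Subgroup.orderOf_mk]; exact ht2)
      exact congrArg Subtype.val this
    · -- `P` is trivial
      have hP1 : P = ⊥ := by
        rw [← Subgroup.card_eq_one]
        obtain ⟨n, hn⟩ := IsPGroup.iff_card.mp hP
        rcases Nat.eq_zero_or_pos n with rfl | hn0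
        · simpa using hn
        · exfalso
          apply h2
          have : 2 ∣ Nat.card P := by rw [hn]; exact dvd_pow_self 2 hn0.ne'
          exact this.trans (Subgroup.card_dvd_of_le hPH)
      rw [hP1]
      intro x _
      rw [Subgroup.mem_centralizer_iff]
      intro y hy
      rw [Subgroup.coe_bot, Set.mem_singleton_iff] at hy
      rw [hy, one_mul, mul_one]
  · -- `P` is cyclic
    have hcyc : IsCyclic (P.subgroupOf H) :=
      isCyclic_of_isFC hFC p hp2 (P.subgroupOf H) (hP.comap_subtype)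
    haveI : IsCyclic P :=
      isCyclic_of_surjective (Subgroup.subgroupOfEquivOfLe hPH) (Subgroup.subgroupOfEquivOfLe hPH).surjective
    rw [Subgroup.commutator_le]
    intro s hs t ht
    rw [commutatorElement_def]
    exact commutatorElement_mem_centralizer_of_isCyclic P s t (hTP hs) (hTP ht)

end Cfsg.Agent.Lib.Helper11.TIHallGlue
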