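import Mathlib
import Cfsg.Agent.Lib.Helper11.TIHallGlue3

set_option autoImplicit false

/-!
# S4118 glue, part 4 (helper11): `G` is solvable when `O` is and `H` has no `SL(2,5)`
-/

namespace Cfsg.Agent.Lib.Helper11.TIHallGlue

open Cfsg.Agent.Lib.Helper11.TIHall Cfsg.Agent.Lib.Helper74.FC
open scoped commutatorElement

variable {G : Type*} [Group G]

theorem mem_normalizer_of_normal (O : Subgroup G) [hO : O.Normal] (g : G) :
    g ∈ Subgroup.normalizer (O : Set G) := by
  rw [Subgroup.normalizer_eq_top_iff.mpr hO]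
  exact Subgroup.mem_top g

variable [Finite G]

theorem isSolvable_of (H O : Subgroup G) [hOn : O.Normal]
    (hTI : Cfsg.IsTISubset (H : Set G)) (hnn : ¬ H.Normal)
    (hHall : (Nat.card H).Coprime (H.subgroupOf (Subgroup.normalizer (H : Set G))).index)
    (hOc : (Nat.card O).Coprime (Nat.card H))
    (hOmax : ∀ K : Subgroup G, K.Normal → (Nat.card K).Coprime (Nat.card H) → K ≤ O)
    (hON : O ⊔ Subgroup.normalizer (H : Set G) = ⊤) (hOHn : (O ⊔ H).Normal)
    (hOs : Group.IsSolvable O)
    (hno : ∀ K : Subgroup G, K ≤ H → ¬ Nonempty (K ≃* SL25)) : Group.IsSolvable G := by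
  have hFC : IsFC H := isFC_of_ti H O hTI hnn hOc hON hOs
  have hHs : Group.IsSolvable H := by
    refine isSolvable_of_isFC hFC ?_
    rintro S ⟨e⟩
    exact hno (S.map H.subtype) (Subgroup.map_subtype_le S)
      ⟨(S.equivMapOfInjective H.subtype H.subtype_injective).symm.trans e⟩
  -- Schur–Zassenhaus complement of `H` in its normalizer
  set N := Subgroup.normalizer (H : Set G) with hN
  have hHN : H ≤ N := Subgroup.le_normalizer
  haveI : (H.subgroupOf N).Normal := Subgroup.normal_in_normalizer
  have hcardH' : Nat.card (H.subgroupOf N) = Nat.card H :=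
    Nat.card_congr (Subgroup.subgroupOfEquivOfLe hHN).toEquiv
  obtain ⟨T', hT'⟩ := Subgroup.exists_right_complement'_of_coprime
    (N := H.subgroupOf N) (by rw [hcardH']; exact hHall)
  set T := T'.map N.subtype with hT
  have hTN : T ≤ N := Subgroup.map_subtype_le T'
  have hcardT : Nat.card T = (H.subgroupOf N).index := by
    rw [hT, Subgroup.card_map_of_injective N.subtype_injective]
    have h1 := hT'.card_mul_card
    have h2 := (H.subgroupOf N).card_mul_index
    have hpos : 0 < Nat.card (H.subgroupOf N) := Nat.card_pos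
    exact Nat.eq_of_mul_eq_mul_left hpos (h1.trans h2.symm)
  have hcopT : (Nat.card T).Coprime (Nat.card H) := by
    rw [hcardT]; exact hHall.symm
  have hHT : H ⊔ T = N := by
    have h1 := congrArg (Subgroup.map N.subtype) hT'.sup_eq_top
    rw [Subgroup.map_sup, Subgroup.subgroupOf_map_subtype, inf_of_le_left hHN,
      ← MonoidHom.range_eq_map, Subgroup.range_subtype] at h1
    exact h1
  have hTT := commutator_le_centralizer_of_isFC H T hFC hHs hTN hcopT
  -- `T₀ = C_T(H)` lies in `O`
  set T₀ := T ⊓ Subgroup.centralizer (H : Set G) with hT₀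
  have hT₀O : T₀ ≤ O := by
    have hnorm : (O ⊔ T₀).Normal := by
      rw [← Subgroup.normalizer_eq_top_iff, eq_top_iff, ← hON, ← hHT]
      refine sup_le (le_sup_left.trans Subgroup.le_normalizer) (sup_le ?_ ?_)
      · intro y hy
        refine mem_normalizer_sup (mem_normalizer_of_normal O y) ?_
        have hcent : ∀ c ∈ T₀, y * c * y⁻¹ = c := by
          intro c hc
          have := Subgroup.mem_centralizer_iff.mp hc.2 y hy
          rw [this, mul_inv_cancel_right]
        rw [Subgroup.mem_normalizer_iff]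
        intro c
        constructor
        · intro hc; rw [hcent c hc]; exact hc
        · intro hc
          have h2 : y⁻¹ * (y * c * y⁻¹) * y = c := by group
          have h3 := hcent _ hc
          -- `y (y c y⁻¹) y⁻¹ = y c y⁻¹`, so `y c y⁻¹ = c`
          have h4 : y * c * y⁻¹ = c := by
            have := congrArg (fun z => y⁻¹ * z * y) h3
            rw [h2] at this
            have h5 : y⁻¹ * (y * (y * c * y⁻¹) * y⁻¹) * y = y * c * y⁻¹ := by group
            rw [h5] at this
            exact this
          rw [← h4]; exact hc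
      · intro t ht
        refine mem_normalizer_sup (mem_normalizer_of_normal O t) ?_
        have key : ∀ t ∈ T, ∀ c ∈ T₀, t * c * t⁻¹ ∈ T₀ := by
          intro t ht c hc
          refine Subgroup.mem_inf.mpr ⟨T.mul_mem (T.mul_mem ht hc.1) (T.inv_mem ht), ?_⟩
          rw [Subgroup.mem_centralizer_iff]
          intro y hy
          have hyt : t⁻¹ * y * t ∈ H := by
            have := (Subgroup.mem_normalizer_iff.mp (inv_mem (hTN ht)) y).mp hy
            simpa using this
          have hc2 := Subgroup.mem_centralizer_iff.mp hc.2 _ hyt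
          -- `(t⁻¹ y t) c = c (t⁻¹ y t)`
          calc y * (t * c * t⁻¹) = t * ((t⁻¹ * y * t) * c) * t⁻¹ := by group
            _ = t * (c * (t⁻¹ * y * t)) * t⁻¹ := by rw [hc2]
            _ = t * c * t⁻¹ * y := by group
        rw [Subgroup.mem_normalizer_iff]
        intro c
        constructor
        · exact key t ht c
        · intro hc
          have := key t⁻¹ (T.inv_mem ht) _ hc
          simpa [mul_assoc] using this
    refine le_trans le_sup_right (hOmax (O ⊔ T₀) hnorm ?_)
    have h1 := Cfsg.Agent.Lib.Helper01.card_sup_mul_card_inf O T₀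
    have hdvd : Nat.card (O ⊔ T₀ : Subgroup G) ∣ Nat.card O * Nat.card T₀ := by
      rw [sup_comm]; exact Dvd.intro _ h1
    refine Nat.Coprime.coprime_dvd_left hdvd (Nat.Coprime.mul_left hOc ?_)
    exact Nat.Coprime.coprime_dvd_left (Subgroup.card_dvd_of_le inf_le_left) hcopT
  have hTTO : ⁅T, T⁆ ≤ O := by
    refine le_trans (le_inf ?_ hTT) hT₀O
    rw [Subgroup.commutator_le]
    intro s hs t ht
    rw [commutatorElement_def]
    exact T.mul_mem (T.mul_mem (T.mul_mem hs ht) (T.inv_mem hs)) (T.inv_mem ht)
  -- `O ⊔ H` is solvable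
  have hOHs : Group.IsSolvable (O ⊔ H : Subgroup G) := by
    haveI : (O.subgroupOf (O ⊔ H)).Normal := inferInstance
    have hsurj : Function.Surjective
        ((QuotientGroup.mk' (O.subgroupOf (O ⊔ H))).comp
          (Subgroup.inclusion (le_sup_right : H ≤ O ⊔ H))) := by
      intro q
      induction q using QuotientGroup.induction_on with
      | H x =>
        obtain ⟨u, hu, y, hy, hxy⟩ := mem_sup_normal_left.mp x.2
        refine ⟨⟨y, hy⟩, ?_⟩
        simp only [MonoidHom.comp_apply, QuotientGroup.mk'_apply]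
        rw [QuotientGroup.eq, Subgroup.mem_subgroupOf]
        have : ((Subgroup.inclusion (le_sup_right : H ≤ O ⊔ H) ⟨y, hy⟩)⁻¹ * x : (O ⊔ H : Subgroup G)).1
            = y⁻¹ * u * y := by
          simp [hxy, mul_assoc]
        rw [this]
        have := hOn.conj_mem u hu y⁻¹
        simpa [mul_assoc] using this
    haveI : Group.IsSolvable (↥(O ⊔ H) ⧸ O.subgroupOf (O ⊔ H)) := solvable_of_surjective hsurj
    refine solvable_of_ker_le_range (Subgroup.inclusion (le_sup_left : O ≤ O ⊔ H))
      (QuotientGroup.mk' (O.subgroupOf (O ⊔ H))) ?_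
    rw [QuotientGroup.ker_mk']
    intro x hx
    exact ⟨⟨x.1, Subgroup.mem_subgroupOf.mp hx⟩, rfl⟩
  -- `G / (O ⊔ H)` is commutative
  haveI := hOHn
  have hcomm : ∀ a b : G ⧸ (O ⊔ H), a * b = b * a := by
    have hdec : ∀ x : G, ∃ t ∈ T, (QuotientGroup.mk x : G ⧸ (O ⊔ H)) = QuotientGroup.mk t := by
      intro x
      have hx : x ∈ (O ⊔ H) ⊔ T := by
        rw [sup_assoc, hHT, hON]; exact Subgroup.mem_top x
      obtain ⟨w, hw, t, ht, rfl⟩ := mem_sup_normal_left.mp hx
      refine ⟨t, ht, ?_⟩
      rw [QuotientGroup.eq]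
      have : (w * t)⁻¹ * t = t⁻¹ * w⁻¹ * t := by group
      rw [this]
      have := hOHn.conj_mem _ (inv_mem hw) t⁻¹
      simpa [mul_assoc] using this
    intro a b
    induction a using QuotientGroup.induction_on with
    | H x =>
      induction b using QuotientGroup.induction_on with
      | H y =>
        obtain ⟨t₁, ht₁, h1⟩ := hdec x
        obtain ⟨t₂, ht₂, h2⟩ := hdec y
        rw [h1, h2, ← QuotientGroup.mk_mul, ← QuotientGroup.mk_mul, QuotientGroup.eq]
        have : (t₁ * t₂)⁻¹ * (t₂ * t₁) = ⁅t₂⁻¹, t₁⁻¹⁆ := by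
          rw [commutatorElement_def]; group
        rw [this]
        exact le_sup_left (a := O) (hTTO (Subgroup.commutator_mem_commutator (T.inv_mem ht₂) (T.inv_mem ht₁)))
  haveI : Group.IsSolvable (G ⧸ (O ⊔ H)) := isSolvable_of_comm hcomm
  haveI := hOHs
  refine solvable_of_ker_le_range (O ⊔ H).subtype (QuotientGroup.mk' (O ⊔ H)) ?_
  rw [QuotientGroup.ker_mk', Subgroup.range_subtype]

end Cfsg.Agent.Lib.Helper11.TIHallGlue
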