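import Cfsg.Prelude.Def_SporadicB

set_option autoImplicit false

namespace Cfsg.Agent.Lib.Helper11

variable {G : Type*} [Group G]

theorem tt_mul_self {E : Set G} (hE : Cfsg.IsThreeTranspositionSet E) {d : G} (hd : d ∈ E) :
    d * d = 1 := by
  have := hE.1 d hd
  rw [← pow_two, ← this, pow_orderOf_eq_one]

theorem tt_inv {E : Set G} (hE : Cfsg.IsThreeTranspositionSet E) {d : G} (hd : d ∈ E) :
    d⁻¹ = d := inv_eq_of_mul_eq_one_right (tt_mul_self hE hd)

theorem tt_ne_one {E : Set G} (hE : Cfsg.IsThreeTranspositionSet E) {d : G} (hd : d ∈ E) :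
    d ≠ 1 := by
  intro h
  have := hE.1 d hd
  rw [h, orderOf_one] at this
  omega

/-- Two involutions whose product squares to one commute. -/
theorem commute_of_sq {a b : G} (ha : a * a = 1) (hb : b * b = 1) (h : (a * b) ^ 2 = 1) :
    Commute a b := by
  have hainv : a⁻¹ = a := inv_eq_of_mul_eq_one_right ha
  have hbinv : b⁻¹ = b := inv_eq_of_mul_eq_one_right hb
  have : a * b * (a * b) = 1 := by rw [← pow_two]; exact h
  have h' : a * b = (a * b)⁻¹ := eq_inv_of_mul_eq_one_left this
  rw [mul_inv_rev, hainv, hbinv] at h'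
  exact h'

/-- Two involutions whose product cubes to one satisfy the braid relation. -/
theorem braid_of_cube {a b : G} (ha : a * a = 1) (hb : b * b = 1) (h : (a * b) ^ 3 = 1) :
    a * b * a = b * a * b := by
  have hainv : a⁻¹ = a := inv_eq_of_mul_eq_one_right ha
  have hbinv : b⁻¹ = b := inv_eq_of_mul_eq_one_right hb
  have h3' : a * b * (a * b) * (a * b) = 1 := by
    rw [← h, pow_succ, pow_two]
  have : a * b * a = (b * a * b)⁻¹ := by
    apply eq_inv_of_mul_eq_one_left
    rw [← h3']; group
  rw [this, mul_inv_rev, mul_inv_rev, hainv, hbinv, mul_assoc]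

/-- In a set of 3-transpositions two members commute or satisfy the braid relation. -/
theorem tt_commute_or_braid {E : Set G} (hE : Cfsg.IsThreeTranspositionSet E) {a b : G}
    (ha : a ∈ E) (hb : b ∈ E) : Commute a b ∨ a * b * a = b * a * b := by
  rcases hE.2 a ha b hb with h | h
  · exact Or.inl (commute_of_sq (tt_mul_self hE ha) (tt_mul_self hE hb) h)
  · exact Or.inr (braid_of_cube (tt_mul_self hE ha) (tt_mul_self hE hb) h)

end Cfsg.Agent.Lib.Helper11
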