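import Cfsg.Agent.Lib.Helper11.UnitaryMaxA

/-!
Geometry of an abstract non-degenerate unitary form over a finite field: Riesz representation,
existence of vectors of prescribed norm orthogonal to a few given vectors, adjusting a vector to an
isotropic one, and splitting a vector into two isotropic ones.
-/

set_option autoImplicit false
set_option linter.unusedSectionVars false
set_option linter.unusedVariables false

namespace Cfsg.Agent.Lib.Helper11.UnitaryMax

open scoped MatrixGroups Matrix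
open Cfsg.Agent.Lib.Helper95
open Cfsg.Agent.Lib.Helper61.SpMax (fv GL_ext)

section Form
variable {ι : Type} [Fintype ι] [DecidableEq ι] {F : Type*} [Field F]
variable {σ : F ≃+* F} {f : (ι → F) → (ι → F) → F}

theorem uf_add_right (hf : Cfsg.Geo.IsUnitaryForm σ f) (x y z : ι → F) :
    f x (y + z) = f x y + f x z := by
  rw [hf.herm x (y + z), hf.add_left, map_add, ← hf.herm, ← hf.herm]

theorem uf_smul_right (hf : Cfsg.Geo.IsUnitaryForm σ f) (c : F) (x y : ι → F) :
    f x (c • y) = σ c * f x y := by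
  rw [hf.herm x (c • y), hf.smul_left, map_mul, ← hf.herm]

theorem uf_zero_left (hf : Cfsg.Geo.IsUnitaryForm σ f) (v : ι → F) : f 0 v = 0 := by
  have := hf.smul_left 0 0 v
  rwa [zero_smul, zero_mul] at this

theorem uf_zero_right (hf : Cfsg.Geo.IsUnitaryForm σ f) (v : ι → F) : f v 0 = 0 := by
  rw [hf.herm, uf_zero_left hf, map_zero]

theorem uf_neg_left (hf : Cfsg.Geo.IsUnitaryForm σ f) (x v : ι → F) : f (-x) v = - f x v := by
  have := hf.smul_left (-1) x v
  simpa using this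

theorem uf_neg_right (hf : Cfsg.Geo.IsUnitaryForm σ f) (x v : ι → F) : f x (-v) = - f x v := by
  rw [hf.herm, uf_neg_left hf, map_neg, ← hf.herm]

theorem uf_sub_left (hf : Cfsg.Geo.IsUnitaryForm σ f) (x y v : ι → F) :
    f (x - y) v = f x v - f y v := by
  rw [sub_eq_add_neg, hf.add_left, uf_neg_left hf, sub_eq_add_neg]

theorem uf_sub_right (hf : Cfsg.Geo.IsUnitaryForm σ f) (x y v : ι → F) :
    f x (y - v) = f x y - f x v := by
  rw [sub_eq_add_neg, uf_add_right hf, uf_neg_right hf, sub_eq_add_neg]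

theorem uf_self_fixed (hf : Cfsg.Geo.IsUnitaryForm σ f) (x : ι → F) : σ (f x x) = f x x :=
  (hf.herm x x).symm

theorem uf_swap0 (hf : Cfsg.Geo.IsUnitaryForm σ f) {x y : ι → F} (h : f x y = 0) : f y x = 0 := by
  rw [hf.herm, h, map_zero]

theorem fv_dot' (hf : Cfsg.Geo.IsUnitaryForm σ f) (a x : ι → F) : fv f a ⬝ᵥ x = f x a := by
  let L : (ι → F) →ₗ[F] F :=
    { toFun := fun x => f x a
      map_add' := fun x y => hf.add_left x y a
      map_smul' := fun c x => by simpa using hf.smul_left c x a }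
  have h := LinearMap.pi_apply_eq_sum_univ L x
  change f x a = _ at h
  rw [h]
  unfold fv dotProduct
  refine Finset.sum_congr rfl (fun i _ => ?_)
  change _ = x i • f _ a
  rw [smul_eq_mul, mul_comm]

variable [Fintype F]

theorem riesz (hf : Cfsg.Geo.IsUnitaryForm σ f) (φ : ι → F) :
    ∃ z : ι → F, ∀ x, f x z = φ ⬝ᵥ x := by
  have hinj : Function.Injective (fun z : ι → F => fv f z) := by
    intro z z' h
    by_contra hne
    have h0 : z - z' ≠ 0 := sub_ne_zero.mpr hne
    obtain ⟨⟨x, hx⟩, _⟩ := hf.nondegenerate _ h0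
    apply hx
    have h' : fv f z = fv f z' := h
    rw [uf_sub_right hf, ← fv_dot' hf, ← fv_dot' hf z', h', sub_self]
  have hsurj := Finite.injective_iff_surjective.mp hinj
  obtain ⟨z, hz⟩ := hsurj φ
  have hz' : fv f z = φ := hz
  exact ⟨z, fun x => by rw [← fv_dot' hf, hz']⟩

theorem sepR (hf : Cfsg.Geo.IsUnitaryForm σ f) (U : Submodule F (ι → F)) (x : ι → F)
    (hx : x ∉ U) : ∃ z : ι → F, (∀ u ∈ U, f u z = 0) ∧ f x z = 1 := by
  obtain ⟨φ, hφU, hφx⟩ := exists_dotProduct_separating U x hx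
  obtain ⟨z, hz⟩ := riesz hf φ
  exact ⟨z, fun u hu => by rw [hz, hφU u hu], by rw [hz, hφx]⟩

theorem exists_orth_notMem (hf : Cfsg.Geo.IsUnitaryForm σ f) {κ : Type} [Fintype κ]
    (s : κ → (ι → F)) (U : Submodule F (ι → F))
    (h : Module.finrank F U + Fintype.card κ < Fintype.card ι) :
    ∃ x : ι → F, x ∉ U ∧ ∀ i, f x (s i) = 0 := by
  classical
  let L : (ι → F) →ₗ[F] (κ → F) :=
    { toFun := fun x i => f x (s i)
      map_add' := fun x y => by funext i; exact hf.add_left x y (s i)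
      map_smul' := fun c x => by funext i; simpa using hf.smul_left c x (s i) }
  by_contra hcon
  push Not at hcon
  have hker : LinearMap.ker L ≤ U := by
    intro x hx
    by_contra hxU
    obtain ⟨i, hi⟩ := hcon x hxU
    apply hi
    have := congrFun (LinearMap.mem_ker.mp hx) i
    exact this
  have h1 := LinearMap.finrank_range_add_finrank_ker L
  have h2 : Module.finrank F (LinearMap.range L) ≤ Fintype.card κ := by
    have := Submodule.finrank_le (LinearMap.range L)
    rwa [Module.finrank_fintype_fun_eq_card] at this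
  have h3 := Submodule.finrank_mono hker
  rw [Module.finrank_fintype_fun_eq_card] at h1
  omega

theorem exists_orth_anis (hf : Cfsg.Geo.IsUnitaryForm σ f) {κ : Type} [Fintype κ]
    (s : κ → (ι → F)) (h : 2 * Fintype.card κ < Fintype.card ι) :
    ∃ w : ι → F, f w w ≠ 0 ∧ ∀ i, f (s i) w = 0 ∧ f w (s i) = 0 := by
  classical
  have hU : Module.finrank F (Submodule.span F (Set.range s)) ≤ Fintype.card κ :=
    finrank_range_le_card (R := F) s
  obtain ⟨x₁, hx₁U, hx₁s⟩ := exists_orth_notMem hf s (Submodule.span F (Set.range s)) (by omega)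
  obtain ⟨z, hzU, hxz⟩ := sepR hf _ x₁ hx₁U
  have hzs : ∀ i, f (s i) z = 0 := fun i =>
    hzU _ (Submodule.subset_span (Set.mem_range_self i))
  by_cases h1 : f x₁ x₁ = 0
  · by_cases h2 : f z z = 0
    · obtain ⟨c, hc⟩ := exists_tr_ne σ hf.ne_refl
      refine ⟨x₁ + c • z, ?_, fun i => ?_⟩
      · rw [hf.add_left, uf_add_right hf, uf_add_right hf, hf.smul_left, hf.smul_left,
          uf_smul_right hf, uf_smul_right hf, h1, h2, hxz, hf.herm z x₁, hxz, map_one]
        intro h0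
        apply hc
        linear_combination h0
      · constructor
        · rw [uf_add_right hf, uf_smul_right hf, hzs i, uf_swap0 hf (hx₁s i), mul_zero, add_zero]
        · rw [hf.add_left, hf.smul_left, hx₁s i, uf_swap0 hf (hzs i), mul_zero, add_zero]
    · exact ⟨z, h2, fun i => ⟨hzs i, uf_swap0 hf (hzs i)⟩⟩
  · exact ⟨x₁, h1, fun i => ⟨uf_swap0 hf (hx₁s i), hx₁s i⟩⟩

theorem exists_orth_norm (hf : Cfsg.Geo.IsUnitaryForm σ f) {κ : Type} [Fintype κ]
    (s : κ → (ι → F)) (h : 2 * Fintype.card κ < Fintype.card ι) (ν : F) (hν : σ ν = ν) :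
    ∃ w : ι → F, f w w = ν ∧ ∀ i, f (s i) w = 0 ∧ f w (s i) = 0 := by
  obtain ⟨w₀, hw₀, hw₀s⟩ := exists_orth_anis hf s h
  have hfix : σ (ν / f w₀ w₀) = ν / f w₀ w₀ := by rw [map_div₀, hν, uf_self_fixed hf]
  obtain ⟨t, ht⟩ := norm_surj σ hf.ne_refl hf.involutive _ hfix
  refine ⟨t • w₀, ?_, fun i => ?_⟩
  · rw [hf.smul_left, uf_smul_right hf, ← mul_assoc, ht, div_mul_cancel₀ _ hw₀]
  · rw [uf_smul_right hf, hf.smul_left, (hw₀s i).1, (hw₀s i).2, mul_zero, mul_zero]
    exact ⟨rfl, rfl⟩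

theorem exists_iso_adjust (hf : Cfsg.Geo.IsUnitaryForm σ f) {κ : Type} [Fintype κ]
    (s : κ → (ι → F)) (z : ι → F) (h : 2 * (Fintype.card κ + 1) < Fintype.card ι) :
    ∃ d : ι → F, f d d = 0 ∧ ∀ i, f (s i) d = f (s i) z ∧ f d (s i) = f z (s i) := by
  classical
  obtain ⟨w, hw, hws⟩ := exists_orth_norm hf (fun o : Option κ => o.elim z s)
    (by rw [Fintype.card_option]; omega) (- f z z) (by rw [map_neg, uf_self_fixed hf])
  have hwz : f z w = 0 ∧ f w z = 0 := hws none
  have hwi : ∀ i, f (s i) w = 0 ∧ f w (s i) = 0 := fun i => hws (some i)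
  refine ⟨z + w, ?_, fun i => ?_⟩
  · rw [hf.add_left, uf_add_right hf, uf_add_right hf, hw, hwz.1, hwz.2]
    ring
  · rw [uf_add_right hf, hf.add_left, (hwi i).1, (hwi i).2, add_zero, add_zero]
    exact ⟨rfl, rfl⟩

theorem exists_split (hf : Cfsg.Geo.IsUnitaryForm σ f) {κ : Type} [Fintype κ]
    (s : κ → (ι → F)) (x : ι → F) (h : 2 * (Fintype.card κ + 1) < Fintype.card ι) :
    ∃ e₁ e₂ : ι → F, x = e₁ + e₂ ∧ f e₁ e₁ = 0 ∧ f e₂ e₂ = 0 ∧
      ∀ i, f (s i) x = 0 → (f (s i) e₁ = 0 ∧ f (s i) e₂ = 0) := by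
  classical
  obtain ⟨t, ht⟩ := tr_surj σ hf.ne_refl hf.involutive 1 (map_one σ)
  obtain ⟨w, hw, hws⟩ := exists_orth_norm hf (fun o : Option κ => o.elim x s)
    (by rw [Fintype.card_option]; omega) (- (t * σ t * f x x))
    (by rw [map_neg, map_mul, map_mul, hf.involutive, uf_self_fixed hf]; ring)
  have hwx : f x w = 0 ∧ f w x = 0 := hws none
  have hwi : ∀ i, f (s i) w = 0 ∧ f w (s i) = 0 := fun i => hws (some i)
  refine ⟨t • x + w, σ t • x - w, ?_, ?_, ?_, fun i hi => ⟨?_, ?_⟩⟩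
  · have : t • x + w + (σ t • x - w) = (t + σ t) • x := by rw [add_smul]; abel
    rw [this, ht, one_smul]
  · rw [hf.add_left, uf_add_right hf, uf_add_right hf, hf.smul_left, hf.smul_left,
      uf_smul_right hf, uf_smul_right hf, hw, hwx.1, hwx.2]
    ring
  · rw [uf_sub_left hf, uf_sub_right hf, uf_sub_right hf, hf.smul_left, hf.smul_left,
      uf_smul_right hf, uf_smul_right hf, hw, hwx.1, hwx.2, hf.involutive]
    ring
  · rw [uf_add_right hf, uf_smul_right hf, hi, (hwi i).1, mul_zero, add_zero]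
  · rw [uf_sub_right hf, uf_smul_right hf, hi, (hwi i).1, mul_zero, sub_zero]

theorem exists_iso_sep (hf : Cfsg.Geo.IsUnitaryForm σ f) (h9 : 8 < Fintype.card ι)
    (u x : ι → F) (hx : x ∉ Submodule.span F {u}) :
    ∃ d : ι → F, f d d = 0 ∧ f u d = 0 ∧ f x d = 1 := by
  obtain ⟨z, hzU, hxz⟩ := sepR hf _ x hx
  obtain ⟨d, hd, hds⟩ := exists_iso_adjust hf ![u, x] z (by simp; omega)
  refine ⟨d, hd, ?_, ?_⟩
  · have := (hds 0).1
    simp only [Matrix.cons_val_zero] at this
    rw [this]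
    exact hzU u (Submodule.mem_span_singleton_self u)
  · have := (hds 1).1
    simp only [Matrix.cons_val_one, Matrix.cons_val_zero] at this
    rw [this, hxz]

theorem exists_iso_conn (hf : Cfsg.Geo.IsUnitaryForm σ f) (h9 : 8 < Fintype.card ι)
    (u p q : ι → F) (hp : p ∉ Submodule.span F {u}) (hq : q ∉ Submodule.span F {u}) :
    ∃ d : ι → F, f d d = 0 ∧ f u d = 0 ∧ f p d ≠ 0 ∧ f q d ≠ 0 := by
  obtain ⟨z₁, hz₁U, hz₁⟩ := sepR hf _ p hp
  obtain ⟨z₂, hz₂U, hz₂⟩ := sepR hf _ q hq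
  have hu1 : f u z₁ = 0 := hz₁U u (Submodule.mem_span_singleton_self u)
  have hu2 : f u z₂ = 0 := hz₂U u (Submodule.mem_span_singleton_self u)
  obtain ⟨z, huz, hpz, hqz⟩ : ∃ z, f u z = 0 ∧ f p z ≠ 0 ∧ f q z ≠ 0 := by
    by_cases h1 : f q z₁ = 0
    · by_cases h2 : f p z₂ = 0
      · refine ⟨z₁ + z₂, ?_, ?_, ?_⟩
        · rw [uf_add_right hf, hu1, hu2, add_zero]
        · rw [uf_add_right hf, hz₁, h2, add_zero]; exact one_ne_zero
        · rw [uf_add_right hf, h1, hz₂, zero_add]; exact one_ne_zero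
      · exact ⟨z₂, hu2, h2, by rw [hz₂]; exact one_ne_zero⟩
    · exact ⟨z₁, hu1, by rw [hz₁]; exact one_ne_zero, h1⟩
  obtain ⟨d, hd, hds⟩ := exists_iso_adjust hf ![u, p, q] z (by simp; omega)
  refine ⟨d, hd, ?_, ?_, ?_⟩
  · have := (hds 0).1
    simp only [Matrix.cons_val_zero] at this
    rw [this, huz]
  · have := (hds 1).1
    simp only [Matrix.cons_val_one, Matrix.cons_val_zero] at this
    rwa [this]
  · have := (hds 2).1
    simp only [Matrix.cons_val_two, Matrix.tail_cons, Matrix.head_cons] at this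
    rwa [this]

end Form

end Cfsg.Agent.Lib.Helper11.UnitaryMax
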