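import Cfsg.Agent.Lib.Helper11.UnitaryMaxB

/-!
Transvections `x ↦ x + f x y • b` attached to a unitary form, the predicate `InP f M b y` (this
transvection lies in the subgroup `M`), and its closure properties.
-/

set_option autoImplicit false
set_option linter.unusedSectionVars false
set_option linter.unusedVariables false

namespace Cfsg.Agent.Lib.Helper11.UnitaryMax

open scoped MatrixGroups Matrix
open Cfsg.Agent.Lib.Helper95
open Cfsg.Agent.Lib.Helper61.SpMax (fv GL_ext)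

section InP
variable {ι : Type} [Fintype ι] [DecidableEq ι] {F : Type*} [Field F]
variable {σ : F ≃+* F} {f : (ι → F) → (ι → F) → F}

/-- The transvection `x ↦ x + f x y • b`. -/
def X (hf : Cfsg.Geo.IsUnitaryForm σ f) (b y : ι → F) (h : f b y = 0) : GL ι F :=
  tvGL (fv f y) b (by rw [fv_dot' hf]; exact h)

theorem X_apply (hf : Cfsg.Geo.IsUnitaryForm σ f) (b y : ι → F) (h : f b y = 0) (x : ι → F) :
    ((X hf b y h : GL ι F) : Matrix ι ι F) *ᵥ x = x + f x y • b := by
  unfold X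
  rw [tvGL_apply, fv_dot' hf]

theorem X_mem_SL (hf : Cfsg.Geo.IsUnitaryForm σ f) (b y : ι → F) (h : f b y = 0) :
    X hf b y h ∈ Cfsg.Geo.specialLinear ι F :=
  tvGL_mem_specialLinear _ _ _

theorem X_inv_apply (hf : Cfsg.Geo.IsUnitaryForm σ f) (b y : ι → F) (h : f b y = 0)
    (x : ι → F) :
    (((X hf b y h)⁻¹ : GL ι F) : Matrix ι ι F) *ᵥ x = x - f x y • b := by
  apply GL_mulVec_inj (X hf b y h)
  rw [GL_mulVec_inv_mulVec, X_apply, uf_sub_left hf, hf.smul_left, h, mul_zero, sub_zero]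
  abel

/-- The transvection `x ↦ x + f x y • b` lies in `M`. -/
def InP (f : (ι → F) → (ι → F) → F) (M : Subgroup (GL ι F)) (b y : ι → F) : Prop :=
  f b y = 0 ∧ ∀ g : GL ι F, (∀ x, (g : Matrix ι ι F) *ᵥ x = x + f x y • b) → g ∈ M

variable {M : Subgroup (GL ι F)} {b y y' b' : ι → F}

theorem InP.mem (hf : Cfsg.Geo.IsUnitaryForm σ f) (h : InP f M b y) : X hf b y h.1 ∈ M :=
  h.2 _ (X_apply hf b y h.1)

theorem inP_of_mem (hf : Cfsg.Geo.IsUnitaryForm σ f) (h0 : f b y = 0)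
    (hm : X hf b y h0 ∈ M) : InP f M b y :=
  ⟨h0, fun g hg => by
    have : g = X hf b y h0 := GL_ext (fun x => by rw [hg, X_apply])
    rw [this]; exact hm⟩

theorem InP.add (hf : Cfsg.Geo.IsUnitaryForm σ f) (h : InP f M b y) (h' : InP f M b y') :
    InP f M b (y + y') := by
  refine ⟨by rw [uf_add_right hf, h.1, h'.1, add_zero], fun g hg => ?_⟩
  have : g = X hf b y h.1 * X hf b y' h'.1 := by
    apply GL_ext
    intro x
    rw [hg, Units.val_mul, ← Matrix.mulVec_mulVec, X_apply, X_apply, hf.add_left, hf.smul_left,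
      h.1, mul_zero, add_zero, uf_add_right hf, add_smul]
    abel
  rw [this]
  exact M.mul_mem (h.mem hf) (h'.mem hf)

theorem InP.neg (hf : Cfsg.Geo.IsUnitaryForm σ f) (h : InP f M b y) : InP f M b (-y) := by
  refine ⟨by rw [uf_neg_right hf, h.1, neg_zero], fun g hg => ?_⟩
  have : g = (X hf b y h.1)⁻¹ := by
    apply GL_ext
    intro x
    rw [hg, X_inv_apply, uf_neg_right hf, neg_smul, sub_eq_add_neg]
  rw [this]
  exact M.inv_mem (h.mem hf)

theorem InP.sub (hf : Cfsg.Geo.IsUnitaryForm σ f) (h : InP f M b y) (h' : InP f M b y') :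
    InP f M b (y - y') := by
  rw [sub_eq_add_neg]
  exact h.add hf (h'.neg hf)

theorem inP_zero_center (hf : Cfsg.Geo.IsUnitaryForm σ f) (M : Subgroup (GL ι F))
    (y : ι → F) : InP f M 0 y := by
  refine ⟨uf_zero_left hf y, fun g hg => ?_⟩
  have : g = 1 := by
    apply GL_ext
    intro x
    rw [hg, smul_zero, add_zero, Units.val_one, Matrix.one_mulVec]
  rw [this]
  exact M.one_mem

theorem inP_zero_right (hf : Cfsg.Geo.IsUnitaryForm σ f) (M : Subgroup (GL ι F))
    (b : ι → F) : InP f M b 0 := by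
  refine ⟨uf_zero_right hf b, fun g hg => ?_⟩
  have : g = 1 := by
    apply GL_ext
    intro x
    rw [hg, uf_zero_right hf, zero_smul, add_zero, Units.val_one, Matrix.one_mulVec]
  rw [this]
  exact M.one_mem

theorem inP_smul_iff (hf : Cfsg.Geo.IsUnitaryForm σ f) (c : F) :
    InP f M (c • b) y ↔ InP f M b (σ c • y) := by
  have e1 : f (c • b) y = f b (σ c • y) := by
    rw [hf.smul_left, uf_smul_right hf, hf.involutive]
  have e2 : ∀ x, f x y • (c • b) = f x (σ c • y) • b := by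
    intro x
    rw [uf_smul_right hf, hf.involutive, smul_smul, mul_comm]
  unfold InP
  simp only [e1, e2]

/-- Conjugating the transvection `(b, y)` by the transvection `(b', y')` when `f b y' = 0`. -/
theorem InP.conj (hf : Cfsg.Geo.IsUnitaryForm σ f) (h : InP f M b y) (h' : InP f M b' y')
    (hby' : f b y' = 0) : InP f M b (y - f y b' • y') := by
  have h0 : f b (y - f y b' • y') = 0 := by
    rw [uf_sub_right hf, uf_smul_right hf, h.1, hby', mul_zero, sub_zero]
  refine ⟨h0, fun g hg => ?_⟩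
  have : g = X hf b' y' h'.1 * X hf b y h.1 * (X hf b' y' h'.1)⁻¹ := by
    apply GL_ext
    intro x
    rw [hg, Units.val_mul, Units.val_mul, ← Matrix.mulVec_mulVec, ← Matrix.mulVec_mulVec,
      X_inv_apply, X_apply, X_apply]
    simp only [hf.add_left, uf_sub_left hf, hf.smul_left, uf_sub_right hf, uf_smul_right hf,
      h'.1, hby', ← hf.herm b' y, mul_zero, sub_zero, add_zero]
    module
  rw [this]
  exact M.mul_mem (M.mul_mem (h'.mem hf) (h.mem hf)) (M.inv_mem (h'.mem hf))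

/-- The commutator rule. -/
theorem InP.comm (hf : Cfsg.Geo.IsUnitaryForm σ f) (h : InP f M b y) (h' : InP f M b' y')
    (hby' : f b y' = 0) : InP f M b (f y b' • y') := by
  have h1 := h.sub hf (h.conj hf h' hby')
  have : y - (y - f y b' • y') = f y b' • y' := by abel
  rwa [this] at h1

theorem InP.isom (hf : Cfsg.Geo.IsUnitaryForm σ f) (h : InP f M b y) (m : GL ι F) (hm : m ∈ M)
    (hiso : ∀ u v, f ((m : Matrix ι ι F) *ᵥ u) ((m : Matrix ι ι F) *ᵥ v) = f u v) :
    InP f M ((m : Matrix ι ι F) *ᵥ b) ((m : Matrix ι ι F) *ᵥ y) := by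
  refine ⟨by rw [hiso, h.1], fun g hg => ?_⟩
  have : g = m * X hf b y h.1 * m⁻¹ := by
    apply GL_ext
    intro x
    rw [hg, Units.val_mul, Units.val_mul, ← Matrix.mulVec_mulVec, ← Matrix.mulVec_mulVec,
      X_apply, Matrix.mulVec_add, Matrix.mulVec_smul, GL_mulVec_inv_mulVec]
    congr 2
    rw [← hiso (((m⁻¹ : GL ι F) : Matrix ι ι F) *ᵥ x) y, GL_mulVec_inv_mulVec]
  rw [this]
  exact M.mul_mem (M.mul_mem hm (h.mem hf)) (M.inv_mem hm)

/-- Every transvection with centre `b` lies in `M`. -/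
def Full (f : (ι → F) → (ι → F) → F) (M : Subgroup (GL ι F)) (b : ι → F) : Prop :=
  ∀ y, f b y = 0 → InP f M b y

theorem Full.map [Fintype F] (hf : Cfsg.Geo.IsUnitaryForm σ f) (hb : Full f M b) (m : GL ι F)
    (hm : m ∈ M) : Full f M ((m : Matrix ι ι F) *ᵥ b) := by
  intro y hy
  refine ⟨hy, fun g hg => ?_⟩
  obtain ⟨z, hz⟩ := riesz hf ((fv f y) ᵥ* (m : Matrix ι ι F))
  have hz' : ∀ x, f x z = f ((m : Matrix ι ι F) *ᵥ x) y := by
    intro x
    rw [hz, ← Matrix.dotProduct_mulVec, fv_dot' hf]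
  have hb0 : f b z = 0 := by rw [hz', hy]
  have hmem := (hb z hb0).mem hf
  have : g = m * X hf b z hb0 * m⁻¹ := by
    apply GL_ext
    intro x
    rw [hg, Units.val_mul, Units.val_mul, ← Matrix.mulVec_mulVec, ← Matrix.mulVec_mulVec,
      X_apply, Matrix.mulVec_add, Matrix.mulVec_smul, GL_mulVec_inv_mulVec, hz',
      GL_mulVec_inv_mulVec]
  rw [this]
  exact M.mul_mem (M.mul_mem hm hmem) (M.inv_mem hm)

theorem Full.of_smul (hf : Cfsg.Geo.IsUnitaryForm σ f) (c : F) (hc : c ≠ 0)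
    (hb : Full f M (c • b)) : Full f M b := by
  intro y hy
  have hσc : σ c ≠ 0 := by
    intro h
    apply hc
    have := congrArg σ h
    rwa [hf.involutive, map_zero] at this
  have h1 : f (c • b) ((σ c)⁻¹ • y) = 0 := by
    rw [hf.smul_left, uf_smul_right hf, hy, mul_zero, mul_zero]
  have h2 := (inP_smul_iff hf c).mp (hb _ h1)
  rwa [smul_smul, mul_inv_cancel₀ hσc, one_smul] at h2

/-! ### Unitary transvections -/

theorem ut_h0 (hf : Cfsg.Geo.IsUnitaryForm σ f) (a : ι → F) (l : F) (ha : f a a = 0) :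
    f a (l • a) = 0 := by
  rw [uf_smul_right hf, ha, mul_zero]

theorem ut_isom (hf : Cfsg.Geo.IsUnitaryForm σ f) (a : ι → F) (l : F) (ha : f a a = 0)
    (hl : σ l = -l) (u v : ι → F) :
    f (((X hf a (l • a) (ut_h0 hf a l ha) : GL ι F) : Matrix ι ι F) *ᵥ u)
      (((X hf a (l • a) (ut_h0 hf a l ha) : GL ι F) : Matrix ι ι F) *ᵥ v) = f u v := by
  rw [X_apply, X_apply]
  simp only [hf.add_left, uf_add_right hf, hf.smul_left, uf_smul_right hf, map_mul, map_neg,
    hf.involutive, ha, hl, ← hf.herm a v]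
  ring

theorem ut_mem (hf : Cfsg.Geo.IsUnitaryForm σ f) (a : ι → F) (l : F) (ha : f a a = 0)
    (hl : σ l = -l) :
    X hf a (l • a) (ut_h0 hf a l ha) ∈
      Cfsg.Geo.similarityGroup f ⊓ Cfsg.Geo.specialLinear ι F :=
  ⟨⟨1, fun u v => by rw [ut_isom hf a l ha hl, Units.val_one, one_mul]⟩, X_mem_SL hf _ _ _⟩

theorem ut_inP (hf : Cfsg.Geo.IsUnitaryForm σ f)
    (hHM : Cfsg.Geo.similarityGroup f ⊓ Cfsg.Geo.specialLinear ι F ≤ M)
    (a : ι → F) (l : F) (ha : f a a = 0) (hl : σ l = -l) : InP f M a (l • a) :=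
  inP_of_mem hf (ut_h0 hf a l ha) (hHM (ut_mem hf a l ha hl))

/-- A unitary transvection moving the isotropic vector `a` to a multiple of the isotropic vector
`a₁` when `f a a₁ ≠ 0`. -/
theorem exists_move (hf : Cfsg.Geo.IsUnitaryForm σ f) (s₀ : F) (hs0 : s₀ ≠ 0) (hs : σ s₀ = -s₀)
    (a a₁ : ι → F) (ha : f a a = 0) (ha₁ : f a₁ a₁ = 0) (h : f a a₁ ≠ 0) :
    ∃ (m : GL ι F) (c : F),
      m ∈ Cfsg.Geo.similarityGroup f ⊓ Cfsg.Geo.specialLinear ι F ∧
      (∀ u v, f ((m : Matrix ι ι F) *ᵥ u) ((m : Matrix ι ι F) *ᵥ v) = f u v) ∧ c ≠ 0 ∧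
      (m : Matrix ι ι F) *ᵥ a = c • a₁ := by
  obtain ⟨c, hc⟩ : ∃ c, c = σ (s₀ / f a a₁) := ⟨_, rfl⟩
  have hσc : σ c = s₀ / f a a₁ := by rw [hc, hf.involutive]
  have hc0 : c ≠ 0 := by
    rw [hc]
    intro h0
    have := congrArg σ h0
    rw [hf.involutive, map_zero] at this
    exact (div_ne_zero hs0 h) this
  have h1 : σ c * f a a₁ = s₀ := by rw [hσc, div_mul_cancel₀ _ h]
  have h2 : c * f a₁ a = -s₀ := by
    have := congrArg σ h1
    rw [map_mul, hf.involutive, ← hf.herm, hs] at this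
    exact this
  obtain ⟨e, he⟩ : ∃ e, e = c • a₁ - a := ⟨_, rfl⟩
  have hee : f e e = 0 := by
    rw [he, uf_sub_left hf, uf_sub_right hf, uf_sub_right hf, hf.smul_left, hf.smul_left,
      uf_smul_right hf, uf_smul_right hf, ha, ha₁, h1, h2]
    ring
  have hae : f a e = s₀ := by
    rw [he, uf_sub_right hf, uf_smul_right hf, ha, h1, sub_zero]
  have hl : σ (-s₀⁻¹) = -(-s₀⁻¹) := by
    rw [map_neg, map_inv₀, hs]
    field_simp
  refine ⟨X hf e ((-s₀⁻¹) • e) (ut_h0 hf e _ hee), c, ut_mem hf e _ hee hl,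
    ut_isom hf e _ hee hl, hc0, ?_⟩
  rw [X_apply, uf_smul_right hf, hl, hae, neg_neg, inv_mul_cancel₀ hs0, one_smul, he]
  abel

end InP

end Cfsg.Agent.Lib.Helper11.UnitaryMax
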