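import Cfsg.Agent.Lib.Helper11.UnitaryMaxC

/-!
The similarity group of a non-degenerate unitary form, intersected with `SL`, is a maximal
subgroup of `SL` (dimension at least 9, finite field).
-/

set_option autoImplicit false
set_option linter.unusedSectionVars false
set_option linter.unusedVariables false

namespace Cfsg.Agent.Lib.Helper11.UnitaryMax

open scoped MatrixGroups Matrix
open Cfsg.Agent.Lib.Helper95
open Cfsg.Agent.Lib.Helper61.SpMax (fv GL_ext)

section Main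
variable {ι : Type} [Fintype ι] [DecidableEq ι] {F : Type*} [Field F] [Fintype F]
variable {σ : F ≃+* F} {f : (ι → F) → (ι → F) → F}

theorem not_mem_span_zero {x : ι → F} (hx : x ≠ 0) : x ∉ Submodule.span F {(0 : ι → F)} := by
  rw [Submodule.span_zero_singleton]
  exact fun h => hx ((Submodule.mem_bot F).mp h)

theorem sigma_ne_zero (hf : Cfsg.Geo.IsUnitaryForm σ f) {c : F} (hc : c ≠ 0) : σ c ≠ 0 := by
  intro h
  apply hc
  have := congrArg σ h
  rwa [hf.involutive, map_zero] at this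

/-- A nonzero isotropic vector exists. -/
theorem exists_iso_ne (hf : Cfsg.Geo.IsUnitaryForm σ f) (h9 : 8 < Fintype.card ι) :
    ∃ a : ι → F, a ≠ 0 ∧ f a a = 0 := by
  have hne : Nonempty ι := by
    rw [← Fintype.card_pos_iff]; omega
  obtain ⟨i⟩ := hne
  have hu : (Pi.single i 1 : ι → F) ≠ 0 := by
    intro h
    have := congrFun h i
    simp at this
  obtain ⟨d, hd, -, hd1⟩ := exists_iso_sep hf h9 0 _ (not_mem_span_zero hu)
  refine ⟨d, ?_, hd⟩
  rintro rfl
  rw [uf_zero_right hf] at hd1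
  exact zero_ne_one hd1

/-- For two independent isotropic vectors there is a nonzero `t` with `a₀ + t • a` isotropic. -/
theorem exists_iso_comb (hf : Cfsg.Geo.IsUnitaryForm σ f) (a₀ a : ι → F) (ha₀ : f a₀ a₀ = 0)
    (ha : f a a = 0) : ∃ t : F, t ≠ 0 ∧ f (a₀ + t • a) (a₀ + t • a) = 0 := by
  by_cases h : f a₀ a = 0
  · refine ⟨1, one_ne_zero, ?_⟩
    rw [one_smul, hf.add_left, uf_add_right hf, uf_add_right hf, ha₀, ha, h, uf_swap0 hf h]
    ring
  · obtain ⟨s₀, hs0, hs⟩ := exists_skew σ hf.ne_refl hf.involutive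
    obtain ⟨t, ht⟩ : ∃ t, t = σ (s₀ / f a₀ a) := ⟨_, rfl⟩
    have hσt : σ t = s₀ / f a₀ a := by rw [ht, hf.involutive]
    have ht0 : t ≠ 0 := by
      rw [ht]
      exact sigma_ne_zero hf (div_ne_zero hs0 h)
    have h1 : σ t * f a₀ a = s₀ := by rw [hσt, div_mul_cancel₀ _ h]
    have h2 : t * f a a₀ = -s₀ := by
      have := congrArg σ h1
      rw [map_mul, hf.involutive, ← hf.herm, hs] at this
      exact this
    refine ⟨t, ht0, ?_⟩
    rw [hf.add_left, uf_add_right hf, uf_add_right hf, hf.smul_left, hf.smul_left,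
      uf_smul_right hf, uf_smul_right hf, ha₀, ha, h1, h2]
    ring

/-- If `g` scales the form against every isotropic vector, it is a similarity. -/
theorem mem_sim_of_iso (hf : Cfsg.Geo.IsUnitaryForm σ f) (h9 : 8 < Fintype.card ι) (g : GL ι F)
    (h : ∀ a : ι → F, f a a = 0 → ∃ c : F, ∀ u,
      f ((g : Matrix ι ι F) *ᵥ u) ((g : Matrix ι ι F) *ᵥ a) = c * f u a) :
    g ∈ Cfsg.Geo.similarityGroup f := by
  obtain ⟨a₀, ha₀0, ha₀⟩ := exists_iso_ne hf h9
  obtain ⟨c₀, hc₀⟩ := h a₀ ha₀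
  have key : ∀ a : ι → F, f a a = 0 → ∀ u,
      f ((g : Matrix ι ι F) *ᵥ u) ((g : Matrix ι ι F) *ᵥ a) = c₀ * f u a := by
    intro a ha u
    by_cases hmem : a ∈ Submodule.span F {a₀}
    · obtain ⟨k, rfl⟩ := Submodule.mem_span_singleton.mp hmem
      rw [Matrix.mulVec_smul, uf_smul_right hf, uf_smul_right hf, hc₀]
      ring
    · have ha0 : a ≠ 0 := by
        rintro rfl
        exact hmem (Submodule.zero_mem _)
      have hmem' : a₀ ∉ Submodule.span F {a} := by
        intro h'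
        obtain ⟨k, hk⟩ := Submodule.mem_span_singleton.mp h'
        have hk0 : k ≠ 0 := by
          rintro rfl
          rw [zero_smul] at hk
          exact ha₀0 hk.symm
        apply hmem
        rw [Submodule.mem_span_singleton]
        exact ⟨k⁻¹, by rw [← hk, smul_smul, inv_mul_cancel₀ hk0, one_smul]⟩
      obtain ⟨t, ht0, ht⟩ := exists_iso_comb hf a₀ a ha₀ ha
      obtain ⟨ca, hca⟩ := h a ha
      obtain ⟨c2, hc2⟩ := h _ ht
      have hrel : ∀ u, c2 * (f u a₀ + σ t * f u a) = c₀ * f u a₀ + σ t * (ca * f u a) := by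
        intro u
        have := hc2 u
        rw [Matrix.mulVec_add, Matrix.mulVec_smul, uf_add_right hf, uf_smul_right hf, hc₀, hca,
          uf_add_right hf, uf_smul_right hf] at this
        exact this.symm
      obtain ⟨z₁, hz₁U, hz₁⟩ := sepR hf _ a₀ hmem'
      obtain ⟨z₂, hz₂U, hz₂⟩ := sepR hf _ a hmem
      have e1 : f z₁ a = 0 := uf_swap0 hf (hz₁U a (Submodule.mem_span_singleton_self a))
      have e2 : f z₁ a₀ = 1 := by rw [hf.herm, hz₁, map_one]
      have e3 : f z₂ a₀ = 0 := uf_swap0 hf (hz₂U a₀ (Submodule.mem_span_singleton_self a₀))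
      have e4 : f z₂ a = 1 := by rw [hf.herm, hz₂, map_one]
      have r1 := hrel z₁
      rw [e1, e2] at r1
      have r2 := hrel z₂
      rw [e3, e4] at r2
      have hc2c0 : c2 = c₀ := by linear_combination r1
      have hσt : σ t ≠ 0 := sigma_ne_zero hf ht0
      have hcac2 : ca = c2 := by
        have : σ t * (ca - c2) = 0 := by linear_combination -r2
        rcases mul_eq_zero.mp this with h' | h'
        · exact absurd h' hσt
        · exact sub_eq_zero.mp h'
      rw [hca, hcac2, hc2c0]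
  have hall : ∀ u v, f ((g : Matrix ι ι F) *ᵥ u) ((g : Matrix ι ι F) *ᵥ v) = c₀ * f u v := by
    intro u v
    obtain ⟨e₁, e₂, hv, he₁, he₂, -⟩ := exists_split hf (fun i : Fin 0 => i.elim0) v
      (by simp; omega)
    rw [hv, Matrix.mulVec_add, uf_add_right hf, uf_add_right hf, key e₁ he₁, key e₂ he₂]
    ring
  have hc₀0 : c₀ ≠ 0 := by
    rintro rfl
    obtain ⟨⟨x, hx⟩, _⟩ := hf.nondegenerate a₀ ha₀0
    apply hx
    have := hall (((g⁻¹ : GL ι F) : Matrix ι ι F) *ᵥ x) (((g⁻¹ : GL ι F) : Matrix ι ι F) *ᵥ a₀)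
    rwa [GL_mulVec_inv_mulVec, GL_mulVec_inv_mulVec, zero_mul] at this
  exact ⟨Units.mk0 c₀ hc₀0, fun u v => by rw [hall, Units.val_mk0]⟩

variable {M : Subgroup (GL ι F)}

/-- Step 1: a non-similarity in `M` yields a transvection in `M` with independent centre and
axis vector. -/
theorem exists_indep_inP (hf : Cfsg.Geo.IsUnitaryForm σ f) (h9 : 8 < Fintype.card ι)
    (hHM : Cfsg.Geo.similarityGroup f ⊓ Cfsg.Geo.specialLinear ι F ≤ M)
    (g : GL ι F) (hgM : g ∈ M) (hg : g ∉ Cfsg.Geo.similarityGroup f) :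
    ∃ b y : ι → F, b ≠ 0 ∧ y ∉ Submodule.span F {b} ∧ InP f M b y := by
  by_contra hcon
  push Not at hcon
  apply hg
  apply mem_sim_of_iso hf h9
  intro a ha
  obtain ⟨s₀, hs0, hs⟩ := exists_skew σ hf.ne_refl hf.involutive
  by_cases ha0 : a = 0
  · refine ⟨0, fun u => ?_⟩
    rw [ha0, Matrix.mulVec_zero, uf_zero_right hf, zero_mul]
  obtain ⟨y, hy⟩ := riesz hf ((fv f (s₀ • a)) ᵥ* ((g⁻¹ : GL ι F) : Matrix ι ι F))
  have hy' : ∀ x, f x y = f (((g⁻¹ : GL ι F) : Matrix ι ι F) *ᵥ x) (s₀ • a) := by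
    intro x
    rw [hy, ← Matrix.dotProduct_mulVec, fv_dot' hf]
  have hga0 : (g : Matrix ι ι F) *ᵥ a ≠ 0 := by
    intro h0
    apply ha0
    apply GL_mulVec_inj g
    rw [h0, Matrix.mulVec_zero]
  have hP : InP f M ((g : Matrix ι ι F) *ᵥ a) y := by
    refine ⟨by rw [hy', GL_inv_mulVec_mulVec, ut_h0 hf a s₀ ha], fun g' hg' => ?_⟩
    have : g' = g * X hf a (s₀ • a) (ut_h0 hf a s₀ ha) * g⁻¹ := by
      apply GL_ext
      intro x
      rw [hg', Units.val_mul, Units.val_mul, ← Matrix.mulVec_mulVec, ← Matrix.mulVec_mulVec,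
        X_apply, Matrix.mulVec_add, Matrix.mulVec_smul, GL_mulVec_inv_mulVec, hy']
    rw [this]
    exact M.mul_mem (M.mul_mem hgM (hHM (ut_mem hf a s₀ ha hs))) (M.inv_mem hgM)
  have hmem : y ∈ Submodule.span F {(g : Matrix ι ι F) *ᵥ a} := by
    by_contra hn
    exact hcon _ y hga0 hn hP
  obtain ⟨μ, hμ⟩ := Submodule.mem_span_singleton.mp hmem
  have hrel : ∀ u, σ μ * f ((g : Matrix ι ι F) *ᵥ u) ((g : Matrix ι ι F) *ᵥ a)
      = σ s₀ * f u a := by
    intro u
    have := hy' ((g : Matrix ι ι F) *ᵥ u)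
    rw [GL_inv_mulVec_mulVec, ← hμ, uf_smul_right hf, uf_smul_right hf] at this
    exact this
  have hμ0 : σ μ ≠ 0 := by
    intro h0
    obtain ⟨⟨x, hx⟩, _⟩ := hf.nondegenerate a ha0
    apply hx
    have := hrel x
    rw [h0, zero_mul] at this
    rcases mul_eq_zero.mp this.symm with h' | h'
    · exact absurd h' (sigma_ne_zero hf hs0)
    · exact h'
  refine ⟨σ s₀ / σ μ, fun u => ?_⟩
  rw [div_mul_eq_mul_div, ← hrel u, mul_div_cancel_left₀ _ hμ0]

/-- Step 2: reduce to a pair of independent orthogonal isotropic vectors. -/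
theorem exists_iso_pair (hf : Cfsg.Geo.IsUnitaryForm σ f) (h9 : 8 < Fintype.card ι)
    (hHM : Cfsg.Geo.similarityGroup f ⊓ Cfsg.Geo.specialLinear ι F ≤ M)
    (b y : ι → F) (hb : b ≠ 0) (hy : y ∉ Submodule.span F {b}) (hP : InP f M b y) :
    ∃ a d : ι → F, a ≠ 0 ∧ f a a = 0 ∧ f d d = 0 ∧ d ∉ Submodule.span F {a} ∧ InP f M a d := by
  obtain ⟨s₀, hs0, hs⟩ := exists_skew σ hf.ne_refl hf.involutive
  have hσs : σ s₀ ≠ 0 := sigma_ne_zero hf hs0
  obtain ⟨d, hd, hbd, hyd⟩ := exists_iso_sep hf h9 b y hy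
  have h1 : InP f M b (s₀ • d) := by
    have := hP.comm hf (ut_inP hf hHM d s₀ hd hs)
      (by rw [uf_smul_right hf, hbd, mul_zero])
    rwa [hyd, one_smul] at this
  obtain ⟨d₁, hd₁⟩ : ∃ d₁, d₁ = s₀ • d := ⟨_, rfl⟩
  rw [← hd₁] at h1
  have hd₁q : f d₁ d₁ = 0 := by
    rw [hd₁, hf.smul_left, uf_smul_right hf, hd, mul_zero, mul_zero]
  have hyd₁ : f y d₁ = σ s₀ := by rw [hd₁, uf_smul_right hf, hyd, mul_one]
  have hbd₁ : f b d₁ = 0 := h1.1
  have hb_not : b ∉ Submodule.span F {d₁} := by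
    intro hmem
    obtain ⟨k, hk⟩ := Submodule.mem_span_singleton.mp hmem
    have e : f y b = 0 := uf_swap0 hf hP.1
    rw [← hk, uf_smul_right hf, hyd₁] at e
    rcases mul_eq_zero.mp e with h' | h'
    · apply hb
      have hk0 : k = 0 := by
        have := congrArg σ h'
        rwa [hf.involutive, map_zero] at this
      rw [← hk, hk0, zero_smul]
    · exact hσs h'
  obtain ⟨a, ha, hd₁a, hba⟩ := exists_iso_sep hf h9 d₁ b hb_not
  have hab : f a b = 1 := by rw [hf.herm, hba, map_one]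
  have h2 : InP f M a (s₀ • d₁) := by
    have := (ut_inP hf hHM a s₀ ha hs).comm hf h1 (uf_swap0 hf hd₁a)
    rwa [hf.smul_left, hab, mul_one] at this
  have ha0 : a ≠ 0 := by
    rintro rfl
    rw [uf_zero_right hf] at hba
    exact zero_ne_one hba
  refine ⟨a, s₀ • d₁, ha0, ha, ?_, ?_, h2⟩
  · rw [hf.smul_left, uf_smul_right hf, hd₁q, mul_zero, mul_zero]
  · intro hmem
    obtain ⟨k, hk⟩ := Submodule.mem_span_singleton.mp hmem
    have e : f b (s₀ • d₁) = 0 := by rw [uf_smul_right hf, hbd₁, mul_zero]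
    rw [← hk, uf_smul_right hf, hba, mul_one] at e
    have hk0 : k = 0 := by
      have := congrArg σ e
      rwa [hf.involutive, map_zero] at this
    rw [hk0, zero_smul] at hk
    -- s₀ • d₁ = 0, so d = 0
    have hd0 : d = 0 := by
      have h3 : s₀ • (s₀ • d) = 0 := by rw [← hd₁]; exact hk.symm
      rw [smul_smul] at h3
      rcases smul_eq_zero.mp h3 with h' | h'
      · exact absurd h' (mul_ne_zero hs0 hs0)
      · exact h'
    rw [hd0, uf_zero_right hf] at hyd
    exact zero_ne_one hyd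

/-- All transvections `(a, ν • a)` lie in `M`. -/
def SUP (f : (ι → F) → (ι → F) → F) (M : Subgroup (GL ι F)) (a : ι → F) : Prop :=
  ∀ ν : F, InP f M a (ν • a)

theorem sup_of_pair (hf : Cfsg.Geo.IsUnitaryForm σ f) (h9 : 8 < Fintype.card ι)
    (hHM : Cfsg.Geo.similarityGroup f ⊓ Cfsg.Geo.specialLinear ι F ≤ M)
    (a d : ι → F) (ha : f a a = 0) (hda : d ∉ Submodule.span F {a}) (hP : InP f M a d) :
    SUP f M a := by
  obtain ⟨s₀, hs0, hs⟩ := exists_skew σ hf.ne_refl hf.involutive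
  obtain ⟨w, hw, haw, hdw⟩ := exists_iso_sep hf h9 a d hda
  have hwa : f w a = 0 := uf_swap0 hf haw
  have hda0 : f d a = 0 := uf_swap0 hf hP.1
  have hall : ∀ μ : F, InP f M a (s₀ • (μ • a + w)) := by
    intro μ
    have he : f (μ • a + w) (μ • a + w) = 0 := by
      rw [hf.add_left, uf_add_right hf, uf_add_right hf, hf.smul_left, hf.smul_left,
        uf_smul_right hf, uf_smul_right hf, ha, hw, haw, hwa]
      ring
    have h0 : f a (s₀ • (μ • a + w)) = 0 := by
      rw [uf_smul_right hf, uf_add_right hf, uf_smul_right hf, ha, haw]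
      ring
    have := hP.comm hf (ut_inP hf hHM _ s₀ he hs) h0
    rwa [uf_add_right hf, uf_smul_right hf, hda0, hdw, mul_zero, zero_add, one_smul] at this
  intro ν
  have h1 := (hall (ν / s₀)).sub hf (hall 0)
  have : s₀ • ((ν / s₀) • a + w) - s₀ • ((0 : F) • a + w) = ν • a := by
    rw [zero_smul, zero_add, smul_add, add_sub_cancel_right, smul_smul,
      mul_div_cancel₀ _ hs0]
  rwa [this] at h1

theorem sup_step (hf : Cfsg.Geo.IsUnitaryForm σ f)
    (hHM : Cfsg.Geo.similarityGroup f ⊓ Cfsg.Geo.specialLinear ι F ≤ M)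
    (a a₁ : ι → F) (ha : f a a = 0) (ha₁ : f a₁ a₁ = 0) (h : f a a₁ ≠ 0) (hS : SUP f M a) :
    SUP f M a₁ := by
  obtain ⟨s₀, hs0, hs⟩ := exists_skew σ hf.ne_refl hf.involutive
  obtain ⟨m, c, hmH, hiso, hc0, hma⟩ := exists_move hf s₀ hs0 hs a a₁ ha ha₁ h
  have hσc : σ c ≠ 0 := sigma_ne_zero hf hc0
  intro ν
  have h1 := (hS (ν / (σ c * c))).isom hf m (hHM hmH) hiso
  rw [Matrix.mulVec_smul, hma] at h1
  have h2 := (inP_smul_iff hf c).mp h1
  have : σ c • (ν / (σ c * c)) • c • a₁ = ν • a₁ := by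
    rw [smul_smul, smul_smul]
    congr 1
    field_simp
  rwa [this] at h2

theorem sup_all (hf : Cfsg.Geo.IsUnitaryForm σ f) (h9 : 8 < Fintype.card ι)
    (hHM : Cfsg.Geo.similarityGroup f ⊓ Cfsg.Geo.specialLinear ι F ≤ M)
    (a : ι → F) (ha0 : a ≠ 0) (ha : f a a = 0) (hS : SUP f M a) :
    ∀ e : ι → F, f e e = 0 → SUP f M e := by
  intro e he
  by_cases he0 : e = 0
  · intro ν
    rw [he0]
    exact inP_zero_center hf M _
  obtain ⟨d, hd, -, had, hed⟩ := exists_iso_conn hf h9 0 a e (not_mem_span_zero ha0)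
    (not_mem_span_zero he0)
  have hde : f d e ≠ 0 := by
    intro h0
    exact hed (uf_swap0 hf h0)
  exact sup_step hf hHM d e hd he hde (sup_step hf hHM a d ha hd had hS)

theorem rule2 (hf : Cfsg.Geo.IsUnitaryForm σ f)
    (hSU : ∀ e : ι → F, f e e = 0 → SUP f M e) {b y e : ι → F} (hP : InP f M b y)
    (he : f e e = 0) (hbe : f b e = 0) (ν : F) : InP f M b ((ν * f y e) • e) := by
  have := hP.comm hf (hSU e he ν) (by rw [uf_smul_right hf, hbe, mul_zero])
  rwa [smul_smul, mul_comm] at this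

theorem full_of_pair (hf : Cfsg.Geo.IsUnitaryForm σ f) (h9 : 8 < Fintype.card ι)
    (hSU : ∀ e : ι → F, f e e = 0 → SUP f M e)
    (a d : ι → F) (ha : f a a = 0) (hd : f d d = 0) (hda : d ∉ Submodule.span F {a})
    (hP : InP f M a d) : Full f M a := by
  have claim : ∀ e : ι → F, f e e = 0 → f a e = 0 → InP f M a e := by
    intro e he hae
    by_cases hmem : e ∈ Submodule.span F {a}
    · obtain ⟨k, rfl⟩ := Submodule.mem_span_singleton.mp hmem
      exact hSU a ha k
    · obtain ⟨d', hd', had', hdd', hed'⟩ := exists_iso_conn hf h9 a d e hda hmem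
      have h1 := rule2 hf hSU hP hd' had' (f d d')⁻¹
      rw [inv_mul_cancel₀ hdd', one_smul] at h1
      have hd'e : f d' e ≠ 0 := fun h0 => hed' (uf_swap0 hf h0)
      have h2 := rule2 hf hSU h1 he hae (f d' e)⁻¹
      rwa [inv_mul_cancel₀ hd'e, one_smul] at h2
  intro y hy
  obtain ⟨e₁, e₂, hye, he₁, he₂, hs⟩ := exists_split hf ![a] y (by simp; omega)
  have := hs 0
  simp only [Matrix.cons_val_zero] at this
  obtain ⟨h1, h2⟩ := this hy
  rw [hye]
  exact (claim e₁ he₁ h1).add hf (claim e₂ he₂ h2)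

theorem full_step (hf : Cfsg.Geo.IsUnitaryForm σ f)
    (hHM : Cfsg.Geo.similarityGroup f ⊓ Cfsg.Geo.specialLinear ι F ≤ M)
    (a a₁ : ι → F) (ha : f a a = 0) (ha₁ : f a₁ a₁ = 0) (h : f a a₁ ≠ 0) (hF : Full f M a) :
    Full f M a₁ := by
  obtain ⟨s₀, hs0, hs⟩ := exists_skew σ hf.ne_refl hf.involutive
  obtain ⟨m, c, hmH, hiso, hc0, hma⟩ := exists_move hf s₀ hs0 hs a a₁ ha ha₁ h
  have := hF.map hf m (hHM hmH)
  rw [hma] at this
  exact Full.of_smul hf c hc0 this

theorem full_iso (hf : Cfsg.Geo.IsUnitaryForm σ f) (h9 : 8 < Fintype.card ι)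
    (hHM : Cfsg.Geo.similarityGroup f ⊓ Cfsg.Geo.specialLinear ι F ≤ M)
    (a : ι → F) (ha0 : a ≠ 0) (ha : f a a = 0) (hF : Full f M a) :
    ∀ e : ι → F, f e e = 0 → Full f M e := by
  intro e he
  by_cases he0 : e = 0
  · intro y _
    rw [he0]
    exact inP_zero_center hf M _
  obtain ⟨d, hd, -, had, hed⟩ := exists_iso_conn hf h9 0 a e (not_mem_span_zero ha0)
    (not_mem_span_zero he0)
  have hde : f d e ≠ 0 := fun h0 => hed (uf_swap0 hf h0)
  exact full_step hf hHM d e hd he hde (full_step hf hHM a d ha hd had hF)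

theorem full_all (hf : Cfsg.Geo.IsUnitaryForm σ f) (h9 : 8 < Fintype.card ι)
    (hiso : ∀ e : ι → F, f e e = 0 → Full f M e) (b : ι → F) : Full f M b := by
  obtain ⟨e₁, e₂, hb, he₁, he₂, -⟩ := exists_split hf (fun i : Fin 0 => i.elim0) b
    (by simp; omega)
  by_cases hmem : e₁ ∈ Submodule.span F {e₂}
  · obtain ⟨k, hk⟩ := Submodule.mem_span_singleton.mp hmem
    apply hiso
    rw [hb, ← hk]
    simp only [hf.add_left, uf_add_right hf, hf.smul_left, uf_smul_right hf, he₂]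
    ring
  · obtain ⟨z, hzU, hz⟩ := sepR hf _ e₁ hmem
    have h0 : f e₂ z = 0 := hzU e₂ (Submodule.mem_span_singleton_self e₂)
    have hm := (hiso e₂ he₂ z h0).mem hf
    have := (hiso e₁ he₁).map hf _ hm
    rwa [X_apply, hz, one_smul, ← hb] at this

/-- The key half of maximality. -/
theorem sl_le_of_not_sim (hf : Cfsg.Geo.IsUnitaryForm σ f) (h9 : 8 < Fintype.card ι)
    (hHM : Cfsg.Geo.similarityGroup f ⊓ Cfsg.Geo.specialLinear ι F ≤ M)
    (g : GL ι F) (hgM : g ∈ M) (hg : g ∉ Cfsg.Geo.similarityGroup f) :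
    Cfsg.Geo.specialLinear ι F ≤ M := by
  obtain ⟨b, y, hb, hy, hP⟩ := exists_indep_inP hf h9 hHM g hgM hg
  obtain ⟨a, d, ha0, ha, hd, hda, hP'⟩ := exists_iso_pair hf h9 hHM b y hb hy hP
  have hS := sup_of_pair hf h9 hHM a d ha hda hP'
  have hSU := sup_all hf h9 hHM a ha0 ha hS
  have hFa := full_of_pair hf h9 hSU a d ha hd hda hP'
  have hFiso := full_iso hf h9 hHM a ha0 ha hFa
  have hFall := full_all hf h9 hFiso
  apply Cfsg.Agent.Lib.Helper61.SpMax.specialLinear_le_of_all_tvGL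
  intro φ v h
  obtain ⟨z, hz⟩ := riesz hf φ
  have hvz : f v z = 0 := by rw [hz, h]
  exact (hFall v z hvz).2 _ (fun x => by rw [tvGL_apply, hz])

/-- Properness. -/
theorem sim_lt_sl (hf : Cfsg.Geo.IsUnitaryForm σ f) (h9 : 8 < Fintype.card ι) :
    Cfsg.Geo.similarityGroup f ⊓ Cfsg.Geo.specialLinear ι F < Cfsg.Geo.specialLinear ι F := by
  rw [SetLike.lt_iff_le_and_exists]
  refine ⟨inf_le_right, ?_⟩
  obtain ⟨a, ha0, ha⟩ := exists_iso_ne hf h9
  have hfr : Module.finrank F (Submodule.span F {a}) ≤ 1 := (finrank_span_singleton ha0).le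
  obtain ⟨x, hxU, hxs⟩ := exists_orth_notMem hf ![a] (Submodule.span F {a}) (by simp; omega)
  have hxa : f x a = 0 := by
    have := hxs 0
    simpa using this
  have hax : f a x = 0 := uf_swap0 hf hxa
  have hx0 : x ≠ 0 := by
    rintro rfl
    exact hxU (Submodule.zero_mem _)
  refine ⟨X hf a x hax, X_mem_SL hf a x hax, ?_⟩
  rintro ⟨⟨c, hc⟩, -⟩
  have hXa : ((X hf a x hax : GL ι F) : Matrix ι ι F) *ᵥ a = a := by
    rw [X_apply, hax, zero_smul, add_zero]
  -- c = 1
  obtain ⟨⟨u₀, hu₀⟩, _⟩ := hf.nondegenerate a ha0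
  have hc1 : (c : F) = 1 := by
    have := hc u₀ a
    rw [hXa, X_apply, hf.add_left, hf.smul_left, ha, mul_zero, add_zero] at this
    have h2 : ((c : F) - 1) * f u₀ a = 0 := by linear_combination -this
    rcases mul_eq_zero.mp h2 with h' | h'
    · exact sub_eq_zero.mp h'
    · exact absurd h' hu₀
  have ha_not : a ∉ Submodule.span F {x} := by
    intro h'
    obtain ⟨k, hk⟩ := Submodule.mem_span_singleton.mp h'
    have hk0 : k ≠ 0 := by
      rintro rfl
      rw [zero_smul] at hk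
      exact ha0 hk.symm
    apply hxU
    rw [Submodule.mem_span_singleton]
    exact ⟨k⁻¹, by rw [← hk, smul_smul, inv_mul_cancel₀ hk0, one_smul]⟩
  obtain ⟨z, hzU, hz⟩ := sepR hf _ a ha_not
  have hxz : f x z = 0 := hzU x (Submodule.mem_span_singleton_self x)
  have hzx : f z x = 0 := uf_swap0 hf hxz
  obtain ⟨⟨u₁, hu₁⟩, _⟩ := hf.nondegenerate x hx0
  apply hu₁
  have := hc u₁ z
  rw [hc1, one_mul, X_apply, X_apply, hzx, zero_smul, add_zero, hf.add_left, hf.smul_left, hz,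
    mul_one] at this
  linear_combination this

/-- The unitary similarity group is maximal in `SL`. -/
theorem unitary_sim_isMaximalIn (hf : Cfsg.Geo.IsUnitaryForm σ f) (h9 : 8 < Fintype.card ι) :
    Cfsg.Geo.IsMaximalIn (Cfsg.Geo.specialLinear ι F)
      (Cfsg.Geo.similarityGroup f ⊓ Cfsg.Geo.specialLinear ι F) := by
  refine ⟨sim_lt_sl hf h9, fun M hHM hMSL => ?_⟩
  by_cases hMH : M = Cfsg.Geo.similarityGroup f ⊓ Cfsg.Geo.specialLinear ι F
  · left; exact hMH
  · right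
    obtain ⟨g, hgM, hgH⟩ := SetLike.exists_of_lt (lt_of_le_of_ne hHM (Ne.symm hMH))
    have hg : g ∉ Cfsg.Geo.similarityGroup f := fun h => hgH ⟨h, hMSL hgM⟩
    exact le_antisymm hMSL (sl_le_of_not_sim hf h9 hHM g hgM hg)

end Main

end Cfsg.Agent.Lib.Helper11.UnitaryMax
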